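import Mathlib
import Groth.Prelude.Def_Pi1
import Groth.Agent.H9.FiberStalk

/-!
# (HRED) for S18352 (helper14): the fibre rings of the localisations of a stalk of a morphism with
geometrically reduced fibres are reduced.

* `exists_generization_equiv` : for a prime `q` of `O_{X,x}` there is a generization `x' ⤳ x` and a
  ring isomorphism `(O_{X,x})_q ≃+* O_{X,x'}` compatible with the maps from `O_{X,x}`, and
  `q = σ⁻¹(m_{x'})`.
* `map_comap_stalkSpecializes` : `map σ (comap σ J) = J` for `σ` a specialization map of stalks.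
* `isReduced_quot` : piece (HRED).
-/

set_option autoImplicit false
universe u
open CategoryTheory CategoryTheory.Limits AlgebraicGeometry

namespace Groth.Agent.H92.NF_HRED

theorem exists_generization_equiv {X : Scheme.{u}} (x : X) (q : Ideal (X.presheaf.stalk x))
    [q.IsPrime] :
    ∃ (x' : X) (h : x' ⤳ x) (e : Localization.AtPrime q ≃+* X.presheaf.stalk x'),
      (e : Localization.AtPrime q →+* X.presheaf.stalk x').comp
          (algebraMap (X.presheaf.stalk x) (Localization.AtPrime q)) =
        (X.presheaf.stalkSpecializes h).hom ∧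
      q = (IsLocalRing.maximalIdeal (X.presheaf.stalk x')).comap
        (X.presheaf.stalkSpecializes h).hom := by
  obtain ⟨_, ⟨U, hU : IsAffineOpen U, rfl⟩, hxU, -⟩ :=
    X.isBasis_affineOpens.exists_subset_of_mem_open (Set.mem_univ x) isOpen_univ
  let algx : Algebra Γ(X, U) (X.presheaf.stalk x) := X.presheaf.algebra_section_stalk ⟨x, hxU⟩
  have hloc : IsLocalization.AtPrime (X.presheaf.stalk x) (hU.primeIdealOf ⟨x, hxU⟩).asIdeal :=
    hU.isLocalization_stalk ⟨x, hxU⟩
  let q₀ : Ideal Γ(X, U) := q.comap (algebraMap Γ(X, U) (X.presheaf.stalk x))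
  have hq₀ : q₀.IsPrime := Ideal.comap_isPrime _ _
  let y : PrimeSpectrum Γ(X, U) := ⟨q₀, hq₀⟩
  let x' : X := hU.fromSpec y
  have hx'U : x' ∈ U := by
    have : x' ∈ Set.range hU.fromSpec := ⟨y, rfl⟩
    rw [hU.range_fromSpec] at this
    exact this
  have hle : y ≤ hU.primeIdealOf ⟨x, hxU⟩ := by
    intro a ha
    have h1 : algebraMap Γ(X, U) (X.presheaf.stalk x) a ∈ q := ha
    have h2 : algebraMap Γ(X, U) (X.presheaf.stalk x) a ∈
        IsLocalRing.maximalIdeal (X.presheaf.stalk x) :=
      IsLocalRing.le_maximalIdeal (Ideal.IsPrime.ne_top inferInstance) h1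
    exact (IsLocalization.AtPrime.to_map_mem_maximal_iff (X.presheaf.stalk x)
      (hU.primeIdealOf ⟨x, hxU⟩).asIdeal a).mp h2
  have hspec : x' ⤳ x := by
    have h1 : y ⤳ hU.primeIdealOf ⟨x, hxU⟩ := (PrimeSpectrum.le_iff_specializes _ _).mp hle
    have h2 := h1.map hU.fromSpec.continuous
    rwa [hU.fromSpec_primeIdealOf ⟨x, hxU⟩] at h2
  let algx' : Algebra Γ(X, U) (X.presheaf.stalk x') :=
    X.presheaf.algebra_section_stalk ⟨x', hx'U⟩
  have hloc' : IsLocalization.AtPrime (X.presheaf.stalk x') q₀ := hU.isLocalization_stalk' y hx'U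
  have hloc'' : IsLocalization.AtPrime (Localization.AtPrime q) q₀ :=
    IsLocalization.isLocalization_isLocalization_atPrime_isLocalization
      (hU.primeIdealOf ⟨x, hxU⟩).asIdeal.primeCompl (Localization.AtPrime q) q
  set σ := (X.presheaf.stalkSpecializes hspec).hom with hσ
  have hcomp : σ.comp (algebraMap Γ(X, U) (X.presheaf.stalk x)) =
      algebraMap Γ(X, U) (X.presheaf.stalk x') := by
    have h := TopCat.Presheaf.germ_stalkSpecializes X.presheaf hxU hspec
    have h' := congrArg (fun f => f.hom) h
    exact h'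
  let E := IsLocalization.algEquiv q₀.primeCompl (Localization.AtPrime q)
    (X.presheaf.stalk x')
  refine ⟨x', hspec, E.toRingEquiv, ?_, ?_⟩
  · -- compatibility with the maps from the stalk at `x`
    refine IsLocalization.ringHom_ext (hU.primeIdealOf ⟨x, hxU⟩).asIdeal.primeCompl ?_
    rw [hcomp]
    ext a
    have h1 : algebraMap (X.presheaf.stalk x) (Localization.AtPrime q)
        (algebraMap Γ(X, U) (X.presheaf.stalk x) a) =
        algebraMap Γ(X, U) (Localization.AtPrime q) a :=
      (IsScalarTower.algebraMap_apply Γ(X, U) (X.presheaf.stalk x) (Localization.AtPrime q) a).symm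
    change E (algebraMap (X.presheaf.stalk x) (Localization.AtPrime q)
        (algebraMap Γ(X, U) (X.presheaf.stalk x) a)) = _
    rw [h1]
    exact E.commutes a
  · set q' := (IsLocalRing.maximalIdeal (X.presheaf.stalk x')).comap σ with hq'
    have h1 : q'.comap (algebraMap Γ(X, U) (X.presheaf.stalk x)) = q₀ := by
      rw [hq', Ideal.comap_comap, hcomp]
      exact IsLocalization.AtPrime.under_maximalIdeal (X.presheaf.stalk x') q₀
    have h2 : ∀ J : Ideal (X.presheaf.stalk x),
        (J.comap (algebraMap Γ(X, U) (X.presheaf.stalk x))).map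
          (algebraMap Γ(X, U) (X.presheaf.stalk x)) = J :=
      fun J => IsLocalization.map_under (hU.primeIdealOf ⟨x, hxU⟩).asIdeal.primeCompl _ J
    rw [← h2 q, ← h2 q', h1]

/-- Ideals of the stalk at a generization are extended from the stalk at the specialization. -/
theorem map_comap_stalkSpecializes {X : Scheme.{u}} {x x' : X} (h : x' ⤳ x)
    (J : Ideal (X.presheaf.stalk x')) :
    (J.comap (X.presheaf.stalkSpecializes h).hom).map (X.presheaf.stalkSpecializes h).hom = J := by
  refine le_antisymm Ideal.map_comap_le ?_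
  obtain ⟨_, ⟨U, hU : IsAffineOpen U, rfl⟩, hxU, -⟩ :=
    X.isBasis_affineOpens.exists_subset_of_mem_open (Set.mem_univ x) isOpen_univ
  have hx'U : x' ∈ U := h.mem_open U.isOpen hxU
  let algx : Algebra Γ(X, U) (X.presheaf.stalk x) := X.presheaf.algebra_section_stalk ⟨x, hxU⟩
  let algx' : Algebra Γ(X, U) (X.presheaf.stalk x') :=
    X.presheaf.algebra_section_stalk ⟨x', hx'U⟩
  have hloc' : IsLocalization.AtPrime (X.presheaf.stalk x')
      (hU.primeIdealOf ⟨x', hx'U⟩).asIdeal := hU.isLocalization_stalk ⟨x', hx'U⟩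
  set σ := (X.presheaf.stalkSpecializes h).hom with hσ
  have hcomp : σ.comp (algebraMap Γ(X, U) (X.presheaf.stalk x)) =
      algebraMap Γ(X, U) (X.presheaf.stalk x') := by
    have h0 := TopCat.Presheaf.germ_stalkSpecializes X.presheaf hxU h
    exact congrArg (fun f => f.hom) h0
  have h2 : (J.comap (algebraMap Γ(X, U) (X.presheaf.stalk x'))).map
      (algebraMap Γ(X, U) (X.presheaf.stalk x')) = J :=
    IsLocalization.map_under (hU.primeIdealOf ⟨x', hx'U⟩).asIdeal.primeCompl _ J
  calc J = (J.comap (algebraMap Γ(X, U) (X.presheaf.stalk x'))).map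
        (algebraMap Γ(X, U) (X.presheaf.stalk x')) := h2.symm
    _ = (((J.comap σ).comap (algebraMap Γ(X, U) (X.presheaf.stalk x))).map
        (algebraMap Γ(X, U) (X.presheaf.stalk x))).map σ := by
        rw [Ideal.map_map, Ideal.comap_comap, hcomp]
    _ ≤ (J.comap σ).map σ := Ideal.map_mono Ideal.map_comap_le

/-- the fibre ideal at the generization -/
theorem fibre_ideal_eq {C S : Scheme.{u}} (f : C ⟶ S) {x x' : C} (h : x' ⤳ x)
    (q : Ideal (C.presheaf.stalk x))
    (hq : q = (IsLocalRing.maximalIdeal (C.presheaf.stalk x')).comap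
        (C.presheaf.stalkSpecializes h).hom) :
    (q.comap (f.stalkMap x).hom).map
        ((C.presheaf.stalkSpecializes h).hom.comp (f.stalkMap x).hom) =
      (IsLocalRing.maximalIdeal (S.presheaf.stalk (f.base x'))).map (f.stalkMap x').hom := by
  have hnat : (C.presheaf.stalkSpecializes h).hom.comp (f.stalkMap x).hom =
      (f.stalkMap x').hom.comp
        (S.presheaf.stalkSpecializes (f.base.hom.map_specializes h)).hom := by
    have h0 := Scheme.Hom.stalkSpecializes_stalkMap f x' x h
    have h1 := congrArg (fun φ => φ.hom) h0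
    exact h1.symm
  have hloc : (IsLocalRing.maximalIdeal (C.presheaf.stalk x')).comap (f.stalkMap x').hom =
      IsLocalRing.maximalIdeal (S.presheaf.stalk (f.base x')) :=
    ((IsLocalRing.local_hom_TFAE (f.stalkMap x').hom).out 0 4).mp
      (inferInstance : IsLocalHom (f.stalkMap x').hom)
  have hcm : q.comap (f.stalkMap x).hom =
      (IsLocalRing.maximalIdeal (S.presheaf.stalk (f.base x'))).comap
        (S.presheaf.stalkSpecializes (f.base.hom.map_specializes h)).hom := by
    rw [hq, Ideal.comap_comap, hnat, ← Ideal.comap_comap, hloc]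
  rw [hcm, hnat, ← Ideal.map_map, map_comap_stalkSpecializes]

theorem isReduced_fibre_quot {C S : Scheme.{u}} (f : C ⟶ S) [GeometricallyReduced f] (x' : C) :
    IsReduced (C.presheaf.stalk x' ⧸
      (IsLocalRing.maximalIdeal (S.presheaf.stalk (f.base x'))).map (f.stalkMap x').hom) := by
  have hy : (f.fiberι (f.base x')).base (f.asFiber x') = x' := f.fiberι_asFiber x'
  have e2 : ∀ (x₁ x₂ : C) (_ : x₁ = x₂),
      Nonempty ((C.presheaf.stalk x₂ ⧸
        (IsLocalRing.maximalIdeal (S.presheaf.stalk (f.base x₂))).map (f.stalkMap x₂).hom) ≃+*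
        (C.presheaf.stalk x₁ ⧸
        (IsLocalRing.maximalIdeal (S.presheaf.stalk (f.base x₁))).map (f.stalkMap x₁).hom)) := by
    intro x₁ x₂ h
    subst h
    exact ⟨RingEquiv.refl _⟩
  obtain ⟨e2'⟩ := e2 _ _ hy
  have e3 := e2'.trans (Groth.Agent.H9.fiberStalkEquiv f (f.base x') (f.asFiber x'))
  have hred : IsReduced ((f.fiber (f.base x')).presheaf.stalk (f.asFiber x')) := inferInstance
  exact isReduced_of_injective e3.toRingHom e3.injective

theorem isReduced_quot {C S : Scheme.{u}} (f : C ⟶ S) [GeometricallyReduced f] (x : C)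
    (q : Ideal (C.presheaf.stalk x)) [q.IsPrime] :
    IsReduced (Localization.AtPrime q ⧸ (q.comap (f.stalkMap x).hom).map
      ((algebraMap (C.presheaf.stalk x) (Localization.AtPrime q)).comp (f.stalkMap x).hom)) := by
  obtain ⟨x', h, e, he, hq⟩ := exists_generization_equiv x q
  have hJ := fibre_ideal_eq f h q hq
  have hred := isReduced_fibre_quot f x'
  -- transport along `e`
  have hmap : ((q.comap (f.stalkMap x).hom).map
      ((algebraMap (C.presheaf.stalk x) (Localization.AtPrime q)).comp (f.stalkMap x).hom)).map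
        (e : Localization.AtPrime q →+* C.presheaf.stalk x') =
      (IsLocalRing.maximalIdeal (S.presheaf.stalk (f.base x'))).map (f.stalkMap x').hom := by
    rw [Ideal.map_map, ← RingHom.comp_assoc, he, hJ]
  let E := Ideal.quotientEquiv _ _ e hmap.symm
  exact isReduced_of_injective E.toRingHom E.injective

end Groth.Agent.H92.NF_HRED
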