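import Groth.Agent.H5.SpSeq.GrothSS
import Groth.Agent.H45.Acyclic3

/-!
# Dimension shifting: identifying a family of objects with classical right derived functors

`Groth.Agent.H92.DimShift.main`: for a left exact additive functor `F : A ⥤ B` (enough injectives
in `A`) and a family of objects `G p X` (no functoriality required) with
* `G 0 X ≅ F X`,
* `G 1 X₁ ≅ coker (F X₂ → F X₃)` for every short exact sequence with `X₂` injective,
* `G (p+2) X₁ ≅ G (p+1) X₃` for every short exact sequence with `X₂` injective,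
one has `G p X ≅ (F.rightDerived p).obj X` for all `p`, `X`.
-/

set_option autoImplicit false
universe w w' v v' u u'
open CategoryTheory CategoryTheory.Limits
open Groth.Agent.H45.RDP

namespace Groth.Agent.H92.DimShift

section

variable {A : Type u} [Category.{v} A] [Abelian A] [HasDerivedCategory.{w} A] [EnoughInjectives A]
  {B : Type u'} [Category.{v'} B] [Abelian B] [HasDerivedCategory.{w'} B]
  (F : A ⥤ B) [F.Additive] [PreservesFiniteLimits F]

/-- `R⁰F ≅ F`, naturally. -/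
noncomputable def r0Iso : RnF F 0 ≅ F :=
  have : ∀ X, IsIso ((uN F 0).app X) := isIso_uN_zero F
  have : IsIso (uN F 0) := NatIso.isIso_of_isIso_app _
  (asIso (uN F 0)).symm ≪≫ srcIso F

theorem r1 {S : ShortComplex A} (hS : S.ShortExact) [Injective S.X₂] :
    Nonempty ((RnF F 1).obj S.X₁ ≅ cokernel (F.map S.g)) := by
  obtain ⟨δ, w₁, w₂, e₁, e₂⟩ := RnF_exists_δ F hS 0 1 (by norm_num)
  have hz : IsZero ((RnF F 1).obj S.X₂) := isZero_RnF_obj_of_injective F S.X₂ 1 (by norm_num)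
  have hepi : Epi δ := e₂.epi_f (hz.eq_of_tgt _ _)
  have hepi' : Epi (ShortComplex.mk _ _ w₁).g := hepi
  let c1 : cokernel ((RnF F 0).map S.g) ≅ (RnF F 1).obj S.X₁ :=
    IsColimit.coconePointUniqueUpToIso (colimit.isColimit _) e₁.gIsCokernel
  let c2 : cokernel ((RnF F 0).map S.g) ≅ cokernel (F.map S.g) :=
    cokernel.mapIso _ _ ((r0Iso F).app S.X₂) ((r0Iso F).app S.X₃)
      ((r0Iso F).hom.naturality S.g)
  exact ⟨c1.symm ≪≫ c2⟩

omit [PreservesFiniteLimits F] in
theorem rs {S : ShortComplex A} (hS : S.ShortExact) [Injective S.X₂] (p : ℕ) :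
    Nonempty ((RnF F ((p + 2 : ℕ) : ℤ)).obj S.X₁ ≅ (RnF F ((p + 1 : ℕ) : ℤ)).obj S.X₃) := by
  obtain ⟨δ, w₁, w₂, e₁, e₂⟩ := RnF_exists_δ F hS ((p + 1 : ℕ) : ℤ) ((p + 2 : ℕ) : ℤ)
    (by push_cast; ring)
  have hz1 : IsZero ((RnF F ((p + 1 : ℕ) : ℤ)).obj S.X₂) :=
    isZero_RnF_obj_of_injective F S.X₂ _ (by push_cast; omega)
  have hz2 : IsZero ((RnF F ((p + 2 : ℕ) : ℤ)).obj S.X₂) :=
    isZero_RnF_obj_of_injective F S.X₂ _ (by push_cast; omega)
  have hepi : Epi δ := e₂.epi_f (hz2.eq_of_tgt _ _)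
  have hmono : Mono δ := e₁.mono_g (hz1.eq_of_src _ _)
  have : IsIso δ := isIso_of_mono_of_epi δ
  exact ⟨(asIso δ).symm⟩

end

section

variable {A : Type u} [Category.{v} A] [Abelian A] [HasInjectiveResolutions A]
  {B : Type u'} [Category.{v'} B] [Abelian B]
  (F : A ⥤ B) [F.Additive] [PreservesFiniteLimits F]

/-- **Dimension shifting.** -/
theorem main (G : ℕ → A → B)
    (h0 : ∀ X, Nonempty (G 0 X ≅ F.obj X))
    (h1 : ∀ (S : ShortComplex A), S.ShortExact → Injective S.X₂ →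
      Nonempty (G 1 S.X₁ ≅ cokernel (F.map S.g)))
    (hs : ∀ (S : ShortComplex A), S.ShortExact → Injective S.X₂ → ∀ p : ℕ,
      Nonempty (G (p + 2) S.X₁ ≅ G (p + 1) S.X₃)) :
    ∀ (p : ℕ) (X : A), Nonempty (G p X ≅ (F.rightDerived p).obj X) := by
  let _ := HasDerivedCategory.standard A
  let _ := HasDerivedCategory.standard B
  have := Groth.Agent.H5.GSS.enoughInjectives_of_hasInjectiveResolutions A
  have key : ∀ (p : ℕ) (X : A), Nonempty (G p X ≅ (RnF F (p : ℤ)).obj X) := by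
    have setup : ∀ X : A, ∃ (S : ShortComplex A) (_ : S.ShortExact) (_ : Injective S.X₂),
        S.X₁ = X := by
      intro X
      refine ⟨ShortComplex.mk (Injective.ι X) (cokernel.π (Injective.ι X))
        (cokernel.condition _), ?_, ?_, rfl⟩
      · exact { exact := ShortComplex.exact_cokernel _
                mono_f := inferInstanceAs (Mono (Injective.ι X))
                epi_g := inferInstanceAs (Epi (cokernel.π (Injective.ι X))) }
      · exact inferInstanceAs (Injective (Injective.under X))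
    have step : ∀ p : ℕ, (∀ X : A, Nonempty (G (p + 1) X ≅ (RnF F ((p + 1 : ℕ) : ℤ)).obj X)) →
        ∀ X : A, Nonempty (G (p + 2) X ≅ (RnF F ((p + 2 : ℕ) : ℤ)).obj X) := by
      intro p ih X
      obtain ⟨S, hS, hI, rfl⟩ := setup X
      obtain ⟨a⟩ := hs S hS hI p
      obtain ⟨b⟩ := ih S.X₃
      obtain ⟨c⟩ := rs F hS p
      exact ⟨a ≪≫ b ≪≫ c.symm⟩
    have one : ∀ X : A, Nonempty (G 1 X ≅ (RnF F ((0 + 1 : ℕ) : ℤ)).obj X) := by
      intro X
      obtain ⟨S, hS, hI, rfl⟩ := setup X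
      obtain ⟨a⟩ := h1 S hS hI
      obtain ⟨c⟩ := r1 F hS
      exact ⟨a ≪≫ c.symm⟩
    intro p
    induction p using Nat.twoStepInduction with
    | zero =>
      intro X
      obtain ⟨a⟩ := h0 X
      exact ⟨a ≪≫ ((r0Iso F).app X).symm⟩
    | one => exact one
    | more p _ ih => exact step p ih
  intro p X
  obtain ⟨a⟩ := key p X
  obtain ⟨b⟩ := Groth.Agent.H5.GSS.nonempty_rnf_iso F X p
  exact ⟨a ≪≫ b⟩

end

end Groth.Agent.H92.DimShift
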