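import Groth.Agent.H45.OverCoh
import Groth.Agent.H45.ToSheafColim
import Groth.Agent.H31.ExtZeroSh
import Groth.Prelude.Def_ModSite2

/-!
# Restriction of sheaves of modules to a localised site is exact and preserves injectives (helper92)
-/

set_option autoImplicit false

namespace Groth.Agent.H92.RestrExact

open CategoryTheory Limits Opposite

universe u

variable {C : Type u} [SmallCategory C] {J : GrothendieckTopology C} (O : Sheaf J CommRingCat.{u})
  (X : C)

/-- restriction commutes with the underlying abelian sheaf -/
noncomputable def cmpIso :
    ModSite.restr O X ⋙ SheafOfModules.toSheaf (ModSite.ringSh (O.over X)) ≅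
      SheafOfModules.toSheaf (ModSite.ringSh O) ⋙ J.overPullback AddCommGrpCat.{u} X :=
  NatIso.ofComponents (fun M => Iso.refl _) (by intro M N f; rfl)

instance restr_preservesFiniteColimits : PreservesFiniteColimits (ModSite.restr O X) := by
  have h1 : PreservesFiniteColimits
      (SheafOfModules.toSheaf (ModSite.ringSh O) ⋙ J.overPullback AddCommGrpCat.{u} X) := by
    have := Groth.Agent.H45.toSheaf_preservesFiniteColimits (ModSite.ringSh O)
    have := Groth.Agent.H45.preservesFiniteColimits_overPullback J X
    infer_instance
  have h2 : PreservesFiniteColimits
      (ModSite.restr O X ⋙ SheafOfModules.toSheaf (ModSite.ringSh (O.over X))) :=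
    preservesFiniteColimits_of_natIso (cmpIso O X).symm
  have h3 : (SheafOfModules.toSheaf (ModSite.ringSh (O.over X))).ReflectsIsomorphisms :=
    inferInstance
  have h4 := Groth.Agent.H45.toSheaf_preservesFiniteColimits (ModSite.ringSh (O.over X))
  constructor
  intro K _ _
  have : ReflectsColimitsOfShape K (SheafOfModules.toSheaf (ModSite.ringSh (O.over X))) :=
    reflectsColimitsOfShape_of_reflectsIsomorphisms
  exact ⟨fun {F} => preservesColimit_of_reflects_of_preserves (ModSite.restr O X)
    (SheafOfModules.toSheaf (ModSite.ringSh (O.over X)))⟩

instance restr_preservesFiniteLimits : PreservesFiniteLimits (ModSite.restr O X) := by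
  have := (ModSite.extZeroAdj O X).rightAdjoint_preservesLimits
  infer_instance

instance restr_additive : (ModSite.restr O X).Additive :=
  Functor.additive_of_preserves_binary_products _

/-- restriction preserves injective objects -/
theorem injective_restr (Q : ModSite.Mod O) [Injective Q] :
    Injective ((ModSite.restr O X).obj Q) := by
  have := Groth.Agent.H31.ExtZero.extZero_preservesFiniteLimits O X
  have : (ModSite.extZero O X).PreservesMonomorphisms := inferInstance
  exact Injective.injective_of_adjoint (ModSite.extZeroAdj O X) Q

end Groth.Agent.H92.RestrExact
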