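import Mathlib

/-!
# The first two terms of the Amitsur complex of a module along a faithfully flat ring map (helper92)

`amitsur_exact`: for `A → B` faithfully flat and an `A`-module `M`, the sequence
`M → B ⊗ M → (B ⊗ B) ⊗ M`, `m ↦ 1 ⊗ m`, `b ⊗ m ↦ (b ⊗ 1 - 1 ⊗ b) ⊗ m` is exact.
-/

set_option autoImplicit false
universe u v w
open TensorProduct

namespace Groth.Agent.H92.AdeqFlat

variable (A : Type u) (B : Type v) (M : Type w) [CommRing A] [CommRing B] [Algebra A B]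
  [AddCommGroup M] [Module A M]

/-- `m ↦ 1 ⊗ m` -/
noncomputable def αM : M →ₗ[A] B ⊗[A] M := TensorProduct.mk A B M 1

/-- `b ⊗ m ↦ (b ⊗ 1 - 1 ⊗ b) ⊗ m` -/
noncomputable def δM : B ⊗[A] M →ₗ[A] (B ⊗[A] B) ⊗[A] M :=
  (Algebra.TensorProduct.includeLeftSubRight A B).rTensor M

@[simp] lemma αM_apply (m : M) : αM A B M m = (1 : B) ⊗ₜ[A] m := rfl

@[simp] lemma δM_tmul (b : B) (m : M) :
    δM A B M (b ⊗ₜ[A] m) = (b ⊗ₜ[A] (1 : B) - (1 : B) ⊗ₜ[A] b) ⊗ₜ[A] m := rfl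

lemma δM_comp_αM : (δM A B M).comp (αM A B M) = 0 := by
  ext m
  simp

/-- `b ⊗ (b' ⊗ m) ↦ b b' ⊗ m` -/
noncomputable def rM : B ⊗[A] (B ⊗[A] M) →ₗ[A] B ⊗[A] M :=
  ((LinearMap.mul' A B).rTensor M).comp (TensorProduct.assoc A B B M).symm.toLinearMap

@[simp] lemma rM_tmul (b b' : B) (m : M) : rM A B M (b ⊗ₜ[A] (b' ⊗ₜ[A] m)) = (b * b') ⊗ₜ[A] m := rfl

/-- `b ⊗ ((b₁ ⊗ b₂) ⊗ m) ↦ b b₁ ⊗ (b₂ ⊗ m)` -/
noncomputable def sM : B ⊗[A] ((B ⊗[A] B) ⊗[A] M) →ₗ[A] B ⊗[A] (B ⊗[A] M) :=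
  (TensorProduct.assoc A B B M).toLinearMap.comp
    ((((LinearMap.mul' A B).rTensor B).comp (TensorProduct.assoc A B B B).symm.toLinearMap).rTensor M
      |>.comp (TensorProduct.assoc A B (B ⊗[A] B) M).symm.toLinearMap)

@[simp] lemma sM_tmul (b b₁ b₂ : B) (m : M) :
    sM A B M (b ⊗ₜ[A] ((b₁ ⊗ₜ[A] b₂) ⊗ₜ[A] m)) = (b * b₁) ⊗ₜ[A] (b₂ ⊗ₜ[A] m) := rfl

lemma homotopy (w : B ⊗[A] (B ⊗[A] M)) :
    sM A B M ((δM A B M).lTensor B w) + w = (αM A B M).lTensor B (rM A B M w) := by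
  induction w using TensorProduct.induction_on with
  | zero => simp
  | add x y hx hy =>
    simp only [map_add]
    rw [← hx, ← hy]
    abel
  | tmul b x =>
    induction x using TensorProduct.induction_on with
    | zero => simp
    | add x y hx hy =>
      simp only [TensorProduct.tmul_add, map_add]
      rw [← hx, ← hy]
      abel
    | tmul b' m =>
      simp only [LinearMap.lTensor_tmul, δM_tmul, rM_tmul, αM_apply, TensorProduct.sub_tmul,
        TensorProduct.tmul_sub, map_sub, sM_tmul, mul_one]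
      abel

variable [Module.FaithfullyFlat A B]

theorem amitsur_exact : Function.Exact (αM A B M) (δM A B M) := by
  apply Module.FaithfullyFlat.lTensor_reflects_exact A B
  intro w
  constructor
  · intro hw
    refine ⟨rM A B M w, ?_⟩
    rw [← homotopy, hw, map_zero, zero_add]
  · rintro ⟨v, rfl⟩
    rw [← LinearMap.comp_apply, ← LinearMap.lTensor_comp, δM_comp_αM, LinearMap.lTensor_zero,
      LinearMap.zero_apply]

theorem αM_injective : Function.Injective (αM A B M) :=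
  Module.FaithfullyFlat.tensorProduct_mk_injective M

end Groth.Agent.H92.AdeqFlat
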