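import Mathlib
import Groth.Prelude.Def_FreeSh

/-!
# Local (elementwise) arguments for abelian sheaves on a site (helper92)
-/

set_option autoImplicit false

namespace Groth.Agent.H92.SheafLocal

open CategoryTheory Limits Opposite

universe u

variable {C : Type u} [SmallCategory C] {J : GrothendieckTopology C}

/-- separatedness: a section vanishing on a covering sieve vanishes -/
theorem eq_zero_of_cover (A : Sheaf J AddCommGrpCat.{u}) {V : C} (z : A.obj.obj (op V))
    (S : Sieve V) (hS : S ∈ J V)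
    (h : ∀ ⦃W : C⦄ (g : W ⟶ V), S g → A.obj.map g.op z = 0) : z = 0 := by
  have hsep : Presieve.IsSeparated J (A.obj ⋙ forget AddCommGrpCat.{u}) := by
    apply Presieve.IsSheaf.isSeparated
    rw [← isSheaf_iff_isSheaf_of_type]
    exact ((sheafCompose J (forget AddCommGrpCat.{u})).obj A).2
  refine (hsep S hS).ext (fun W g hg => ?_)
  have h0 : A.obj.map g.op (0 : A.obj.obj (op V)) = 0 := map_zero _
  exact (h g hg).trans h0.symm

/-- sections lift locally along an epimorphism -/
theorem exists_cover_lift_of_epi {A B : Sheaf J AddCommGrpCat.{u}} (p : A ⟶ B) [Epi p] {V : C}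
    (z : B.obj.obj (op V)) :
    ∃ S ∈ J V, ∀ ⦃W : C⦄ (g : W ⟶ V), S g →
      ∃ a : A.obj.obj (op W), p.hom.app (op W) a = B.obj.map g.op z := by
  have : Sheaf.IsLocallySurjective p := (Sheaf.isLocallySurjective_iff_epi' AddCommGrpCat.{u} p).2
    inferInstance
  exact ⟨Presheaf.imageSieve p.hom z, Presheaf.imageSieve_mem J p.hom z, fun W g hg => hg⟩

lemma ofSect_comp (V : C) {F G : Sheaf J AddCommGrpCat.{u}} (g : F ⟶ G) (t : F.obj.obj (op V)) :
    CohFree.ofSect J V F t ≫ g = CohFree.ofSect J V G (g.hom.app (op V) t) := by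
  apply (CohFree.homEquivSect J V G).injective
  rw [CohFree.homEquivSect_apply, CohFree.homEquivSect_apply, CohFree.evalGen_ofSect]
  show (g.hom.app (op V)).hom (CohFree.evalGen J V F (CohFree.ofSect J V F t)) = _
  rw [CohFree.evalGen_ofSect]

/-- sections killed by `g` lift locally along `f` in an exact sequence of abelian sheaves -/
theorem exists_cover_lift_of_exact (S : ShortComplex (Sheaf J AddCommGrpCat.{u})) (hS : S.Exact)
    {V : C} (y : S.X₂.obj.obj (op V)) (hy : S.g.hom.app (op V) y = 0) :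
    ∃ R ∈ J V, ∀ ⦃W : C⦄ (g : W ⟶ V), R g →
      ∃ a : S.X₁.obj.obj (op W), S.f.hom.app (op W) a = S.X₂.obj.map g.op y := by
  let x₂ := CohFree.ofSect J V S.X₂ y
  have hx₂ : x₂ ≫ S.g = 0 := by
    rw [ofSect_comp, hy]
    exact (CohFree.homEquivSect J V S.X₃).symm.map_zero
  obtain ⟨A', π, hπ, x₁, fac⟩ := (ShortComplex.exact_iff_exact_up_to_refinements S).1 hS x₂ hx₂
  obtain ⟨R, hR, h⟩ := exists_cover_lift_of_epi π (CohFree.gen J V)
  refine ⟨R, hR, fun W g hg => ?_⟩
  obtain ⟨a', ha'⟩ := h g hg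
  refine ⟨x₁.hom.app (op W) a', ?_⟩
  have h1 : S.f.hom.app (op W) (x₁.hom.app (op W) a') = x₂.hom.app (op W) (π.hom.app (op W) a') := by
    have := congrArg (fun (t : A' ⟶ S.X₂) => t.hom.app (op W) a') fac
    exact this.symm
  rw [h1, ha']
  have h2 : x₂.hom.app (op W) ((CohCx.freeSheaf J V).obj.map g.op (CohFree.gen J V)) =
      S.X₂.obj.map g.op (x₂.hom.app (op V) (CohFree.gen J V)) :=
    NatTrans.naturality_apply x₂.hom g.op (CohFree.gen J V)
  rw [h2]
  congr 1
  exact CohFree.evalGen_ofSect J V S.X₂ y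

end Groth.Agent.H92.SheafLocal
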