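import Groth.Agent.H92.QuotSectAdj
import Groth.Agent.H92.SheafLocal
import Groth.Agent.H31.ExtZeroSh
import Groth.Agent.H31.TensorSite3
import Groth.Agent.H45.ToSheafColim

/-!
# `M ↦ M/M_U` is exact; `Γ_Z` preserves injectives (helper92)
-/

set_option autoImplicit false

namespace Groth.Agent.H92.QuotSect

open CategoryTheory Limits Opposite
open Groth.Agent.H31 Groth.Agent.H31.ExtZero Groth.Agent.H92.SheafLocal

universe u

variable {C : Type u} [SmallCategory C] {J : GrothendieckTopology C} (O : Sheaf J CommRingCat.{u})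
  (U : C)

/-- the underlying abelian sheaf -/
noncomputable abbrev ab : ModSite.Mod O ⥤ Sheaf J AddCommGrpCat.{u} :=
  SheafOfModules.toSheaf (ModSite.ringSh O)

/-- over an object mapping to `U`, the counit `j_!j^*M ⟶ M` is surjective on sections -/
theorem ε_app_surjective (M : ModSite.Mod O) {W : C} (g : W ⟶ U)
    (y : ((ab O).obj M).obj.obj (op W)) :
    ∃ x : ((ab O).obj ((ModSite.extZero O U).obj ((ModSite.restr O U).obj M))).obj.obj (op W),
      ((ab O).map (ε O U M)).hom.app (op W) x = y := by
  have h := (ModSite.extZeroAdj O U).right_triangle_components M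
  have h' := congrArg (fun ψ : (ModSite.restr O U).obj M ⟶ (ModSite.restr O U).obj M =>
    (ψ.val.app (op (Over.mk g))).hom y) h
  exact ⟨(((ModSite.extZeroAdj O U).unit.app ((ModSite.restr O U).obj M)).val.app
    (op (Over.mk g))).hom y, h'⟩

/-- sections of `j_!G` vanish locally away from `U` -/
theorem extZero_section_locally (G : ModSite.Mod (O.over U)) {V : C}
    (a : ((ab O).obj ((ModSite.extZero O U).obj G)).obj.obj (op V)) :
    ∃ S ∈ J V, ∀ ⦃W : C⦄ (h : W ⟶ V), S h →
      Nonempty (W ⟶ U) ∨ ((ab O).obj ((ModSite.extZero O U).obj G)).obj.map h.op a = 0 := by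
  let e := (extZeroIso O U).app G
  let P : PM O := (jPre (O := O) (U := U)).obj ((toPM (O.over U)).obj G)
  have hW : J.W ((PresheafOfModules.toPresheaf (R₀ O)).map (Groth.Agent.H31.η P)) :=
    (isIso_shf_map_iff (Groth.Agent.H31.η P)).1 inferInstance
  have hls : Presheaf.IsLocallySurjective J ((PresheafOfModules.toPresheaf (R₀ O)).map (Groth.Agent.H31.η P)) :=
    ((J.W_iff_isLocallyBijective _).1 hW).2
  let a' : ((ab O).obj ((jSh O U).obj G)).obj.obj (op V) := ((ab O).map e.hom).hom.app (op V) a
  refine ⟨Presheaf.imageSieve ((PresheafOfModules.toPresheaf (R₀ O)).map (Groth.Agent.H31.η P)) a',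
    hls.imageSieve_mem a', ?_⟩
  rintro W h ⟨t, ht⟩
  by_cases hne : Nonempty (W ⟶ U)
  · exact Or.inl hne
  · right
    have hemp : IsEmpty (W ⟶ U) := not_nonempty_iff.1 hne
    have hsub : Subsingleton (Sec ((toPM (O.over U)).obj G) W) := inferInstance
    have ht0 : t = 0 := @Subsingleton.elim _ hsub _ _
    have h1 : ((ab O).obj ((jSh O U).obj G)).obj.map h.op a' = 0 :=
      ht.symm.trans (by rw [ht0]; exact map_zero _)
    have h2 : ((ab O).map e.hom).hom.app (op W)
        (((ab O).obj ((ModSite.extZero O U).obj G)).obj.map h.op a) =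
        ((ab O).obj ((jSh O U).obj G)).obj.map h.op a' :=
      NatTrans.naturality_apply ((ab O).map e.hom).hom h.op a
    have h3 := congrArg (((ab O).map e.inv).hom.app (op W)) (h2.trans h1)
    rw [map_zero] at h3
    refine Eq.trans ?_ h3
    have h4 : (ab O).map e.hom ≫ (ab O).map e.inv = 𝟙 _ := by
      rw [← CategoryTheory.Functor.map_comp, e.hom_inv_id, CategoryTheory.Functor.map_id]
    have h5 := congrArg (fun (ψ : (ab O).obj ((ModSite.extZero O U).obj G) ⟶ _) =>
      ψ.hom.app (op W) (((ab O).obj ((ModSite.extZero O U).obj G)).obj.map h.op a)) h4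
    exact h5.symm

section Elementwise

variable {A B D : Sheaf J AddCommGrpCat.{u}}

lemma comp_ap (φ : A ⟶ B) (ψ : B ⟶ D) (X : Cᵒᵖ) (x : A.obj.obj X) :
    (φ ≫ ψ).hom.app X x = ψ.hom.app X (φ.hom.app X x) := rfl

lemma ap_res (φ : A ⟶ B) {X Y : Cᵒᵖ} (f : X ⟶ Y) (x : A.obj.obj X) :
    φ.hom.app Y (A.obj.map f x) = B.obj.map f (φ.hom.app X x) :=
  NatTrans.naturality_apply φ.hom f x

lemma ap_congr {φ ψ : A ⟶ B} (h : φ = ψ) (X : Cᵒᵖ) (x : A.obj.obj X) :
    φ.hom.app X x = ψ.hom.app X x := by rw [h]

lemma injective_of_mono (φ : A ⟶ B) [Mono φ] (X : Cᵒᵖ) : Function.Injective (φ.hom.app X) := by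
  have h1 : Mono ((sheafToPresheaf J AddCommGrpCat.{u}).map φ) := inferInstance
  have h2 : Mono (((sheafToPresheaf J AddCommGrpCat.{u}).map φ).app X) := inferInstance
  exact (AddCommGrpCat.mono_iff_injective _).1 h2

end Elementwise

instance : PreservesFiniteColimits (ab O) :=
  Groth.Agent.H45.toSheaf_preservesFiniteColimits (ModSite.ringSh O)

set_option maxHeartbeats 800000 in
/-- key local statement: a section of `M'` whose image in `M` dies in `M/M_U` dies in `M'/M'_U` -/
theorem key {M' M : ModSite.Mod O} (i : M' ⟶ M) [Mono i] {W : C}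
    (x : ((ab O).obj M').obj.obj (op W))
    (hx : ((ab O).map (π O U M)).hom.app (op W) (((ab O).map i).hom.app (op W) x) = 0) :
    ((ab O).map (π O U M')).hom.app (op W) x = 0 := by
  have hmono : Mono ((ab O).map i) := inferInstance
  let S : ShortComplex (Sheaf J AddCommGrpCat.{u}) := (ExtSupp.openSeq U M).map (ab O)
  have hS : S.Exact := (ExtSupp.openSeq_exact U M).1.map (ab O)
  obtain ⟨S₂, hS₂, h₂⟩ := exists_cover_lift_of_exact S hS (((ab O).map i).hom.app (op W) x) hx
  apply eq_zero_of_cover _ _ S₂ hS₂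
  intro W' h hh
  obtain ⟨a, ha⟩ := h₂ h hh
  obtain ⟨S₃, hS₃, h₃⟩ := extZero_section_locally O U _ a
  apply eq_zero_of_cover _ _ S₃ hS₃
  intro W'' k hk
  -- the restricted section
  let x'' : ((ab O).obj M').obj.obj (op W'') :=
    ((ab O).obj M').obj.map k.op (((ab O).obj M').obj.map h.op x)
  have hgoal : ((ab O).obj ((ModSite.quotOn O U).obj M')).obj.map k.op
      (((ab O).obj ((ModSite.quotOn O U).obj M')).obj.map h.op
        (((ab O).map (π O U M')).hom.app (op W) x)) =
      ((ab O).map (π O U M')).hom.app (op W'') x'' := by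
    rw [← ap_res, ← ap_res]
  rw [hgoal]
  rcases h₃ k hk with ⟨⟨g'⟩⟩ | h0
  · obtain ⟨b, hb⟩ := ε_app_surjective O U M' g' x''
    rw [← hb, ← comp_ap, ← Functor.map_comp, ε_π, Functor.map_zero]
    rfl
  · have hi : ((ab O).map i).hom.app (op W'') x'' = 0 := by
      have e1 : ((ab O).map i).hom.app (op W'') x'' =
          ((ab O).obj M).obj.map k.op (((ab O).obj M).obj.map h.op
            (((ab O).map i).hom.app (op W) x)) := by
        rw [← ap_res, ← ap_res]
      refine e1.trans ?_
      have e2 : ((ab O).obj M).obj.map k.op (((ab O).obj M).obj.map h.op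
            (((ab O).map i).hom.app (op W) x)) =
          ((ab O).obj M).obj.map k.op (S.f.hom.app (op W') a) :=
        congrArg (((ab O).obj M).obj.map k.op) ha.symm
      refine e2.trans ?_
      refine (ap_res S.f k.op a).symm.trans ?_
      have e3 : S.X₁.obj.map k.op a = 0 := h0
      rw [e3, map_zero]
      rfl
    have hx0 : x'' = 0 := injective_of_mono ((ab O).map i) (op W'') (hi.trans (map_zero _).symm)
    rw [hx0, map_zero]

set_option maxHeartbeats 800000 in
/-- `M ↦ M/M_U` preserves monomorphisms -/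
theorem quotOn_map_mono {M' M : ModSite.Mod O} (i : M' ⟶ M) [Mono i] :
    Mono ((ModSite.quotOn O U).map i) := by
  apply (ab O).mono_of_mono_map
  apply Sheaf.mono_of_injective
  intro X
  rw [← AddMonoidHom.coe_coe, injective_iff_map_eq_zero]
  intro z hz
  have hz' : ((ab O).map ((ModSite.quotOn O U).map i)).hom.app X z = 0 := hz
  have hepi : Epi ((ab O).map (π O U M')) := inferInstance
  obtain ⟨S₁, hS₁, h₁⟩ := exists_cover_lift_of_epi ((ab O).map (π O U M')) (V := X.unop) z
  apply eq_zero_of_cover _ (V := X.unop) z S₁ hS₁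
  intro W g hg
  obtain ⟨x, hx⟩ := h₁ g hg
  refine hx.symm.trans ?_
  apply key O U i x
  have h1 : ((ab O).map (π O U M)).hom.app (op W) (((ab O).map i).hom.app (op W) x) =
      ((ab O).map ((ModSite.quotOn O U).map i)).hom.app (op W)
        (((ab O).map (π O U M')).hom.app (op W) x) := by
    rw [← comp_ap, ← comp_ap, ← Functor.map_comp, ← Functor.map_comp, π_natural]
  rw [h1, hx]
  have h2 : ((ab O).map ((ModSite.quotOn O U).map i)).hom.app (op W)
      (((ab O).obj ((ModSite.quotOn O U).obj M')).obj.map g.op z) =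
      ((ab O).obj ((ModSite.quotOn O U).obj M)).obj.map g.op
        (((ab O).map ((ModSite.quotOn O U).map i)).hom.app X z) :=
    ap_res _ g.op z
  rw [h2, hz', map_zero]

instance : (ModSite.quotOn O U).PreservesMonomorphisms where
  preserves i _ := quotOn_map_mono O U i

/-- `Γ_Z` preserves injective objects -/
theorem injective_sectOn [ModSite.HasPushOver O U] (Q : ModSite.Mod O) [Injective Q] :
    Injective ((ModSite.sectOn O U).obj Q) :=
  Injective.injective_of_adjoint (adj O U) Q

end Groth.Agent.H92.QuotSect
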