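import Groth.Agent.H92.SuppSect
import Groth.Agent.H92.QuotOnExact
import Groth.Agent.S6160

/-!
# Sections with supports commute with restriction of scalars (helper92)

* `gen_map`, `app_eq_zero_of_arrows`: a map `R[ε(V)] ⟶ N` with section `x ∈ N(V)` vanishes over the
  objects of a downward closed class as soon as `x` restricts to zero along all arrows from such
  objects.
* `γ φ U N : rs(Γ_Z N) ⟶ Γ_Z(rs N)` and `sectOnRestrictScalarsIso`.
-/

set_option autoImplicit false

namespace Groth.Agent.H92.SuppSect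

open CategoryTheory Limits Opposite Abelian
open Groth.Agent.H30.ModCech Groth.Agent.H67.CechTopos
open Groth.Agent.H92.HZComp

universe u

variable {C : Type u} [SmallCategory C] {J : GrothendieckTopology C}

section Free

variable (R : Sheaf J RingCat.{u})

theorem gen_map (K : Sheaf J (Type u)) {W W' : Cᵒᵖ} (f : W ⟶ W') (k : K.obj.obj W) :
    ((FR R).obj K).val.map f (gen R K W k) = gen R K W' (K.obj.map f k) := by
  have h := PresheafOfModules.naturality_apply
    ((PresheafOfModules.sheafificationAdjunction (𝟙 R.obj)).unit.app ((FP R).obj K)) f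
    (ModuleCat.freeMk k)
  refine h.symm.trans ?_
  show _ = ((PresheafOfModules.sheafificationAdjunction (𝟙 R.obj)).unit.app ((FP R).obj K)).app W'
    (ModuleCat.freeMk (K.obj.map f k))
  congr 1
  exact ModuleCat.freeDesc_apply _ _

theorem toSheafify_yoneda_app (V : C) {W : C} (a : W ⟶ V) :
    (toSheafify J (yoneda.obj V)).app (op W) a =
      (ToposFin.eps J V).obj.map a.op (eU V) := by
  have h := NatTrans.naturality_apply (toSheafify J (yoneda.obj V)) a.op (𝟙 V)
  refine Eq.trans ?_ h
  show _ = (toSheafify J (yoneda.obj V)).app (op W) (a ≫ 𝟙 V)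
  rw [Category.comp_id]

/-- a map `R[ε(V)] ⟶ N` with section `x ∈ N(V)` vanishes over the objects of a downward closed
class as soon as `x` restricts to zero along all arrows from such objects -/
theorem app_eq_zero_of_arrows (V : C) (N : SheafOfModules.{u} R)
    (φ : (FR R).obj (ToposFin.eps J V) ⟶ N) (P : C → Prop)
    (hP : ∀ ⦃W W' : C⦄ (_ : W' ⟶ W), P W → P W')
    (h : ∀ (W : C) (a : W ⟶ V), P W → N.val.map a.op (secFR R V N φ) = 0)
    (W : C) (hW : P W) (y : ((FR R).obj (ToposFin.eps J V)).val.obj (op W)) :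
    φ.val.app (op W) y = 0 := by
  apply app_eq_zero_of_gen R _ N φ W
  intro W' c k
  have hls : Presheaf.IsLocallySurjective J (toSheafify J (yoneda.obj V)) :=
    Presheaf.isLocallySurjective_toSheafify' J _
  let x : ((UU R).obj N).obj.obj (op W') := φ.val.app (op W') (gen R _ (op W') k)
  show x = 0
  apply Groth.Agent.H92.SheafLocal.eq_zero_of_cover ((UU R).obj N) (V := W') x
    (Presheaf.imageSieve (toSheafify J (yoneda.obj V)) k) (hls.imageSieve_mem k)
  rintro W'' d ⟨a, ha⟩
  have h1 := PresheafOfModules.naturality_apply φ.val d.op (gen R _ (op W') k)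
  refine h1.symm.trans ?_
  rw [gen_map]
  have h2 : (ToposFin.eps J V).obj.map d.op k = (ToposFin.eps J V).obj.map a.op (eU V) :=
    ha.symm.trans (toSheafify_yoneda_app V a)
  rw [h2, ← gen_map]
  have h3 := PresheafOfModules.naturality_apply φ.val a.op (gen R _ (op V) (eU V))
  refine h3.trans ?_
  rw [← secFR_apply]
  exact h W'' a (hP (d ≫ c) hW)

end Free

section Scalars

open Groth.Agent.H92.QuotSect

variable {O O' : Sheaf J CommRingCat.{u}} (φ : O ⟶ O') (U : C)

/-- the induced map on the underlying sheaves of rings -/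
noncomputable abbrev φR : ModSite.ringSh O ⟶ ModSite.ringSh O' :=
  (sheafCompose J (forget₂ CommRingCat.{u} RingCat.{u})).map φ

/-- restriction of scalars -/
noncomputable abbrev rs : ModSite.Mod O' ⥤ ModSite.Mod O :=
  SheafOfModules.restrictScalars (φR φ)

instance : PreservesFiniteLimits (rs φ) :=
  have := (Groth.Agent.S6160.result (φR φ)).1
  PreservesLimitsOfSize.preservesFiniteLimits _

instance : PreservesFiniteColimits (rs φ) :=
  have := (Groth.Agent.S6160.result (φR φ)).2.1
  PreservesColimitsOfSize.preservesFiniteColimits _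

/-- the inclusion `Γ_Z N ⟶ N` vanishes over the objects over `U` -/
theorem ι_app_eq_zero [ModSite.HasPushOver O U] (N : ModSite.Mod O) (W : C)
    (hW : Nonempty (W ⟶ U)) (y : ((ModSite.sectOn O U).obj N).val.obj (op W)) :
    (ι O U N).val.app (op W) y = 0 :=
  (restr_map_eq_zero_iff O U (ι O U N)).1 ((comp_η_eq_zero_iff O U _).1 (ι_η O U N)) W hW y

variable [ModSite.HasPushOver O U] [ModSite.HasPushOver O' U]

theorem rs_ι_comp_η (N : ModSite.Mod O') :
    (rs φ).map (ι O' U N) ≫ η O U ((rs φ).obj N) = 0 :=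
  (comp_η_eq_zero_iff O U _).2 ((restr_map_eq_zero_iff O U _).2
    (fun W hW y => ι_app_eq_zero U N W hW y))

/-- the comparison `rs(Γ_Z N) ⟶ Γ_Z(rs N)` -/
noncomputable def γ (N : ModSite.Mod O') :
    (rs φ).obj ((ModSite.sectOn O' U).obj N) ⟶ (ModSite.sectOn O U).obj ((rs φ).obj N) :=
  kernel.lift (η O U ((rs φ).obj N)) ((rs φ).map (ι O' U N)) (rs_ι_comp_η φ U N)

theorem γ_ι (N : ModSite.Mod O') :
    γ φ U N ≫ ι O U ((rs φ).obj N) = (rs φ).map (ι O' U N) :=
  kernel.lift_ι _ _ _

instance mono_γ (N : ModSite.Mod O') : Mono (γ φ U N) := by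
  have : Mono ((rs φ).map (ι O' U N)) := inferInstance
  have h : Mono (γ φ U N ≫ ι O U ((rs φ).obj N)) := by rw [γ_ι]; exact this
  exact mono_of_mono (γ φ U N) (ι O U ((rs φ).obj N))

theorem app_injective_of_mono {R : Sheaf J RingCat.{u}} {A B : SheafOfModules.{u} R} (f : A ⟶ B)
    [Mono f] (W : Cᵒᵖ) : Function.Injective (f.val.app W) := by
  have : Mono ((UU R).map f) := inferInstance
  exact Groth.Agent.H92.QuotSect.injective_of_mono ((UU R).map f) W

set_option maxHeartbeats 800000 in
instance epi_γ (N : ModSite.Mod O') : Epi (γ φ U N) := by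
  apply Groth.Agent.H92.SheafHomLES.epi_of_surjective
  intro W x
  let V := W.unop
  let n : N.val.obj (op V) := (ι O U ((rs φ).obj N)).val.app (op V) x
  let nh := (secFR (ModSite.ringSh O') V N).symm n
  have hsec : secFR (ModSite.ringSh O') V N nh = n := Equiv.apply_symm_apply _ _
  have h1 : (ModSite.restr O' U).map nh = 0 := by
    refine (restr_map_eq_zero_iff O' U nh).2 ?_
    refine app_eq_zero_of_arrows (ModSite.ringSh O') V N nh (fun W => Nonempty (W ⟶ U)) ?_ ?_
    · rintro W W' c ⟨b⟩
      exact ⟨c ≫ b⟩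
    · intro W' a hW'
      rw [hsec]
      have h2 := PresheafOfModules.naturality_apply (ι O U ((rs φ).obj N)).val a.op x
      exact h2.symm.trans (ι_app_eq_zero U ((rs φ).obj N) W' hW' _)
  have h2 : nh ≫ η O' U N = 0 := (comp_η_eq_zero_iff O' U nh).2 h1
  let xh := kernel.lift (η O' U N) nh h2
  have hxh : xh ≫ ι O' U N = nh := kernel.lift_ι _ _ _
  let x' := secFR (ModSite.ringSh O') V _ xh
  refine ⟨x', ?_⟩
  apply app_injective_of_mono (ι O U ((rs φ).obj N)) (op V)
  have h3 : (ι O U ((rs φ).obj N)).val.app (op V) ((γ φ U N).val.app (op V) x') =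
      (ι O' U N).val.app (op V) x' :=
    congrArg (fun f : (rs φ).obj ((ModSite.sectOn O' U).obj N) ⟶ (rs φ).obj N =>
      (f.val.app (op V)).hom x') (γ_ι φ U N)
  refine h3.trans ?_
  have h4 := secFR_comp (ModSite.ringSh O') V xh (ι O' U N)
  rw [hxh, hsec] at h4
  exact h4.symm

instance isIso_γ (N : ModSite.Mod O') : IsIso (γ φ U N) := isIso_of_mono_of_epi _

theorem γ_natural {N N' : ModSite.Mod O'} (g : N ⟶ N') :
    (rs φ).map ((ModSite.sectOn O' U).map g) ≫ γ φ U N' =
      γ φ U N ≫ (ModSite.sectOn O U).map ((rs φ).map g) := by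
  rw [← cancel_mono (ι O U ((rs φ).obj N')), Category.assoc, Category.assoc, γ_ι, ι_natural,
    ← Category.assoc, γ_ι, ← Functor.map_comp, ← Functor.map_comp, ι_natural]

/-- sections with supports commute with restriction of scalars -/
noncomputable def sectOnRestrictScalarsIso :
    ModSite.sectOn O' U ⋙ rs φ ≅ rs φ ⋙ ModSite.sectOn O U :=
  NatIso.ofComponents (fun N => asIso (γ φ U N)) (fun g => γ_natural φ U g)

end Scalars

end Groth.Agent.H92.SuppSect
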