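import Groth.Agent.H53.FreeOn
import Groth.Agent.H53.ModEpi
import Groth.Agent.H92.SuppSect2

/-!
# Free modules on quasi-compact objects (helper92)
-/

set_option autoImplicit false

namespace Groth.Agent.H92.FreeOnQc

open CategoryTheory Limits Opposite
open Groth.Agent.H92.HZComp Groth.Agent.H92.SuppSect

universe u

variable {C : Type u} [SmallCategory C] {J : GrothendieckTopology C}

/-- the map of representable sheaves induced by a morphism -/
noncomputable abbrev epsMap (J : GrothendieckTopology C) {W U : C} (f : W ⟶ U) :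
    ToposFin.eps J W ⟶ ToposFin.eps J U :=
  (presheafToSheaf J (Type u)).map (yoneda.map f)

theorem epsMap_toSheafify {W U V : C} (f : W ⟶ U) (l : V ⟶ W) :
    (epsMap J f).hom.app (op V) ((toSheafify J (yoneda.obj W)).app (op V) l) =
      (toSheafify J (yoneda.obj U)).app (op V) (l ≫ f) := by
  have h := toSheafify_naturality J (yoneda.map f)
  have h2 := congrArg (fun t => t.app (op V)) h
  exact (ConcreteCategory.congr_hom h2 l).symm

theorem epsMap_eU {W U : C} (f : W ⟶ U) :
    (epsMap J f).hom.app (op W) (eU W) = (ToposFin.eps J U).obj.map f.op (eU U) := by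
  refine (epsMap_toSheafify f (𝟙 W)).trans ?_
  rw [Category.id_comp]
  exact toSheafify_yoneda_app U f

theorem epsEquiv_epsMap_comp {W U : C} (f : W ⟶ U) (N : Sheaf J (Type u))
    (a : ToposFin.eps J U ⟶ N) :
    epsEquiv W N (epsMap J f ≫ a) = N.obj.map f.op (epsEquiv U N a) := by
  rw [epsEquiv_apply, epsEquiv_apply]
  have h1 : (epsMap J f ≫ a).hom.app (op W) (eU W) =
      a.hom.app (op W) ((epsMap J f).hom.app (op W) (eU W)) := rfl
  rw [h1, epsMap_eU]
  exact NatTrans.naturality_apply a.hom f.op (eU U)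

/-- a jointly surjective family of maps of sheaves of sets is jointly epimorphic -/
theorem hom_ext_of_jointlySurjective {K N : Sheaf J (Type u)} {I : Type u}
    {L : I → Sheaf J (Type u)} (f : ∀ i, L i ⟶ K) (hf : CohCx.JointlySurjective f)
    (a b : K ⟶ N) (h : ∀ i, f i ≫ a = f i ≫ b) : a = b := by
  apply Sheaf.hom_ext
  ext V y
  obtain ⟨S, hS, hS'⟩ := hf V.unop y
  refine (((isSheaf_iff_isSheaf_of_type J N.obj).1 N.2) S hS).isSeparatedFor.ext
    (fun W g hg => ?_)
  obtain ⟨i, x, hx⟩ := hS' W g hg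
  have n1 := NatTrans.naturality_apply a.hom g.op y
  have n2 := NatTrans.naturality_apply b.hom g.op y
  refine n1.symm.trans (Eq.trans ?_ n2)
  have h3 : (f i ≫ a).hom.app (op W) x = (f i ≫ b).hom.app (op W) x := by rw [h i]
  have h4 : (f i ≫ a).hom.app (op W) x = a.hom.app (op W) ((f i).hom.app (op W) x) := rfl
  have h5 : (f i ≫ b).hom.app (op W) x = b.hom.app (op W) ((f i).hom.app (op W) x) := rfl
  rw [h4, h5, hx] at h3
  exact h3

/-- a covering family of a quasi-compact object has a finite jointly surjective subfamily -/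
theorem exists_finset_jointlySurjective {U : C} (hU : CohCx.IsQcObject (ToposFin.eps J U))
    {I : Type u} (W : I → C) (f : ∀ i, W i ⟶ U) (hcov : Sieve.ofArrows W f ∈ J U) :
    ∃ t : Finset I, CohCx.JointlySurjective (fun i : t => epsMap J (f i.1)) := by
  apply hU I (fun i => ToposFin.eps J (W i)) (fun i => epsMap J (f i))
  intro V s
  have hls : Presheaf.IsLocallySurjective J (toSheafify J (yoneda.obj U)) :=
    Presheaf.isLocallySurjective_toSheafify' J _
  let S₁ := Presheaf.imageSieve (toSheafify J (yoneda.obj U)) s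
  have hS₁ : S₁ ∈ J V := hls.imageSieve_mem s
  refine ⟨Sieve.bind S₁ (fun V' g hg => (Sieve.ofArrows W f).pullback (Classical.choose hg)),
    J.bind_covering hS₁ (fun V' g hg => J.pullback_stable _ hcov), ?_⟩
  rintro V'' h ⟨V', k, g, hg, hk, rfl⟩
  have hspec := Classical.choose_spec hg
  have hk' : Sieve.ofArrows W f (k ≫ Classical.choose hg) := hk
  rw [Sieve.mem_ofArrows_iff] at hk'
  obtain ⟨i, l, hl⟩ := hk'
  refine ⟨i, (toSheafify J (yoneda.obj (W i))).app (op V'') l, ?_⟩
  refine (epsMap_toSheafify (f i) l).trans ?_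
  rw [← hl]
  have n1 := NatTrans.naturality_apply (toSheafify J (yoneda.obj U)) k.op (Classical.choose hg)
  refine Eq.trans ?_ (n1.trans ?_)
  · rfl
  · rw [hspec]
    exact (Functor.map_comp_apply _ _ _ _).symm

section FreeOn

open Groth.Agent.H30.ModCech

variable (O : Sheaf J CommRingCat.{u})

/-- the tautological section of `freeOn O U` over `U` -/
noncomputable def freeOnGen (U : C) : (ModSite.freeOn O U).val.obj (op U) :=
  Groth.Agent.H53.freeOnHomEquiv O U _ (𝟙 _)

/-- the map of free modules induced by a morphism -/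
noncomputable def freeOnMap {W U : C} (f : W ⟶ U) : ModSite.freeOn O W ⟶ ModSite.freeOn O U :=
  (Groth.Agent.H53.freeOnHomEquiv O W _).symm ((ModSite.freeOn O U).val.map f.op (freeOnGen O U))

theorem freeOnHomEquiv_freeOnMap_comp {W U : C} (f : W ⟶ U) (M : ModSite.Mod O)
    (φ : ModSite.freeOn O U ⟶ M) :
    Groth.Agent.H53.freeOnHomEquiv O W M (freeOnMap O f ≫ φ) =
      M.val.map f.op (Groth.Agent.H53.freeOnHomEquiv O U M φ) := by
  rw [Groth.Agent.H53.freeOnHomEquiv_comp]
  unfold freeOnMap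
  rw [Equiv.apply_symm_apply]
  have h1 := PresheafOfModules.naturality_apply φ.val f.op (freeOnGen O U)
  have h2 := Groth.Agent.H53.freeOnHomEquiv_comp O U (𝟙 (ModSite.freeOn O U)) φ
  rw [Category.id_comp] at h2
  refine h1.trans ?_
  rw [h2]
  rfl

theorem freeOnMap_comp_symm {W U : C} (f : W ⟶ U) (M : ModSite.Mod O) (m : M.val.obj (op U)) :
    freeOnMap O f ≫ (Groth.Agent.H53.freeOnHomEquiv O U M).symm m =
      (Groth.Agent.H53.freeOnHomEquiv O W M).symm (M.val.map f.op m) := by
  apply (Groth.Agent.H53.freeOnHomEquiv O W M).injective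
  rw [freeOnHomEquiv_freeOnMap_comp, Equiv.apply_symm_apply, Equiv.apply_symm_apply]

/-- maps out of `freeOn O U` are determined on a jointly surjective family -/
theorem freeOn_hom_ext_of_jointlySurjective {U : C} {I : Type u} (W : I → C) (f : ∀ i, W i ⟶ U)
    (hf : CohCx.JointlySurjective (fun i => epsMap J (f i))) {M : ModSite.Mod O}
    (a b : ModSite.freeOn O U ⟶ M) (h : ∀ i, freeOnMap O (f i) ≫ a = freeOnMap O (f i) ≫ b) :
    a = b := by
  apply (Groth.Agent.H53.freeOnHomEquiv O U M).injective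
  let N : Sheaf J (Type u) := (UU (ModSite.ringSh O) ⋙ W1).obj M
  let ma : N.obj.obj (op U) := Groth.Agent.H53.freeOnHomEquiv O U M a
  let mb : N.obj.obj (op U) := Groth.Agent.H53.freeOnHomEquiv O U M b
  have key : (epsEquiv U N).symm ma = (epsEquiv U N).symm mb := by
    apply hom_ext_of_jointlySurjective _ hf
    intro i
    apply (epsEquiv (W i) N).injective
    rw [epsEquiv_epsMap_comp, epsEquiv_epsMap_comp, Equiv.apply_symm_apply,
      Equiv.apply_symm_apply]
    have h1 := congrArg (Groth.Agent.H53.freeOnHomEquiv O (W i) M) (h i)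
    rw [freeOnHomEquiv_freeOnMap_comp, freeOnHomEquiv_freeOnMap_comp] at h1
    exact h1
  have := congrArg (epsEquiv U N) key
  rw [Equiv.apply_symm_apply, Equiv.apply_symm_apply] at this
  exact this

/-- local lifting of a map `freeOn O U ⟶ G` through an epimorphism `q : Q ⟶ G`, over a finite
covering family of `U` by objects of `B` -/
theorem exists_finite_lift (B : Set C)
    (hB₁ : ∀ X : C, ∃ (κ : Type u) (Y : κ → C) (g : ∀ k, Y k ⟶ X),
      Sieve.ofArrows Y g ∈ J X ∧ ∀ k, Y k ∈ B)
    {U : C} (hU : CohCx.IsQcObject (ToposFin.eps J U))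
    {Q G : ModSite.Mod O} (q : Q ⟶ G) [Epi q] (a : ModSite.freeOn O U ⟶ G) :
    ∃ (n : ℕ) (W : Fin n → C) (f : ∀ k, W k ⟶ U) (β : ∀ k, ModSite.freeOn O (W k) ⟶ Q),
      (∀ k, W k ∈ B) ∧ (∀ k, β k ≫ q = freeOnMap O (f k) ≫ a) ∧
      ∀ {M : ModSite.Mod O} (x y : ModSite.freeOn O U ⟶ M),
        (∀ k, freeOnMap O (f k) ≫ x = freeOnMap O (f k) ≫ y) → x = y := by
  choose κ Y y hy hyB using hB₁
  let g : G.val.obj (op U) := Groth.Agent.H53.freeOnHomEquiv O U G a
  have hepi : Epi ((SheafOfModules.toSheaf (ModSite.ringSh O)).map q) :=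
    Groth.Agent.H53.toSheaf_map_epi _ q
  have hls : Presheaf.IsLocallySurjective J
      ((SheafOfModules.toSheaf (ModSite.ringSh O)).map q).hom :=
    (Sheaf.isLocallySurjective_iff_epi' _ _).2 hepi
  let g' : ((SheafOfModules.toSheaf (ModSite.ringSh O)).obj G).obj.obj (op U) := g
  let S := Presheaf.imageSieve ((SheafOfModules.toSheaf (ModSite.ringSh O)).map q).hom g'
  have hS : S ∈ J U := hls.imageSieve_mem g'
  let I : Type u := Σ V : C, {i : V ⟶ U // S i} × κ V
  let W : I → C := fun idx => Y idx.1 idx.2.2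
  let f : ∀ idx : I, W idx ⟶ U := fun idx => y idx.1 idx.2.2 ≫ idx.2.1.1
  have hcov : Sieve.ofArrows W f ∈ J U := by
    refine J.superset_covering ?_
      (J.bind_covering hS (fun V i _ => hy V) :
        Sieve.bind S (fun V _ _ => Sieve.ofArrows (Y V) (y V)) ∈ J U)
    rintro V'' h ⟨V, k', i, hi, hk', rfl⟩
    rw [Sieve.mem_ofArrows_iff] at hk'
    obtain ⟨k, l, rfl⟩ := hk'
    rw [Category.assoc]
    exact (Sieve.ofArrows W f).downward_closed
      (Sieve.ofArrows_mk W f (⟨V, ⟨i, hi⟩, k⟩ : I)) l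
  obtain ⟨t, ht⟩ := exists_finset_jointlySurjective hU W f hcov
  have hSf : ∀ idx : I, S (f idx) := fun idx => S.downward_closed idx.2.1.2 _
  choose τ hτ using hSf
  let e : Fin t.card ≃ t := t.equivFin.symm
  refine ⟨t.card, fun k => W (e k).1, fun k => f (e k).1,
    fun k => (Groth.Agent.H53.freeOnHomEquiv O _ Q).symm (τ (e k).1), fun k => hyB _ _, ?_, ?_⟩
  · intro k
    rw [Groth.Agent.H53.freeOnHomEquiv_symm_comp]
    have h1 : a = (Groth.Agent.H53.freeOnHomEquiv O U G).symm g := by
      simp only [g, Equiv.symm_apply_apply]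
    rw [h1, freeOnMap_comp_symm]
    congr 1
    exact hτ (e k).1
  · intro M x y hxy
    apply freeOn_hom_ext_of_jointlySurjective O (fun i : t => W i.1) (fun i : t => f i.1) ht
    intro i
    obtain ⟨k, rfl⟩ := e.surjective i
    exact hxy k

end FreeOn

section Coker

universe v' u'

variable {A : Type u'} [Category.{v'} A] [Abelian A]

/-- the cokernel of `α : F ⟶ G` as the cokernel of a map into a cover `q : Q₀ ⟶ G` -/
theorem nonempty_cokernel_iso {Q₀ G F R : A} (q : Q₀ ⟶ G) [Epi q] (α : F ⟶ G) (ρ : R ⟶ Q₀)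
    (h1 : ρ ≫ q ≫ cokernel.π α = 0)
    (h2 : ∀ {Z : A} (h : Q₀ ⟶ Z), ρ ≫ h = 0 → ∃ h' : G ⟶ Z, q ≫ h' = h ∧ α ≫ h' = 0) :
    Nonempty (cokernel α ≅ cokernel ρ) := by
  have hc : IsColimit (CokernelCofork.ofπ (q ≫ cokernel.π α) h1) := by
    refine CokernelCofork.IsColimit.ofπ _ _
      (fun {Z} h hh => cokernel.desc α (h2 h hh).choose (h2 h hh).choose_spec.2) ?_ ?_
    · intro Z h hh
      rw [Category.assoc, cokernel.π_desc]
      exact (h2 h hh).choose_spec.1
    · intro Z h hh m hm
      rw [← cancel_epi (q ≫ cokernel.π α), hm, Category.assoc, cokernel.π_desc]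
      exact (h2 h hh).choose_spec.1.symm
  exact ⟨hc.coconePointUniqueUpToIso (colimit.isColimit (parallelPair ρ 0))⟩

end Coker

end Groth.Agent.H92.FreeOnQc
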