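import Mathlib
import Groth.Agent.H92.AdeqFlat

/-!
# The Amitsur complex in degree one (helper92)

`amitsur_exact1`: for `A → B` faithfully flat and an `A`-module `M`, the sequence
`B ⊗ M → (B ⊗ B) ⊗ M → ((B ⊗ B) ⊗ B) ⊗ M` is exact.
-/

set_option autoImplicit false
universe u v w
open TensorProduct

namespace Groth.Agent.H92.AdeqFlat1

open Groth.Agent.H92.AdeqFlat

variable (A : Type u) (B : Type v) (M : Type w) [CommRing A] [CommRing B] [Algebra A B]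
  [AddCommGroup M] [Module A M]

/-- `b₁ ⊗ b₂ ↦ (1 ⊗ b₁) ⊗ b₂` -/
noncomputable def d0 : B ⊗[A] B →ₐ[A] (B ⊗[A] B) ⊗[A] B :=
  Algebra.TensorProduct.map (Algebra.TensorProduct.includeRight : B →ₐ[A] B ⊗[A] B) (AlgHom.id A B)

/-- `b₁ ⊗ b₂ ↦ (b₁ ⊗ 1) ⊗ b₂` -/
noncomputable def d1 : B ⊗[A] B →ₐ[A] (B ⊗[A] B) ⊗[A] B :=
  Algebra.TensorProduct.map (Algebra.TensorProduct.includeLeft : B →ₐ[A] B ⊗[A] B) (AlgHom.id A B)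

/-- `b₁ ⊗ b₂ ↦ (b₁ ⊗ b₂) ⊗ 1` -/
noncomputable def d2 : B ⊗[A] B →ₐ[A] (B ⊗[A] B) ⊗[A] B :=
  Algebra.TensorProduct.includeLeft

@[simp] lemma d0_tmul (b₁ b₂ : B) : d0 A B (b₁ ⊗ₜ[A] b₂) = ((1 : B) ⊗ₜ[A] b₁) ⊗ₜ[A] b₂ := rfl
@[simp] lemma d1_tmul (b₁ b₂ : B) : d1 A B (b₁ ⊗ₜ[A] b₂) = (b₁ ⊗ₜ[A] (1 : B)) ⊗ₜ[A] b₂ := rfl
@[simp] lemma d2_tmul (b₁ b₂ : B) : d2 A B (b₁ ⊗ₜ[A] b₂) = (b₁ ⊗ₜ[A] b₂) ⊗ₜ[A] (1 : B) := rfl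

/-- the alternating sum of the three coface maps, as a linear map -/
noncomputable def εlin : B ⊗[A] B →ₗ[A] (B ⊗[A] B) ⊗[A] B :=
  (d0 A B).toLinearMap - (d1 A B).toLinearMap + (d2 A B).toLinearMap

/-- the degree one differential of the Amitsur complex of `M` -/
noncomputable def εM : (B ⊗[A] B) ⊗[A] M →ₗ[A] ((B ⊗[A] B) ⊗[A] B) ⊗[A] M :=
  (εlin A B).rTensor M

lemma εM_tmul (b₁ b₂ : B) (m : M) :
    εM A B M ((b₁ ⊗ₜ[A] b₂) ⊗ₜ[A] m) =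
      (((1 : B) ⊗ₜ[A] b₁) ⊗ₜ[A] b₂ - (b₁ ⊗ₜ[A] (1 : B)) ⊗ₜ[A] b₂ + (b₁ ⊗ₜ[A] b₂) ⊗ₜ[A] (1 : B)) ⊗ₜ[A] m :=
  rfl

lemma εM_tmul' (b₁ b₂ : B) (m : M) :
    εM A B M ((b₁ ⊗ₜ[A] b₂) ⊗ₜ[A] m) =
      (((1 : B) ⊗ₜ[A] b₁) ⊗ₜ[A] b₂) ⊗ₜ[A] m - ((b₁ ⊗ₜ[A] (1 : B)) ⊗ₜ[A] b₂) ⊗ₜ[A] m +
        ((b₁ ⊗ₜ[A] b₂) ⊗ₜ[A] (1 : B)) ⊗ₜ[A] m := by
  rw [εM_tmul, TensorProduct.add_tmul, TensorProduct.sub_tmul]

lemma δM_tmul' (b : B) (m : M) :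
    δM A B M (b ⊗ₜ[A] m) = (b ⊗ₜ[A] (1 : B)) ⊗ₜ[A] m - ((1 : B) ⊗ₜ[A] b) ⊗ₜ[A] m := by
  rw [δM_tmul, TensorProduct.sub_tmul]

lemma εM_eq (z : (B ⊗[A] B) ⊗[A] M) :
    εM A B M z = (d0 A B).toLinearMap.rTensor M z - (d1 A B).toLinearMap.rTensor M z +
      (d2 A B).toLinearMap.rTensor M z := by
  unfold εM εlin
  rw [LinearMap.rTensor_add, LinearMap.rTensor_sub, LinearMap.add_apply]
  rfl

lemma εM_comp_δM : (εM A B M).comp (δM A B M) = 0 := by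
  ext b m
  show εM A B M (δM A B M (b ⊗ₜ[A] m)) = 0
  rw [δM_tmul', map_sub, εM_tmul', εM_tmul']
  abel

/-- `b ⊗ (((b₁ ⊗ b₂) ⊗ b₃) ⊗ m) ↦ b b₁ ⊗ ((b₂ ⊗ b₃) ⊗ m)` -/
noncomputable def tM : B ⊗[A] (((B ⊗[A] B) ⊗[A] B) ⊗[A] M) →ₗ[A] B ⊗[A] ((B ⊗[A] B) ⊗[A] M) :=
  (TensorProduct.assoc A B (B ⊗[A] B) M).toLinearMap.comp
    (((TensorProduct.assoc A B B B).toLinearMap.comp
        ((((LinearMap.mul' A B).rTensor B).comp (TensorProduct.assoc A B B B).symm.toLinearMap).rTensor B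
          |>.comp (TensorProduct.assoc A B (B ⊗[A] B) B).symm.toLinearMap)).rTensor M
      |>.comp (TensorProduct.assoc A B ((B ⊗[A] B) ⊗[A] B) M).symm.toLinearMap)

@[simp] lemma tM_tmul (b b₁ b₂ b₃ : B) (m : M) :
    tM A B M (b ⊗ₜ[A] (((b₁ ⊗ₜ[A] b₂) ⊗ₜ[A] b₃) ⊗ₜ[A] m)) =
      (b * b₁) ⊗ₜ[A] ((b₂ ⊗ₜ[A] b₃) ⊗ₜ[A] m) := rfl

lemma homotopy1 (w : B ⊗[A] ((B ⊗[A] B) ⊗[A] M)) :
    tM A B M ((εM A B M).lTensor B w) - (δM A B M).lTensor B (sM A B M w) = w := by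
  induction w using TensorProduct.induction_on with
  | zero => simp
  | add x y hx hy =>
    simp only [map_add]
    rw [add_sub_add_comm, hx, hy]
  | tmul b x =>
    induction x using TensorProduct.induction_on with
    | zero => simp
    | add x y hx hy =>
      simp only [TensorProduct.tmul_add, map_add]
      rw [add_sub_add_comm, hx, hy]
    | tmul y m =>
      induction y using TensorProduct.induction_on with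
      | zero => simp
      | add y y' hy hy' =>
        simp only [TensorProduct.add_tmul, TensorProduct.tmul_add, map_add]
        rw [add_sub_add_comm, hy, hy']
      | tmul b₁ b₂ =>
        let L : ((B ⊗[A] B) ⊗[A] B) ⊗[A] M →ₗ[A] B ⊗[A] ((B ⊗[A] B) ⊗[A] M) :=
          (tM A B M).comp (TensorProduct.mk A B _ b)
        have hL : ∀ x, tM A B M (b ⊗ₜ[A] x) = L x := fun x => rfl
        have h1 : L ((((1 : B) ⊗ₜ[A] b₁) ⊗ₜ[A] b₂) ⊗ₜ[A] m) = (b * 1) ⊗ₜ[A] ((b₁ ⊗ₜ[A] b₂) ⊗ₜ[A] m) := rfl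
        have h2 : L (((b₁ ⊗ₜ[A] (1 : B)) ⊗ₜ[A] b₂) ⊗ₜ[A] m) =
            (b * b₁) ⊗ₜ[A] (((1 : B) ⊗ₜ[A] b₂) ⊗ₜ[A] m) := rfl
        have h3 : L (((b₁ ⊗ₜ[A] b₂) ⊗ₜ[A] (1 : B)) ⊗ₜ[A] m) =
            (b * b₁) ⊗ₜ[A] ((b₂ ⊗ₜ[A] (1 : B)) ⊗ₜ[A] m) := rfl
        rw [LinearMap.lTensor_tmul, hL, εM_tmul', map_add, map_sub, h1, h2, h3, sM_tmul,
          LinearMap.lTensor_tmul, δM_tmul', TensorProduct.tmul_sub, mul_one]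
        abel

variable [Module.FaithfullyFlat A B]

theorem amitsur_exact1 : Function.Exact (δM A B M) (εM A B M) := by
  refine Module.FaithfullyFlat.lTensor_reflects_exact (R := A) (M := B) (N1 := B ⊗[A] M)
    (N2 := (B ⊗[A] B) ⊗[A] M) (N3 := ((B ⊗[A] B) ⊗[A] B) ⊗[A] M) (δM A B M) (εM A B M) ?_
  intro w
  constructor
  · intro hw
    refine ⟨-(sM A B M w), ?_⟩
    have h := homotopy1 A B M w
    rw [hw, map_zero, zero_sub] at h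
    rw [map_neg]
    exact h
  · rintro ⟨v, rfl⟩
    rw [← LinearMap.comp_apply, ← LinearMap.lTensor_comp, εM_comp_δM, LinearMap.lTensor_zero,
      LinearMap.zero_apply]

end Groth.Agent.H92.AdeqFlat1
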