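import Groth.Agent.H92.SheafHomAcyc
import Groth.Agent.H31.Invertible
import Groth.Agent.H5.SpSeq.ExtForm
import Groth.Agent.S0864

/-!
# Local-to-global `Ext` spectral sequence on a ringed site (helper92)

`E₂^{pq} = H^p(C, ℰxt^q_O(M, N)) ⇒ Ext^{p+q}_O(M, N)`, assuming the comparison
`Ext^p_O(O, X) ≃ H^p(C, X_ab)` (S0491).
-/

set_option autoImplicit false

namespace Groth.Agent.H92.ExtLocalGlobal

open CategoryTheory Limits Opposite Abelian
open Groth.Agent.H5.GSS Groth.Agent.H31 Groth.Agent.H67.CechTopos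

universe u

variable {C : Type u} [SmallCategory C]

section Const

variable (J : GrothendieckTopology C)

/-- the constant presheaf of sets with value a point -/
abbrev R₁ : Cᵒᵖ ⥤ Type u := (Functor.const Cᵒᵖ).obj PUnit.{u + 1}

/-- `ℤ[pt] ≅ ℤ` -/
noncomputable def freePUnitIso : AddCommGrpCat.free.{u}.obj PUnit.{u + 1} ≅ AddCommGrpCat.of (ULift.{u} ℤ) :=
  ((FreeAbelianGroup.uniqueEquiv PUnit.{u + 1}).trans AddEquiv.ulift.symm).toAddCommGrpIso

/-- the free abelian sheaf on the final sheaf of sets is the constant sheaf `ℤ` -/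
noncomputable def constIso :
    (Φ J).obj ((presheafToSheaf J (Type u)).obj (R₁ (C := C))) ≅
      (constantSheaf J AddCommGrpCat.{u}).obj (AddCommGrpCat.of (ULift.{u} ℤ)) :=
  ((Groth.Agent.S0864.freeIso J).app (R₁ (C := C))).symm ≪≫
    (presheafToSheaf J AddCommGrpCat.{u}).mapIso
      (Functor.constComp Cᵒᵖ PUnit.{u + 1} AddCommGrpCat.free.{u} ≪≫
        (Functor.const Cᵒᵖ).mapIso freePUnitIso)

variable {J}

/-- a totally acyclic abelian sheaf has no higher cohomology -/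
theorem sheafH_subsingleton_of_totallyAcyclic (F : Sheaf J AddCommGrpCat.{u})
    (hF : CohCx.IsTotallyAcyclic F) (p : ℕ) : Subsingleton (Sheaf.H.{u} F (p + 1)) := by
  have hK := hF ((presheafToSheaf J (Type u)).obj (R₁ (C := C))) p
  have e' := ((Abelian.extFunctor (C := Sheaf J AddCommGrpCat.{u}) (p + 1)).mapIso
    (constIso J).op).app F
  exact (e'.addCommGroupIsoToAddEquiv.toEquiv).subsingleton_congr.mpr hK

end Const

section Main

variable {J : GrothendieckTopology C} (O : Sheaf J CommRingCat.{u})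

/-- `O ⊗ M ≅ M` -/
noncomputable def unitTensorIso (M : ModSite.Mod O) :
    ((ModSite.tensorBi O).flip.obj M).obj (ModSite.unit O) ≅ M :=
  (tensorUnitNatIso O).app M

/-- `Hom(O, ℋom(M, N)) ≃ Hom(M, N)` -/
noncomputable def homEqv (M N : ModSite.Mod O) [ModSite.HasSheafHom M] :
    (ModSite.unit O ⟶ (ModSite.sheafHom M).obj N) ≃+ (M ⟶ N) where
  toFun ψ := (unitTensorIso O M).inv ≫ ((ModSite.sheafHomAdj M).homEquiv _ _).symm ψ
  invFun φ := (ModSite.sheafHomAdj M).homEquiv _ _ ((unitTensorIso O M).hom ≫ φ)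
  left_inv ψ := by simp
  right_inv φ := by simp
  map_add' ψ ψ' := by
    have : ((ModSite.tensorBi O).flip.obj M).Additive :=
      (ModSite.sheafHomAdj M).left_adjoint_additive
    rw [Adjunction.homEquiv_counit, Adjunction.homEquiv_counit, Adjunction.homEquiv_counit,
      Functor.map_add, Preadditive.add_comp, Preadditive.comp_add]

theorem homEqv_comp (M : ModSite.Mod O) [ModSite.HasSheafHom M] {N N' : ModSite.Mod O}
    (g : N ⟶ N') (ψ : ModSite.unit O ⟶ (ModSite.sheafHom M).obj N) :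
    homEqv O M N' (ψ ≫ (ModSite.sheafHom M).map g) = homEqv O M N ψ ≫ g := by
  show (unitTensorIso O M).inv ≫ ((ModSite.sheafHomAdj M).homEquiv _ _).symm
      (ψ ≫ (ModSite.sheafHom M).map g) =
    ((unitTensorIso O M).inv ≫ ((ModSite.sheafHomAdj M).homEquiv _ _).symm ψ) ≫ g
  rw [Adjunction.homEquiv_naturality_right_symm, Category.assoc]

/-- `Hom(O, ℋom(M, -)) ≅ Hom(M, -)` -/
noncomputable def eIso (M : ModSite.Mod O) [ModSite.HasSheafHom M] :
    ModSite.sheafHom M ⋙ homF (ModSite.unit O) ≅ homF M :=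
  NatIso.ofComponents (fun N => (homEqv O M N).toAddCommGrpIso) (fun {N N'} g => by
    apply AddCommGrpCat.ext
    intro ψ
    exact homEqv_comp O M g ψ)

/-- **Local-to-global `Ext` spectral sequence**, flexible form, given the comparison of module
cohomology with abelian sheaf cohomology. -/
theorem main (M N : ModSite.Mod O) [ModSite.HasSheafHom M]
    [HasInjectiveResolutions (ModSite.Mod O)] [HasExt.{u} (ModSite.Mod O)]
    (hcmp : ∀ (X : ModSite.Mod O) (p : ℕ),
      Nonempty (Ext (ModSite.unit O) X p ≃+ Sheaf.H.{u} (ModSite.toAb X) p))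
    (Hn : ℤ → AddCommGrpCat.{u}) (E2 : ℤ → ℤ → AddCommGrpCat.{u})
    (hH : ∀ n : ℕ, Nonempty (Hn n ≅ AddCommGrpCat.of (Ext M N n)))
    (hH' : ∀ n : ℤ, n < 0 → IsZero (Hn n))
    (hE : ∀ p q : ℕ, Nonempty (E2 p q ≅
      AddCommGrpCat.of (ModSite.HC O ((ModSite.extSh M q).obj N) p)))
    (hE' : ∀ p q : ℤ, p < 0 ∨ q < 0 → IsZero (E2 p q)) :
    ∃ (E : E₂CohomologicalSpectralSequence AddCommGrpCat.{u}) (a : SpSeq.Abutment E Hn),
      (∀ n, a.IsFinite n) ∧ SpSeq.IsBounded E ∧
      ∀ p q : ℤ, Nonempty ((E.page 2 le_rfl).X (p, q) ≅ E2 p q) := by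
  refine extForm (ModSite.sheafHom M) M (ModSite.unit O) (eIso O M) ?_ N Hn E2 hH hH' ?_ hE'
  · intro Q hQ q hq x
    obtain ⟨q', rfl⟩ : ∃ q', q = q' + 1 := ⟨q - 1, by omega⟩
    obtain ⟨c⟩ := hcmp ((ModSite.sheafHom M).obj Q) (q' + 1)
    have := sheafH_subsingleton_of_totallyAcyclic _
      (Groth.Agent.H92.SheafHomAcyc.isTotallyAcyclic_sheafHom O M Q) q'
    exact c.injective (Subsingleton.elim _ _)
  · intro p q
    obtain ⟨a⟩ := hE p q
    obtain ⟨c⟩ := hcmp (((ModSite.sheafHom M).rightDerived q).obj N) p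
    exact ⟨a ≪≫ c.symm.toAddCommGrpIso⟩

end Main

end Groth.Agent.H92.ExtLocalGlobal
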