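import Groth.Agent.H31.ExtZeroFlat
import Groth.Agent.H31.FlatSite
import Groth.Prelude.Def_ExtSupp

/-!
# Contravariant exactness of the internal hom of sheaves of modules (helper92)

* `sheafHomMap_adj` : adjoint description of `ExtSupp.sheafHomMap g`;
* `sheafHom_leftExact` : `0 ⟶ ℋom(S₃, N) ⟶ ℋom(S₂, N) ⟶ ℋom(S₁, N)` is exact for `S` short exact;
* `secEquiv` : `Hom(j_! O_V, N) ≃ N(V)`, natural in `N`;
* `sheafHomMap_app_surjective` : `ℋom(S₂, I)(V) ⟶ ℋom(S₁, I)(V)` is surjective for `S₁ ⟶ S₂` mono, `I` injective;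
* `epi_of_surjective` : a sectionwise surjective morphism of sheaves of modules is an epimorphism.
-/

set_option autoImplicit false

namespace Groth.Agent.H92.SheafHomLES

open CategoryTheory Limits Opposite
open Groth.Agent.H31 Groth.Agent.H31.ExtZero

universe u

section General

variable {C D : Type*} [Category C] [Category D] {L₁ L₂ : C ⥤ D} {R₁ R₂ : D ⥤ C}
  (adj₁ : L₁ ⊣ R₁) (adj₂ : L₂ ⊣ R₂)

theorem homEquiv_symm_comp_conj (α : L₂ ⟶ L₁) {P : C} {d : D} (h : P ⟶ R₁.obj d) :
    (adj₂.homEquiv _ _).symm (h ≫ (conjugateEquiv adj₁ adj₂ α).app d) =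
      α.app P ≫ (adj₁.homEquiv _ _).symm h := by
  rw [Adjunction.homEquiv_counit, Adjunction.homEquiv_counit, Functor.map_comp, Category.assoc,
    conjugateEquiv_counit, ← Category.assoc, ← Category.assoc, α.naturality]

end General

section Site

variable {C : Type u} [SmallCategory C] {J : GrothendieckTopology C} {O : Sheaf J CommRingCat.{u}}

theorem sheafHomMap_adj {M M' : ModSite.Mod O} [ModSite.HasSheafHom M] [ModSite.HasSheafHom M']
    (g : M' ⟶ M) {P N : ModSite.Mod O} (h : P ⟶ (ModSite.sheafHom M).obj N) :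
    ((ModSite.sheafHomAdj M').homEquiv _ _).symm (h ≫ (ExtSupp.sheafHomMap g).app N) =
      ((ModSite.tensorBi O).obj P).map g ≫ ((ModSite.sheafHomAdj M).homEquiv _ _).symm h :=
  homEquiv_symm_comp_conj (ModSite.sheafHomAdj M) (ModSite.sheafHomAdj M')
    ((ModSite.tensorBi O).flip.map g) h

theorem sheafHomMap_comp_eq_zero {M₁ M₂ M₃ : ModSite.Mod O} [ModSite.HasSheafHom M₁]
    [ModSite.HasSheafHom M₂] [ModSite.HasSheafHom M₃] (f : M₁ ⟶ M₂) (g : M₂ ⟶ M₃) (w : f ≫ g = 0)
    (N : ModSite.Mod O) :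
    (ExtSupp.sheafHomMap g).app N ≫ (ExtSupp.sheafHomMap f).app N = 0 := by
  apply ((ModSite.sheafHomAdj M₁).homEquiv _ _).symm.injective
  have h1 := sheafHomMap_adj f (P := (ModSite.sheafHom M₃).obj N) (N := N)
    ((ExtSupp.sheafHomMap g).app N)
  have h2 := sheafHomMap_adj g (P := (ModSite.sheafHom M₃).obj N) (N := N) (𝟙 _)
  rw [Category.id_comp] at h2
  rw [h1, h2, ← Category.assoc, ← Functor.map_comp, w, Functor.map_zero, zero_comp]
  rw [Adjunction.homEquiv_counit, Functor.map_zero, zero_comp]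

/-- `0 ⟶ ℋom(S₃, N) ⟶ ℋom(S₂, N) ⟶ ℋom(S₁, N)` is exact. -/
theorem sheafHom_leftExact (S : ShortComplex (ModSite.Mod O)) (hS : S.ShortExact)
    [ModSite.HasSheafHom S.X₁] [ModSite.HasSheafHom S.X₂] [ModSite.HasSheafHom S.X₃]
    (N : ModSite.Mod O) :
    (ShortComplex.mk ((ExtSupp.sheafHomMap S.g).app N) ((ExtSupp.sheafHomMap S.f).app N)
      (sheafHomMap_comp_eq_zero S.f S.g S.zero N)).Exact ∧
      Mono ((ExtSupp.sheafHomMap S.g).app N) := by
  have hg := hS.epi_g
  have hex : ∀ P : ModSite.Mod O, (S.map ((ModSite.tensorBi O).obj P)).Exact ∧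
      Epi (((ModSite.tensorBi O).obj P).map S.g) := fun P =>
    ⟨hS.exact.map_of_epi_of_preservesCokernel _ inferInstance inferInstance, inferInstance⟩
  constructor
  · rw [ShortComplex.exact_iff_exact_up_to_refinements]
    intro P x₂ hx₂
    dsimp at x₂ hx₂
    refine ⟨P, 𝟙 P, inferInstance, ?_⟩
    have h1 := sheafHomMap_adj S.f x₂
    rw [hx₂] at h1
    have h0 : ((ModSite.sheafHomAdj S.X₁).homEquiv P N).symm 0 = 0 := by
      rw [Adjunction.homEquiv_counit, Functor.map_zero, zero_comp]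
    rw [h0] at h1
    have : Epi (S.map ((ModSite.tensorBi O).obj P)).g := (hex P).2
    let k' := (hex P).1.desc (((ModSite.sheafHomAdj S.X₂).homEquiv _ _).symm x₂) h1.symm
    have hk' : ((ModSite.tensorBi O).obj P).map S.g ≫ k' =
        ((ModSite.sheafHomAdj S.X₂).homEquiv _ _).symm x₂ := (hex P).1.g_desc _ _
    refine ⟨(ModSite.sheafHomAdj S.X₃).homEquiv _ _ k', ?_⟩
    dsimp
    rw [Category.id_comp]
    apply ((ModSite.sheafHomAdj S.X₂).homEquiv _ _).symm.injective
    rw [sheafHomMap_adj, Equiv.symm_apply_apply, hk']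
  · constructor
    intro P a b hab
    apply ((ModSite.sheafHomAdj S.X₃).homEquiv _ _).symm.injective
    have := (hex P).2
    rw [← cancel_epi (((ModSite.tensorBi O).obj P).map S.g), ← sheafHomMap_adj, ← sheafHomMap_adj,
      hab]

end Site

section Sections

variable {C : Type u} [SmallCategory C] {J : GrothendieckTopology C} (O : Sheaf J CommRingCat.{u})

/-- `Hom(j_! O_V, N) ≃ N(V)`. -/
noncomputable def secEquiv (V : C) (N : ModSite.Mod O) :
    (ModSite.freeOn O V ⟶ N) ≃ N.val.obj (op V) :=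
  ((ModSite.extZeroAdj O V).homEquiv _ _).trans
    (unitHomAddEquiv ((ModSite.restr O V).obj N) (Over.mkIdTerminal (X := V))).toEquiv

theorem secEquiv_naturality (V : C) {N N' : ModSite.Mod O} (h : ModSite.freeOn O V ⟶ N)
    (φ : N ⟶ N') :
    secEquiv O V N' (h ≫ φ) = φ.val.app (op V) (secEquiv O V N h) := by
  dsimp only [secEquiv, Equiv.trans_apply]
  rw [Adjunction.homEquiv_naturality_right]
  rfl

variable {O}

/-- `ℋom(S₂, I)(V) ⟶ ℋom(S₁, I)(V)` is surjective for `S₁ ⟶ S₂` mono and `I` injective. -/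
theorem sheafHomMap_app_surjective {M M' : ModSite.Mod O} [ModSite.HasSheafHom M]
    [ModSite.HasSheafHom M'] (g : M' ⟶ M) [Mono g] (I : ModSite.Mod O) [Injective I] (V : C) :
    Function.Surjective (((ExtSupp.sheafHomMap g).app I).val.app (op V)) := by
  intro s
  let sh := (secEquiv O V _).symm s
  let s' := ((ModSite.sheafHomAdj M').homEquiv _ _).symm sh
  have hflat : ((ModSite.tensorBi O).flip.obj (ModSite.freeOn O V)).PreservesMonomorphisms :=
    (isFlat_iff_preservesMonomorphisms _).1 (isFlat_freeOn (O := O) V)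
  have hpm : ((ModSite.tensorBi O).obj (ModSite.freeOn O V)).PreservesMonomorphisms :=
    Functor.PreservesMonomorphisms.of_iso (braidIso (ModSite.freeOn O V)).symm
  have hm : Mono (((ModSite.tensorBi O).obj (ModSite.freeOn O V)).map g) := inferInstance
  let t' := Injective.factorThru s' (((ModSite.tensorBi O).obj (ModSite.freeOn O V)).map g)
  have ht' : ((ModSite.tensorBi O).obj (ModSite.freeOn O V)).map g ≫ t' = s' :=
    Injective.comp_factorThru _ _
  let th := (ModSite.sheafHomAdj M).homEquiv _ _ t'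
  have hcomp : th ≫ (ExtSupp.sheafHomMap g).app I = sh := by
    apply ((ModSite.sheafHomAdj M').homEquiv _ _).symm.injective
    rw [sheafHomMap_adj, Equiv.symm_apply_apply, ht']
  refine ⟨secEquiv O V _ th, ?_⟩
  rw [← secEquiv_naturality, hcomp]
  exact Equiv.apply_symm_apply _ _

end Sections

section Epi

variable {D : Type u} [SmallCategory D] {K : GrothendieckTopology D} {R : Sheaf K RingCat.{u}}

theorem epi_of_surjective {A B : SheafOfModules.{u} R} (φ : A ⟶ B)
    (h : ∀ W : Dᵒᵖ, Function.Surjective (φ.val.app W)) : Epi φ := by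
  have : Epi ((SheafOfModules.toSheaf R).map φ) := by
    rw [← Sheaf.isLocallySurjective_iff_epi']
    apply Presheaf.isLocallySurjective_of_surjective
    intro W
    exact h W
  exact (SheafOfModules.toSheaf R).epi_of_epi_map this

end Epi

section Comp

variable {C : Type u} [SmallCategory C] {J : GrothendieckTopology C} {O : Sheaf J CommRingCat.{u}}

/-- contravariant functoriality of `ExtSupp.sheafHomMap` -/
theorem sheafHomMap_comp {M M' M'' : ModSite.Mod O} [ModSite.HasSheafHom M] [ModSite.HasSheafHom M']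
    [ModSite.HasSheafHom M''] (g : M' ⟶ M) (g' : M'' ⟶ M') :
    ExtSupp.sheafHomMap (g' ≫ g) = ExtSupp.sheafHomMap g ≫ ExtSupp.sheafHomMap g' := by
  show conjugateEquiv _ _ _ = conjugateEquiv _ _ _ ≫ conjugateEquiv _ _ _
  rw [conjugateEquiv_comp, Functor.map_comp]

end Comp

end Groth.Agent.H92.SheafHomLES
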