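import Groth.Agent.H92.DimShift
import Groth.Agent.H67.CechH
import Groth.Prelude.Def_CechEdge

/-!
# The right derived functors of the inclusion of abelian sheaves into presheaves

`Groth.Agent.H92.RIncl.main J q M : Nonempty (M.cohomologyPresheaf q ≅ ((sheafToPresheaf J Ab).rightDerived q).obj M)`
as presheaves: the derived functors of the inclusion are the cohomology presheaves
`U ↦ H^q(U, M)`.
-/

set_option autoImplicit false
universe u
open CategoryTheory CategoryTheory.Limits Opposite Abelian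

namespace Groth.Agent.H92.RIncl

/-- Exactness in a functor category can be checked pointwise. -/
lemma exact_of_evaluation {K : Type*} [Category K] {B : Type*} [Category B] [Abelian B]
    (S : ShortComplex (K ⥤ B)) (h : ∀ U, (S.map ((evaluation K B).obj U)).Exact) : S.Exact := by
  rw [ShortComplex.exact_iff_isZero_homology, Functor.isZero_iff]
  intro U
  have h' := h U
  rw [ShortComplex.exact_iff_isZero_homology] at h'
  exact h'.of_iso (S.mapHomologyIso ((evaluation K B).obj U)).symm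

variable {C : Type u} [SmallCategory C] (J : GrothendieckTopology C)

lemma cohomologyPresheaf_map_apply (M : Sheaf J AddCommGrpCat.{u}) (n : ℕ) {U V : Cᵒᵖ} (f : U ⟶ V)
    (x : Ext (CohCx.freeSheaf J U.unop) M n) :
    ((Sheaf.cohomologyPresheaf.{u} M n).map f).hom x =
      (Ext.mk₀ (CohCx.freeSheafMap J f.unop)).comp x (zero_add n) := rfl

lemma ofSect_map (M : Sheaf J AddCommGrpCat.{u}) {U V : Cᵒᵖ} (f : U ⟶ V) (s : M.obj.obj U) :
    CohFree.ofSect J V.unop M ((M.obj.map f).hom s) =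
      CohCx.freeSheafMap J f.unop ≫ CohFree.ofSect J U.unop M s := by
  apply (CohFree.homEquivSect J V.unop M).injective
  rw [CohFree.homEquivSect_apply, CohFree.homEquivSect_apply, CohFree.evalGen_ofSect,
    CohFree.evalGen_freeSheafMap_comp, CohFree.evalGen_ofSect]
  rfl

lemma ofSect_add (M : Sheaf J AddCommGrpCat.{u}) (U : C) (s t : M.obj.obj (op U)) :
    CohFree.ofSect J U M (s + t) = CohFree.ofSect J U M s + CohFree.ofSect J U M t :=
  (CohFree.homEquivSect J U M).symm.map_add s t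

/-- The degree `0` cohomology presheaf is the underlying presheaf. -/
noncomputable def h0Iso (M : Sheaf J AddCommGrpCat.{u}) :
    Sheaf.cohomologyPresheaf.{u} M 0 ≅ M.obj :=
  (NatIso.ofComponents (fun U => AddEquiv.toAddCommGrpIso (CechEdge.sectH0 J U.unop M))
    (fun {U V} f => by
      apply AddCommGrpCat.hom_ext
      apply AddMonoidHom.ext
      intro s
      show CechEdge.sectH0 J V.unop M ((M.obj.map f).hom s) =
        ((Sheaf.cohomologyPresheaf.{u} M 0).map f).hom (CechEdge.sectH0 J U.unop M s)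
      rw [cohomologyPresheaf_map_apply, Groth.Agent.H67.Cech.sectH0_eq,
        Groth.Agent.H67.Cech.sectH0_eq, Ext.mk₀_comp_mk₀, ofSect_map])).symm

section SES

variable {J}
variable {S : ShortComplex (Sheaf J AddCommGrpCat.{u})} (hS : S.ShortExact)

/-- The connecting morphism of cohomology presheaves. -/
noncomputable def δP (n : ℕ) :
    Sheaf.cohomologyPresheaf.{u} S.X₃ n ⟶ Sheaf.cohomologyPresheaf.{u} S.X₁ (n + 1) where
  app U := AddCommGrpCat.ofHom (hS.extClass.postcomp (CohCx.freeSheaf J U.unop) rfl)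
  naturality U V f := by
    apply AddCommGrpCat.hom_ext
    apply AddMonoidHom.ext
    intro x
    show (((Sheaf.cohomologyPresheaf.{u} S.X₃ n).map f).hom x).comp hS.extClass rfl =
      ((Sheaf.cohomologyPresheaf.{u} S.X₁ (n + 1)).map f).hom (x.comp hS.extClass rfl)
    rw [cohomologyPresheaf_map_apply, cohomologyPresheaf_map_apply]
    exact Ext.comp_assoc _ _ _ (zero_add n) rfl (by omega)

lemma isIso_δP [Injective S.X₂] (n : ℕ) : IsIso (δP hS (n + 1)) := by
  have : ∀ U, IsIso ((δP hS (n + 1)).app U) := by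
    intro U
    rw [ConcreteCategory.isIso_iff_bijective]
    exact ⟨Groth.Agent.H67.Cech.extδ_injective _ hS n,
      Groth.Agent.H67.Cech.extδ_surjective _ hS (n + 1)⟩
  exact NatIso.isIso_of_isIso_app _

/-- The degree zero connecting morphism, from sections. -/
noncomputable def d0 : S.X₃.obj ⟶ Sheaf.cohomologyPresheaf.{u} S.X₁ 1 :=
  (h0Iso J S.X₃).inv ≫ δP hS 0

lemma d0_app_apply (U : Cᵒᵖ) (s : S.X₃.obj.obj U) :
    ((d0 hS).app U).hom s =
      (Ext.mk₀ (CohFree.ofSect J U.unop S.X₃ s)).comp hS.extClass (zero_add 1) := rfl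

lemma d0_surjective [Injective S.X₂] (U : Cᵒᵖ) : Function.Surjective ((d0 hS).app U).hom := by
  intro (x₁ : Ext (CohCx.freeSheaf J U.unop) S.X₁ 1)
  obtain ⟨x₃, hx₃⟩ := Ext.covariant_sequence_exact₁ _ hS x₁
    (Ext.eq_zero_of_injective _) (zero_add 1)
  obtain ⟨φ, rfl⟩ := (Ext.mk₀_bijective _ _).2 x₃
  refine ⟨CohFree.evalGen J U.unop S.X₃ φ, ?_⟩
  rw [d0_app_apply, CohFree.ofSect_evalGen]
  exact hx₃

lemma d0_eq_zero_iff (U : Cᵒᵖ) (s : S.X₃.obj.obj U) :
    ((d0 hS).app U).hom s = 0 ↔ ∃ t : S.X₂.obj.obj U, (S.g.hom.app U).hom t = s := by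
  rw [d0_app_apply]
  constructor
  · intro h
    obtain ⟨x₂, hx₂⟩ := Ext.covariant_sequence_exact₃ _ hS _ (zero_add 1) h
    obtain ⟨ψ, rfl⟩ := (Ext.mk₀_bijective _ _).2 x₂
    rw [Ext.mk₀_comp_mk₀] at hx₂
    have hψ : ψ ≫ S.g = CohFree.ofSect J U.unop S.X₃ s := (Ext.mk₀_bijective _ _).1 hx₂
    refine ⟨CohFree.evalGen J U.unop S.X₂ ψ, ?_⟩
    have h1 : (S.g.hom.app U).hom (CohFree.evalGen J U.unop S.X₂ ψ) =
        CohFree.evalGen J U.unop S.X₃ (ψ ≫ S.g) := rfl
    rw [h1, hψ]
    exact CohFree.evalGen_ofSect J U.unop S.X₃ s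
  · rintro ⟨t, rfl⟩
    have h1 : CohFree.ofSect J U.unop S.X₃ ((S.g.hom.app U).hom t) =
        CohFree.ofSect J U.unop S.X₂ t ≫ S.g :=
      (Groth.Agent.H67.Cech.ofSect_comp J U.unop S.g t).symm
    rw [h1, ← Ext.mk₀_comp_mk₀, Ext.comp_assoc_of_second_deg_zero, hS.comp_extClass,
      Ext.comp_zero]
    rfl

lemma comp_d0 : (sheafToPresheaf J AddCommGrpCat.{u}).map S.g ≫ d0 hS = 0 := by
  apply NatTrans.ext
  funext U
  apply AddCommGrpCat.hom_ext
  apply AddMonoidHom.ext
  intro t
  exact (d0_eq_zero_iff hS U _).2 ⟨t, rfl⟩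

lemma exact_d0 :
    (ShortComplex.mk ((sheafToPresheaf J AddCommGrpCat.{u}).map S.g) (d0 hS) (comp_d0 hS)).Exact := by
  apply exact_of_evaluation
  intro U
  rw [ShortComplex.ab_exact_iff]
  intro s hs
  exact (d0_eq_zero_iff hS U s).1 hs

lemma epi_d0 [Injective S.X₂] : Epi (d0 hS) := by
  have : ∀ U, Epi ((d0 hS).app U) := fun U =>
    (AddCommGrpCat.epi_iff_surjective _).2 (d0_surjective hS U)
  exact NatTrans.epi_of_epi_app _

end SES

/-- **The derived functors of the inclusion of sheaves into presheaves are the cohomology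
presheaves.** -/
theorem main (q : ℕ) (M : Sheaf J AddCommGrpCat.{u}) :
    Nonempty (Sheaf.cohomologyPresheaf.{u} M q ≅
      ((sheafToPresheaf J AddCommGrpCat.{u}).rightDerived q).obj M) := by
  refine Groth.Agent.H92.DimShift.main (sheafToPresheaf J AddCommGrpCat.{u})
    (fun q M => Sheaf.cohomologyPresheaf.{u} M q) (fun M => ⟨h0Iso J M⟩) ?_ ?_ q M
  · intro S hS hI
    have := epi_d0 hS
    have hepi : Epi (ShortComplex.mk ((sheafToPresheaf J AddCommGrpCat.{u}).map S.g) (d0 hS)
      (comp_d0 hS)).g := this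
    exact ⟨(IsColimit.coconePointUniqueUpToIso (colimit.isColimit _)
      (exact_d0 hS).gIsCokernel).symm⟩
  · intro S hS hI p
    have := isIso_δP hS p
    exact ⟨(asIso (δP hS (p + 1))).symm⟩

end Groth.Agent.H92.RIncl
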