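import Groth.Agent.H30.ModCech5
import Groth.Agent.H92.QuotOnExact
import Groth.Prelude.Def_ModSite2

/-!
# Cohomology with supports: independence of the ring (helper92)

`Ext^p_O(O/O_U, M) ≅ Ext^p_ℤ(ℤ/ℤ_U, M)` for a sheaf of modules `M` on a ringed site.
-/

set_option autoImplicit false

namespace Groth.Agent.H92.HZComp

open CategoryTheory Limits Opposite Abelian
open Groth.Agent.H30.ModCech Groth.Agent.H67.CechTopos

universe u

variable {C : Type u} [SmallCategory C] {J : GrothendieckTopology C}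

section Monos

instance Φ_preservesMono : (Φ J).PreservesMonomorphisms := by
  have h1 : (sheafToPresheaf J (Type u)).PreservesMonomorphisms := inferInstance
  have h2 : ((Functor.whiskeringRight Cᵒᵖ _ _).obj AddCommGrpCat.free.{u}).PreservesMonomorphisms := by
    constructor
    intro F G f hf
    have : ∀ V, Mono (f.app V) := fun V => inferInstance
    have : ∀ V, Mono ((((Functor.whiskeringRight Cᵒᵖ _ _).obj AddCommGrpCat.free.{u}).map f).app V) :=
      fun V => by
        show Mono (AddCommGrpCat.free.{u}.map (f.app V))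
        infer_instance
    exact NatTrans.mono_of_mono_app _
  have h3 : (presheafToSheaf J AddCommGrpCat.{u}).PreservesMonomorphisms := inferInstance
  show (sheafToPresheaf J (Type u) ⋙ (Functor.whiskeringRight Cᵒᵖ _ _).obj AddCommGrpCat.free.{u} ⋙
    presheafToSheaf J AddCommGrpCat.{u}).PreservesMonomorphisms
  infer_instance

instance free_preservesMono (S : Type u) [Ring S] : (ModuleCat.free.{u} S).PreservesMonomorphisms := by
  constructor
  intro X Y f hf
  rw [mono_iff_injective] at hf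
  rw [ModuleCat.mono_iff_injective]
  exact Finsupp.mapDomain_injective hf

theorem FR_map_mono (R : Sheaf J RingCat.{u}) {K K' : Sheaf J (Type u)} (m : K ⟶ K') [Mono m] :
    Mono ((FR R).map m) := by
  have h1 : Mono ((FP R).map m) := by
    apply (PresheafOfModules.toPresheaf R.obj).mono_of_mono_map
    have : Mono m.hom := (sheafToPresheaf J (Type u)).map_mono m
    have : ∀ V, Mono (m.hom.app V) := fun V => inferInstance
    have : ∀ V : Cᵒᵖ, Mono (((PresheafOfModules.toPresheaf R.obj).map ((FP R).map m)).app V) := by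
      intro V
      show Mono ((GU R V.unop).map (m.hom.app V))
      infer_instance
    exact NatTrans.mono_of_mono_app _
  show Mono ((PresheafOfModules.sheafification.{u} (𝟙 R.obj)).map ((FP R).map m))
  infer_instance

end Monos

section Acyclic

variable (R : Sheaf J RingCat.{u})

/-- injective sheaves of modules are flasque with respect to monomorphisms of sheaves of sets -/
theorem exists_extension (I : SheafOfModules.{u} R) [Injective I] {K K' : Sheaf J (Type u)}
    (m : K ⟶ K') [Mono m] (y : (Φ J).obj K ⟶ (UU R).obj I) :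
    ∃ y' : (Φ J).obj K' ⟶ (UU R).obj I, (Φ J).map m ≫ y' = y := by
  have := FR_map_mono R m
  refine ⟨θ R K' I (Injective.factorThru ((θ R K I).symm y) ((FR R).map m)), ?_⟩
  rw [← θ_nat, Injective.comp_factorThru]
  exact (θ R K I).apply_symm_apply y

/-- the short exact sequence `0 → ℤ[im f] → ℤ[K'] → coker ℤ[f] → 0` -/
noncomputable def sc {K K' : Sheaf J (Type u)} (f : K ⟶ K') :
    ShortComplex (Sheaf J AddCommGrpCat.{u}) :=
  ShortComplex.mk ((Φ J).map (Sheaf.imageι f)) (cokernel.π ((Φ J).map f)) (by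
    have : Epi ((Φ J).map (Sheaf.toImage f)) := inferInstance
    rw [← cancel_epi ((Φ J).map (Sheaf.toImage f)), ← Category.assoc, ← Functor.map_comp,
      Sheaf.toImage_ι, cokernel.condition, comp_zero])

theorem sc_shortExact {K K' : Sheaf J (Type u)} (f : K ⟶ K') : (sc f).ShortExact := by
  have h1 : Mono (sc f).f := by
    show Mono ((Φ J).map (Sheaf.imageι f))
    infer_instance
  have h2 : Epi (sc f).g := by
    show Epi (cokernel.π ((Φ J).map f))
    infer_instance
  refine ShortComplex.ShortExact.mk' (ShortComplex.exact_of_g_is_cokernel _ ?_) h1 h2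
  exact isCokernelOfComp ((Φ J).map (Sheaf.toImage f)) ((Φ J).map f)
    (cokernelIsCokernel ((Φ J).map f)) (sc f).zero
    (by
      show (Φ J).map (Sheaf.toImage f) ≫ (Φ J).map (Sheaf.imageι f) = _
      rw [← Functor.map_comp, Sheaf.toImage_ι])

set_option maxHeartbeats 800000 in
/-- `Ext^{q+1}(ℤ[K']/ℤ[K], I) = 0` for an injective sheaf of modules `I` -/
theorem ext_cokernel_eq_zero (I : SheafOfModules.{u} R) [Injective I] {K K' : Sheaf J (Type u)}
    (f : K ⟶ K') (q : ℕ) (e : Ext (cokernel ((Φ J).map f)) ((UU R).obj I) (q + 1)) : e = 0 := by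
  have hS := sc_shortExact f
  have hacy := isTotallyAcyclic_of_injective R I
  have h0 : (Ext.mk₀ (sc f).g).comp e (zero_add (q + 1)) = 0 :=
    @Subsingleton.elim _ (hacy K' q) _ _
  obtain ⟨x₁, hx₁⟩ := Ext.contravariant_sequence_exact₃ hS _ e h0 (n₀ := q) (by omega)
  rcases q with _ | q
  · obtain ⟨y, rfl⟩ := Ext.addEquiv₀.symm.surjective x₁
    obtain ⟨y', hy'⟩ := exists_extension R I (Sheaf.imageι f) (Ext.addEquiv₀ (Ext.addEquiv₀.symm y))
    rw [← hx₁]
    have h1 : Ext.addEquiv₀.symm y = (Ext.mk₀ (sc f).f).comp (Ext.mk₀ y') (zero_add 0) := by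
      rw [Ext.mk₀_comp_mk₀]
      show _ = Ext.mk₀ ((Φ J).map (Sheaf.imageι f) ≫ y')
      rw [hy', AddEquiv.apply_symm_apply]
      rfl
    rw [h1, ← Ext.comp_assoc_of_third_deg_zero, hS.extClass_comp, Ext.zero_comp]
    rfl
  · have : x₁ = 0 := @Subsingleton.elim _ (hacy (Sheaf.image f) q) _ _
    rw [← hx₁, this, Ext.comp_zero]
    rfl

end Acyclic

section Sections

variable (R : Sheaf J RingCat.{u})

/-- the terminal sheaf `K₀` is terminal -/
noncomputable def isTerminalK₀ : IsTerminal (K₀ J) :=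
  Sheaf.isTerminalTerminal J Types.isTerminalPUnit

/-- the morphism of sheaves of sets `pt ⟶ M` attached to `φ : R ⟶ M` -/
noncomputable def sOf {M : SheafOfModules.{u} R} (φ : SheafOfModules.unit R ⟶ M) :
    K₀ J ⟶ (W1 (J := J)).obj ((UU R).obj M) :=
  ⟨{ app := fun V => TypeCat.ofHom (fun _ => φ.val.app V (1 : R.obj.obj V))
     naturality := fun V W f => by
      ext x
      have h1 := PresheafOfModules.naturality_apply φ.val f (1 : R.obj.obj V)
      have h2 : (SheafOfModules.unit R).val.map f (1 : R.obj.obj V) = (1 : R.obj.obj W) :=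
        PresheafOfModules.unit_map_one _ _
      exact ((congrArg (φ.val.app W) h2).symm.trans h1) }⟩

theorem sOf_app {M : SheafOfModules.{u} R} (φ : SheafOfModules.unit R ⟶ M) (V : Cᵒᵖ)
    (x : (K₀ J).obj.obj V) :
    (sOf R φ).hom.app V x = φ.val.app V (1 : R.obj.obj V) := rfl

/-- the morphism `R ⟶ M` attached to a global section -/
noncomputable def ofS {M : SheafOfModules.{u} R} (s : K₀ J ⟶ (W1 (J := J)).obj ((UU R).obj M)) :
    SheafOfModules.unit R ⟶ M :=
  M.unitHomEquiv.symm (PresheafOfModules.sectionsMk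
    (fun V => s.hom.app V PUnit.unit) (fun V W f => by
      have h := congrArg (fun t => t PUnit.unit) (s.hom.naturality f)
      exact h.symm))

theorem ofS_app {M : SheafOfModules.{u} R} (s : K₀ J ⟶ (W1 (J := J)).obj ((UU R).obj M))
    (V : Cᵒᵖ) : (ofS R s).val.app V (1 : R.obj.obj V) = s.hom.app V PUnit.unit := by
  have h1 := SheafOfModules.unitHomEquiv_apply_coe M (ofS R s) V
  rw [ofS, Equiv.apply_symm_apply] at h1
  exact h1.symm

/-- `Hom_R(R, M) ≃ Hom(pt, M)` -/
noncomputable def secHom (M : SheafOfModules.{u} R) :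
    (SheafOfModules.unit R ⟶ M) ≃ (K₀ J ⟶ (W1 (J := J)).obj ((UU R).obj M)) where
  toFun := sOf R
  invFun := ofS R
  left_inv φ := by
    apply M.unitHomEquiv.injective
    apply PresheafOfModules.sections_ext
    intro V
    rw [SheafOfModules.unitHomEquiv_apply_coe, SheafOfModules.unitHomEquiv_apply_coe, ofS_app]
    rfl
  right_inv s := by
    apply Sheaf.hom_ext
    ext V x
    exact (sOf_app R (ofS R s) V x).trans (ofS_app R s V)

/-- `Hom_R(R, M) ≃ Hom_ℤ(ℤ[pt], M)` -/
noncomputable def β (M : SheafOfModules.{u} R) :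
    (SheafOfModules.unit R ⟶ M) ≃ ((Φ J).obj (K₀ J) ⟶ (UU R).obj M) :=
  (secHom R M).trans ((adj1 (J := J)).homEquiv (K₀ J) ((UU R).obj M)).symm

theorem β_comp {M M' : SheafOfModules.{u} R} (φ : SheafOfModules.unit R ⟶ M) (f : M ⟶ M') :
    β R M' (φ ≫ f) = β R M φ ≫ (UU R).map f := by
  have h : sOf R (φ ≫ f) = sOf R φ ≫ (W1 (J := J)).map ((UU R).map f) := rfl
  show ((adj1 (J := J)).homEquiv (K₀ J) ((UU R).obj M')).symm (sOf R (φ ≫ f)) = _
  rw [h]
  exact (adj1 (J := J)).homEquiv_naturality_right_symm _ _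

theorem β_eq {M : SheafOfModules.{u} R} (φ : SheafOfModules.unit R ⟶ M) :
    β R M φ = β R _ (𝟙 _) ≫ (UU R).map φ := by
  rw [← β_comp, Category.id_comp]

theorem β_add {M : SheafOfModules.{u} R} (φ φ' : SheafOfModules.unit R ⟶ M) :
    β R M (φ + φ') = β R M φ + β R M φ' := by
  rw [β_eq, β_eq R φ, β_eq R φ', Functor.map_add, Preadditive.comp_add]

theorem β_hat_app {M : SheafOfModules.{u} R} (φ : SheafOfModules.unit R ⟶ M) (V : Cᵒᵖ)
    (x : (K₀ J).obj.obj V) :
    ((adj1 (J := J)).homEquiv (K₀ J) ((UU R).obj M) (β R M φ)).hom.app V x =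
      φ.val.app V (1 : R.obj.obj V) := by
  rw [β, Equiv.trans_apply, Equiv.apply_symm_apply]
  rfl

end Sections

section Vanishing

variable (U : C)

/-- the canonical element of `ε(U)` over `U` -/
noncomputable def eU : (ToposFin.eps J U).obj.obj (op U) :=
  (toSheafify J (yoneda.obj U)).app (op U) (𝟙 U)

theorem eps_hom_ext {F : Sheaf J (Type u)} {a b : ToposFin.eps J U ⟶ F}
    (h : a.hom.app (op U) (eU U) = b.hom.app (op U) (eU U)) : a = b := by
  apply ((sheafificationAdjunction J (Type u)).homEquiv (yoneda.obj U) F).injective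
  apply yonedaEquiv.injective
  rw [Adjunction.homEquiv_unit, Adjunction.homEquiv_unit]
  exact h

/-- the canonical map `ε(U) ⟶ pt` -/
noncomputable def t₀ : ToposFin.eps J U ⟶ K₀ J := (isTerminalK₀ (J := J)).from _

theorem hat_zero (K : Sheaf J (Type u)) (A : Sheaf J AddCommGrpCat.{u}) (V : Cᵒᵖ)
    (x : K.obj.obj V) :
    ((adj1 (J := J)).homEquiv K A 0).hom.app V x = (0 : A.obj.obj V) := by
  rw [Adjunction.homEquiv_unit]
  rfl

theorem comp_eq_zero_iff (A : Sheaf J AddCommGrpCat.{u}) (g : (Φ J).obj (K₀ J) ⟶ A) :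
    (Φ J).map (t₀ (J := J) U) ≫ g = 0 ↔
      ((adj1 (J := J)).homEquiv (K₀ J) A g).hom.app (op U) PUnit.unit = (0 : A.obj.obj (op U)) := by
  have h1 : (adj1 (J := J)).homEquiv _ _ ((Φ J).map (t₀ (J := J) U) ≫ g) =
      t₀ (J := J) U ≫ (adj1 (J := J)).homEquiv _ _ g :=
    (adj1 (J := J)).homEquiv_naturality_left _ _
  constructor
  · intro h
    rw [h] at h1
    have h2 := congrArg (fun a : ToposFin.eps J U ⟶ (W1 (J := J)).obj A =>
      a.hom.app (op U) (eU U)) h1
    exact h2.symm.trans (hat_zero _ A (op U) (eU U))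
  · intro h
    apply ((adj1 (J := J)).homEquiv _ _).injective
    rw [h1]
    apply eps_hom_ext U
    refine Eq.trans ?_ (hat_zero _ A (op U) (eU U)).symm
    exact h

end Vanishing

section Tau

variable (O : Sheaf J CommRingCat.{u}) (U : C)

open Groth.Agent.H92.QuotSect

theorem ε_comp_eq_zero_iff_app {M : ModSite.Mod O} (φ : ModSite.unit O ⟶ M) :
    ε O U (ModSite.unit O) ≫ φ = 0 ↔
      φ.val.app (op U) (1 : (ModSite.ringSh O).obj.obj (op U)) = 0 := by
  rw [ε_comp_eq_zero_iff]
  constructor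
  · intro h
    have h' := congrArg (fun ψ : (ModSite.restr O U).obj (ModSite.unit O) ⟶ (ModSite.restr O U).obj M =>
      (ψ.val.app (op (Over.mk (𝟙 U)))).hom (1 : (ModSite.ringSh O).obj.obj (op U))) h
    exact h'
  · intro h
    apply SheafOfModules.hom_ext
    apply PresheafOfModules.hom_ext
    intro a
    apply ModuleCat.hom_ext
    apply LinearMap.ext
    intro x
    let x' : (ModSite.ringSh O).obj.obj (op a.unop.left) := x
    show φ.val.app (op a.unop.left) x' = 0
    have h1 := PresheafOfModules.naturality_apply φ.val a.unop.hom.op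
      (1 : (ModSite.ringSh O).obj.obj (op U))
    have h2 : (ModSite.unit O).val.map a.unop.hom.op (1 : (ModSite.ringSh O).obj.obj (op U)) =
        (1 : (ModSite.ringSh O).obj.obj (op a.unop.left)) := PresheafOfModules.unit_map_one _ _
    have h3 : φ.val.app (op a.unop.left) (1 : (ModSite.ringSh O).obj.obj (op a.unop.left)) = 0 := by
      refine ((congrArg (φ.val.app (op a.unop.left)) h2).symm.trans h1).trans ?_
      rw [h]
      exact map_zero _
    have hx : x' = x' • (1 : (ModSite.ringSh O).obj.obj (op a.unop.left)) := (mul_one x').symm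
    rw [hx]
    refine (map_smul (φ.val.app (op a.unop.left)).hom x' _).trans ?_
    rw [h3]
    exact smul_zero _

/-- the sheaf `ℤ/ℤ_U` built with the explicit terminal sheaf -/
noncomputable abbrev qZ : Sheaf J AddCommGrpCat.{u} := cokernel ((Φ J).map (t₀ (J := J) U))

theorem unit_cond {M : ModSite.Mod O} (φ : ModSite.unit O ⟶ M) :
    ε O U (ModSite.unit O) ≫ φ = 0 ↔
      (Φ J).map (t₀ (J := J) U) ≫ β (ModSite.ringSh O) M φ = 0 := by
  rw [ε_comp_eq_zero_iff_app, comp_eq_zero_iff, β_hat_app]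
  exact Iff.rfl

/-- `Hom_O(O/O_U, M) ≃+ Hom_ℤ(ℤ/ℤ_U, M)` -/
noncomputable def τ (M : ModSite.Mod O) :
    ((ModSite.quotOn O U).obj (ModSite.unit O) ⟶ M) ≃+
      (qZ (J := J) U ⟶ (UU (ModSite.ringSh O)).obj M) where
  toFun ψ := cokernel.desc _ (β _ M (π O U _ ≫ ψ))
    ((unit_cond O U _).1 (by rw [← Category.assoc, ε_π, zero_comp]))
  invFun g := cokernel.desc (ε O U (ModSite.unit O)) ((β _ M).symm (cokernel.π _ ≫ g))
    ((unit_cond O U _).2 (by rw [Equiv.apply_symm_apply, cokernel.condition_assoc, zero_comp]))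
  left_inv ψ := by
    rw [← cancel_epi (π O U (ModSite.unit O))]
    refine (cokernel.π_desc _ _ _).trans ?_
    rw [cokernel.π_desc, Equiv.symm_apply_apply]
  right_inv g := by
    rw [← cancel_epi (cokernel.π ((Φ J).map (t₀ (J := J) U)))]
    refine (cokernel.π_desc _ _ _).trans ?_
    have h : π O U (ModSite.unit O) ≫ cokernel.desc (ε O U (ModSite.unit O))
        ((β _ M).symm (cokernel.π _ ≫ g))
        ((unit_cond O U _).2 (by
          rw [Equiv.apply_symm_apply, cokernel.condition_assoc, zero_comp])) =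
        (β _ M).symm (cokernel.π _ ≫ g) := cokernel.π_desc _ _ _
    rw [h, Equiv.apply_symm_apply]
  map_add' ψ ψ' := by
    rw [← cancel_epi (cokernel.π ((Φ J).map (t₀ (J := J) U)))]
    refine (cokernel.π_desc _ _ _).trans ?_
    refine Eq.trans ?_ (Preadditive.comp_add _ _ _ _ _ _).symm
    rw [cokernel.π_desc, cokernel.π_desc, Preadditive.comp_add, β_add]

theorem τ_comp {M M' : ModSite.Mod O} (ψ : (ModSite.quotOn O U).obj (ModSite.unit O) ⟶ M)
    (f : M ⟶ M') :
    τ O U M' (ψ ≫ f) = τ O U M ψ ≫ (UU (ModSite.ringSh O)).map f := by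
  rw [← cancel_epi (cokernel.π ((Φ J).map (t₀ (J := J) U)))]
  refine (cokernel.π_desc _ _ _).trans ?_
  rw [← Category.assoc, β_comp]
  exact ((cokernel.π_desc_assoc _ _ _ _).symm)

end Tau

section Main

variable (O : Sheaf J CommRingCat.{u}) (U : C)

/-- the prelude's `ℤ/ℤ_U` agrees with the one built on the explicit terminal sheaf -/
noncomputable def quotZIso : ToposFin.quotZ (ToposFin.eps J U) ≅ qZ (J := J) U :=
  cokernel.mapIso ((ToposFin.freeAb J).map (terminal.from (ToposFin.eps J U)))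
    ((Φ J).map (t₀ (J := J) U)) (Iso.refl _)
    ((Φ J).mapIso (terminalIsTerminal.uniqueUpToIso (isTerminalK₀ (J := J))))
    (by
      rw [Iso.refl_hom, Category.id_comp]
      show (Φ J).map _ ≫ (Φ J).map _ = _
      rw [← Functor.map_comp]
      congr 1)

set_option maxHeartbeats 800000 in
/-- **Independence of the ring for cohomology with supports.**
`Ext^p_O(O/O_U, M) ≅ H^p_Z(M) = Ext^p_ℤ(ℤ/ℤ_U, M)`. -/
theorem hz_iso [HasExt.{u} (ModSite.Mod O)] [HasInjectiveResolutions (ModSite.Mod O)]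
    (M : ModSite.Mod O) (p : ℕ) :
    Nonempty (AddCommGrpCat.of (Ext ((ModSite.quotOn O U).obj (ModSite.unit O)) M p) ≅
      AddCommGrpCat.of (ModSite.HZ U M p)) := by
  have : PreservesFiniteColimits (SheafOfModules.toSheaf.{u} (ModSite.ringSh O)) :=
    Groth.Agent.H45.toSheaf_preservesFiniteColimits (ModSite.ringSh O)
  let F₀ : ModSite.Mod O ⥤ AddCommGrpCat.{u} :=
    preadditiveCoyoneda.obj (op ((ModSite.quotOn O U).obj (ModSite.unit O)))
  obtain ⟨i₁⟩ := Groth.Agent.H30.ExtDer.main (𝟭 (ModSite.Mod O))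
    ((ModSite.quotOn O U).obj (ModSite.unit O)) F₀
    (fun M => AddEquiv.refl ((ModSite.quotOn O U).obj (ModSite.unit O) ⟶ M)) (fun g x => rfl)
    (fun I hI q e => by have := hI; exact Ext.eq_zero_of_injective e) p M
  obtain ⟨i₂⟩ := Groth.Agent.H30.ExtDer.main (UU (ModSite.ringSh O)) (qZ (J := J) U) F₀
    (fun M => τ O U M) (fun g x => τ_comp O U x g)
    (fun I hI q e => by
      have := hI
      exact ext_cokernel_eq_zero (ModSite.ringSh O) I (t₀ (J := J) U) q e) p M
  have i₃ := ((Abelian.extFunctor (C := Sheaf J AddCommGrpCat.{u}) p).mapIso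
    (quotZIso (J := J) U).op).app (ModSite.toAb M)
  exact ⟨i₁ ≪≫ i₂.symm ≪≫ i₃⟩

end Main

end Groth.Agent.H92.HZComp
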