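import Mathlib
import Groth.Prelude.Def_Adeq

/-!
# Base API for module-valued functors (`Adeq.MVF A`) and adequate functors (helper92)
-/

set_option autoImplicit false
universe u v w
open CategoryTheory Limits Opposite TensorProduct

namespace Groth.Agent.H92.AdeqBase

open Adeq

theorem evalAdd {C : Type v} [Category.{w} C] (R : Cᵒᵖ ⥤ RingCat.{u}) (X : Cᵒᵖ) :
    (PresheafOfModules.evaluation.{u+1} R X).Additive := inferInstance
theorem evalFL {C : Type v} [Category.{w} C] (R : Cᵒᵖ ⥤ RingCat.{u}) (X : Cᵒᵖ) :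
    PreservesFiniteLimits (PresheafOfModules.evaluation.{u+1} R X) := inferInstance
theorem evalFC {C : Type v} [Category.{w} C] (R : Cᵒᵖ ⥤ RingCat.{u}) (X : Cᵒᵖ) :
    PreservesFiniteColimits (PresheafOfModules.evaluation.{u+1} R X) := inferInstance

variable {A : Type u} [CommRing A]

instance (X : (Alg A)ᵒᵖᵒᵖ) : (PresheafOfModules.evaluation.{u+1} (ringOf A) X).Additive := evalAdd _ _
instance (X : (Alg A)ᵒᵖᵒᵖ) : PreservesFiniteLimits (PresheafOfModules.evaluation.{u+1} (ringOf A) X) :=
  evalFL _ _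
instance (X : (Alg A)ᵒᵖᵒᵖ) : PreservesFiniteColimits (PresheafOfModules.evaluation.{u+1} (ringOf A) X) :=
  evalFC _ _

lemma app_congr {F G : MVF A} {a b : F ⟶ G} (h : a = b) (X : (Alg A)ᵒᵖᵒᵖ) (x : F.obj X) :
    a.app X x = b.app X x := by subst h; rfl

lemma comp_app_apply {F G H : MVF A} (a : F ⟶ G) (b : G ⟶ H) (X : (Alg A)ᵒᵖᵒᵖ) (x : F.obj X) :
    (a ≫ b).app X x = b.app X (a.app X x) := rfl

lemma zero_app_apply {F G : MVF A} (X : (Alg A)ᵒᵖᵒᵖ) (x : F.obj X) :
    (0 : F ⟶ G).app X x = 0 := rfl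

lemma iso_hom_inv_apply {F G : MVF A} (e : F ≅ G) (X : (Alg A)ᵒᵖᵒᵖ) (x : F.obj X) :
    e.inv.app X (e.hom.app X x) = x := by
  rw [← comp_app_apply, app_congr e.hom_inv_id]; rfl

lemma iso_inv_hom_apply {F G : MVF A} (e : F ≅ G) (X : (Alg A)ᵒᵖᵒᵖ) (x : G.obj X) :
    e.hom.app X (e.inv.app X x) = x := by
  rw [← comp_app_apply, app_congr e.inv_hom_id]; rfl

/-- kernel inclusion is pointwise injective -/
lemma kernel_ι_injective {F G : MVF A} (ψ : F ⟶ G) (X : (Alg A)ᵒᵖᵒᵖ) :
    Function.Injective ((kernel.ι ψ).app X) :=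
  PresheafOfModules.injective_of_mono (kernel.ι ψ) X

/-- pointwise exactness of the kernel sequence -/
lemma mem_range_kernel_ι {F G : MVF A} (ψ : F ⟶ G) (X : (Alg A)ᵒᵖᵒᵖ) (y : F.obj X)
    (hy : ψ.app X y = 0) : ∃ x : (kernel ψ).obj X, (kernel.ι ψ).app X x = y := by
  have hex : (ShortComplex.mk (kernel.ι ψ) ψ (kernel.condition ψ)).Exact :=
    ShortComplex.exact_of_f_is_kernel _ (kernelIsKernel ψ)
  have h2 := hex.map (PresheafOfModules.evaluation (ringOf A) X)
  rw [ShortComplex.moduleCat_exact_iff] at h2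
  exact h2 y hy

lemma kernel_ι_comp_apply {F G : MVF A} (ψ : F ⟶ G) (X : (Alg A)ᵒᵖᵒᵖ) (x : (kernel ψ).obj X) :
    ψ.app X ((kernel.ι ψ).app X x) = 0 := by
  rw [← comp_app_apply, app_congr (kernel.condition ψ)]; rfl

/-- The "left exact" predicate: `j : F ⟶ G` identifies `F` with the kernel of `ψ : G ⟶ H` pointwise. -/
structure IsKer {F G H : MVF A} (j : F ⟶ G) (ψ : G ⟶ H) : Prop where
  inj : ∀ X, Function.Injective (j.app X)
  zero : ∀ X (x : F.obj X), ψ.app X (j.app X x) = 0
  exact : ∀ X (y : G.obj X), ψ.app X y = 0 → ∃ x : F.obj X, j.app X x = y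

lemma isKer_kernel_ι {G H : MVF A} (ψ : G ⟶ H) : IsKer (kernel.ι ψ) ψ where
  inj X := kernel_ι_injective ψ X
  zero X x := kernel_ι_comp_apply ψ X x
  exact X y hy := mem_range_kernel_ι ψ X y hy

lemma IsKer.comp_eq_zero {F G H : MVF A} {j : F ⟶ G} {ψ : G ⟶ H} (h : IsKer j ψ) : j ≫ ψ = 0 := by
  ext X x
  exact h.zero X x

/-- from the pointwise kernel property, the iso with the categorical kernel -/
noncomputable def IsKer.iso {F G H : MVF A} {j : F ⟶ G} {ψ : G ⟶ H} (h : IsKer j ψ) :
    F ≅ kernel ψ := by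
  have hm : Mono (kernel.lift ψ j h.comp_eq_zero) := by
    apply PresheafOfModules.mono_of_injective
    intro X x y hxy
    apply h.inj X
    have h1 : (kernel.lift ψ j h.comp_eq_zero ≫ kernel.ι ψ) = j := kernel.lift_ι _ _ _
    have hx := app_congr h1 X x
    have hy := app_congr h1 X y
    rw [comp_app_apply] at hx hy
    rw [← hx, ← hy, hxy]
  have he : Epi (kernel.lift ψ j h.comp_eq_zero) := by
    apply PresheafOfModules.epi_of_surjective
    intro X y
    obtain ⟨x, hx⟩ := h.exact X ((kernel.ι ψ).app X y) (kernel_ι_comp_apply ψ X y)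
    refine ⟨x, ?_⟩
    apply kernel_ι_injective ψ X
    have h1 : (kernel.lift ψ j h.comp_eq_zero ≫ kernel.ι ψ) = j := kernel.lift_ι _ _ _
    have hx' := app_congr h1 X x
    rw [comp_app_apply] at hx'
    rw [hx', hx]
  haveI := isIso_of_mono_of_epi (kernel.lift ψ j h.comp_eq_zero)
  exact asIso (kernel.lift ψ j h.comp_eq_zero)

lemma IsKer.of_iso {F F' G H : MVF A} {j : F ⟶ G} {ψ : G ⟶ H} (h : IsKer j ψ) (e : F' ≅ F) :
    IsKer (e.hom ≫ j) ψ where
  inj X := by
    intro x y hxy
    have h1 : Function.Injective (e.hom.app X) := by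
      have : Mono e.hom := inferInstance
      exact PresheafOfModules.injective_of_mono e.hom X
    apply h1
    apply h.inj X
    exact hxy
  zero X x := h.zero X (e.hom.app X x)
  exact X y hy := by
    obtain ⟨x, hx⟩ := h.exact X y hy
    refine ⟨e.inv.app X x, ?_⟩
    rw [comp_app_apply, iso_inv_hom_apply, hx]

/-- Working characterisation of adequacy. -/
lemma adequate_iff (F : MVF A) : adequate A F ↔
    ∃ (M N : ModuleCat.{u + 1} A) (φ : M ⟶ N) (j : F ⟶ (underline A).obj M),
      IsKer j ((underline A).map φ) := by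
  constructor
  · rintro ⟨M, N, φ, ⟨e⟩⟩
    exact ⟨M, N, φ, e.hom ≫ kernel.ι _, (isKer_kernel_ι _).of_iso e⟩
  · rintro ⟨M, N, φ, j, h⟩
    exact ⟨M, N, φ, ⟨h.iso⟩⟩

lemma linAdequate_iff (F : MVF A) : linAdequate A F ↔
    ∃ (M N : ModuleCat.{u + 1} A) (φ : M ⟶ N) (j : F ⟶ (underline A).obj M),
      Module.Finite A M ∧ Module.Free A M ∧ Module.Finite A N ∧ Module.Free A N ∧
      IsKer j ((underline A).map φ) := by
  constructor
  · rintro ⟨M, N, φ, h1, h2, h3, h4, ⟨e⟩⟩
    exact ⟨M, N, φ, e.hom ≫ kernel.ι _, h1, h2, h3, h4, (isKer_kernel_ι _).of_iso e⟩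
  · rintro ⟨M, N, φ, j, h1, h2, h3, h4, h⟩
    exact ⟨M, N, φ, h1, h2, h3, h4, ⟨h.iso⟩⟩

lemma linAdequate_adequate {F : MVF A} (h : linAdequate A F) : adequate A F := by
  obtain ⟨M, N, φ, _, _, _, _, e⟩ := h
  exact ⟨M, N, φ, e⟩

section underline

variable (M N : ModuleCat.{u + 1} A)

@[simp] lemma underline_map_app_apply {M N : ModuleCat.{u + 1} A} (g : M ⟶ N) (B : Alg A) (x : B ⊗[A] M) :
    ((underline A).map g).app (pt B) x = g.hom.baseChange B x := rfl

@[simp] lemma underline_obj_map_apply (M : ModuleCat.{u + 1} A) {B B' : Alg A} (f : B ⟶ B') (x : B ⊗[A] M) :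
    ((underline A).obj M).map (ptHom f) x = f.hom.toLinearMap.rTensor M x := rfl

end underline

section bc

open ChangeOfRings

variable (F : MVF A) {B B' : Alg A} (f : B ⟶ B')

lemma bc_one_tmul (x : F.obj (pt B)) :
    (F.bc f) ((1 : B') ⊗ₜ[(B : Type u), f.hom.toRingHom] x) = F.map (ptHom f) x := by
  have hmap : F.map (ptHom f) =
      (ModuleCat.extendRestrictScalarsAdj.{u + 1, u, u} f.hom.toRingHom).homEquiv _ _ (F.bc f) := by
    unfold MVF.bc
    rw [Equiv.apply_symm_apply]
  rw [hmap]
  rfl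

lemma bc_tmul (s : B') (x : F.obj (pt B)) :
    (F.bc f) (s ⊗ₜ[(B : Type u), f.hom.toRingHom] x) =
      s • (F.map (ptHom f) x : F.obj (pt B')) := by
  have h0 := ModuleCat.ExtendScalars.smul_tmul (f := f.hom.toRingHom) (M := F.obj (pt B)) s 1 x
  rw [mul_one] at h0
  have h2 := congrArg (F.bc f) h0
  have h3 := (F.bc f).hom.map_smul s ((1 : B') ⊗ₜ[(B : Type u), f.hom.toRingHom] x)
  exact h2.symm.trans (h3.trans
    (congrArg (fun z : F.obj (pt B') => s • z) (bc_one_tmul F f x)))

lemma bc_naturality {F G : MVF A} (α : F ⟶ G) {B B' : Alg A} (f : B ⟶ B') :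
    (ModuleCat.extendScalars.{u, u, u + 1} f.hom.toRingHom).map (α.app (pt B)) ≫ G.bc f =
      F.bc f ≫ α.app (pt B') := by
  apply ModuleCat.ExtendScalars.hom_ext
  intro m
  refine (bc_one_tmul G f (α.app (pt B) m)).trans ?_
  refine Eq.trans ?_ (congrArg (α.app (pt B')) (bc_one_tmul F f m)).symm
  exact (PresheafOfModules.naturality_apply α (ptHom f) m).symm

end bc

section bcflat

open ChangeOfRings

lemma underline_bc_bijective (M : ModuleCat.{u+1} A) {B B' : Alg A} (f : B ⟶ B') :
    Function.Bijective (((underline A).obj M).bc f) := by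
  let _ : Algebra B B' := f.hom.toRingHom.toAlgebra
  have : IsScalarTower A B B' := IsScalarTower.of_algebraMap_eq (fun a => (f.hom.commutes a).symm)
  let e := TensorProduct.AlgebraTensorModule.cancelBaseChange A B B B' M
  have he : ∀ z : B' ⊗[B] (B ⊗[A] M), ((underline A).obj M).bc f z = e z := by
    intro z
    induction z using TensorProduct.induction_on with
    | zero => exact (map_zero _).trans (map_zero _).symm
    | tmul s y =>
      refine (bc_tmul ((underline A).obj M) f s y).trans ?_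
      show (s • (f.hom.toLinearMap.rTensor M y) : B' ⊗[A] M) = e (s ⊗ₜ[B] y)
      induction y using TensorProduct.induction_on with
      | zero => simp
      | tmul b m =>
        rw [LinearMap.rTensor_tmul, TensorProduct.smul_tmul',
          TensorProduct.AlgebraTensorModule.cancelBaseChange_tmul]
        congr 1
        rw [smul_eq_mul, Algebra.smul_def, mul_comm]
        rfl
      | add y1 y2 h1 h2 =>
        rw [map_add, smul_add, h1, h2, tmul_add, map_add]
    | add x y hx hy =>
      exact (map_add _ x y).trans ((congrArg₂ (· + ·) hx hy).trans (map_add e x y).symm)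
  constructor
  · intro x y hxy
    apply e.injective
    rw [← he, ← he]; exact hxy
  · intro y
    refine ⟨e.symm y, ?_⟩
    rw [he]; exact e.apply_symm_apply y

/-- flat base change for adequate functors (= S8740) -/
theorem isIso_bc_of_adequate_flat (F : Adeq.MVF A) (hF : Adeq.adequate A F)
    {B B' : Adeq.Alg A} (f : B ⟶ B') (hf : f.hom.toRingHom.Flat) : IsIso (F.bc f) := by
  obtain ⟨M, N, φ, j, hj⟩ := (adequate_iff F).mp hF
  let _ : Algebra B B' := f.hom.toRingHom.toAlgebra
  have hflat : Module.Flat B B' := hf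
  let T := ModuleCat.extendScalars.{u, u, u + 1} f.hom.toRingHom
  have hTj : Function.Injective (T.map (j.app (pt B))) := by
    have h := Module.Flat.lTensor_preserves_injective_linearMap (M := B') (j.app (pt B)).hom (hj.inj _)
    exact h
  have hTex : ∀ w : T.obj (((underline A).obj M).obj (pt B)),
      (T.map (((underline A).map φ).app (pt B))) w = 0 → ∃ v, T.map (j.app (pt B)) v = w := by
    have hex : Function.Exact (j.app (pt B)).hom (((underline A).map φ).app (pt B)).hom := by
      intro y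
      constructor
      · intro hy
        obtain ⟨x, hx⟩ := hj.exact _ y hy
        exact ⟨x, hx⟩
      · rintro ⟨x, rfl⟩
        exact hj.zero _ x
    have h2 := Module.Flat.lTensor_exact B' hex
    intro w hw
    exact (h2 w).mp hw
  have hbcM := underline_bc_bijective M f
  have hbcN := underline_bc_bijective N f
  have hn1 := bc_naturality j f
  have hn2 := bc_naturality ((underline A).map φ) f
  have hc1 : ∀ v : T.obj (F.obj (pt B)),
      (((underline A).obj M).bc f) (T.map (j.app (pt B)) v) = (j.app (pt B')) (F.bc f v) :=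
    fun v => congrArg (fun t => (ConcreteCategory.hom t) v) hn1
  have hc2 : ∀ w : T.obj (((underline A).obj M).obj (pt B)),
      (((underline A).obj N).bc f) (T.map (((underline A).map φ).app (pt B)) w) =
        (((underline A).map φ).app (pt B')) (((underline A).obj M).bc f w) :=
    fun w => congrArg (fun t => (ConcreteCategory.hom t) w) hn2
  rw [ConcreteCategory.isIso_iff_bijective]
  constructor
  · intro v v' hvv
    apply hTj
    apply hbcM.1
    rw [hc1, hc1]
    exact congrArg _ hvv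
  · intro z
    obtain ⟨w, hw⟩ := hbcM.2 ((j.app (pt B')) z)
    have hw0 : (T.map (((underline A).map φ).app (pt B))) w = 0 := by
      apply hbcN.1
      rw [hc2, hw, map_zero]
      exact hj.zero _ z
    obtain ⟨v, hv⟩ := hTex w hw0
    refine ⟨v, ?_⟩
    apply hj.inj (pt B')
    rw [← hc1, hv, hw]

end bcflat

end Groth.Agent.H92.AdeqBase
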