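import Mathlib
import Groth.Prelude.Def_Adeq
import Groth.Agent.H92.AdeqBase

/-!
# Linearly adequate functors surject onto adequate functors (helper92)
-/

set_option autoImplicit false
universe u v w
open CategoryTheory Limits Opposite TensorProduct Submodule

namespace Groth.Agent.H92.AdeqLin

open Adeq Groth.Agent.H92.AdeqBase

theorem keyAlg {A : Type u} [CommRing A] {M : Type v} {N : Type w} {B : Type*}
    [AddCommGroup M] [Module A M] [AddCommGroup N] [Module A N] [AddCommGroup B] [Module A B]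
    (φ : M →ₗ[A] N) (x : B ⊗[A] M) (hx : φ.lTensor B x = 0) :
    ∃ (k s : ℕ) (ψ : (Fin k → A) →ₗ[A] (Fin s → A)) (g : (Fin k → A) →ₗ[A] M)
      (h : (Fin s → A) →ₗ[A] N) (η : B ⊗[A] (Fin k → A)),
      φ ∘ₗ g = h ∘ₗ ψ ∧ ψ.lTensor B η = 0 ∧ g.lTensor B η = x := by
  classical
  obtain ⟨n, b, m, rfl⟩ := TensorProduct.exists_sum_tmul_eq x
  have h0 : ∑ j, (φ (m j)) ⊗ₜ[A] (b j) = (0 : N ⊗[A] B) := by
    have := congrArg (TensorProduct.comm A B N) hx
    simpa [map_sum] using this
  let N' : Submodule A N := span A (Set.range (φ ∘ m))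
  have hN' : N'.FG := fg_span (Set.finite_range _)
  let z : N' ⊗[A] B := ∑ j, (⟨φ (m j), subset_span ⟨j, rfl⟩⟩ : N') ⊗ₜ[A] b j
  have hz : N'.subtype.rTensor B z = N'.subtype.rTensor B 0 := by
    simp only [z, map_sum, LinearMap.rTensor_tmul, Submodule.subtype_apply, map_zero]
    exact h0
  obtain ⟨N'', hfg, hle, heq⟩ := hN'.exists_rTensor_fg_inclusion_eq hz
  obtain ⟨s, ν, hν⟩ := fg_iff_exists_fin_generating_family.mp hfg
  have hνmem : ∀ l, ν l ∈ N'' := fun l => hν ▸ subset_span ⟨l, rfl⟩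
  let μ : Fin n ⊕ Fin s → N'' :=
    Sum.elim (fun j => ⟨φ (m j), hle (subset_span ⟨j, rfl⟩)⟩) (fun l => ⟨ν l, hνmem l⟩)
  have hμ : span A (Set.range μ) = ⊤ := by
    have h1 : (span A (Set.range μ)).map N''.subtype = (⊤ : Submodule A N'').map N''.subtype := by
      rw [Submodule.map_span, Submodule.map_subtype_top, ← Set.range_comp]
      apply le_antisymm
      · rw [span_le]
        rintro _ ⟨i, rfl⟩
        exact (μ i).2
      · conv_lhs => rw [← hν]
        apply span_mono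
        rintro _ ⟨l, rfl⟩
        exact ⟨Sum.inr l, rfl⟩
    exact Submodule.map_injective_of_injective N''.injective_subtype h1
  let β : Fin n ⊕ Fin s → B := Sum.elim b (fun _ => 0)
  have hsum : ∑ i, μ i ⊗ₜ[A] β i = (0 : N'' ⊗[A] B) := by
    rw [Fintype.sum_sum_type]
    simp only [μ, β, Sum.elim_inl, Sum.elim_inr, tmul_zero, Finset.sum_const_zero, add_zero]
    have h2 : (N'.inclusion hle).rTensor B z = 0 := by rw [heq, map_zero]
    simp only [z, map_sum, LinearMap.rTensor_tmul] at h2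
    exact h2
  obtain ⟨k, a, y, hy1, hy2⟩ := TensorProduct.vanishesTrivially_of_sum_tmul_eq_zero A hμ hsum
  have hy2' : ∀ j, ∑ i, a (Sum.inl i) j • φ (m i) + ∑ l, a (Sum.inr l) j • ν l = 0 := by
    intro j
    have := congrArg N''.subtype (hy2 j)
    rw [Fintype.sum_sum_type] at this
    simpa [μ] using this
  have hb : ∀ i, b i = ∑ j, a (Sum.inl i) j • y j := fun i => hy1 (Sum.inl i)
  have hzero : ∀ l, (0 : B) = ∑ j, a (Sum.inr l) j • y j := fun l => hy1 (Sum.inr l)
  let g : (Fin k → A) →ₗ[A] M := Fintype.linearCombination A (fun j => ∑ i, a (Sum.inl i) j • m i)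
  let h : (Fin s → A) →ₗ[A] N := Fintype.linearCombination A ν
  let ψ : (Fin k → A) →ₗ[A] (Fin s → A) :=
    Fintype.linearCombination A (fun j => fun l => - a (Sum.inr l) j)
  let η : B ⊗[A] (Fin k → A) := ∑ j, y j ⊗ₜ[A] (Pi.single j (1 : A))
  refine ⟨k, s, ψ, g, h, η, ?_, ?_, ?_⟩
  · apply LinearMap.pi_ext'
    intro j
    ext
    simp only [LinearMap.coe_comp, Function.comp_apply, LinearMap.coe_single, g, h, ψ,
      Fintype.linearCombination_apply_single, one_smul, map_sum, map_smul]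
    rw [Fintype.linearCombination_apply]
    simp only [neg_smul, Finset.sum_neg_distrib]
    have := hy2' j
    exact eq_neg_of_add_eq_zero_left this
  · apply (TensorProduct.piScalarRight A A B (Fin s)).injective
    rw [map_zero]
    ext l
    simp only [η, map_sum, LinearMap.lTensor_tmul, ψ, Fintype.linearCombination_apply_single,
      one_smul, TensorProduct.piScalarRight_apply, TensorProduct.piScalarRightHom_tmul,
      Finset.sum_apply, Pi.zero_apply, neg_smul, Finset.sum_neg_distrib, neg_eq_zero]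
    exact (hzero l).symm
  · simp only [η, map_sum, LinearMap.lTensor_tmul, g, Fintype.linearCombination_apply_single,
      one_smul, tmul_sum, tmul_smul]
    rw [Finset.sum_comm]
    refine Finset.sum_congr rfl (fun i _ => ?_)
    rw [hb i, sum_tmul]
    refine Finset.sum_congr rfl (fun j _ => ?_)
    rw [smul_tmul']


variable {A : Type u} [CommRing A]

/-- version of `keyAlg` with finite free modules in the universe of `ModuleCat.{u+1} A` -/
theorem keyAlg' {M N : ModuleCat.{u + 1} A} {B : Type u} [AddCommGroup B] [Module A B]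
    (φ : M ⟶ N) (x : B ⊗[A] M) (hx : φ.hom.lTensor B x = 0) :
    ∃ (P P' : ModuleCat.{u + 1} A) (_ : Module.Finite A P) (_ : Module.Free A P)
      (_ : Module.Finite A P') (_ : Module.Free A P') (ψ : P ⟶ P') (g : P ⟶ M) (h : P' ⟶ N)
      (η : B ⊗[A] P), g ≫ φ = ψ ≫ h ∧ ψ.hom.lTensor B η = 0 ∧ g.hom.lTensor B η = x := by
  obtain ⟨k, s, ψ, g, h, η, h1, h2, h3⟩ := keyAlg φ.hom x hx
  let eP : ULift.{u + 1} (Fin k → A) ≃ₗ[A] (Fin k → A) := ULift.moduleEquiv
  let eP' : ULift.{u + 1} (Fin s → A) ≃ₗ[A] (Fin s → A) := ULift.moduleEquiv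
  refine ⟨ModuleCat.of A (ULift.{u + 1} (Fin k → A)), ModuleCat.of A (ULift.{u + 1} (Fin s → A)),
    Module.Finite.equiv eP.symm, Module.Free.of_equiv eP.symm, Module.Finite.equiv eP'.symm,
    Module.Free.of_equiv eP'.symm,
    ModuleCat.ofHom (eP'.symm.toLinearMap ∘ₗ ψ ∘ₗ eP.toLinearMap),
    ModuleCat.ofHom (g ∘ₗ eP.toLinearMap), ModuleCat.ofHom (h ∘ₗ eP'.toLinearMap),
    eP.symm.toLinearMap.lTensor B η, ?_, ?_, ?_⟩
  · ext y
    simp only [ModuleCat.hom_comp, ModuleCat.hom_ofHom, LinearMap.coe_comp, Function.comp_apply,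
      LinearEquiv.coe_coe, LinearEquiv.apply_symm_apply]
    exact LinearMap.congr_fun h1 (eP y)
  · simp only [ModuleCat.hom_ofHom]
    rw [← LinearMap.lTensor_comp_apply]
    have : (eP'.symm.toLinearMap ∘ₗ ψ ∘ₗ eP.toLinearMap) ∘ₗ eP.symm.toLinearMap =
        eP'.symm.toLinearMap ∘ₗ ψ := by
      ext y; simp
    rw [this, LinearMap.lTensor_comp_apply, h2, map_zero]
  · simp only [ModuleCat.hom_ofHom]
    rw [← LinearMap.lTensor_comp_apply]
    have : (g ∘ₗ eP.toLinearMap) ∘ₗ eP.symm.toLinearMap = g := by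
      ext y; simp
    rw [this, h3]

/-- compatibility of `IsKer.iso` with the kernel inclusion -/
lemma IsKer.iso_hom_ι {F G H : MVF A} {j : F ⟶ G} {ψ : G ⟶ H} (h : IsKer j ψ) :
    h.iso.hom ≫ kernel.ι ψ = j := by
  unfold IsKer.iso
  simp

/-- lifting through a pointwise kernel -/
lemma IsKer.exists_lift {F G H L : MVF A} {j : F ⟶ G} {ψ : G ⟶ H} (h : IsKer j ψ)
    (a : L ⟶ G) (ha : a ≫ ψ = 0) : ∃ l : L ⟶ F, l ≫ j = a := by
  refine ⟨kernel.lift ψ a ha ≫ h.iso.inv, ?_⟩
  rw [Category.assoc]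
  have : h.iso.inv ≫ j = kernel.ι ψ := by
    have h1 := IsKer.iso_hom_ι h
    rw [Iso.inv_comp_eq]
    exact h1.symm
  rw [this, kernel.lift_ι]

/-- every section of an adequate functor comes from a linearly adequate one -/
theorem exists_linAdequate_hitting (F : MVF A) (hF : adequate A F) (B : Alg A)
    (ξ : F.obj (pt B)) :
    ∃ (L : MVF A) (_ : linAdequate A L) (l : L ⟶ F) (η : L.obj (pt B)), l.app (pt B) η = ξ := by
  obtain ⟨M, N, φ, j, hj⟩ := (adequate_iff F).mp hF
  have hx : φ.hom.lTensor B (j.app (pt B) ξ) = 0 := hj.zero (pt B) ξ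
  obtain ⟨P, P', hP1, hP2, hP3, hP4, ψ, g, h, η, h1, h2, h3⟩ := keyAlg' φ (j.app (pt B) ξ) hx
  let L : MVF A := kernel ((underline A).map ψ)
  have hL : linAdequate A L := ⟨P, P', ψ, hP1, hP2, hP3, hP4, ⟨Iso.refl _⟩⟩
  have hcomp : (kernel.ι ((underline A).map ψ) ≫ (underline A).map g) ≫ (underline A).map φ = 0 := by
    rw [Category.assoc, ← Functor.map_comp, h1, Functor.map_comp, ← Category.assoc,
      kernel.condition, zero_comp]
  obtain ⟨l, hl⟩ := IsKer.exists_lift hj _ hcomp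
  obtain ⟨η', hη'⟩ := mem_range_kernel_ι ((underline A).map ψ) (pt B) η h2
  refine ⟨L, hL, l, η', ?_⟩
  apply hj.inj (pt B)
  rw [← comp_app_apply, app_congr hl, comp_app_apply, hη']
  exact h3

end Groth.Agent.H92.AdeqLin
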