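import Mathlib
import Groth.Prelude.Def_Adeq
import Groth.Agent.H92.AdeqBase
import Groth.Agent.H92.AdeqLin

/-!
# Maps out of linearly adequate functors into `underline M` come from module maps (helper92)
-/

set_option autoImplicit false
universe u v v' w
open CategoryTheory Limits Opposite TensorProduct Submodule

namespace Groth.Agent.H92.AdeqExt

open Adeq Groth.Agent.H92.AdeqBase
open Module

section alg

variable {A : Type u} [CommRing A]
variable {P : Type v} {P' : Type v'} [AddCommGroup P] [Module A P] [AddCommGroup P'] [Module A P']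
variable {n m : ℕ} (b : Basis (Fin n) A P) (b' : Basis (Fin m) A P') (φ₀ : P →ₗ[A] P')

/-- coordinates of an element of `K ⊗ P` with respect to a basis of `P` -/
noncomputable def cr {K : Type*} [AddCommGroup K] [Module A K] (i : Fin n) : K ⊗[A] P →ₗ[A] K :=
  (TensorProduct.rid A K).toLinearMap ∘ₗ (b.coord i).lTensor K

lemma cr_tmul {K : Type*} [AddCommGroup K] [Module A K] (i : Fin n) (k : K) (p : P) :
    cr b i (k ⊗ₜ[A] p) = b.repr p i • k := by
  simp [cr]

lemma sum_cr {K : Type*} [AddCommGroup K] [Module A K] (η : K ⊗[A] P) :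
    ∑ i, cr b i η ⊗ₜ[A] b i = η := by
  induction η using TensorProduct.induction_on with
  | zero => simp
  | tmul k p =>
    simp only [cr_tmul]
    conv_rhs => rw [← b.sum_repr p, tmul_sum]
    refine Finset.sum_congr rfl (fun i _ => ?_)
    rw [smul_tmul]
  | add x y hx hy =>
    simp only [map_add, add_tmul, Finset.sum_add_distrib, hx, hy]

lemma cr_sum_tmul {K : Type*} [AddCommGroup K] [Module A K] (k : Fin n → K) (i : Fin n) :
    cr b i (∑ j, k j ⊗ₜ[A] b j) = k i := by
  classical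
  simp only [map_sum, cr_tmul, Basis.repr_self, Finsupp.single_apply]
  simp [Finset.sum_ite_eq']


/-- the relation vectors (rows of the matrix of `φ₀`) -/
noncomputable def relVec (j : Fin m) : Fin n → A := fun i => b'.repr (φ₀ (b i)) j

/-- the span of the relation vectors -/
noncomputable def relSub : Submodule A (Fin n → A) := span A (Set.range (relVec b b' φ₀))

lemma cr_lTensor {K : Type*} [AddCommGroup K] [Module A K] (η : K ⊗[A] P) (j : Fin m) :
    cr b' j (φ₀.lTensor K η) = ∑ i, relVec b b' φ₀ j i • cr b i η := by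
  conv_lhs => rw [← sum_cr b η]
  simp only [map_sum, LinearMap.lTensor_tmul, cr_tmul, relVec]

lemma lTensor_eq_zero_iff {K : Type*} [AddCommGroup K] [Module A K] (η : K ⊗[A] P) :
    φ₀.lTensor K η = 0 ↔ ∀ j, ∑ i, relVec b b' φ₀ j i • cr b i η = 0 := by
  constructor
  · intro h j
    rw [← cr_lTensor, h, map_zero]
  · intro h
    rw [← sum_cr b' (φ₀.lTensor K η)]
    refine Finset.sum_eq_zero (fun j _ => ?_)
    rw [cr_lTensor, h j, zero_tmul]

/-- the universal module `Q = coker (φ₀ᵀ)` -/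
abbrev Q : Type u := (Fin n → A) ⧸ relSub b b' φ₀

/-- the universal test algebra `A ⊕ ε Q` -/
abbrev CQ : Type u := TrivSqZeroExt A (Q b b' φ₀)

/-- the universal element -/
noncomputable def ξ₀ : CQ b b' φ₀ ⊗[A] P :=
  ∑ i, (TrivSqZeroExt.inr ((relSub b b' φ₀).mkQ (Pi.single i 1)) : CQ b b' φ₀) ⊗ₜ[A] b i

lemma sum_smul_single (v : Fin n → A) : ∑ i, v i • (Pi.single i (1 : A) : Fin n → A) = v := by
  classical
  funext k
  simp [Finset.sum_apply, Pi.single_apply]

lemma lTensor_ξ₀ : φ₀.lTensor (CQ b b' φ₀) (ξ₀ b b' φ₀) = 0 := by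
  rw [lTensor_eq_zero_iff b b']
  intro j
  have h1 : ∀ i, cr b i (ξ₀ b b' φ₀) =
      (TrivSqZeroExt.inr ((relSub b b' φ₀).mkQ (Pi.single i 1)) : CQ b b' φ₀) := by
    intro i
    unfold ξ₀
    rw [cr_sum_tmul]
  simp only [h1]
  have h2 : ∑ i, relVec b b' φ₀ j i •
      (TrivSqZeroExt.inr ((relSub b b' φ₀).mkQ (Pi.single i 1)) : CQ b b' φ₀) =
      TrivSqZeroExt.inr ((relSub b b' φ₀).mkQ (∑ i, relVec b b' φ₀ j i • Pi.single i 1)) := by
    rw [map_sum, TrivSqZeroExt.inr_sum]
    refine Finset.sum_congr rfl (fun i _ => ?_)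
    rw [map_smul, TrivSqZeroExt.inr_smul]
  rw [h2, sum_smul_single]
  have h3 : (relSub b b' φ₀).mkQ (relVec b b' φ₀ j) = 0 := by
    rw [Submodule.mkQ_apply, Submodule.Quotient.mk_eq_zero]
    exact subset_span ⟨j, rfl⟩
  rw [h3, TrivSqZeroExt.inr_zero]


lemma sum_single_tmul {M : Type*} [AddCommGroup M] [Module A M] (z : (Fin n → A) ⊗[A] M) :
    ∑ i, (Pi.single i (1 : A) : Fin n → A) ⊗ₜ[A]
      (TensorProduct.lid A M ((LinearMap.proj (R := A) (φ := fun _ : Fin n => A) i).rTensor M z)) = z := by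
  induction z using TensorProduct.induction_on with
  | zero => simp
  | tmul v x =>
    simp only [LinearMap.rTensor_tmul, LinearMap.proj_apply, TensorProduct.lid_tmul]
    conv_rhs => rw [← sum_smul_single v, sum_tmul]
    refine Finset.sum_congr rfl (fun i _ => ?_)
    rw [smul_tmul]
  | add x y hx hy =>
    simp only [map_add, tmul_add, Finset.sum_add_distrib, hx, hy]

section B

variable (B : Type u) [CommRing B] [Algebra A B] (η : B ⊗[A] P) (hη : φ₀.lTensor B η = 0)

/-- the classifying linear map `Q → B` of an element of the kernel -/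
noncomputable def fη : Q b b' φ₀ →ₗ[A] B :=
  (relSub b b' φ₀).liftQ (Fintype.linearCombination A (fun i => cr b i η)) (by
    rw [relSub, span_le]
    rintro _ ⟨j, rfl⟩
    rw [SetLike.mem_coe, LinearMap.mem_ker, Fintype.linearCombination_apply]
    exact (lTensor_eq_zero_iff b b' φ₀ η).mp hη j)

lemma fη_mkQ (v : Fin n → A) :
    fη b b' φ₀ B η hη ((relSub b b' φ₀).mkQ v) = ∑ i, v i • cr b i η := by
  unfold fη
  rw [Submodule.mkQ_apply, Submodule.liftQ_apply, Fintype.linearCombination_apply]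

lemma fη_mkQ_single (i : Fin n) :
    fη b b' φ₀ B η hη ((relSub b b' φ₀).mkQ (Pi.single i 1)) = cr b i η := by
  classical
  rw [fη_mkQ]
  simp [Pi.single_apply]

/-- the classifying algebra map `A ⊕ εQ → B[ε]` -/
noncomputable def Fη : CQ b b' φ₀ →ₐ[A] TrivSqZeroExt B B :=
  TrivSqZeroExt.liftEquivOfComm
    ⟨(TrivSqZeroExt.inrHom B B).restrictScalars A ∘ₗ fη b b' φ₀ B η hη,
      fun _ _ => TrivSqZeroExt.inr_mul_inr _ _ _⟩

lemma Fη_inr (x : Q b b' φ₀) :
    Fη b b' φ₀ B η hη (TrivSqZeroExt.inr x) = TrivSqZeroExt.inr (fη b b' φ₀ B η hη x) := by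
  unfold Fη
  rw [TrivSqZeroExt.liftEquivOfComm_apply, TrivSqZeroExt.lift_apply_inr]
  rfl

lemma snd_Fη (c : CQ b b' φ₀) :
    TrivSqZeroExt.snd (Fη b b' φ₀ B η hη c) = fη b b' φ₀ B η hη (TrivSqZeroExt.snd c) := by
  unfold Fη
  rw [TrivSqZeroExt.liftEquivOfComm_apply, TrivSqZeroExt.lift_def]
  simp [Algebra.ofId_apply, TrivSqZeroExt.algebraMap_eq_inl']

/-- `ε` -/
abbrev eps : TrivSqZeroExt B B := TrivSqZeroExt.inr 1

lemma rTensor_Fη_ξ₀ :
    (Fη b b' φ₀ B η hη).toLinearMap.rTensor P (ξ₀ b b' φ₀) =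
      eps B • (TrivSqZeroExt.inlAlgHom A B B).toLinearMap.rTensor P η := by
  conv_rhs => rw [← sum_cr b η]
  unfold ξ₀
  simp only [map_sum, LinearMap.rTensor_tmul, AlgHom.toLinearMap_apply, Finset.smul_sum]
  refine Finset.sum_congr rfl (fun i _ => ?_)
  rw [Fη_inr, fη_mkQ_single, TensorProduct.smul_tmul', smul_eq_mul]
  congr 1
  apply TrivSqZeroExt.ext <;> simp [eps]

lemma snd_rTensor_Fη {M : Type*} [AddCommGroup M] [Module A M] (ζ : CQ b b' φ₀ ⊗[A] M)
    (z : (Fin n → A) ⊗[A] M)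
    (hz : (relSub b b' φ₀).mkQ.rTensor M z =
      ((TrivSqZeroExt.sndHom A (Q b b' φ₀))).rTensor M ζ) :
    ((TrivSqZeroExt.sndHom B B).restrictScalars A).rTensor M
        ((Fη b b' φ₀ B η hη).toLinearMap.rTensor M ζ) =
      (b.constr A (fun i => TensorProduct.lid A M
        ((LinearMap.proj (R := A) (φ := fun _ : Fin n => A) i).rTensor M z))).lTensor B η := by
  have h1 : ((TrivSqZeroExt.sndHom B B).restrictScalars A) ∘ₗ (Fη b b' φ₀ B η hη).toLinearMap =
      fη b b' φ₀ B η hη ∘ₗ (TrivSqZeroExt.sndHom A (Q b b' φ₀)) := by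
    ext c
    exact snd_Fη b b' φ₀ B η hη c
  rw [← LinearMap.rTensor_comp_apply, h1, LinearMap.rTensor_comp_apply, ← hz,
    ← LinearMap.rTensor_comp_apply]
  conv_lhs => rw [← sum_single_tmul z]
  conv_rhs => rw [← sum_cr b η]
  simp only [map_sum, LinearMap.rTensor_tmul, LinearMap.lTensor_tmul, LinearMap.comp_apply,
    fη_mkQ_single, Basis.constr_basis]

lemma snd_eps_smul {M : Type*} [AddCommGroup M] [Module A M] (w : B ⊗[A] M) :
    ((TrivSqZeroExt.sndHom B B).restrictScalars A).rTensor M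
      (eps B • (TrivSqZeroExt.inlAlgHom A B B).toLinearMap.rTensor M w) = w := by
  induction w using TensorProduct.induction_on with
  | zero => simp
  | tmul x y =>
    rw [LinearMap.rTensor_tmul, TensorProduct.smul_tmul', LinearMap.rTensor_tmul]
    congr 1
    simp [eps, TrivSqZeroExt.sndHom]
  | add x y hx hy =>
    rw [map_add, smul_add, map_add, hx, hy]

end B

end alg


section cat

variable {A : Type u} [CommRing A]

/-- A map from a linearly adequate functor `L = ker(underline P → underline P')` (with `P`, `P'`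
finite free) to `underline M` is induced by a module map `P → M`. -/
theorem exists_lift_underline (P P' M : ModuleCat.{u + 1} A)
    [Module.Finite A P] [Module.Free A P] [Module.Finite A P'] [Module.Free A P'] (φ₀ : P ⟶ P')
    {L : MVF A} (j : L ⟶ (underline A).obj P) (hj : IsKer j ((underline A).map φ₀))
    (φ : L ⟶ (underline A).obj M) :
    ∃ g : P ⟶ M, j ≫ (underline A).map g = φ := by
  classical
  rcases subsingleton_or_nontrivial A with hA | hA
  · refine ⟨0, ?_⟩
    ext X x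
    have h1 : Subsingleton (X.unop.unop : Type u) := by
      have h10 : (0 : (X.unop.unop : Type u)) = 1 := by
        rw [← map_one (algebraMap A (X.unop.unop : Type u)), Subsingleton.elim (1 : A) 0, map_zero]
      exact subsingleton_of_zero_eq_one h10
    have h2 : Subsingleton (((underline A).obj M).obj X) :=
      Module.subsingleton (X.unop.unop : Type u) _
    exact Subsingleton.elim _ _
  let b := Module.finBasis A P
  let b' := Module.finBasis A P'
  let CQa : Alg A := algOf A (CQ b b' φ₀.hom)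
  have h0 : ((underline A).map φ₀).app (pt CQa) (ξ₀ b b' φ₀.hom) = 0 := by
    show φ₀.hom.baseChange _ (ξ₀ b b' φ₀.hom) = 0
    rw [LinearMap.baseChange_eq_ltensor]
    exact lTensor_ξ₀ b b' φ₀.hom
  obtain ⟨ξ, hξ⟩ := hj.exact (pt CQa) (ξ₀ b b' φ₀.hom) h0
  let ζ : CQ b b' φ₀.hom ⊗[A] M := φ.app (pt CQa) ξ
  obtain ⟨z, hz⟩ := LinearMap.rTensor_surjective M (Submodule.mkQ_surjective (relSub b b' φ₀.hom))
    ((TrivSqZeroExt.sndHom A (Q b b' φ₀.hom)).rTensor M ζ)
  let g : P ⟶ M := ModuleCat.ofHom (b.constr A (fun i => TensorProduct.lid A M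
        ((LinearMap.proj (R := A) (φ := fun _ : Fin _ => A) i).rTensor M z)))
  refine ⟨g, ?_⟩
  ext X x
  let B : Alg A := X.unop.unop
  let η : B ⊗[A] P := j.app X x
  have hη : φ₀.hom.lTensor B η = 0 := by
    have := hj.zero X x
    rw [← LinearMap.baseChange_eq_ltensor]
    exact this
  let Bε : Alg A := algOf A (TrivSqZeroExt B B)
  let fi : B ⟶ Bε := CommAlgCat.ofHom (TrivSqZeroExt.inlAlgHom A B B)
  let fF : CQa ⟶ Bε := CommAlgCat.ofHom (Fη b b' φ₀.hom B η hη)
  let w : B ⊗[A] M := φ.app X x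
  have n1 : φ.app (pt Bε) (L.map (ptHom fi) x) =
      (TrivSqZeroExt.inlAlgHom A B B).toLinearMap.rTensor M w :=
    PresheafOfModules.naturality_apply φ (ptHom fi) x
  have n2 : φ.app (pt Bε) (L.map (ptHom fF) ξ) =
      (Fη b b' φ₀.hom B η hη).toLinearMap.rTensor M ζ :=
    PresheafOfModules.naturality_apply φ (ptHom fF) ξ
  have key : (L.map (ptHom fF) ξ : L.obj (pt Bε)) =
      (eps B : TrivSqZeroExt B B) • (L.map (ptHom fi) x : L.obj (pt Bε)) := by
    apply hj.inj (pt Bε)
    have e1 : j.app (pt Bε) (L.map (ptHom fF) ξ) =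
        (Fη b b' φ₀.hom B η hη).toLinearMap.rTensor P (ξ₀ b b' φ₀.hom) := by
      refine (PresheafOfModules.naturality_apply j (ptHom fF) ξ).trans ?_
      rw [hξ]
      rfl
    have e2 : j.app (pt Bε) (L.map (ptHom fi) x) =
        (TrivSqZeroExt.inlAlgHom A B B).toLinearMap.rTensor P η :=
      PresheafOfModules.naturality_apply j (ptHom fi) x
    have e3 : j.app (pt Bε) ((eps B : TrivSqZeroExt B B) • (L.map (ptHom fi) x : L.obj (pt Bε))) =
        (eps B : TrivSqZeroExt B B) • j.app (pt Bε) (L.map (ptHom fi) x) :=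
      (j.app (pt Bε)).hom.map_smul _ _
    rw [e1, e3, e2]
    exact rTensor_Fη_ξ₀ b b' φ₀.hom B η hη
  have n3 : φ.app (pt Bε) ((eps B : TrivSqZeroExt B B) • (L.map (ptHom fi) x : L.obj (pt Bε))) =
      (eps B : TrivSqZeroExt B B) • φ.app (pt Bε) (L.map (ptHom fi) x) :=
    (φ.app (pt Bε)).hom.map_smul _ _
  have fin : g.hom.lTensor B η = w := by
    have h5 := snd_rTensor_Fη b b' φ₀.hom B η hη ζ z hz
    rw [← n2, key, n3, n1] at h5
    exact h5.symm.trans (snd_eps_smul B w)
  show g.hom.baseChange B η = w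
  rw [LinearMap.baseChange_eq_ltensor]
  exact fin

end cat

end Groth.Agent.H92.AdeqExt
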