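import Mathlib
import Groth.Prelude.Def_Adeq
import Groth.Agent.H92.AdeqBase
import Groth.Agent.H92.AdeqLin
import Groth.Agent.H92.AdeqExt
import Groth.Agent.S8741

/-!
# Cokernels and kernels of maps of adequate functors (helper92)
-/

set_option autoImplicit false
set_option linter.unusedSectionVars false
universe u v w
open CategoryTheory Limits Opposite TensorProduct Submodule

namespace Groth.Agent.H92.AdeqCok

open Adeq Groth.Agent.H92.AdeqBase

variable {A : Type u} [CommRing A]

lemma cokernel_π_surjective {F G : MVF A} (φ : F ⟶ G) (X : (Alg A)ᵒᵖᵒᵖ) :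
    Function.Surjective ((cokernel.π φ).app X) :=
  PresheafOfModules.surjective_of_epi (cokernel.π φ) X

lemma cokernel_π_apply_comp {F G : MVF A} (φ : F ⟶ G) (X : (Alg A)ᵒᵖᵒᵖ) (x : F.obj X) :
    (cokernel.π φ).app X (φ.app X x) = 0 := by
  rw [← comp_app_apply, app_congr (cokernel.condition φ)]; rfl

/-- pointwise exactness of the cokernel sequence -/
lemma mem_range_of_cokernel_π_eq_zero {F G : MVF A} (φ : F ⟶ G) (X : (Alg A)ᵒᵖᵒᵖ) (y : G.obj X)
    (hy : (cokernel.π φ).app X y = 0) : ∃ x : F.obj X, φ.app X x = y := by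
  have hex : (ShortComplex.mk φ (cokernel.π φ) (cokernel.condition φ)).Exact :=
    ShortComplex.exact_of_g_is_cokernel _ (cokernelIsCokernel φ)
  have h2 := hex.map (PresheafOfModules.evaluation (ringOf A) X)
  rw [ShortComplex.moduleCat_exact_iff] at h2
  exact h2 y hy

/-- a pointwise cokernel is isomorphic to the categorical cokernel -/
noncomputable def cokernelIsoOfPointwise {F G H : MVF A} (φ : F ⟶ G) (q : G ⟶ H)
    (hq : ∀ X, Function.Surjective (q.app X)) (h0 : φ ≫ q = 0)
    (hex : ∀ X (y : G.obj X), q.app X y = 0 → ∃ x : F.obj X, φ.app X x = y) :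
    cokernel φ ≅ H := by
  have h1 : cokernel.π φ ≫ cokernel.desc φ q h0 = q := cokernel.π_desc _ _ _
  have hm : Mono (cokernel.desc φ q h0) := by
    apply PresheafOfModules.mono_of_injective
    intro X
    rw [injective_iff_map_eq_zero]
    intro z hz
    obtain ⟨y, rfl⟩ := cokernel_π_surjective φ X z
    rw [← comp_app_apply, app_congr h1] at hz
    obtain ⟨x, rfl⟩ := hex X y hz
    exact cokernel_π_apply_comp φ X x
  have he : Epi (cokernel.desc φ q h0) := by
    apply PresheafOfModules.epi_of_surjective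
    intro X z
    obtain ⟨y, rfl⟩ := hq X z
    refine ⟨(cokernel.π φ).app X y, ?_⟩
    rw [← comp_app_apply, app_congr h1]
  haveI := isIso_of_mono_of_epi (cokernel.desc φ q h0)
  exact asIso (cokernel.desc φ q h0)

lemma π_cokernelIsoOfPointwise_hom {F G H : MVF A} (φ : F ⟶ G) (q : G ⟶ H)
    (hq : ∀ X, Function.Surjective (q.app X)) (h0 : φ ≫ q = 0)
    (hex : ∀ X (y : G.obj X), q.app X y = 0 → ∃ x : F.obj X, φ.app X x = y) :
    cokernel.π φ ≫ (cokernelIsoOfPointwise φ q hq h0 hex).hom = q := by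
  unfold cokernelIsoOfPointwise
  simp


section generalities


open DirectSum in
/-- elements of a coproduct of modules are finite sums of elements of the summands -/
theorem moduleCat_cofan_generation {R : Type u} [Ring R] {ι : Type w} (Z : ι → ModuleCat.{w} R)
    (P : ModuleCat.{w} R) (inj : ∀ i, Z i ⟶ P) (hc : IsColimit (Cofan.mk P inj)) (y : P) :
    ∃ (S : Finset ι) (x : ∀ i, Z i), y = ∑ i ∈ S, (inj i) (x i) := by
  classical
  let e := hc.coconePointUniqueUpToIso (ModuleCat.coproductCoconeIsColimit Z)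
  have he : ∀ i, inj i ≫ e.hom = ModuleCat.ofHom (DirectSum.lof R ι (fun i ↦ Z i) i) := fun i =>
    hc.comp_coconePointUniqueUpToIso_hom (ModuleCat.coproductCoconeIsColimit Z) ⟨i⟩
  let z : ⨁ i, Z i := e.hom y
  refine ⟨DFinsupp.support z, fun i => z i, ?_⟩
  have hinj : Function.Injective e.hom := by
    have : Mono e.hom := inferInstance
    exact (ModuleCat.mono_iff_injective _).mp this
  apply hinj
  rw [map_sum]
  have h2 : ∀ i, e.hom ((inj i) (z i)) = DirectSum.lof R ι (fun i ↦ Z i) i (z i) := by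
    intro i
    have := congrArg (fun f => (ConcreteCategory.hom f) (z i)) (he i)
    exact this
  simp only [h2]
  exact (DirectSum.sum_support_of z).symm



theorem pshMod_cofan_generation {C : Type v} [Category.{w} C] (R : Cᵒᵖ ⥤ RingCat.{u})
    {ι : Type (u+1)} (F : ι → PresheafOfModules.{u+1} R) (c : Cofan F) (hc : IsColimit c)
    (X : Cᵒᵖ) (y : c.pt.obj X) :
    ∃ (S : Finset ι) (x : ∀ i, (F i).obj X), y = ∑ i ∈ S, (c.inj i).app X (x i) := by
  have hc' : IsColimit (Cofan.mk c.pt c.inj) :=
    hc.ofIsoColimit (Cofan.ext (Iso.refl _) (by intro i; simp))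
  have h1 := isColimitCofanMkObjOfIsColimit (PresheafOfModules.evaluation R X) F c.inj hc'
  exact moduleCat_cofan_generation (fun i => (F i).obj X) (c.pt.obj X)
    (fun i => (c.inj i).app X) h1 y


end generalities

namespace DSAlg


variable {A : Type u} [CommRing A]

open DirectSum in
lemma sum_lof_component {ι : Type w} [DecidableEq ι] (M : ι → Type v) [∀ i, AddCommGroup (M i)]
    [∀ i, Module A (M i)] (m : ⨁ i, M i) :
    ∃ S : Finset ι, ∀ S' : Finset ι, S ⊆ S' →
      m = ∑ i ∈ S', DirectSum.lof A ι M i (DirectSum.component A ι M i m) := by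
  classical
  refine ⟨DFinsupp.support m, fun S' hS' => ?_⟩
  have h1 : ∑ i ∈ S', DirectSum.lof A ι M i (DirectSum.component A ι M i m) =
      ∑ i ∈ DFinsupp.support m, DirectSum.lof A ι M i (DirectSum.component A ι M i m) := by
    symm
    apply Finset.sum_subset hS'
    intro i _ hi
    have : DirectSum.component A ι M i m = 0 := by
      have h0 : m i = 0 := by simpa [DFinsupp.mem_support_iff] using hi
      exact h0
    rw [this, map_zero]
  rw [h1]
  exact (DirectSum.sum_support_of m).symm

open DirectSum in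
lemma lTensor_directSum_decomp {ι : Type w} [DecidableEq ι] (M : ι → Type v)
    [∀ i, AddCommGroup (M i)] [∀ i, Module A (M i)] (B : Type*) [AddCommGroup B] [Module A B]
    (η : B ⊗[A] (⨁ i, M i)) :
    ∃ S : Finset ι, ∀ S' : Finset ι, S ⊆ S' →
      η = ∑ i ∈ S', (DirectSum.lof A ι M i).lTensor B ((DirectSum.component A ι M i).lTensor B η) := by
  classical
  induction η using TensorProduct.induction_on with
  | zero => exact ⟨∅, fun S' _ => by simp⟩
  | tmul b m =>
    obtain ⟨S, hS⟩ := sum_lof_component (A := A) M m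
    refine ⟨S, fun S' hS' => ?_⟩
    simp only [LinearMap.lTensor_tmul]
    rw [← tmul_sum, ← hS S' hS']
  | add x y hx hy =>
    obtain ⟨S1, h1⟩ := hx
    obtain ⟨S2, h2⟩ := hy
    refine ⟨S1 ∪ S2, fun S' hS' => ?_⟩
    simp only [map_add, Finset.sum_add_distrib]
    rw [← h1 S' (Finset.union_subset_left hS'), ← h2 S' (Finset.union_subset_right hS')]


end DSAlg

namespace PushAlg


variable {A : Type u} [CommRing A]
variable {P P' M : Type v} [AddCommGroup P] [Module A P] [AddCommGroup P'] [Module A P']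
  [AddCommGroup M] [Module A M] (ψ : P →ₗ[A] P') (g : P →ₗ[A] M)

/-- `(g, -ψ) : P → M × P'` -/
def rel : P →ₗ[A] M × P' := g.prod (-ψ)

/-- the pushout module -/
abbrev Npush : Type v := (M × P') ⧸ LinearMap.range (rel ψ g)

/-- the cokernel of `ψ` -/
abbrev Tcok : Type v := P' ⧸ LinearMap.range ψ

/-- `M → N` -/
def aMap : M →ₗ[A] Npush ψ g := (LinearMap.range (rel ψ g)).mkQ ∘ₗ LinearMap.inl A M P'

/-- `N → T` -/
def cMap : Npush ψ g →ₗ[A] Tcok ψ :=
  (LinearMap.range (rel ψ g)).liftQ ((LinearMap.range ψ).mkQ ∘ₗ LinearMap.snd A M P') (by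
    rintro _ ⟨p, rfl⟩
    simp [rel])

lemma cMap_aMap : cMap ψ g ∘ₗ aMap ψ g = 0 := by
  ext m
  simp [cMap, aMap]

lemma cMap_surjective : Function.Surjective (cMap ψ g) := by
  intro t
  obtain ⟨p', rfl⟩ := Submodule.mkQ_surjective _ t
  exact ⟨(LinearMap.range (rel ψ g)).mkQ (0, p'), by simp [cMap]⟩

lemma exact_aMap_cMap : Function.Exact (aMap ψ g) (cMap ψ g) := by
  intro z
  constructor
  · intro hz
    obtain ⟨⟨m, p'⟩, rfl⟩ := Submodule.mkQ_surjective _ z
    have h1 : (LinearMap.range ψ).mkQ p' = 0 := by simpa [cMap] using hz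
    rw [Submodule.mkQ_apply, Submodule.Quotient.mk_eq_zero] at h1
    obtain ⟨p, rfl⟩ := h1
    refine ⟨m + g p, ?_⟩
    simp only [aMap, LinearMap.comp_apply, LinearMap.inl_apply, Submodule.mkQ_apply]
    rw [Submodule.Quotient.eq]
    refine ⟨p, ?_⟩
    simp [rel]
  · rintro ⟨m, rfl⟩
    exact LinearMap.congr_fun (cMap_aMap ψ g) m

variable (B : Type w) [AddCommGroup B] [Module A B]

lemma z1 (p : B ⊗[A] P) (hp : ψ.lTensor B p = 0) : (aMap ψ g).lTensor B (g.lTensor B p) = 0 := by
  have h1 : aMap ψ g ∘ₗ g = ((LinearMap.range (rel ψ g)).mkQ ∘ₗ LinearMap.inr A M P') ∘ₗ ψ := by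
    ext p
    simp only [aMap, LinearMap.comp_apply, LinearMap.inl_apply, LinearMap.inr_apply,
      Submodule.mkQ_apply]
    rw [Submodule.Quotient.eq]
    refine ⟨p, ?_⟩
    simp [rel]
  rw [← LinearMap.lTensor_comp_apply, h1, LinearMap.lTensor_comp_apply, hp, map_zero]

lemma e1 (m : B ⊗[A] M) (hm : (aMap ψ g).lTensor B m = 0) :
    ∃ p : B ⊗[A] P, ψ.lTensor B p = 0 ∧ g.lTensor B p = m := by
  have hex := lTensor_exact B (LinearMap.exact_map_mkQ_range (rel ψ g))
    (Submodule.mkQ_surjective _)
  have h1 : (LinearMap.range (rel ψ g)).mkQ.lTensor B ((LinearMap.inl A M P').lTensor B m) = 0 := by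
    rw [← LinearMap.lTensor_comp_apply]
    exact hm
  obtain ⟨p, hp⟩ := (hex _).mp h1
  refine ⟨p, ?_, ?_⟩
  · have h2 := congrArg ((LinearMap.snd A M P').lTensor B) hp
    rw [← LinearMap.lTensor_comp_apply, ← LinearMap.lTensor_comp_apply] at h2
    have h3 : LinearMap.snd A M P' ∘ₗ rel ψ g = -ψ := by ext; simp [rel]
    have h4 : LinearMap.snd A M P' ∘ₗ LinearMap.inl A M P' = 0 := by ext; simp
    rw [h3, h4, LinearMap.lTensor_zero, LinearMap.zero_apply, LinearMap.lTensor_neg,
      LinearMap.neg_apply, neg_eq_zero] at h2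
    exact h2
  · have h2 := congrArg ((LinearMap.fst A M P').lTensor B) hp
    rw [← LinearMap.lTensor_comp_apply, ← LinearMap.lTensor_comp_apply] at h2
    have h3 : LinearMap.fst A M P' ∘ₗ rel ψ g = g := by ext; simp [rel]
    have h4 : LinearMap.fst A M P' ∘ₗ LinearMap.inl A M P' = LinearMap.id := by ext; simp
    rw [h3, h4, LinearMap.lTensor_id, LinearMap.id_apply] at h2
    exact h2

lemma z2 (m : B ⊗[A] M) : (cMap ψ g).lTensor B ((aMap ψ g).lTensor B m) = 0 := by
  rw [← LinearMap.lTensor_comp_apply, cMap_aMap, LinearMap.lTensor_zero, LinearMap.zero_apply]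

lemma e2 (z : B ⊗[A] Npush ψ g) (hz : (cMap ψ g).lTensor B z = 0) :
    ∃ m : B ⊗[A] M, (aMap ψ g).lTensor B m = z :=
  ((lTensor_exact B (exact_aMap_cMap ψ g) (cMap_surjective ψ g)) z).mp hz


end PushAlg


section underlineLemmas

lemma underline_comp_apply {M N K : ModuleCat.{u + 1} A} (f : M ⟶ N) (g : N ⟶ K)
    (X : (Alg A)ᵒᵖᵒᵖ) (w : ((underline A).obj M).obj X) :
    ((underline A).map g).app X (((underline A).map f).app X w) =
      ((underline A).map (f ≫ g)).app X w := by
  rw [CategoryTheory.Functor.map_comp]; rfl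

lemma underline_id_apply {M : ModuleCat.{u + 1} A}
    (X : (Alg A)ᵒᵖᵒᵖ) (w : ((underline A).obj M).obj X) :
    ((underline A).map (𝟙 M)).app X w = w := by
  rw [CategoryTheory.Functor.map_id]; rfl

lemma underline_zero_apply {M N : ModuleCat.{u + 1} A}
    (X : (Alg A)ᵒᵖᵒᵖ) (w : ((underline A).obj M).obj X) :
    ((underline A).map (0 : M ⟶ N)).app X w = 0 := by
  rw [CategoryTheory.Functor.map_zero]; rfl

end underlineLemmas

section directSum

open DirectSum

variable {ι : Type (u + 1)} [DecidableEq ι]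

/-- direct sum of a family of modules, as an object of `ModuleCat` -/
noncomputable def dsObj (M : ι → ModuleCat.{u + 1} A) : ModuleCat.{u + 1} A :=
  ModuleCat.of A (⨁ i, M i)

/-- inclusion of a summand -/
noncomputable def dsIncl (M : ι → ModuleCat.{u + 1} A) (i : ι) : M i ⟶ dsObj M :=
  ModuleCat.ofHom (DirectSum.lof A ι (fun i => M i) i)

/-- projection to a summand -/
noncomputable def dsProj (M : ι → ModuleCat.{u + 1} A) (i : ι) : dsObj M ⟶ M i :=
  ModuleCat.ofHom (DirectSum.component A ι (fun i => M i) i)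

/-- direct sum of maps -/
noncomputable def dsMap {M N : ι → ModuleCat.{u + 1} A} (φ : ∀ i, M i ⟶ N i) : dsObj M ⟶ dsObj N :=
  ModuleCat.ofHom (DirectSum.lmap fun i => (φ i).hom)

/-- map out of a direct sum -/
noncomputable def dsDesc {M : ι → ModuleCat.{u + 1} A} {T : ModuleCat.{u + 1} A}
    (g : ∀ i, M i ⟶ T) : dsObj M ⟶ T :=
  ModuleCat.ofHom (DirectSum.toModule A ι T fun i => (g i).hom)

lemma dsIncl_dsMap {M N : ι → ModuleCat.{u + 1} A} (φ : ∀ i, M i ⟶ N i) (i : ι) :
    dsIncl M i ≫ dsMap φ = φ i ≫ dsIncl N i := by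
  ext x
  show (DirectSum.lmap fun i => (φ i).hom) (DirectSum.lof A ι (fun i => M i) i x) =
    DirectSum.lof A ι (fun i => N i) i ((φ i).hom x)
  rw [DirectSum.lmap_lof]

lemma dsMap_dsProj {M N : ι → ModuleCat.{u + 1} A} (φ : ∀ i, M i ⟶ N i) (i : ι) :
    dsMap φ ≫ dsProj N i = dsProj M i ≫ φ i := by
  ext x
  show DirectSum.component A ι (fun i => N i) i ((DirectSum.lmap fun i => (φ i).hom) x) =
    (φ i).hom (DirectSum.component A ι (fun i => M i) i x)
  rfl

lemma dsIncl_dsProj_self (M : ι → ModuleCat.{u + 1} A) (i : ι) :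
    dsIncl M i ≫ dsProj M i = 𝟙 _ := by
  ext x
  show DirectSum.component A ι (fun i => M i) i (DirectSum.lof A ι (fun i => M i) i x) = x
  rw [DirectSum.component.lof_self]

lemma dsIncl_dsProj_of_ne (M : ι → ModuleCat.{u + 1} A) {i k : ι} (h : k ≠ i) :
    dsIncl M k ≫ dsProj M i = 0 := by
  ext x
  show DirectSum.component A ι (fun i => M i) i (DirectSum.lof A ι (fun i => M i) k x) = 0
  rw [DirectSum.component.of, dif_neg h]

lemma dsIncl_dsDesc {M : ι → ModuleCat.{u + 1} A} {T : ModuleCat.{u + 1} A}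
    (g : ∀ i, M i ⟶ T) (i : ι) : dsIncl M i ≫ dsDesc g = g i := by
  ext x
  show (DirectSum.toModule A ι T fun i => (g i).hom) (DirectSum.lof A ι (fun i => M i) i x) =
    (g i).hom x
  rw [DirectSum.toModule_lof]

theorem isKer_directSum (M N : ι → ModuleCat.{u + 1} A) (φ : ∀ i, M i ⟶ N i) (F : ι → MVF A)
    (j : ∀ i, F i ⟶ (underline A).obj (M i)) (hj : ∀ i, IsKer (j i) ((underline A).map (φ i)))
    (c : Cofan F) (hc : IsColimit c) :
    IsKer (Cofan.IsColimit.desc hc (fun i => j i ≫ (underline A).map (dsIncl M i)))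
      ((underline A).map (dsMap φ)) := by
  set J := Cofan.IsColimit.desc hc (fun i => j i ≫ (underline A).map (dsIncl M i)) with hJ
  have hfac : ∀ i, c.inj i ≫ J = j i ≫ (underline A).map (dsIncl M i) := fun i =>
    Cofan.IsColimit.fac hc _ i
  have hfac' : ∀ i X (x : (F i).obj X), J.app X ((c.inj i).app X x) =
      ((underline A).map (dsIncl M i)).app X ((j i).app X x) := fun i X x => by
    rw [← comp_app_apply, app_congr (hfac i)]; rfl
  have hJsum : ∀ X (S : Finset ι) (x : ∀ i, (F i).obj X),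
      J.app X (∑ i ∈ S, (c.inj i).app X (x i)) =
        ∑ i ∈ S, ((underline A).map (dsIncl M i)).app X ((j i).app X (x i)) := by
    intro X S x
    rw [map_sum]
    exact Finset.sum_congr rfl (fun i _ => hfac' i X (x i))
  refine ⟨?_, ?_, ?_⟩
  · intro X
    rw [injective_iff_map_eq_zero]
    intro y hy
    obtain ⟨S, x, rfl⟩ := pshMod_cofan_generation (ringOf A) F c hc X y
    rw [hJsum] at hy
    refine Finset.sum_eq_zero (fun i₀ hi₀ => ?_)
    have h1 := congrArg (((underline A).map (dsProj M i₀)).app X) hy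
    rw [map_sum, map_zero] at h1
    rw [Finset.sum_eq_single i₀] at h1
    · rw [underline_comp_apply, dsIncl_dsProj_self, underline_id_apply] at h1
      have h2 : x i₀ = 0 := (hj i₀).inj X (h1.trans (map_zero _).symm)
      rw [h2, map_zero]
    · intro k _ hk
      rw [underline_comp_apply, dsIncl_dsProj_of_ne M hk, underline_zero_apply]
    · intro h; exact absurd hi₀ h
  · have h0 : J ≫ (underline A).map (dsMap φ) = 0 := by
      apply Cofan.IsColimit.hom_ext hc
      intro i
      rw [← Category.assoc, hfac i, Category.assoc, ← Functor.map_comp, dsIncl_dsMap,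
        Functor.map_comp, ← Category.assoc, (hj i).comp_eq_zero, zero_comp, comp_zero]
    intro X x
    rw [← comp_app_apply, app_congr h0]; rfl
  · intro X y hy
    have h1 : ∀ i, ∃ x : (F i).obj X, (j i).app X x = ((underline A).map (dsProj M i)).app X y := by
      intro i
      apply (hj i).exact X
      rw [underline_comp_apply, ← dsMap_dsProj, ← underline_comp_apply, hy, map_zero]
    choose x hx using h1
    obtain ⟨S, hS⟩ := DSAlg.lTensor_directSum_decomp (A := A) (fun i => M i)
      (X.unop.unop : Type u) y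
    refine ⟨∑ i ∈ S, (c.inj i).app X (x i), ?_⟩
    rw [hJsum]
    simp only [hx]
    exact (hS S (Finset.Subset.refl S)).symm

end directSum


section res

/-- pointwise exactness of `F → underline M → underline N → underline T` -/
structure IsRes {F : MVF A} {M N T : ModuleCat.{u + 1} A} (φ : F ⟶ (underline A).obj M)
    (a : M ⟶ N) (c : N ⟶ T) : Prop where
  zero₁ : ∀ X (x : F.obj X), ((underline A).map a).app X (φ.app X x) = 0
  exact₁ : ∀ X (y : ((underline A).obj M).obj X), ((underline A).map a).app X y = 0 →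
    ∃ x : F.obj X, φ.app X x = y
  zero₂ : a ≫ c = 0
  exact₂ : ∀ X (z : ((underline A).obj N).obj X), ((underline A).map c).app X z = 0 →
    ∃ y : ((underline A).obj M).obj X, ((underline A).map a).app X y = z

/-- the cokernel of `φ` is the kernel of `underline c` -/
noncomputable def IsRes.cokernelIso {F : MVF A} {M N T : ModuleCat.{u + 1} A}
    {φ : F ⟶ (underline A).obj M} {a : M ⟶ N} {c : N ⟶ T} (h : IsRes φ a c) :
    cokernel φ ≅ kernel ((underline A).map c) := by
  have hac : (underline A).map a ≫ (underline A).map c = 0 := by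
    rw [← CategoryTheory.Functor.map_comp, h.zero₂, CategoryTheory.Functor.map_zero]
  let q : (underline A).obj M ⟶ kernel ((underline A).map c) :=
    kernel.lift _ ((underline A).map a) hac
  have hq : q ≫ kernel.ι _ = (underline A).map a := kernel.lift_ι _ _ _
  have hq' : ∀ X (y : ((underline A).obj M).obj X),
      (kernel.ι ((underline A).map c)).app X (q.app X y) = ((underline A).map a).app X y :=
    fun X y => by rw [← comp_app_apply, app_congr hq]
  refine cokernelIsoOfPointwise φ q ?_ ?_ ?_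
  · intro X z
    obtain ⟨y, hy⟩ := h.exact₂ X ((kernel.ι ((underline A).map c)).app X z)
      (kernel_ι_comp_apply _ X z)
    refine ⟨y, ?_⟩
    apply kernel_ι_injective _ X
    rw [hq', hy]
  · rw [← cancel_mono (kernel.ι ((underline A).map c)), Category.assoc, hq, zero_comp]
    ext X x
    exact h.zero₁ X x
  · intro X y hy
    apply h.exact₁ X y
    rw [← hq', hy, map_zero]

lemma IsRes.adequate_cokernel {F : MVF A} {M N T : ModuleCat.{u + 1} A}
    {φ : F ⟶ (underline A).obj M} {a : M ⟶ N} {c : N ⟶ T} (h : IsRes φ a c) :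
    adequate A (cokernel φ) :=
  ⟨N, T, c, ⟨h.cokernelIso⟩⟩

lemma IsRes.of_epi_comp {F' F : MVF A} {M N T : ModuleCat.{u + 1} A}
    {φ : F ⟶ (underline A).obj M} {a : M ⟶ N} {c : N ⟶ T} (π : F' ⟶ F) [Epi π]
    (h : IsRes (π ≫ φ) a c) : IsRes φ a c where
  zero₁ X x := by
    obtain ⟨x', rfl⟩ := PresheafOfModules.surjective_of_epi π X x
    exact h.zero₁ X x'
  exact₁ X y hy := by
    obtain ⟨x', hx'⟩ := h.exact₁ X y hy
    exact ⟨π.app X x', hx'⟩
  zero₂ := h.zero₂
  exact₂ := h.exact₂

/-- the pushout construction -/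
theorem isRes_of_isKer {P P' M : ModuleCat.{u + 1} A} (ψ : P ⟶ P') (g : P ⟶ M) {L : MVF A}
    (J : L ⟶ (underline A).obj P) (hJ : IsKer J ((underline A).map ψ)) :
    ∃ (N T : ModuleCat.{u + 1} A) (a : M ⟶ N) (c : N ⟶ T),
      IsRes (J ≫ (underline A).map g) a c := by
  refine ⟨ModuleCat.of A (PushAlg.Npush ψ.hom g.hom), ModuleCat.of A (PushAlg.Tcok ψ.hom),
    ModuleCat.ofHom (PushAlg.aMap ψ.hom g.hom), ModuleCat.ofHom (PushAlg.cMap ψ.hom g.hom), ?_⟩
  refine ⟨?_, ?_, ?_, ?_⟩
  · intro X x
    exact PushAlg.z1 ψ.hom g.hom (X.unop.unop : Type u) (J.app X x) (hJ.zero X x)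
  · intro X y hy
    obtain ⟨p, hp1, hp2⟩ := PushAlg.e1 ψ.hom g.hom (X.unop.unop : Type u) y hy
    obtain ⟨x, hx⟩ := hJ.exact X p hp1
    refine ⟨x, ?_⟩
    rw [comp_app_apply, hx]
    exact hp2
  · ext x
    exact LinearMap.congr_fun (PushAlg.cMap_aMap ψ.hom g.hom) x
  · intro X z hz
    exact PushAlg.e2 ψ.hom g.hom (X.unop.unop : Type u) z hz

end res


section main

lemma add_app_apply {F G : MVF A} (a b : F ⟶ G) (X : (Alg A)ᵒᵖᵒᵖ) (x : F.obj X) :
    (a + b).app X x = a.app X x + b.app X x := rfl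

/-- every map from an adequate functor to `underline M` has an adequate cokernel, more precisely it
fits into a pointwise exact sequence `F → underline M → underline N → underline T`. -/
theorem exists_isRes (F : MVF A) (hF : adequate A F) {M : ModuleCat.{u + 1} A}
    (φ : F ⟶ (underline A).obj M) :
    ∃ (N T : ModuleCat.{u + 1} A) (a : M ⟶ N) (c : N ⟶ T), IsRes φ a c := by
  classical
  obtain ⟨ι, L, hL, c, hc, π, hπ⟩ := Groth.Agent.S8741.result A F hF
  choose P P' ψ j h1 h2 h3 h4 hj using fun i => (linAdequate_iff (L i)).mp (hL i)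
  have hg : ∀ i, ∃ g : P i ⟶ M, j i ≫ (underline A).map g = c.inj i ≫ π ≫ φ := by
    intro i
    have := h1 i; have := h2 i; have := h3 i; have := h4 i
    exact Groth.Agent.H92.AdeqExt.exists_lift_underline (P i) (P' i) M (ψ i) (j i) (hj i) _
  choose g hg using hg
  set J := Cofan.IsColimit.desc hc (fun i => j i ≫ (underline A).map (dsIncl P i)) with hJdef
  have hJ : IsKer J ((underline A).map (dsMap ψ)) := isKer_directSum P P' ψ L j hj c hc
  have hfac : ∀ i, c.inj i ≫ J = j i ≫ (underline A).map (dsIncl P i) := fun i =>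
    Cofan.IsColimit.fac hc _ i
  have hcomp : J ≫ (underline A).map (dsDesc g) = π ≫ φ := by
    apply Cofan.IsColimit.hom_ext hc
    intro i
    rw [← Category.assoc, hfac i, Category.assoc, ← CategoryTheory.Functor.map_comp,
      dsIncl_dsDesc, hg i]
  obtain ⟨N, T, a, c', hres⟩ := isRes_of_isKer (dsMap ψ) (dsDesc g) J hJ
  rw [hcomp] at hres
  exact ⟨N, T, a, c', hres.of_epi_comp π⟩

lemma adequate_underline (N : ModuleCat.{u + 1} A) : adequate A ((underline A).obj N) := by
  refine (adequate_iff _).mpr ⟨N, N, 0, 𝟙 _, ⟨?_, ?_, ?_⟩⟩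
  · intro X x y hxy; exact hxy
  · intro X x; exact underline_zero_apply X _
  · intro X y _; exact ⟨y, rfl⟩

/-- the kernel of a map of adequate functors is adequate (= S8744) -/
theorem adequate_kernel {F G : MVF A} (φ : F ⟶ G) (hF : adequate A F) (hG : adequate A G) :
    adequate A (kernel φ) := by
  obtain ⟨M, N, a, jF, hjF⟩ := (adequate_iff F).mp hF
  obtain ⟨M', N', a', jG, hjG⟩ := (adequate_iff G).mp hG
  let θ : F ⟶ (underline A).obj (M ⊞ M') :=
    jF ≫ (underline A).map biprod.inl + φ ≫ jG ≫ (underline A).map biprod.inr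
  have hθ : ∀ X (x : F.obj X), θ.app X x =
      ((underline A).map (biprod.inl : M ⟶ M ⊞ M')).app X (jF.app X x) +
      ((underline A).map (biprod.inr : M' ⟶ M ⊞ M')).app X (jG.app X (φ.app X x)) :=
    fun X x => rfl
  obtain ⟨N₁, T, a₁, c, hres⟩ := exists_isRes F hF θ
  refine (adequate_iff _).mpr ⟨M, N₁, biprod.inl ≫ a₁, kernel.ι φ ≫ jF, ⟨?_, ?_, ?_⟩⟩
  · intro X x y hxy
    apply kernel_ι_injective φ X
    apply hjF.inj X
    exact hxy
  · intro X x
    have h1 : φ.app X ((kernel.ι φ).app X x) = 0 := kernel_ι_comp_apply φ X x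
    have h2 := hres.zero₁ X ((kernel.ι φ).app X x)
    rw [hθ, h1, map_zero, map_zero, add_zero, underline_comp_apply] at h2
    exact h2
  · intro X y hy
    rw [← underline_comp_apply] at hy
    obtain ⟨x', hx'⟩ := hres.exact₁ X _ hy
    rw [hθ] at hx'
    have e1 := congrArg (((underline A).map (biprod.fst : M ⊞ M' ⟶ M)).app X) hx'
    rw [map_add, underline_comp_apply, underline_comp_apply, underline_comp_apply,
      biprod.inl_fst, biprod.inr_fst, underline_id_apply, underline_zero_apply, add_zero] at e1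
    have e2 := congrArg (((underline A).map (biprod.snd : M ⊞ M' ⟶ M')).app X) hx'
    rw [map_add, underline_comp_apply, underline_comp_apply, underline_comp_apply,
      biprod.inl_snd, biprod.inr_snd, underline_id_apply, underline_zero_apply,
      underline_zero_apply, zero_add] at e2
    have e3 : φ.app X x' = 0 := hjG.inj X (e2.trans (map_zero _).symm)
    obtain ⟨x, hx⟩ := mem_range_kernel_ι φ X x' e3
    refine ⟨x, ?_⟩
    rw [comp_app_apply, hx, e1]
    exact underline_id_apply X y

/-- the cokernel of a map of adequate functors is adequate (= S8743) -/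
theorem adequate_cokernel {F G : MVF A} (φ : F ⟶ G) (hF : adequate A F) (hG : adequate A G) :
    adequate A (cokernel φ) := by
  obtain ⟨M', N', a', jG, hjG⟩ := (adequate_iff G).mp hG
  let θ : F ⟶ (underline A).obj M' := φ ≫ jG
  obtain ⟨N₁, T, a₁, c, hres⟩ := exists_isRes F hF θ
  have hH : adequate A (cokernel θ) := hres.adequate_cokernel
  have hd0 : θ ≫ (underline A).map a' = 0 := by
    rw [Category.assoc, hjG.comp_eq_zero, comp_zero]
  let d : cokernel θ ⟶ (underline A).obj N' := cokernel.desc θ ((underline A).map a') hd0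
  have hd : cokernel.π θ ≫ d = (underline A).map a' := cokernel.π_desc _ _ _
  have hK : adequate A (kernel d) := adequate_kernel d hH (adequate_underline N')
  have hk0 : φ ≫ jG ≫ cokernel.π θ = 0 := by
    rw [← Category.assoc]; exact cokernel.condition θ
  let k : cokernel φ ⟶ cokernel θ := cokernel.desc φ (jG ≫ cokernel.π θ) hk0
  have hk : cokernel.π φ ≫ k = jG ≫ cokernel.π θ := cokernel.π_desc _ _ _
  have hk' : ∀ X (y : G.obj X), k.app X ((cokernel.π φ).app X y) =
      (cokernel.π θ).app X (jG.app X y) := fun X y => by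
    rw [← comp_app_apply, app_congr hk]; rfl
  have hd' : ∀ X (w : ((underline A).obj M').obj X), d.app X ((cokernel.π θ).app X w) =
      ((underline A).map a').app X w := fun X w => by
    rw [← comp_app_apply, app_congr hd]
  have hker : IsKer k d := by
    refine ⟨?_, ?_, ?_⟩
    · intro X
      rw [injective_iff_map_eq_zero]
      intro z hz
      obtain ⟨y, rfl⟩ := cokernel_π_surjective φ X z
      rw [hk'] at hz
      obtain ⟨x, hx⟩ := mem_range_of_cokernel_π_eq_zero θ X _ hz
      have : φ.app X x = y := hjG.inj X hx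
      rw [← this]
      exact cokernel_π_apply_comp φ X x
    · intro X z
      obtain ⟨y, rfl⟩ := cokernel_π_surjective φ X z
      rw [hk', hd']
      exact hjG.zero X y
    · intro X w' hw'
      obtain ⟨w, rfl⟩ := cokernel_π_surjective θ X w'
      rw [hd'] at hw'
      obtain ⟨y, hy⟩ := hjG.exact X w hw'
      refine ⟨(cokernel.π φ).app X y, ?_⟩
      rw [hk', hy]
  exact (adequate A).prop_of_iso hker.iso.symm hK

/-- coproducts of adequate functors are adequate -/
theorem adequate_sigma {ι : Type (u + 1)} (F : ι → MVF A) (hF : ∀ i, adequate A (F i)) :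
    adequate A (∐ F) := by
  classical
  choose M N a j hj using fun i => (adequate_iff (F i)).mp (hF i)
  have h := isKer_directSum M N a F j hj (Cofan.mk (∐ F) (Sigma.ι F)) (coproductIsCoproduct F)
  exact (adequate_iff _).mpr ⟨_, _, _, _, h⟩

open HasColimitOfHasCoproductsOfHasCoequalizers in
/-- colimits of adequate functors are adequate (= S8745) -/
theorem adequate_colimit {J : Type (u + 1)} [SmallCategory J] (D : J ⥤ MVF A)
    (hD : ∀ j, adequate A (D.obj j)) : adequate A (colimit D) := by
  let s : (∐ fun f : Σ p : J × J, p.1 ⟶ p.2 => D.obj f.1.1) ⟶ ∐ D.obj :=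
    Sigma.desc fun f => D.map f.2 ≫ colimit.ι (Discrete.functor D.obj) ⟨f.1.2⟩
  let t : (∐ fun f : Σ p : J × J, p.1 ⟶ p.2 => D.obj f.1.1) ⟶ ∐ D.obj :=
    Sigma.desc fun f => colimit.ι (Discrete.functor D.obj) ⟨f.1.1⟩
  let cc : CokernelCofork (s - t) := CokernelCofork.ofπ (cokernel.π (s - t)) (cokernel.condition _)
  have hcc : IsColimit cc := cokernelIsCokernel (s - t)
  have hi := Preadditive.isColimitCoforkOfCokernelCofork hcc
  have hcol := buildIsColimit s t (by simp [s]) (by simp [t])
    (colimit.isColimit _) (colimit.isColimit _) hi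
  have e : colimit D ≅ cokernel (s - t) :=
    (colimit.isColimit D).coconePointUniqueUpToIso hcol
  have h1 : adequate A (∐ fun f : Σ p : J × J, p.1 ⟶ p.2 => D.obj f.1.1) :=
    adequate_sigma _ (fun f => hD f.1.1)
  have h2 : adequate A (∐ D.obj) := adequate_sigma _ hD
  exact (adequate A).prop_of_iso e.symm (adequate_cokernel (s - t) h1 h2)

end main

end Groth.Agent.H92.AdeqCok
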