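import Mathlib.Algebra.Homology.ShortComplex.HomologicalComplex
import Mathlib.Algebra.Homology.ShortComplex.Exact
import Mathlib.Algebra.Homology.ShortComplex.ShortExact
import Mathlib.CategoryTheory.Abelian.Basic

/-!
# Acyclic resolutions compute a contravariant δ-functor (helper92)

Abstract dimension shifting.  `T p M` is a family of objects (contravariant in `M` through `Tm`), with the long exact
sequence (in existence form) for every short exact sequence.  For a resolution of `B 0` spliced from short exact sequences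
`0 ⟶ B (j+1) ⟶ Lx j ⟶ B j ⟶ 0` with `T p (Lx j) = 0` for `p ≥ 1`, the cohomology of `T 0 (Lx •)` is `T • (B 0)`.
-/

set_option autoImplicit false

namespace Groth.Agent.H92.AcyclicRes

open CategoryTheory Limits

universe v₁ v₂ u₁ u₂

variable {𝒜 : Type u₁} [Category.{v₁} 𝒜] [Abelian 𝒜] {ℬ : Type u₂} [Category.{v₂} ℬ] [Abelian ℬ]
  (T : ℕ → 𝒜 → ℬ) (Tm : ∀ (p : ℕ) {M M' : 𝒜} (_ : M' ⟶ M), T p M ⟶ T p M')

/-- The long exact sequence property, in existence form. -/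
def HasLES : Prop :=
  ∀ (S : ShortComplex 𝒜), S.ShortExact →
    Mono (Tm 0 S.g) ∧
    (∀ p : ℕ, ∃ w : Tm p S.g ≫ Tm p S.f = 0, (ShortComplex.mk _ _ w).Exact) ∧
    ∃ δ : ∀ p : ℕ, T p S.X₁ ⟶ T (p + 1) S.X₃,
      ∀ p : ℕ,
        (∃ w : Tm p S.f ≫ δ p = 0, (ShortComplex.mk _ _ w).Exact) ∧
        (∃ w : δ p ≫ Tm (p + 1) S.g = 0, (ShortComplex.mk _ _ w).Exact)

variable {T Tm}
  (hcomp : ∀ (p : ℕ) {M M' M'' : 𝒜} (g : M' ⟶ M) (g' : M'' ⟶ M'), Tm p (g' ≫ g) = Tm p g ≫ Tm p g')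
  (hles : HasLES T Tm)
  (B Lx : ℕ → 𝒜) (ι : ∀ j, B (j + 1) ⟶ Lx j) (ρ : ∀ j, Lx j ⟶ B j) (z : ∀ j, ι j ≫ ρ j = 0)
  (hE : ∀ j, (ShortComplex.mk (ι j) (ρ j) (z j)).ShortExact)
  (hacy : ∀ (j p : ℕ), IsZero (T (p + 1) (Lx j)))

theorem isColimit_congr {X Y Z : ℬ} {f f' : X ⟶ Y} (h : f = f') {π : Y ⟶ Z} (w : f ≫ π = 0)
    (w' : f' ≫ π = 0) (hc : IsColimit (CokernelCofork.ofπ π w)) :
    Nonempty (IsColimit (CokernelCofork.ofπ π w')) := by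
  subst h
  exact ⟨hc⟩

include hles hE hacy in
theorem shift_iso (j p : ℕ) : Nonempty (T (p + 1) (B (j + 1)) ≅ T (p + 2) (B j)) := by
  obtain ⟨-, -, δ, hδ⟩ := hles _ (hE j)
  obtain ⟨⟨w1, e1⟩, ⟨w2, e2⟩⟩ := hδ (p + 1)
  have hm : Mono (δ (p + 1)) := e1.mono_g ((hacy j p).eq_of_src _ _)
  have he : Epi (δ (p + 1)) := e2.epi_f ((hacy j (p + 1)).eq_of_tgt _ _)
  have : IsIso (δ (p + 1)) := isIso_of_mono_of_epi _
  exact ⟨asIso (δ (p + 1))⟩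

include hles hE hacy in
theorem shift_iso' (k : ℕ) : ∀ (j m : ℕ), m = j + k → Nonempty (T (k + 1) (B j) ≅ T 1 (B m)) := by
  induction k with
  | zero =>
    intro j m hm
    obtain rfl : m = j := by omega
    exact ⟨Iso.refl _⟩
  | succ k ih =>
    intro j m hm
    obtain ⟨e1⟩ := ih (j + 1) m (by omega)
    obtain ⟨e2⟩ := shift_iso hles B Lx ι ρ z hE hacy j k
    exact ⟨e2.symm ≪≫ e1⟩

include hles hE in
theorem Tm_ρ_ι (j : ℕ) : Tm 0 (ρ j) ≫ Tm 0 (ι j) = 0 := by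
  obtain ⟨-, h2, -⟩ := hles _ (hE j)
  obtain ⟨w, -⟩ := h2 0
  exact w

include hcomp hles hE in
theorem Tm_ρ_d (j : ℕ) : Tm 0 (ρ j) ≫ Tm 0 (ρ (j + 1) ≫ ι j) = 0 := by
  rw [hcomp, ← Category.assoc, Tm_ρ_ι hles B Lx ι ρ z hE, zero_comp]

include hcomp hles hE in
/-- `T⁰(B j)` is the kernel of `T⁰(Lx j) ⟶ T⁰(Lx (j+1))`. -/
theorem isKernel (j : ℕ) :
    Nonempty (IsLimit (KernelFork.ofι (Tm 0 (ρ j)) (Tm_ρ_d hcomp hles B Lx ι ρ z hE j))) := by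
  obtain ⟨hm, h2, -⟩ := hles _ (hE j)
  obtain ⟨w, hex⟩ := h2 0
  obtain ⟨hm', -, -⟩ := hles _ (hE (j + 1))
  have hm1 : Mono (Tm 0 (ρ j)) := hm
  have hm2 : Mono (Tm 0 (ρ (j + 1))) := hm'
  have hk : IsLimit (KernelFork.ofι (Tm 0 (ρ j)) w) := by
    have : Mono (ShortComplex.mk (Tm 0 (ρ j)) (Tm 0 (ι j)) w).f := hm1
    exact hex.fIsKernel
  exact ⟨isKernelCompMono hk (Tm 0 (ρ (j + 1))) (hcomp 0 _ _)⟩

include hles hE hacy in
/-- `T¹(B j)` is the cokernel of `T⁰(Lx j) ⟶ T⁰(B (j+1))`. -/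
theorem isCokernel (j : ℕ) :
    ∃ (π : T 0 (B (j + 1)) ⟶ T 1 (B j)) (w : Tm 0 (ι j) ≫ π = 0),
      Nonempty (IsColimit (CokernelCofork.ofπ π w)) := by
  obtain ⟨-, -, δ, hδ⟩ := hles _ (hE j)
  obtain ⟨⟨w1, e1⟩, ⟨w2, e2⟩⟩ := hδ 0
  have he : Epi (δ 0) := e2.epi_f ((hacy j 0).eq_of_tgt _ _)
  refine ⟨δ 0, w1, ⟨?_⟩⟩
  have : Epi (ShortComplex.mk (Tm 0 (ι j)) (δ 0) w1).g := he
  exact e1.gIsCokernel

include hcomp hles hE in
/-- The short complex `T⁰(Lx i) ⟶ T⁰(Lx (i+1)) ⟶ T⁰(Lx (i+2))`. -/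
noncomputable abbrev sx (i : ℕ) : ShortComplex ℬ :=
  ShortComplex.mk (Tm 0 (ρ (i + 1) ≫ ι i)) (Tm 0 (ρ (i + 2) ≫ ι (i + 1))) (by
    rw [hcomp 0 (ι i), Category.assoc, Tm_ρ_d hcomp hles B Lx ι ρ z hE, comp_zero])

include hacy in
theorem sx_homology (i : ℕ) :
    Nonempty ((sx hcomp hles B Lx ι ρ z hE i).homology ≅ T 1 (B i)) := by
  obtain ⟨hk⟩ := isKernel hcomp hles B Lx ι ρ z hE (i + 1)
  obtain ⟨π, w, ⟨hc⟩⟩ := isCokernel hles B Lx ι ρ z hE hacy i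
  obtain ⟨hm, -, -⟩ := hles _ (hE (i + 1))
  have hm1 : Mono (Tm 0 (ρ (i + 1))) := hm
  have hlift : hk.lift (KernelFork.ofι (sx hcomp hles B Lx ι ρ z hE i).f
      (sx hcomp hles B Lx ι ρ z hE i).zero) = Tm 0 (ι i) := by
    rw [← cancel_mono (Tm 0 (ρ (i + 1)))]
    have h1 := hk.fac (KernelFork.ofι (sx hcomp hles B Lx ι ρ z hE i).f
      (sx hcomp hles B Lx ι ρ z hE i).zero) WalkingParallelPair.zero
    exact h1.trans (hcomp 0 _ _)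
  let h : (sx hcomp hles B Lx ι ρ z hE i).LeftHomologyData :=
    { K := T 0 (B (i + 1))
      H := T 1 (B i)
      i := Tm 0 (ρ (i + 1))
      π := π
      wi := Tm_ρ_d hcomp hles B Lx ι ρ z hE (i + 1)
      hi := hk
      wπ := (congrArg (· ≫ π) hlift).trans w
      hπ := (isColimit_congr hlift.symm w _ hc).some }
  exact ⟨h.homologyIso⟩

variable (C : CochainComplex ℬ ℕ) (e : ∀ j, C.X j ≅ T 0 (Lx j))
  (hC : ∀ j, C.d j (j + 1) ≫ (e (j + 1)).hom = (e j).hom ≫ Tm 0 (ρ (j + 1) ≫ ι j))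

include hcomp hles hE hacy hC in
theorem homology_succ (i : ℕ) : Nonempty (C.homology (i + 1) ≅ T (i + 1) (B 0)) := by
  obtain ⟨e1⟩ := sx_homology hcomp hles B Lx ι ρ z hE hacy i
  obtain ⟨e2⟩ := shift_iso' hles B Lx ι ρ z hE hacy i 0 i (by omega)
  have e3 : C.sc' i (i + 1) (i + 2) ≅ sx hcomp hles B Lx ι ρ z hE i :=
    ShortComplex.isoMk (e i) (e (i + 1)) (e (i + 2)) (hC i).symm (hC (i + 1)).symm
  exact ⟨C.homologyIsoSc' i (i + 1) (i + 2) (CochainComplex.prev_nat_succ i)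
    (CochainComplex.next ℕ (i + 1)) ≪≫ ShortComplex.homologyMapIso e3 ≪≫ e1 ≪≫ e2.symm⟩

include hcomp hles hE hC in
theorem homology_zero : Nonempty (C.homology 0 ≅ T 0 (B 0)) := by
  obtain ⟨hk⟩ := isKernel hcomp hles B Lx ι ρ z hE 0
  let S0 : ShortComplex ℬ :=
    ShortComplex.mk (0 : T 0 (Lx 0) ⟶ T 0 (Lx 0)) (Tm 0 (ρ 1 ≫ ι 0)) zero_comp
  let h : S0.LeftHomologyData := ShortComplex.LeftHomologyData.ofIsLimitKernelFork S0 rfl _ hk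
  have hd : C.d 0 0 = 0 := C.shape _ _ (by simp)
  have e3 : C.sc' 0 0 1 ≅ S0 :=
    ShortComplex.isoMk (e 0) (e 0) (e 1)
      (by
        show (e 0).hom ≫ 0 = C.d 0 0 ≫ (e 0).hom
        rw [hd, zero_comp, comp_zero]) (hC 0).symm
  exact ⟨C.homologyIsoSc' 0 0 1 CochainComplex.prev_nat_zero (CochainComplex.next ℕ 0) ≪≫
    ShortComplex.homologyMapIso e3 ≪≫ h.homologyIso⟩

include hcomp hles hE hacy hC in
theorem homology_iso (i : ℕ) : Nonempty (C.homology i ≅ T i (B 0)) := by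
  cases i with
  | zero => exact homology_zero hcomp hles B Lx ι ρ z hE C e hC
  | succ i => exact homology_succ hcomp hles B Lx ι ρ z hE hacy C e hC i

end Groth.Agent.H92.AcyclicRes
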