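import Mathlib
import Groth.Prelude.Def_Adeq
import Groth.Agent.H92.AdeqBase
import Groth.Agent.H92.AdeqLin
import Groth.Agent.H92.AdeqExt
import Groth.Agent.H92.AdeqCok

/-!
# Lifting maps from linearly adequate functors along epimorphisms with adequate kernel (helper92)
-/

set_option autoImplicit false
set_option linter.unusedSectionVars false
universe u v w
open CategoryTheory Limits Opposite TensorProduct Submodule

namespace Groth.Agent.H92.AdeqEps

open Adeq Groth.Agent.H92.AdeqBase Groth.Agent.H92.AdeqExt Groth.Agent.H92.AdeqCok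

section alg

variable {A : Type u} [CommRing A]
variable {B : Type u} [CommRing B] [Algebra A B]
variable {B' : Type u} [CommRing B'] [Algebra A B']
variable {K : Type u} [AddCommGroup K] [Module A K] [Module Aᵐᵒᵖ K] [IsCentralScalar A K]
variable {K' : Type u} [AddCommGroup K'] [Module A K'] [Module Aᵐᵒᵖ K'] [IsCentralScalar A K']

/-- the algebra map `A ⊕ εK → B[ε]` attached to a linear map `K → B` -/
noncomputable def Flift (f : K →ₗ[A] B) : TrivSqZeroExt A K →ₐ[A] TrivSqZeroExt B B :=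
  TrivSqZeroExt.liftEquivOfComm
    ⟨(TrivSqZeroExt.inrHom B B).restrictScalars A ∘ₗ f, fun _ _ => TrivSqZeroExt.inr_mul_inr _ _ _⟩

lemma Flift_apply (f : K →ₗ[A] B) (c : TrivSqZeroExt A K) :
    Flift f c = TrivSqZeroExt.inl (algebraMap A B c.fst) + TrivSqZeroExt.inr (f c.snd) := by
  unfold Flift
  rw [TrivSqZeroExt.liftEquivOfComm_apply, TrivSqZeroExt.lift_def]
  rfl

lemma Flift_inr (f : K →ₗ[A] B) (x : K) :
    Flift f (TrivSqZeroExt.inr x) = TrivSqZeroExt.inr (f x) := by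
  rw [Flift_apply]; simp

lemma Flift_comp_map (f : K →ₗ[A] B) (h : K' →ₗ[A] K) :
    (Flift f).comp (TrivSqZeroExt.map h) = Flift (f ∘ₗ h) := by
  apply AlgHom.ext
  intro c
  rw [AlgHom.comp_apply, Flift_apply, Flift_apply, TrivSqZeroExt.fst_map, TrivSqZeroExt.snd_map]
  rfl

/-- the map `B[ε] → B'[ε]` induced by an algebra map -/
noncomputable def epsMap (h : B →ₐ[A] B') : TrivSqZeroExt B B →ₐ[A] TrivSqZeroExt B' B' :=
  TrivSqZeroExt.lift ((TrivSqZeroExt.inlAlgHom A B' B').comp h)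
    ((TrivSqZeroExt.inrHom B' B').restrictScalars A ∘ₗ h.toLinearMap)
    (fun _ _ => TrivSqZeroExt.inr_mul_inr _ _ _)
    (fun r x => by
      simp only [LinearMap.comp_apply, AlgHom.toLinearMap_apply, AlgHom.comp_apply, smul_eq_mul,
        map_mul]
      apply TrivSqZeroExt.ext <;> simp [TrivSqZeroExt.inrHom, mul_comm])
    (fun r x => by
      simp only [LinearMap.comp_apply, AlgHom.toLinearMap_apply, AlgHom.comp_apply]
      apply TrivSqZeroExt.ext <;> simp [TrivSqZeroExt.inrHom, mul_comm])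

lemma epsMap_apply (h : B →ₐ[A] B') (c : TrivSqZeroExt B B) :
    epsMap h c = TrivSqZeroExt.inl (h c.fst) + TrivSqZeroExt.inr (h c.snd) := by
  unfold epsMap
  rw [TrivSqZeroExt.lift_def]
  rfl

lemma epsMap_comp_Flift (h : B →ₐ[A] B') (f : K →ₗ[A] B) :
    (epsMap h).comp (Flift f) = Flift (h.toLinearMap ∘ₗ f) := by
  apply AlgHom.ext
  intro c
  rw [AlgHom.comp_apply, Flift_apply, Flift_apply, epsMap_apply]
  simp

lemma epsMap_comp_inl (h : B →ₐ[A] B') :
    (epsMap h).comp (TrivSqZeroExt.inlAlgHom A B B) = (TrivSqZeroExt.inlAlgHom A B' B').comp h := by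
  apply AlgHom.ext
  intro c
  rw [AlgHom.comp_apply, epsMap_apply]
  simp

lemma epsMap_eps (h : B →ₐ[A] B') : epsMap h (eps B) = eps B' := by
  rw [epsMap_apply]; simp [eps]

/-- the `B`-algebra endomorphism `b₀ + ε b₁ ↦ b₀ + ε β b₁` of `B[ε]`, as an `A`-algebra map -/
noncomputable def muMap (β : B) : TrivSqZeroExt B B →ₐ[A] TrivSqZeroExt B B :=
  (TrivSqZeroExt.map (β • (LinearMap.id : B →ₗ[B] B))).restrictScalars A

lemma muMap_apply (β : B) (c : TrivSqZeroExt B B) :
    muMap (A := A) β c = TrivSqZeroExt.inl c.fst + TrivSqZeroExt.inr (β * c.snd) := by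
  apply TrivSqZeroExt.ext
  · simp [muMap]
  · simp [muMap]

lemma muMap_comp_Flift (β : B) (f : K →ₗ[A] B) :
    (muMap β).comp (Flift f) = Flift (β • f) := by
  apply AlgHom.ext
  intro c
  rw [AlgHom.comp_apply, Flift_apply, Flift_apply, muMap_apply]
  simp

lemma muMap_comp_inl (β : B) :
    (muMap (A := A) β).comp (TrivSqZeroExt.inlAlgHom A B B) = TrivSqZeroExt.inlAlgHom A B B := by
  apply AlgHom.ext
  intro c
  rw [AlgHom.comp_apply, muMap_apply]
  simp

lemma muMap_eps (β : B) : muMap (A := A) β (eps B) = TrivSqZeroExt.inr β := by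
  rw [muMap_apply]; simp [eps]

lemma fst_comp_Flift (f : K →ₗ[A] B) :
    (TrivSqZeroExt.fstHom A B B).comp (Flift f) =
      (Algebra.ofId A B).comp (TrivSqZeroExt.fstHom A A K) := by
  apply AlgHom.ext
  intro c
  rw [AlgHom.comp_apply, Flift_apply]
  simp [Algebra.ofId_apply]

end alg


section mapA

variable {A : Type u} [CommRing A]

/-- the value of a module-valued functor on an unbundled algebra -/
abbrev val (F : MVF A) (B : Type u) [CommRing B] [Algebra A B] : ModuleCat.{u + 1} B :=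
  F.obj (pt (algOf A B))

/-- the map on values induced by a map of unbundled algebras -/
noncomputable def mapA (F : MVF A) {B B' : Type u} [CommRing B] [Algebra A B] [CommRing B']
    [Algebra A B'] (a : B →ₐ[A] B') (x : val F B) : val F B' :=
  F.map (ptHom (CommAlgCat.ofHom a)) x

variable (F G : MVF A) {B B' B'' : Type u} [CommRing B] [Algebra A B] [CommRing B'] [Algebra A B']
  [CommRing B''] [Algebra A B'']

lemma mapA_add (a : B →ₐ[A] B') (x y : val F B) : mapA F a (x + y) = mapA F a x + mapA F a y :=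
  map_add _ x y

lemma mapA_zero (a : B →ₐ[A] B') : mapA F a (0 : val F B) = 0 := map_zero _

lemma mapA_sub (a : B →ₐ[A] B') (x y : val F B) : mapA F a (x - y) = mapA F a x - mapA F a y :=
  map_sub _ x y

lemma mapA_neg (a : B →ₐ[A] B') (x : val F B) : mapA F a (-x) = -mapA F a x :=
  map_neg _ x

lemma mapA_smul (a : B →ₐ[A] B') (b : B) (x : val F B) :
    mapA F a (b • x) = (a b : B') • mapA F a x :=
  PresheafOfModules.map_smul F (ptHom (CommAlgCat.ofHom a)) b x

lemma mapA_comp (a : B →ₐ[A] B') (a' : B' →ₐ[A] B'') (x : val F B) :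
    mapA F a' (mapA F a x) = mapA F (a'.comp a) x :=
  (PresheafOfModules.map_comp_apply F (ptHom (CommAlgCat.ofHom a)) (ptHom (CommAlgCat.ofHom a')) x).symm

lemma mapA_id (x : val F B) : mapA F (AlgHom.id A B) x = x := by
  have h : ptHom (CommAlgCat.ofHom (AlgHom.id A B)) = 𝟙 (pt (algOf A B)) := rfl
  unfold mapA
  rw [h, F.map_id]
  rfl

variable {F G}

lemma mapA_natural (α : F ⟶ G) (a : B →ₐ[A] B') (x : val F B) :
    α.app _ (mapA F a x) = mapA G a (α.app _ x) :=
  PresheafOfModules.naturality_apply α (ptHom (CommAlgCat.ofHom a)) x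

lemma mapA_underline (K : ModuleCat.{u + 1} A) (a : B →ₐ[A] B') (w : B ⊗[A] K) :
    mapA ((underline A).obj K) a w = a.toLinearMap.rTensor K w := rfl

end mapA


section eps

variable {A : Type u} [CommRing A]

/-- `x ↦ ε • F(inl)(x)` from `F(B)` to `F(B[ε])` -/
noncomputable def Dmap (F : MVF A) (B : Type u) [CommRing B] [Algebra A B] (x : val F B) :
    val F (TrivSqZeroExt B B) :=
  (eps B : TrivSqZeroExt B B) • mapA F (TrivSqZeroExt.inlAlgHom A B B) x

variable (F : MVF A) {G : MVF A} {B B' : Type u} [CommRing B] [Algebra A B] [CommRing B'] [Algebra A B']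

lemma Dmap_add (x y : val F B) : Dmap F B (x + y) = Dmap F B x + Dmap F B y := by
  unfold Dmap; rw [mapA_add, smul_add]

lemma Dmap_zero : Dmap F B (0 : val F B) = 0 := by
  unfold Dmap; rw [mapA_zero, smul_zero]

lemma Dmap_sub (x y : val F B) : Dmap F B (x - y) = Dmap F B x - Dmap F B y := by
  unfold Dmap; rw [mapA_sub, smul_sub]

variable {F}

lemma Dmap_natural (α : F ⟶ G) (x : val F B) :
    α.app _ (Dmap F B x) = Dmap G B (α.app _ x) := by
  unfold Dmap
  have h := (α.app (pt (algOf A (TrivSqZeroExt B B)))).hom.map_smul (eps B : TrivSqZeroExt B B)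
    (mapA F (TrivSqZeroExt.inlAlgHom A B B) x)
  refine h.trans ?_
  rw [← mapA_natural]

variable (F)

lemma mapA_fst_Dmap (x : val F B) : mapA F (TrivSqZeroExt.fstHom A B B) (Dmap F B x) = 0 := by
  unfold Dmap
  rw [mapA_smul]
  have : (TrivSqZeroExt.fstHom A B B) (eps B) = 0 := by simp [eps]
  rw [this, zero_smul]

lemma mapA_epsMap_Dmap (h : B →ₐ[A] B') (x : val F B) :
    mapA F (epsMap h) (Dmap F B x) = Dmap F B' (mapA F h x) := by
  unfold Dmap
  rw [mapA_smul, epsMap_eps, mapA_comp, mapA_comp, epsMap_comp_inl]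

lemma mapA_muMap_Dmap (β : B) (x : val F B) :
    mapA F (muMap β) (Dmap F B x) = Dmap F B (β • x) := by
  unfold Dmap
  rw [mapA_smul, muMap_eps, mapA_comp, muMap_comp_inl, mapA_smul, smul_smul]
  have h : (TrivSqZeroExt.inr β : TrivSqZeroExt B B) =
      eps B * (TrivSqZeroExt.inlAlgHom A B B) β := by
    apply TrivSqZeroExt.ext <;> simp [eps]
  rw [h]

/-- `F(B[ε]) = F(B) ⊕ ε F(B)` in the form needed here -/
structure HasEps (F : MVF A) : Prop where
  inj : ∀ (B : Type u) [CommRing B] [Algebra A B], Function.Injective (Dmap F B)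
  surj : ∀ (B : Type u) [CommRing B] [Algebra A B] (y : val F (TrivSqZeroExt B B)),
    mapA F (TrivSqZeroExt.fstHom A B B) y = 0 → ∃ x, Dmap F B x = y

lemma hasEps_underline (K : ModuleCat.{u + 1} A) : HasEps ((underline A).obj K) where
  inj B _ _ := by
    intro w w' h
    have h1 := congrArg (((TrivSqZeroExt.sndHom B B).restrictScalars A).rTensor K) h
    exact (snd_eps_smul B w).symm.trans (h1.trans (snd_eps_smul B w'))
  surj B _ _ v hv := by
    refine ⟨((TrivSqZeroExt.sndHom B B).restrictScalars A).rTensor K v, ?_⟩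
    have key : ∀ v : TrivSqZeroExt B B ⊗[A] K,
        (TrivSqZeroExt.inlAlgHom A B B).toLinearMap.rTensor K
          ((TrivSqZeroExt.fstHom A B B).toLinearMap.rTensor K v) +
        (eps B : TrivSqZeroExt B B) • (TrivSqZeroExt.inlAlgHom A B B).toLinearMap.rTensor K
          (((TrivSqZeroExt.sndHom B B).restrictScalars A).rTensor K v) = v := by
      intro v
      induction v using TensorProduct.induction_on with
      | zero => simp
      | tmul c k =>
        simp only [LinearMap.rTensor_tmul, TensorProduct.smul_tmul', ← add_tmul]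
        congr 1
        apply TrivSqZeroExt.ext <;> simp [eps, TrivSqZeroExt.sndHom]
      | add x y hx hy =>
        simp only [map_add, smul_add]
        conv_rhs => rw [← hx, ← hy]
        abel
    have hv' : (TrivSqZeroExt.fstHom A B B).toLinearMap.rTensor K v = 0 := hv
    have h2 := key v
    rw [hv', map_zero, zero_add] at h2
    exact h2


lemma HasEps.of_isKer {F G H : MVF A} {j : F ⟶ G} {ψ : G ⟶ H} (h : IsKer j ψ) (hG : HasEps G)
    (hH : ∀ (B : Type u) [CommRing B] [Algebra A B], Function.Injective (Dmap H B)) :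
    HasEps F where
  inj B _ _ := by
    intro x x' hxx
    apply h.inj _
    apply hG.inj B
    rw [← Dmap_natural, ← Dmap_natural, hxx]
  surj B _ _ y hy := by
    have h1 : mapA G (TrivSqZeroExt.fstHom A B B) (j.app _ y) = 0 := by
      rw [← mapA_natural, hy, map_zero]
    obtain ⟨w, hw⟩ := hG.surj B _ h1
    have h2 : ψ.app _ w = 0 := by
      apply hH B
      rw [← Dmap_natural, hw, h.zero, Dmap_zero]
    obtain ⟨x, hx⟩ := h.exact _ w h2
    refine ⟨x, ?_⟩
    apply h.inj _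
    rw [Dmap_natural, hx, hw]

lemma hasEps_of_adequate {F : MVF A} (hF : adequate A F) : HasEps F := by
  obtain ⟨M, N, a, j, hj⟩ := (adequate_iff F).mp hF
  exact HasEps.of_isKer hj (hasEps_underline M) (fun B _ _ => (hasEps_underline N).inj B)

lemma HasEps.of_shortExact {F₁ F₂ F₃ : MVF A} (f : F₁ ⟶ F₂) (g : F₂ ⟶ F₃)
    (hf : ∀ X, Function.Injective (f.app X)) (hg : ∀ X, Function.Surjective (g.app X))
    (hex : ∀ X (y : F₂.obj X), g.app X y = 0 → ∃ x, f.app X x = y)
    (h₁ : HasEps F₁) (h₃ : HasEps F₃) : HasEps F₂ where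
  inj B _ _ := by
    intro x x' hxx
    have h0 : Dmap F₂ B (x - x') = 0 := by rw [Dmap_sub, hxx, sub_self]
    have h1 : g.app _ (x - x') = 0 := by
      apply h₃.inj B
      rw [← Dmap_natural, h0, map_zero, Dmap_zero]
    obtain ⟨m, hm⟩ := hex _ _ h1
    have h2 : m = 0 := by
      apply h₁.inj B
      apply hf _
      rw [Dmap_natural, hm, h0, Dmap_zero, map_zero]
    rw [h2, map_zero] at hm
    exact sub_eq_zero.mp hm.symm
  surj B _ _ y hy := by
    have h1 : mapA F₃ (TrivSqZeroExt.fstHom A B B) (g.app _ y) = 0 := by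
      rw [← mapA_natural, hy, map_zero]
    obtain ⟨x₃, hx₃⟩ := h₃.surj B _ h1
    obtain ⟨x₂, rfl⟩ := hg _ x₃
    have h2 : g.app _ (y - Dmap F₂ B x₂) = 0 := by
      rw [map_sub, Dmap_natural, hx₃, sub_self]
    obtain ⟨m, hm⟩ := hex _ _ h2
    have h3 : mapA F₁ (TrivSqZeroExt.fstHom A B B) m = 0 := by
      apply hf _
      rw [mapA_natural, hm, mapA_sub, hy, mapA_fst_Dmap, sub_zero, map_zero]
    obtain ⟨m₁, hm₁⟩ := h₁.surj B m h3
    refine ⟨x₂ + f.app _ m₁, ?_⟩
    rw [Dmap_add, ← Dmap_natural, hm₁, hm]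
    abel

end eps


section crExtra

open Module

variable {A : Type u} [CommRing A]
variable {P : Type v} [AddCommGroup P] [Module A P] {n : ℕ} (b : Basis (Fin n) A P)

lemma cr_smul {B : Type*} [CommRing B] [Algebra A B] (i : Fin n) (β : B) (η : B ⊗[A] P) :
    cr b i (β • η) = β * cr b i η := by
  induction η using TensorProduct.induction_on with
  | zero => simp
  | tmul x p =>
    rw [TensorProduct.smul_tmul', cr_tmul, cr_tmul, smul_eq_mul, mul_smul_comm]
  | add x y hx hy => rw [smul_add, map_add, map_add, hx, hy, mul_add]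

lemma cr_rTensor {B B' : Type*} [AddCommGroup B] [Module A B] [AddCommGroup B'] [Module A B']
    (h : B →ₗ[A] B') (i : Fin n) (η : B ⊗[A] P) :
    cr b i (h.rTensor P η) = h (cr b i η) := by
  induction η using TensorProduct.induction_on with
  | zero => simp
  | tmul x p => rw [LinearMap.rTensor_tmul, cr_tmul, cr_tmul, map_smul]
  | add x y hx hy => rw [map_add, map_add, map_add, map_add, hx, hy]

end crExtra


section univ

open Module

variable {A : Type u} [CommRing A]
variable {P P' : ModuleCat.{u + 1} A} {n m : ℕ} (b : Basis (Fin n) A P) (b' : Basis (Fin m) A P')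
  (ψ : P ⟶ P') {L : MVF A} (j : L ⟶ (underline A).obj P) (hj : IsKer j ((underline A).map ψ))

include hj

/-- the generators of `Q` -/
noncomputable def qgen (i : Fin n) : Q b b' ψ.hom := (relSub b b' ψ.hom).mkQ (Pi.single i 1)

lemma exists_univL : ∃ ξ : val L (CQ b b' ψ.hom), j.app _ ξ = ξ₀ b b' ψ.hom := by
  apply hj.exact
  show ψ.hom.baseChange _ (ξ₀ b b' ψ.hom) = 0
  rw [LinearMap.baseChange_eq_ltensor]
  exact lTensor_ξ₀ b b' ψ.hom

/-- the universal element of `L` -/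
noncomputable def univL : val L (CQ b b' ψ.hom) := (exists_univL b b' ψ j hj).choose

lemma j_univL : j.app _ (univL b b' ψ j hj) = ξ₀ b b' ψ.hom := (exists_univL b b' ψ j hj).choose_spec

lemma j_mapA_univL {C' : Type u} [CommRing C'] [Algebra A C'] (a : CQ b b' ψ.hom →ₐ[A] C') :
    j.app _ (mapA L a (univL b b' ψ j hj)) =
      ∑ i, a (TrivSqZeroExt.inr (qgen b b' ψ i)) ⊗ₜ[A] b i := by
  rw [mapA_natural, j_univL, mapA_underline]
  unfold ξ₀
  simp only [map_sum, LinearMap.rTensor_tmul, AlgHom.toLinearMap_apply]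
  rfl

variable {B B' : Type u} [CommRing B] [Algebra A B] [CommRing B'] [Algebra A B']

lemma lTensor_j_eq_zero (η' : val L B) : ψ.hom.lTensor B (j.app _ η') = 0 := by
  have := hj.zero _ η'
  rw [← LinearMap.baseChange_eq_ltensor]
  exact this

/-- the classifying linear map of a section of `L` -/
noncomputable def fL (η' : val L B) : Q b b' ψ.hom →ₗ[A] B :=
  fη b b' ψ.hom B (j.app _ η') (lTensor_j_eq_zero ψ j hj η')

/-- coordinates of a section of `L` -/
noncomputable def crL (i : Fin n) (η' : val L B) : B := cr b i (j.app _ η' : B ⊗[A] P)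

omit hj in
lemma crL_add (i : Fin n) (η₁ η₂ : val L B) :
    crL b j i (η₁ + η₂) = crL b j i η₁ + crL b j i η₂ :=
  (congrArg (cr b i) (map_add (j.app (pt (algOf A B))).hom η₁ η₂ :
    @Eq (B ⊗[A] P) (j.app _ (η₁ + η₂)) (j.app _ η₁ + j.app _ η₂))).trans (map_add (cr b i) _ _)

omit hj in
lemma crL_smul (i : Fin n) (β : B) (η' : val L B) :
    crL b j i (β • η') = β * crL b j i η' :=
  (congrArg (cr b i) ((j.app (pt (algOf A B))).hom.map_smul β η' :
    @Eq (B ⊗[A] P) (j.app _ (β • η')) (β • (j.app _ η' : B ⊗[A] P)))).trans (cr_smul b i β _)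

omit hj in
lemma crL_mapA (i : Fin n) (h : B →ₐ[A] B') (η' : val L B) :
    crL b j i (mapA L h η') = h (crL b j i η') :=
  (congrArg (cr b i) ((mapA_natural j h η').trans (mapA_underline P h _) :
    @Eq (B' ⊗[A] P) (j.app _ (mapA L h η')) (h.toLinearMap.rTensor P (j.app _ η')))).trans
    (cr_rTensor b h.toLinearMap i _)

lemma fL_mkQ (η' : val L B) (v : Fin n → A) :
    fL b b' ψ j hj η' ((relSub b b' ψ.hom).mkQ v) = ∑ i, v i • crL b j i η' :=
  fη_mkQ b b' ψ.hom B _ _ v

lemma fL_qgen (η' : val L B) (i : Fin n) :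
    fL b b' ψ j hj η' (qgen b b' ψ i) = crL b j i η' :=
  fη_mkQ_single b b' ψ.hom B _ _ i

lemma fL_add (η₁ η₂ : val L B) :
    fL b b' ψ j hj (η₁ + η₂) = fL b b' ψ j hj η₁ + fL b b' ψ j hj η₂ := by
  apply Submodule.linearMap_qext
  refine LinearMap.ext fun v => ?_
  show fL b b' ψ j hj (η₁ + η₂) ((relSub b b' ψ.hom).mkQ v) =
    fL b b' ψ j hj η₁ ((relSub b b' ψ.hom).mkQ v) + fL b b' ψ j hj η₂ ((relSub b b' ψ.hom).mkQ v)
  rw [fL_mkQ, fL_mkQ, fL_mkQ, ← Finset.sum_add_distrib]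
  refine Finset.sum_congr rfl fun i _ => ?_
  rw [crL_add, smul_add]

lemma fL_smul (β : B) (η' : val L B) :
    fL b b' ψ j hj (β • η') = β • fL b b' ψ j hj η' := by
  apply Submodule.linearMap_qext
  refine LinearMap.ext fun v => ?_
  show fL b b' ψ j hj (β • η') ((relSub b b' ψ.hom).mkQ v) =
    β • fL b b' ψ j hj η' ((relSub b b' ψ.hom).mkQ v)
  rw [fL_mkQ, fL_mkQ, Finset.smul_sum]
  refine Finset.sum_congr rfl fun i _ => ?_
  rw [crL_smul, smul_eq_mul, mul_smul_comm]

lemma fL_mapA (h : B →ₐ[A] B') (η' : val L B) :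
    fL b b' ψ j hj (mapA L h η') = h.toLinearMap ∘ₗ fL b b' ψ j hj η' := by
  apply Submodule.linearMap_qext
  refine LinearMap.ext fun v => ?_
  show fL b b' ψ j hj (mapA L h η') ((relSub b b' ψ.hom).mkQ v) =
    h (fL b b' ψ j hj η' ((relSub b b' ψ.hom).mkQ v))
  rw [fL_mkQ, fL_mkQ, map_sum]
  refine Finset.sum_congr rfl fun i _ => ?_
  rw [crL_mapA, map_smul]

/-- the key identity: the universal element specialises to `ε η` -/
lemma mapA_Flift_univL (η' : val L B) :
    mapA L (Flift (fL b b' ψ j hj η')) (univL b b' ψ j hj) = Dmap L B η' := by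
  apply hj.inj
  rw [Dmap_natural, mapA_natural, j_univL, mapA_underline]
  exact rTensor_Fη_ξ₀ b b' ψ.hom B (j.app _ η') (lTensor_j_eq_zero ψ j hj η')

lemma mapA_univL_add {C' : Type u} [CommRing C'] [Algebra A C']
    (a₀ a₁ a₂ : CQ b b' ψ.hom →ₐ[A] C')
    (ha : ∀ q : Q b b' ψ.hom, a₀ (TrivSqZeroExt.inr q) =
      a₁ (TrivSqZeroExt.inr q) + a₂ (TrivSqZeroExt.inr q)) :
    mapA L a₀ (univL b b' ψ j hj) =
      mapA L a₁ (univL b b' ψ j hj) + mapA L a₂ (univL b b' ψ j hj) := by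
  apply hj.inj
  have e0 := j_mapA_univL b b' ψ j hj a₀
  have e1 := j_mapA_univL b b' ψ j hj a₁
  have e2 := j_mapA_univL b b' ψ j hj a₂
  have e3 : @Eq (C' ⊗[A] P) (j.app _ (mapA L a₁ (univL b b' ψ j hj) + mapA L a₂ (univL b b' ψ j hj)))
      (j.app _ (mapA L a₁ (univL b b' ψ j hj)) + j.app _ (mapA L a₂ (univL b b' ψ j hj))) :=
    map_add _ _ _
  have key : (∑ i, a₀ (TrivSqZeroExt.inr (qgen b b' ψ i)) ⊗ₜ[A] b i : C' ⊗[A] P) =
      ∑ i, a₁ (TrivSqZeroExt.inr (qgen b b' ψ i)) ⊗ₜ[A] b i +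
        ∑ i, a₂ (TrivSqZeroExt.inr (qgen b b' ψ i)) ⊗ₜ[A] b i := by
    rw [← Finset.sum_add_distrib]
    refine Finset.sum_congr rfl fun i _ => ?_
    rw [ha, add_tmul]
  exact e0.trans (key.trans (e3.trans (congrArg₂ (· + ·) e1 e2)).symm)

lemma mapA_univL_eq_zero {C' : Type u} [CommRing C'] [Algebra A C'] (a : CQ b b' ψ.hom →ₐ[A] C')
    (ha : ∀ q : Q b b' ψ.hom, a (TrivSqZeroExt.inr q) = 0) :
    mapA L a (univL b b' ψ j hj) = 0 := by
  apply hj.inj
  rw [j_mapA_univL, map_zero]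
  refine Finset.sum_eq_zero (fun i _ => ?_)
  rw [ha, zero_tmul]
  rfl

end univ


section lifting

open Module

variable {A : Type u} [CommRing A]

lemma decomp_C2 {K : Type u} [AddCommGroup K] [Module A K] [Module Aᵐᵒᵖ K] [IsCentralScalar A K] :
    (TrivSqZeroExt.map (LinearMap.inl A K K)).toLinearMap ∘ₗ
        (TrivSqZeroExt.map (LinearMap.fst A K K)).toLinearMap +
      ((TrivSqZeroExt.inrHom A (K × K)) ∘ₗ (LinearMap.inr A K K) ∘ₗ (TrivSqZeroExt.sndHom A K)) ∘ₗ
        (TrivSqZeroExt.map (LinearMap.snd A K K)).toLinearMap = LinearMap.id := by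
  refine LinearMap.ext fun c => ?_
  apply TrivSqZeroExt.ext
  · simp [TrivSqZeroExt.inrHom, TrivSqZeroExt.sndHom]
  · simp [TrivSqZeroExt.inrHom, TrivSqZeroExt.sndHom]

lemma eq_zero_of_proj {X₁ : MVF A} (h₁ : adequate A X₁) {K : Type u} [AddCommGroup K] [Module A K]
    [Module Aᵐᵒᵖ K] [IsCentralScalar A K] (m : val X₁ (TrivSqZeroExt A (K × K)))
    (hm1 : mapA X₁ (TrivSqZeroExt.map (LinearMap.fst A K K)) m = 0)
    (hm2 : mapA X₁ (TrivSqZeroExt.map (LinearMap.snd A K K)) m = 0) : m = 0 := by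
  obtain ⟨M₁, N₁, a₁, j₁, hj₁⟩ := (adequate_iff X₁).mp h₁
  apply hj₁.inj
  rw [map_zero]
  have hv1 : (TrivSqZeroExt.map (LinearMap.fst A K K)).toLinearMap.rTensor M₁ (j₁.app _ m) = 0 := by
    rw [← mapA_underline, ← mapA_natural, hm1, map_zero]
    rfl
  have hv2 : (TrivSqZeroExt.map (LinearMap.snd A K K)).toLinearMap.rTensor M₁ (j₁.app _ m) = 0 := by
    rw [← mapA_underline, ← mapA_natural, hm2, map_zero]
    rfl
  have h := congrArg (fun t => LinearMap.rTensor M₁ t (j₁.app _ m)) (decomp_C2 (A := A) (K := K))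
  simp only [LinearMap.rTensor_add, LinearMap.add_apply, LinearMap.rTensor_comp_apply,
    LinearMap.rTensor_id, LinearMap.id_apply, hv1, hv2, map_zero, add_zero] at h
  exact h.symm


section additive

variable {X₁ X₂ X₃ : MVF A} (f : X₁ ⟶ X₂) (g : X₂ ⟶ X₃)
  (hf : ∀ X, Function.Injective (f.app X))
  (hex : ∀ X (y : X₂.obj X), g.app X y = 0 → ∃ x, f.app X x = y)
  (h₁ : adequate A X₁)
  {P P' : ModuleCat.{u + 1} A} {n m : ℕ} (b : Basis (Fin n) A P) (b' : Basis (Fin m) A P')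
  (ψ : P ⟶ P') {L : MVF A} (j : L ⟶ (underline A).obj P) (hj : IsKer j ((underline A).map ψ))
  (l : L ⟶ X₃)
  (xt : val X₂ (CQ b b' ψ.hom))
  (hN1 : mapA X₂ (TrivSqZeroExt.fstHom A A (Q b b' ψ.hom)) xt = 0)
  (hN2 : g.app _ xt = l.app _ (univL b b' ψ j hj))

include hN2 in
lemma g_mapA_xt {C' : Type u} [CommRing C'] [Algebra A C'] (a : CQ b b' ψ.hom →ₐ[A] C') :
    g.app _ (mapA X₂ a xt) = l.app _ (mapA L a (univL b b' ψ j hj)) :=
  (mapA_natural g a xt).trans ((congrArg (mapA X₃ a) hN2).trans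
    (mapA_natural l a (univL b b' ψ j hj)).symm)

include hN1 in
lemma mapA_map_zero_xt :
    mapA X₂ (TrivSqZeroExt.map (0 : Q b b' ψ.hom →ₗ[A] Q b b' ψ.hom)) xt = 0 := by
  have h0 : TrivSqZeroExt.map (0 : Q b b' ψ.hom →ₗ[A] Q b b' ψ.hom) =
      (Algebra.ofId A (CQ b b' ψ.hom)).comp (TrivSqZeroExt.fstHom A A (Q b b' ψ.hom)) := by
    apply AlgHom.ext; intro c
    apply TrivSqZeroExt.ext <;>
      simp [Algebra.ofId_apply, TrivSqZeroExt.algebraMap_eq_inl]
  rw [h0, ← mapA_comp, hN1, mapA_zero]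

include hf hex h₁ hN1 hN2 in
lemma univ_additive :
    mapA X₂ (TrivSqZeroExt.map (LinearMap.prod LinearMap.id LinearMap.id :
        Q b b' ψ.hom →ₗ[A] Q b b' ψ.hom × Q b b' ψ.hom)) xt =
      mapA X₂ (TrivSqZeroExt.map (LinearMap.inl A (Q b b' ψ.hom) (Q b b' ψ.hom))) xt +
      mapA X₂ (TrivSqZeroExt.map (LinearMap.inr A (Q b b' ψ.hom) (Q b b' ψ.hom))) xt := by
  set Δ : Q b b' ψ.hom →ₗ[A] Q b b' ψ.hom × Q b b' ψ.hom :=
    LinearMap.prod LinearMap.id LinearMap.id with hΔ
  set i₁ : Q b b' ψ.hom →ₗ[A] Q b b' ψ.hom × Q b b' ψ.hom := LinearMap.inl A _ _ with hi₁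
  set i₂ : Q b b' ψ.hom →ₗ[A] Q b b' ψ.hom × Q b b' ψ.hom := LinearMap.inr A _ _ with hi₂
  have hLadd := mapA_univL_add b b' ψ j hj (TrivSqZeroExt.map Δ) (TrivSqZeroExt.map i₁)
    (TrivSqZeroExt.map i₂) (by
      intro q
      rw [TrivSqZeroExt.map_inr, TrivSqZeroExt.map_inr, TrivSqZeroExt.map_inr,
        ← TrivSqZeroExt.inr_add]
      congr 1
      ext <;> simp [Δ, i₁, i₂])
  have hmap0 := mapA_map_zero_xt b b' ψ xt hN1
  have c1 : LinearMap.fst A (Q b b' ψ.hom) (Q b b' ψ.hom) ∘ₗ Δ = LinearMap.id := by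
    ext; simp [Δ]
  have c2 : LinearMap.fst A (Q b b' ψ.hom) (Q b b' ψ.hom) ∘ₗ i₁ = LinearMap.id := by
    ext; simp [i₁]
  have c3 : LinearMap.fst A (Q b b' ψ.hom) (Q b b' ψ.hom) ∘ₗ i₂ = 0 := by
    ext; simp [i₂]
  have d1 : LinearMap.snd A (Q b b' ψ.hom) (Q b b' ψ.hom) ∘ₗ Δ = LinearMap.id := by
    ext; simp [Δ]
  have d2 : LinearMap.snd A (Q b b' ψ.hom) (Q b b' ψ.hom) ∘ₗ i₁ = 0 := by
    ext; simp [i₁]
  have d3 : LinearMap.snd A (Q b b' ψ.hom) (Q b b' ψ.hom) ∘ₗ i₂ = LinearMap.id := by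
    ext; simp [i₂]
  -- projections of the three elements
  have p1 : ∀ (pr : Q b b' ψ.hom × Q b b' ψ.hom →ₗ[A] Q b b' ψ.hom)
      (k : Q b b' ψ.hom →ₗ[A] Q b b' ψ.hom × Q b b' ψ.hom),
      mapA X₂ (TrivSqZeroExt.map pr) (mapA X₂ (TrivSqZeroExt.map k) xt) =
        mapA X₂ (TrivSqZeroExt.map (pr ∘ₗ k)) xt := by
    intro pr k
    rw [mapA_comp, ← TrivSqZeroExt.map_comp_map]
  have hid : mapA X₂ (TrivSqZeroExt.map (LinearMap.id : Q b b' ψ.hom →ₗ[A] Q b b' ψ.hom)) xt = xt := by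
    rw [TrivSqZeroExt.map_id, mapA_id]
  obtain ⟨D, hD⟩ : ∃ D, D = mapA X₂ (TrivSqZeroExt.map Δ) xt := ⟨_, rfl⟩
  obtain ⟨I₁, hI₁⟩ : ∃ D, D = mapA X₂ (TrivSqZeroExt.map i₁) xt := ⟨_, rfl⟩
  obtain ⟨I₂, hI₂⟩ : ∃ D, D = mapA X₂ (TrivSqZeroExt.map i₂) xt := ⟨_, rfl⟩
  rw [← hD, ← hI₁, ← hI₂]
  have hgδ : g.app _ (D - (I₁ + I₂)) = 0 := by
    have e1 : g.app _ D = l.app _ (mapA L (TrivSqZeroExt.map Δ) (univL b b' ψ j hj)) := by
      rw [hD]; exact g_mapA_xt g b b' ψ j hj l xt hN2 _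
    have e2 : g.app _ I₁ = l.app _ (mapA L (TrivSqZeroExt.map i₁) (univL b b' ψ j hj)) := by
      rw [hI₁]; exact g_mapA_xt g b b' ψ j hj l xt hN2 _
    have e3 : g.app _ I₂ = l.app _ (mapA L (TrivSqZeroExt.map i₂) (univL b b' ψ j hj)) := by
      rw [hI₂]; exact g_mapA_xt g b b' ψ j hj l xt hN2 _
    rw [map_sub, map_add, e1, e2, e3, hLadd, map_add, sub_self]
  obtain ⟨mm, hmm⟩ := hex _ _ hgδ
  have q1 : mapA X₂ (TrivSqZeroExt.map (LinearMap.fst A (Q b b' ψ.hom) (Q b b' ψ.hom)))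
      (D - (I₁ + I₂)) = 0 := by
    rw [mapA_sub, mapA_add, hD, hI₁, hI₂, p1, p1, p1, c1, c2, c3, hid, hmap0, add_zero, sub_self]
  have q2 : mapA X₂ (TrivSqZeroExt.map (LinearMap.snd A (Q b b' ψ.hom) (Q b b' ψ.hom)))
      (D - (I₁ + I₂)) = 0 := by
    rw [mapA_sub, mapA_add, hD, hI₁, hI₂, p1, p1, p1, d1, d2, d3, hid, hmap0, zero_add, sub_self]
  have hm1 : mapA X₁ (TrivSqZeroExt.map (LinearMap.fst A (Q b b' ψ.hom) (Q b b' ψ.hom))) mm = 0 := by
    apply hf
    rw [mapA_natural, hmm, q1, map_zero]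
  have hm2 : mapA X₁ (TrivSqZeroExt.map (LinearMap.snd A (Q b b' ψ.hom) (Q b b' ψ.hom))) mm = 0 := by
    apply hf
    rw [mapA_natural, hmm, q2, map_zero]
  have hmm0 : mm = 0 := eq_zero_of_proj h₁ mm hm1 hm2
  rw [hmm0, map_zero] at hmm
  exact sub_eq_zero.mp hmm.symm

end additive

/-- **Lifting theorem.** Let `0 → X₁ → X₂ → X₃ → 0` be (pointwise) short exact with `X₁`, `X₃`
adequate. Every map from a linearly adequate functor to `X₃` lifts to `X₂`. -/
theorem exists_lift_of_linAdequate {X₁ X₂ X₃ : MVF A} (f : X₁ ⟶ X₂) (g : X₂ ⟶ X₃)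
    (hf : ∀ X, Function.Injective (f.app X)) (hg : ∀ X, Function.Surjective (g.app X))
    (hex : ∀ X (y : X₂.obj X), g.app X y = 0 → ∃ x, f.app X x = y)
    (h₁ : adequate A X₁) (h₃ : adequate A X₃)
    (P P' : ModuleCat.{u + 1} A) [Module.Finite A P] [Module.Free A P] [Module.Finite A P']
    [Module.Free A P'] (ψ : P ⟶ P')
    {L : MVF A} (j : L ⟶ (underline A).obj P) (hj : IsKer j ((underline A).map ψ)) (l : L ⟶ X₃) :
    ∃ σ : L ⟶ X₂, σ ≫ g = l := by
  classical
  rcases subsingleton_or_nontrivial A with hA | hA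
  · refine ⟨0, ?_⟩
    ext X x
    have h1 : Subsingleton (X.unop.unop : Type u) := by
      have h10 : (0 : (X.unop.unop : Type u)) = 1 := by
        rw [← map_one (algebraMap A (X.unop.unop : Type u)), Subsingleton.elim (1 : A) 0, map_zero]
      exact subsingleton_of_zero_eq_one h10
    have h2 : Subsingleton (X₃.obj X) := Module.subsingleton (X.unop.unop : Type u) _
    exact Subsingleton.elim _ _
  let b := Module.finBasis A P
  let b' := Module.finBasis A P'
  have hE₃ : HasEps X₃ := hasEps_of_adequate h₃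
  have hE₂ : HasEps X₂ := HasEps.of_shortExact f g hf hg hex (hasEps_of_adequate h₁) hE₃
  obtain ⟨xt0, hxt0⟩ := hg _ (l.app _ (univL b b' ψ j hj))
  let au : CQ b b' ψ.hom →ₐ[A] CQ b b' ψ.hom :=
    (Algebra.ofId A (CQ b b' ψ.hom)).comp (TrivSqZeroExt.fstHom A A (Q b b' ψ.hom))
  obtain ⟨xt, hxt⟩ : ∃ xt : val X₂ (CQ b b' ψ.hom), xt = xt0 - mapA X₂ au xt0 := ⟨_, rfl⟩
  have hN1 : mapA X₂ (TrivSqZeroExt.fstHom A A (Q b b' ψ.hom)) xt = 0 := by
    have h0 : (TrivSqZeroExt.fstHom A A (Q b b' ψ.hom)).comp au =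
        TrivSqZeroExt.fstHom A A (Q b b' ψ.hom) := by
      apply AlgHom.ext; intro c
      simp [au, Algebra.ofId_apply, TrivSqZeroExt.algebraMap_eq_inl]
    rw [hxt, mapA_sub, mapA_comp, h0, sub_self]
  have hN2 : g.app _ xt = l.app _ (univL b b' ψ j hj) := by
    have h0 : mapA L au (univL b b' ψ j hj) = 0 := mapA_univL_eq_zero b b' ψ j hj au (by
      intro q
      simp [au, Algebra.ofId_apply])
    rw [hxt, map_sub, mapA_natural, hxt0, ← mapA_natural, h0, map_zero, sub_zero]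
  have hδ := univ_additive f g hf hex h₁ b b' ψ j hj l xt hN1 hN2
  -- the candidate images
  obtain ⟨y, hy⟩ : ∃ y : ∀ (B : Type u) [CommRing B] [Algebra A B], val L B →
      val X₂ (TrivSqZeroExt B B), ∀ (B : Type u) [CommRing B] [Algebra A B] (η' : val L B),
      y B η' = mapA X₂ (Flift (fL b b' ψ j hj η')) xt := ⟨_, fun _ _ _ _ => rfl⟩
  have hY1 : ∀ (B : Type u) [CommRing B] [Algebra A B] (η' : val L B),
      mapA X₂ (TrivSqZeroExt.fstHom A B B) (y B η') = 0 := by
    intro B _ _ η'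
    rw [hy, mapA_comp, fst_comp_Flift, ← mapA_comp, hN1, mapA_zero]
  have hY2 : ∀ (B : Type u) [CommRing B] [Algebra A B] (η' : val L B),
      g.app _ (y B η') = Dmap X₃ B (l.app _ η') := by
    intro B _ _ η'
    rw [hy, g_mapA_xt g b b' ψ j hj l xt hN2, mapA_Flift_univL, Dmap_natural]
  have hYadd : ∀ (B : Type u) [CommRing B] [Algebra A B] (η₁ η₂ : val L B),
      y B (η₁ + η₂) = y B η₁ + y B η₂ := by
    intro B _ _ η₁ η₂
    let co : Q b b' ψ.hom × Q b b' ψ.hom →ₗ[A] B :=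
      (fL b b' ψ j hj η₁).coprod (fL b b' ψ j hj η₂)
    have e0 : (Flift co).comp (TrivSqZeroExt.map (LinearMap.prod LinearMap.id LinearMap.id)) =
        Flift (fL b b' ψ j hj (η₁ + η₂)) := by
      rw [Flift_comp_map, fL_add]
      congr 1
    have e1 : (Flift co).comp (TrivSqZeroExt.map (LinearMap.inl A _ _)) =
        Flift (fL b b' ψ j hj η₁) := by
      rw [Flift_comp_map]
      congr 1
      ext q
      simp [co]
    have e2 : (Flift co).comp (TrivSqZeroExt.map (LinearMap.inr A _ _)) =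
        Flift (fL b b' ψ j hj η₂) := by
      rw [Flift_comp_map]
      congr 1
      ext q
      simp [co]
    rw [hy, hy, hy, ← e0, ← e1, ← e2, ← mapA_comp, ← mapA_comp, ← mapA_comp, hδ, mapA_add]
  choose σ hσ using fun (B : Type u) (i1 : CommRing B) (i2 : Algebra A B) (η' : val L B) =>
    hE₂.surj B (y B η') (hY1 B η')
  have hS1 : ∀ (B : Type u) [CommRing B] [Algebra A B] (η' : val L B),
      g.app _ (σ B _ _ η') = l.app _ η' := by
    intro B _ _ η'
    apply hE₃.inj B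
    rw [← Dmap_natural, hσ, hY2]
  have hSadd : ∀ (B : Type u) [CommRing B] [Algebra A B] (η₁ η₂ : val L B),
      σ B _ _ (η₁ + η₂) = σ B _ _ η₁ + σ B _ _ η₂ := by
    intro B _ _ η₁ η₂
    apply hE₂.inj B
    rw [Dmap_add, hσ, hσ, hσ, hYadd]
  have hSsmul : ∀ (B : Type u) [CommRing B] [Algebra A B] (β : B) (η' : val L B),
      σ B _ _ (β • η') = β • σ B _ _ η' := by
    intro B _ _ β η'
    apply hE₂.inj B
    rw [hσ, ← mapA_muMap_Dmap, hσ, hy, hy, mapA_comp, muMap_comp_Flift, fL_smul]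
  have hSnat : ∀ (B B' : Type u) [CommRing B] [Algebra A B] [CommRing B'] [Algebra A B']
      (h : B →ₐ[A] B') (η' : val L B), σ B' _ _ (mapA L h η') = mapA X₂ h (σ B _ _ η') := by
    intro B B' _ _ _ _ h η'
    apply hE₂.inj B'
    rw [hσ, ← mapA_epsMap_Dmap, hσ, hy, hy, mapA_comp, epsMap_comp_Flift, fL_mapA]
  let σm : L ⟶ X₂ :=
    { app := fun X => ModuleCat.ofHom
        { toFun := fun x => σ (X.unop.unop : Type u) _ _ x
          map_add' := fun x y => hSadd _ x y
          map_smul' := fun β x => hSsmul _ β x }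
      naturality := by
        intro X Y k
        ext x
        exact hSnat _ _ k.unop.unop.hom x }
  refine ⟨σm, ?_⟩
  ext X x
  exact hS1 _ x

end lifting


section extensions

variable {A : Type u} [CommRing A]

lemma shortExact_pointwise (S : ShortComplex (MVF A)) (hS : S.ShortExact) :
    (∀ X, Function.Injective (S.f.app X)) ∧ (∀ X, Function.Surjective (S.g.app X)) ∧
      (∀ X (y : S.X₂.obj X), S.g.app X y = 0 → ∃ x, S.f.app X x = y) := by
  have := hS.mono_f
  have := hS.epi_g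
  refine ⟨fun X => PresheafOfModules.injective_of_mono S.f X,
    fun X => PresheafOfModules.surjective_of_epi S.g X, fun X y hy => ?_⟩
  have h2 := hS.exact.map (PresheafOfModules.evaluation (ringOf A) X)
  rw [ShortComplex.moduleCat_exact_iff] at h2
  exact h2 y hy

/-- binary biproducts of adequate functors are adequate -/
lemma adequate_biprod {F G : MVF A} (hF : adequate A F) (hG : adequate A G) :
    adequate A (F ⊞ G) := by
  obtain ⟨M, N, a, jF, hjF⟩ := (adequate_iff F).mp hF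
  obtain ⟨M', N', a', jG, hjG⟩ := (adequate_iff G).mp hG
  let J : F ⊞ G ⟶ (underline A).obj (M ⊞ M') :=
    biprod.fst ≫ jF ≫ (underline A).map biprod.inl + biprod.snd ≫ jG ≫ (underline A).map biprod.inr
  have hJ : ∀ X (w : (F ⊞ G).obj X), J.app X w =
      ((underline A).map (biprod.inl : M ⟶ M ⊞ M')).app X
        (jF.app X ((biprod.fst : F ⊞ G ⟶ F).app X w)) +
      ((underline A).map (biprod.inr : M' ⟶ M ⊞ M')).app X
        (jG.app X ((biprod.snd : F ⊞ G ⟶ G).app X w)) := fun X w => rfl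
  have htot : ∀ X (w : (F ⊞ G).obj X), w =
      (biprod.inl : F ⟶ F ⊞ G).app X ((biprod.fst : F ⊞ G ⟶ F).app X w) +
      (biprod.inr : G ⟶ F ⊞ G).app X ((biprod.snd : F ⊞ G ⟶ G).app X w) := by
    intro X w
    have h := app_congr (biprod.total (X := F) (Y := G)) X w
    exact h.symm
  have hfstJ : ∀ X (w : (F ⊞ G).obj X),
      ((underline A).map (biprod.fst : M ⊞ M' ⟶ M)).app X (J.app X w) =
        jF.app X ((biprod.fst : F ⊞ G ⟶ F).app X w) := by
    intro X w
    rw [hJ, map_add, underline_comp_apply, underline_comp_apply, biprod.inl_fst, biprod.inr_fst,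
      underline_id_apply, underline_zero_apply, add_zero]
  have hsndJ : ∀ X (w : (F ⊞ G).obj X),
      ((underline A).map (biprod.snd : M ⊞ M' ⟶ M')).app X (J.app X w) =
        jG.app X ((biprod.snd : F ⊞ G ⟶ G).app X w) := by
    intro X w
    rw [hJ, map_add, underline_comp_apply, underline_comp_apply, biprod.inl_snd, biprod.inr_snd,
      underline_id_apply, underline_zero_apply, zero_add]
  refine (adequate_iff _).mpr ⟨M ⊞ M', N ⊞ N', biprod.map a a', J, ⟨?_, ?_, ?_⟩⟩
  · intro X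
    rw [injective_iff_map_eq_zero]
    intro w hw
    have h1 : (biprod.fst : F ⊞ G ⟶ F).app X w = 0 := by
      apply hjF.inj X
      rw [← hfstJ, hw, map_zero, map_zero]
    have h2 : (biprod.snd : F ⊞ G ⟶ G).app X w = 0 := by
      apply hjG.inj X
      rw [← hsndJ, hw, map_zero, map_zero]
    rw [htot X w, h1, h2, map_zero, map_zero, add_zero]
  · intro X w
    rw [hJ, map_add, underline_comp_apply, underline_comp_apply, biprod.inl_map, biprod.inr_map,
      ← underline_comp_apply, ← underline_comp_apply, hjF.zero, hjG.zero, map_zero, map_zero,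
      add_zero]
  · intro X y hy
    have h1 : ((underline A).map a).app X (((underline A).map (biprod.fst : M ⊞ M' ⟶ M)).app X y) = 0 := by
      rw [underline_comp_apply, ← biprod.map_fst, ← underline_comp_apply, hy, map_zero]
    have h2 : ((underline A).map a').app X (((underline A).map (biprod.snd : M ⊞ M' ⟶ M')).app X y) = 0 := by
      rw [underline_comp_apply, ← biprod.map_snd, ← underline_comp_apply, hy, map_zero]
    obtain ⟨x, hx⟩ := hjF.exact X _ h1
    obtain ⟨x', hx'⟩ := hjG.exact X _ h2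
    refine ⟨(biprod.inl : F ⟶ F ⊞ G).app X x + (biprod.inr : G ⟶ F ⊞ G).app X x', ?_⟩
    have e1 : (biprod.fst : F ⊞ G ⟶ F).app X
        ((biprod.inl : F ⟶ F ⊞ G).app X x + (biprod.inr : G ⟶ F ⊞ G).app X x') = x := by
      rw [map_add, ← comp_app_apply, ← comp_app_apply, app_congr biprod.inl_fst,
        app_congr biprod.inr_fst]
      exact add_zero x
    have e2 : (biprod.snd : F ⊞ G ⟶ G).app X
        ((biprod.inl : F ⟶ F ⊞ G).app X x + (biprod.inr : G ⟶ F ⊞ G).app X x') = x' := by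
      rw [map_add, ← comp_app_apply, ← comp_app_apply, app_congr biprod.inl_snd,
        app_congr biprod.inr_snd]
      exact zero_add x'
    rw [hJ, e1, e2, hx, hx', underline_comp_apply, underline_comp_apply]
    have h3 := congrArg (fun t => ((underline A).map t).app X y) (biprod.total (X := M) (Y := M'))
    simp only at h3
    rw [CategoryTheory.Functor.map_add] at h3
    rw [underline_id_apply] at h3
    exact h3


lemma adequate_cofan_pt {ι : Type (u + 1)} (F : ι → MVF A) (hF : ∀ i, adequate A (F i))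
    (c : Cofan F) (hc : IsColimit c) : adequate A c.pt := by
  classical
  choose M N a j hj using fun i => (adequate_iff (F i)).mp (hF i)
  exact (adequate_iff _).mpr ⟨_, _, _, _, isKer_directSum M N a F j hj c hc⟩

/-- an extension of adequate functors is adequate (= S8748) -/
theorem adequate_of_shortExact (S : ShortComplex (MVF A)) (hS : S.ShortExact)
    (h₁ : adequate A S.X₁) (h₃ : adequate A S.X₃) : adequate A S.X₂ := by
  obtain ⟨hf, hg, hex⟩ := shortExact_pointwise S hS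
  have := hS.mono_f
  obtain ⟨ι, L, hL, c, hc, π, hπ⟩ := Groth.Agent.S8741.result A S.X₃ h₃
  choose P P' ψ j i1 i2 i3 i4 hj using fun i => (linAdequate_iff (L i)).mp (hL i)
  have hσ : ∀ i, ∃ σ : L i ⟶ S.X₂, σ ≫ S.g = c.inj i ≫ π := by
    intro i
    have := i1 i; have := i2 i; have := i3 i; have := i4 i
    exact exists_lift_of_linAdequate S.f S.g hf hg hex h₁ h₃ (P i) (P' i) (ψ i) (j i) (hj i) _
  choose σi hσi using hσ
  let σ : c.pt ⟶ S.X₂ := Cofan.IsColimit.desc hc σi
  have hσg : σ ≫ S.g = π := by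
    apply Cofan.IsColimit.hom_ext hc
    intro i
    rw [← Category.assoc, Cofan.IsColimit.fac hc, hσi]
  have hZ : adequate A c.pt := adequate_cofan_pt L (fun i => linAdequate_adequate (hL i)) c hc
  have hK : adequate A (kernel π) := adequate_kernel π hZ h₃
  have hτ0 : (kernel.ι π ≫ σ) ≫ S.g = 0 := by
    rw [Category.assoc, hσg, kernel.condition]
  let τ : kernel π ⟶ S.X₁ := hS.exact.lift (kernel.ι π ≫ σ) hτ0
  have hτ : τ ≫ S.f = kernel.ι π ≫ σ := hS.exact.lift_f _ _
  let Φ : S.X₁ ⊞ c.pt ⟶ S.X₂ := biprod.desc S.f σ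
  let k : kernel π ⟶ S.X₁ ⊞ c.pt := biprod.lift (-τ) (kernel.ι π)
  have hkΦ : k ≫ Φ = 0 := by
    rw [biprod.lift_desc, Preadditive.neg_comp, hτ, neg_add_cancel]
  have hΦ : ∀ X (w : (S.X₁ ⊞ c.pt).obj X), Φ.app X w =
      S.f.app X ((biprod.fst : S.X₁ ⊞ c.pt ⟶ S.X₁).app X w) +
      σ.app X ((biprod.snd : S.X₁ ⊞ c.pt ⟶ c.pt).app X w) := by
    intro X w
    have h1 : Φ = biprod.fst ≫ S.f + biprod.snd ≫ σ := by
      apply biprod.hom_ext' <;> simp [Φ]
    rw [app_congr h1]
    rfl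
  have hσg' : ∀ X (z : c.pt.obj X), S.g.app X (σ.app X z) = π.app X z := fun X z => by
    rw [← comp_app_apply, app_congr hσg]
  have hfg' : ∀ X (x : S.X₁.obj X), S.g.app X (S.f.app X x) = 0 := fun X x => by
    rw [← comp_app_apply, app_congr S.zero]; rfl
  have hτ' : ∀ X (κ : (kernel π).obj X), S.f.app X (τ.app X κ) =
      σ.app X ((kernel.ι π).app X κ) := fun X κ => by
    rw [← comp_app_apply, app_congr hτ]; rfl
  have e : cokernel k ≅ S.X₂ := by
    refine cokernelIsoOfPointwise k Φ ?_ hkΦ ?_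
    · intro X y
      obtain ⟨z, hz⟩ := PresheafOfModules.surjective_of_epi π X (S.g.app X y)
      have h1 : S.g.app X (y - σ.app X z) = 0 := by
        rw [map_sub, hσg', hz, sub_self]
      obtain ⟨x₁, hx₁⟩ := hex X _ h1
      refine ⟨(biprod.inl : S.X₁ ⟶ S.X₁ ⊞ c.pt).app X x₁ +
        (biprod.inr : c.pt ⟶ S.X₁ ⊞ c.pt).app X z, ?_⟩
      rw [map_add, ← comp_app_apply, ← comp_app_apply,
        app_congr (biprod.inl_desc S.f σ), app_congr (biprod.inr_desc S.f σ), hx₁]
      abel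
    · intro X w hw
      rw [hΦ] at hw
      set x₁ := (biprod.fst : S.X₁ ⊞ c.pt ⟶ S.X₁).app X w with hx₁
      set z := (biprod.snd : S.X₁ ⊞ c.pt ⟶ c.pt).app X w with hz
      have h1 : π.app X z = 0 := by
        have := congrArg (S.g.app X) hw
        rw [map_add, hfg', hσg', zero_add, map_zero] at this
        exact this
      obtain ⟨κ, hκ⟩ := mem_range_kernel_ι π X z h1
      have h2 : x₁ = -τ.app X κ := by
        apply hf X
        rw [map_neg, hτ', hκ]
        exact eq_neg_of_add_eq_zero_left hw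
      refine ⟨κ, ?_⟩
      have hk1 : (biprod.fst : S.X₁ ⊞ c.pt ⟶ S.X₁).app X (k.app X κ) = -τ.app X κ := by
        rw [← comp_app_apply, app_congr (biprod.lift_fst (-τ) (kernel.ι π))]
        rfl
      have hk2 : (biprod.snd : S.X₁ ⊞ c.pt ⟶ c.pt).app X (k.app X κ) = (kernel.ι π).app X κ := by
        rw [← comp_app_apply, app_congr (biprod.lift_snd (-τ) (kernel.ι π))]
      have htot : ∀ (w : (S.X₁ ⊞ c.pt).obj X), w =
          (biprod.inl : S.X₁ ⟶ S.X₁ ⊞ c.pt).app X ((biprod.fst : S.X₁ ⊞ c.pt ⟶ S.X₁).app X w) +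
          (biprod.inr : c.pt ⟶ S.X₁ ⊞ c.pt).app X ((biprod.snd : S.X₁ ⊞ c.pt ⟶ c.pt).app X w) := by
        intro w
        exact (app_congr (biprod.total (X := S.X₁) (Y := c.pt)) X w).symm
      rw [htot (k.app X κ), htot w, hk1, hk2, ← hx₁, ← hz, h2, hκ]
  exact (adequate A).prop_of_iso e (adequate_cokernel k hK (adequate_biprod h₁ hZ))

/-- an extension of a linearly adequate functor by `underline M` splits (= S8747) -/
theorem splitting_of_linAdequate (S : ShortComplex (MVF A)) (hS : S.ShortExact)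
    (M : ModuleCat.{u + 1} A) (e : S.X₁ ≅ (underline A).obj M) (hL : linAdequate A S.X₃) :
    Nonempty S.Splitting ∧ adequate A S.X₂ := by
  have h₁ : adequate A S.X₁ := (adequate A).prop_of_iso e.symm (adequate_underline M)
  have h₃ : adequate A S.X₃ := linAdequate_adequate hL
  refine ⟨?_, adequate_of_shortExact S hS h₁ h₃⟩
  obtain ⟨hf, hg, hex⟩ := shortExact_pointwise S hS
  obtain ⟨P, P', ψ, j, i1, i2, i3, i4, hj⟩ := (linAdequate_iff S.X₃).mp hL
  obtain ⟨σ, hσ⟩ := exists_lift_of_linAdequate S.f S.g hf hg hex h₁ h₃ P P' ψ j hj (𝟙 _)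
  exact ⟨ShortComplex.Splitting.ofExactOfSection S hS.exact σ hσ hS.mono_f⟩

end extensions

end Groth.Agent.H92.AdeqEps
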