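import Mathlib
import Groth.Prelude.Def_Adeq
import Groth.Agent.H92.AdeqBase
import Groth.Agent.H92.AdeqLin
import Groth.Agent.H92.AdeqCok
import Groth.Agent.H92.AdeqEps
import Groth.Agent.S8754

/-!
# The category of adequate functors: abelian, cocomplete, coreflective, enough injectives (helper92)
-/

set_option autoImplicit false
universe u
open CategoryTheory Limits Opposite TensorProduct

namespace Groth.Agent.H92.AdeqAdj

open Adeq Groth.Agent.H92.AdeqBase Groth.Agent.H92.AdeqLin Groth.Agent.H92.AdeqCok
  Groth.Agent.H92.AdeqEps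

variable {A : Type u} [CommRing A]

/-- standard free module of rank `k` in the universe of `ModuleCat.{u+1} A` -/
abbrev stdFree (A : Type u) [CommRing A] (k : ℕ) : ModuleCat.{u + 1} A :=
  ModuleCat.of A (ULift.{u + 1} (Fin k → A))

/-- the map of standard free modules attached to a linear map -/
noncomputable def stdMap {k s : ℕ} (ψ : (Fin k → A) →ₗ[A] (Fin s → A)) : stdFree A k ⟶ stdFree A s :=
  ModuleCat.ofHom ((ULift.moduleEquiv (R := A) (M := Fin s → A)).symm.toLinearMap ∘ₗ ψ ∘ₗ
    (ULift.moduleEquiv (R := A) (M := Fin k → A)).toLinearMap)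

/-- the standard linearly adequate functors -/
noncomputable abbrev stdL {k s : ℕ} (ψ : (Fin k → A) →ₗ[A] (Fin s → A)) : MVF A :=
  kernel ((underline A).map (stdMap ψ))

lemma stdL_adequate {k s : ℕ} (ψ : (Fin k → A) →ₗ[A] (Fin s → A)) : adequate A (stdL ψ) :=
  ⟨_, _, stdMap ψ, ⟨Iso.refl _⟩⟩

/-- every section of an adequate functor comes from a standard linearly adequate functor -/
theorem exists_stdL_hitting (F : MVF A) (hF : adequate A F) (B : Alg A) (ξ : F.obj (pt B)) :
    ∃ (k s : ℕ) (ψ : (Fin k → A) →ₗ[A] (Fin s → A)) (l : stdL ψ ⟶ F) (η : (stdL ψ).obj (pt B)),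
      l.app (pt B) η = ξ := by
  obtain ⟨M, N, φ, j, hj⟩ := (adequate_iff F).mp hF
  have hx : φ.hom.lTensor B (j.app (pt B) ξ) = 0 := hj.zero (pt B) ξ
  obtain ⟨k, s, ψ, g, h, η, h1, h2, h3⟩ := keyAlg φ.hom (j.app (pt B) ξ) hx
  let eP : ULift.{u + 1} (Fin k → A) ≃ₗ[A] (Fin k → A) := ULift.moduleEquiv
  let eP' : ULift.{u + 1} (Fin s → A) ≃ₗ[A] (Fin s → A) := ULift.moduleEquiv
  let g' : stdFree A k ⟶ M := ModuleCat.ofHom (g ∘ₗ eP.toLinearMap)
  let h' : stdFree A s ⟶ N := ModuleCat.ofHom (h ∘ₗ eP'.toLinearMap)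
  let η' : B ⊗[A] stdFree A k := eP.symm.toLinearMap.lTensor B η
  have e1 : g' ≫ φ = stdMap ψ ≫ h' := by
    ext y
    simp only [ModuleCat.hom_comp, ModuleCat.hom_ofHom, LinearMap.coe_comp, Function.comp_apply,
      LinearEquiv.coe_coe, stdMap, g', h']
    exact LinearMap.congr_fun h1 (eP y)
  have e2 : (stdMap ψ).hom.lTensor B η' = 0 := by
    simp only [ModuleCat.hom_ofHom, stdMap, η']
    rw [← LinearMap.lTensor_comp_apply]
    have : (eP'.symm.toLinearMap ∘ₗ ψ ∘ₗ eP.toLinearMap) ∘ₗ eP.symm.toLinearMap =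
        eP'.symm.toLinearMap ∘ₗ ψ := by
      ext y; simp
    rw [this, LinearMap.lTensor_comp_apply, h2, map_zero]
  have e3 : g'.hom.lTensor B η' = j.app (pt B) ξ := by
    simp only [ModuleCat.hom_ofHom, g', η']
    rw [← LinearMap.lTensor_comp_apply]
    have : (g ∘ₗ eP.toLinearMap) ∘ₗ eP.symm.toLinearMap = g := by
      ext y; simp
    rw [this, h3]
  have hcomp : (kernel.ι ((underline A).map (stdMap ψ)) ≫ (underline A).map g') ≫
      (underline A).map φ = 0 := by
    rw [Category.assoc, ← CategoryTheory.Functor.map_comp, e1, CategoryTheory.Functor.map_comp,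
      ← Category.assoc, kernel.condition, zero_comp]
  obtain ⟨l, hl⟩ := IsKer.exists_lift hj _ hcomp
  obtain ⟨η'', hη''⟩ := mem_range_kernel_ι ((underline A).map (stdMap ψ)) (pt B) η' e2
  refine ⟨k, s, ψ, l, η'', ?_⟩
  apply hj.inj (pt B)
  rw [← comp_app_apply, app_congr hl, comp_app_apply, hη'']
  exact e3


section closure

variable (A)

instance adequate_containsZero : (adequate A).ContainsZero where
  exists_zero := by
    let M : ModuleCat.{u + 1} A := ModuleCat.of A PUnit
    refine ⟨kernel ((underline A).map (𝟙 M)), ?_, ⟨M, M, 𝟙 M, ⟨Iso.refl _⟩⟩⟩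
    have : Mono ((underline A).map (𝟙 M)) := by
      rw [CategoryTheory.Functor.map_id]; infer_instance
    exact isZero_kernel_of_mono _

instance adequate_closedUnderKernels : (adequate A).IsClosedUnderKernels where
  kernels_le := by
    rintro _ ⟨f, k, hk, hX, hY⟩
    exact (adequate A).prop_of_iso
      (IsLimit.conePointUniqueUpToIso (kernelIsKernel f) hk) (adequate_kernel f hX hY)

instance adequate_closedUnderCokernels : (adequate A).IsClosedUnderCokernels where
  cokernels_le := by
    rintro _ ⟨f, k, hk, hX, hY⟩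
    exact (adequate A).prop_of_iso
      (IsColimit.coconePointUniqueUpToIso (cokernelIsCokernel f) hk) (adequate_cokernel f hX hY)

instance adequate_closedUnderColimits (J : Type (u + 1)) [SmallCategory J] :
    (adequate A).IsClosedUnderColimitsOfShape J :=
  ObjectProperty.IsClosedUnderColimitsOfShape.mk' (by
    rintro _ ⟨F, hF⟩
    exact adequate_colimit F hF)

instance adequate_closedUnderBinaryProducts : (adequate A).IsClosedUnderBinaryProducts :=
  ObjectProperty.IsClosedUnderLimitsOfShape.mk' (by
    rintro _ ⟨F, hF⟩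
    have e : limit F ≅ F.obj ⟨WalkingPair.left⟩ ⊞ F.obj ⟨WalkingPair.right⟩ :=
      HasLimit.isoOfNatIso (diagramIsoPair F) ≪≫ (biprod.isoProd _ _).symm
    exact (adequate A).prop_of_iso e.symm (adequate_biprod (hF _) (hF _)))

instance adequate_closedUnderFiniteProducts : (adequate A).IsClosedUnderFiniteProducts :=
  ObjectProperty.IsClosedUnderFiniteProducts.mk'

instance : HasColimitsOfSize.{u + 1, u + 1} (Adequate A) := ⟨fun _ _ => inferInstance⟩

instance : PreservesColimitsOfSize.{u + 1, u + 1} (adequate A).ι := ⟨fun {_} _ => inferInstance⟩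

/-- the small separating family of standard linearly adequate functors -/
noncomputable def sepFamily (i : Σ (k s : ℕ), (Fin k → A) →ₗ[A] (Fin s → A)) : Adequate A :=
  ⟨stdL i.2.2, stdL_adequate i.2.2⟩

lemma sepFamily_isSeparating : (ObjectProperty.ofObj (sepFamily A)).IsSeparating := by
  intro F G f g h
  apply ObjectProperty.hom_ext
  ext X x
  obtain ⟨k, s, ψ, l, η, hη⟩ := exists_stdL_hitting F.obj F.property X.unop.unop x
  have h1 := h (sepFamily A ⟨k, s, ψ⟩) (ObjectProperty.ofObj_apply _ _)
    ((adequate A).homMk l)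
  have h2 := congrArg (fun t => t.hom) h1
  have h3 := app_congr h2 X η
  rw [← hη]
  exact h3

/-- the inclusion of adequate functors has a right adjoint (= S8752) -/
theorem isLeftAdjoint_ι : (adequate A).ι.IsLeftAdjoint := by
  have hdet := (sepFamily_isSeparating A).isDetecting
  have : WellPowered.{u + 1} (Adequate A) := wellPowered_of_isDetecting hdet
  have : WellPowered.{u + 1} (Adequate A)ᵒᵖ := inferInstance
  exact isLeftAdjoint_of_preservesColimits_of_isSeparating (sepFamily_isSeparating A) _

/-- the category of adequate functors has enough injectives (= S8753) -/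
theorem enoughInjectives : EnoughInjectives (Adequate A) := by
  have := isLeftAdjoint_ι A
  have : EnoughInjectives (MVF A) := Groth.Agent.S8754.result A
  have : (adequate A).ι.PreservesMonomorphisms :=
    (adequate A).preservesMonomorphisms_ι_of_isNormalEpiCategory
  exact EnoughInjectives.of_adjunction (Adjunction.ofIsLeftAdjoint (adequate A).ι)

end closure

end Groth.Agent.H92.AdeqAdj
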