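import Mathlib

/-!
# Décalage contraction of a cosimplicial object (helper92)

For a cosimplicial object `X` in a preadditive category, the "décalage" complex with terms
`X[n+1]` and differential the alternating sum of all cofaces but the last one is contracted by the
last codegeneracy.
-/

set_option autoImplicit false
open CategoryTheory Limits Opposite Simplicial

universe v u

namespace Groth.Agent.H92.CechDecalage

variable {A : Type u} [Category.{v} A] [Preadditive A] (X : SimplexCategory ⥤ A)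

/-- alternating sum of all cofaces `X[n+1] ⟶ X[n+2]` but the last one -/
def dD (n : ℕ) : X.obj ⦋n + 1⦌ ⟶ X.obj ⦋n + 2⦌ :=
  ∑ i : Fin (n + 2), (-1 : ℤ) ^ (i : ℕ) • X.map (SimplexCategory.δ i.castSucc)

/-- the last codegeneracy -/
def sD (n : ℕ) : X.obj ⦋n + 1⦌ ⟶ X.obj ⦋n⦌ := X.map (SimplexCategory.σ (Fin.last n))

/-- the full alternating coface differential -/
def dC (n : ℕ) : X.obj ⦋n⦌ ⟶ X.obj ⦋n + 1⦌ :=
  ∑ i : Fin (n + 2), (-1 : ℤ) ^ (i : ℕ) • X.map (SimplexCategory.δ i)

lemma dC_eq (n : ℕ) :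
    ((AlgebraicTopology.alternatingCofaceMapComplex A).obj X).d n (n + 1) = dC X n := by
  change CochainComplex.of.d _ (AlgebraicTopology.AlternatingCofaceMapComplex.objD X) n (n + 1) = _
  exact (CochainComplex.of_d _ _ n).trans rfl

lemma dD_sD (m : ℕ) :
    dD X (m + 1) ≫ sD X (m + 2) = sD X (m + 1) ≫ dD X m + (-1 : ℤ) ^ (m + 2) • 𝟙 _ := by
  dsimp only [dD, sD]
  rw [Preadditive.sum_comp, Preadditive.comp_sum, Fin.sum_univ_castSucc]
  congr 1
  · refine Finset.sum_congr rfl (fun k _ => ?_)
    rw [Preadditive.zsmul_comp, Preadditive.comp_zsmul, ← X.map_comp, ← X.map_comp]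
    have h : SimplexCategory.δ (Fin.castSucc (Fin.castSucc k)) ≫ SimplexCategory.σ (Fin.last (m + 2)) =
        SimplexCategory.σ (Fin.last (m + 1)) ≫ SimplexCategory.δ (Fin.castSucc k) := by
      have := SimplexCategory.δ_comp_σ_of_le (n := m + 1) (i := Fin.castSucc k) (j := Fin.last (m + 1))
        (Fin.castSucc_le_castSucc_iff.2 (Fin.le_last k))
      rwa [Fin.succ_last] at this
    rw [h]
    rfl
  · rw [Preadditive.zsmul_comp, ← X.map_comp]
    have h : SimplexCategory.δ (Fin.castSucc (Fin.last (m + 2))) ≫ SimplexCategory.σ (Fin.last (m + 2)) =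
        𝟙 _ := SimplexCategory.δ_comp_σ_self
    rw [h, X.map_id]
    rfl

end Groth.Agent.H92.CechDecalage
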