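import Mathlib
import Groth.Prelude.Def_Adeq
import Groth.Agent.H92.AdeqBase
import Groth.Agent.H92.CechDecalage

/-!
# Čech (Amitsur) complex of an adequate functor along a faithfully flat ring map (helper92)
-/

set_option autoImplicit false
universe u
open CategoryTheory Limits Opposite TensorProduct Simplicial

namespace Groth.Agent.H92.AdeqAmitsur

open Adeq Groth.Agent.H92.AdeqBase Groth.Agent.H92.CechDecalage

variable {R : Type u} [CommRing R]

section VR

variable (F : MVF R)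

/-- `F(C)` as an `R`-module -/
def VR (C : Alg R) : Type (u + 1) := F.obj (pt C)

noncomputable instance (C : Alg R) : AddCommGroup (VR F C) :=
  inferInstanceAs (AddCommGroup (F.obj (pt C)))

noncomputable instance (C : Alg R) : Module C (VR F C) :=
  inferInstanceAs (Module C (F.obj (pt C)))

noncomputable instance (C : Alg R) : Module R (VR F C) :=
  Module.compHom (VR F C) (algebraMap R C)

lemma smulR_def {C : Alg R} (r : R) (x : VR F C) : r • x = (algebraMap R C r) • x := rfl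

instance (C : Alg R) : IsScalarTower R C (VR F C) :=
  ⟨fun r c x => by rw [smulR_def, Algebra.smul_def, mul_smul]⟩

instance (C : Alg R) : SMulCommClass R C (VR F C) :=
  ⟨fun r c x => by rw [smulR_def, smulR_def, ← mul_smul, ← mul_smul, mul_comm]⟩

/-- the plain map on values -/
noncomputable def mapV {C C' : Alg R} (f : C ⟶ C') (x : VR F C) : VR F C' := F.map (ptHom f) x

lemma mapV_add {C C' : Alg R} (f : C ⟶ C') (x y : VR F C) :
    mapV F f (x + y) = mapV F f x + mapV F f y :=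
  (F.map (ptHom f)).hom.map_add x y

lemma mapV_smul {C C' : Alg R} (f : C ⟶ C') (c : C) (x : VR F C) :
    mapV F f (c • x) = (f.hom c) • mapV F f x :=
  PresheafOfModules.map_smul F (ptHom f) c x

lemma mapV_comp {C C' C'' : Alg R} (f : C ⟶ C') (g : C' ⟶ C'') (x : VR F C) :
    mapV F (f ≫ g) x = mapV F g (mapV F f x) :=
  PresheafOfModules.map_comp_apply F (ptHom f) (ptHom g) x

lemma mapV_id {C : Alg R} (x : VR F C) : mapV F (𝟙 C) x = x := by
  have h : ptHom (𝟙 C) = 𝟙 (pt C) := rfl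
  unfold mapV
  rw [h, F.map_id]
  rfl

/-- the `R`-linear map on values -/
noncomputable def mapR {C C' : Alg R} (f : C ⟶ C') : VR F C →ₗ[R] VR F C' where
  toFun := mapV F f
  map_add' := mapV_add F f
  map_smul' r x := by
    rw [smulR_def, mapV_smul, AlgHom.commutes]
    rfl

lemma mapR_apply {C C' : Alg R} (f : C ⟶ C') (x : VR F C) : mapR F f x = mapV F f x := rfl

end VR

section FB

variable (F : MVF R) (B : Type u) [CommRing B] [Algebra R B]

/-- `x ⊗ b ↦ g b • F(f) x` -/
noncomputable def Φ {C C' : Alg R} (f : C ⟶ C') (g : B →ₐ[R] C') : VR F C ⊗[R] B →ₗ[R] VR F C' :=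
  TensorProduct.lift (LinearMap.mk₂ R (fun (x : VR F C) (b : B) => (g b) • mapV F f x)
    (fun x y b => by rw [mapV_add, smul_add])
    (fun r x b => by
      rw [← mapR_apply, ← mapR_apply, map_smul, smul_comm])
    (fun x b b' => by rw [map_add, add_smul])
    (fun r x b => by
      rw [map_smul, Algebra.smul_def, mul_smul]
      rfl))

lemma Φ_tmul {C C' : Alg R} (f : C ⟶ C') (g : B →ₐ[R] C') (x : VR F C) (b : B) :
    Φ F B f g (x ⊗ₜ[R] b) = (g b) • mapV F f x := rfl

variable (K : ModuleCat.{u + 1} R)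

/-- the analogue of `Φ` for `underline K`: `(c ⊗ k) ⊗ b ↦ (f c * g b) ⊗ k` -/
noncomputable def Ψ {C C' : Alg R} (f : C ⟶ C') (g : B →ₐ[R] C') :
    (C ⊗[R] K) ⊗[R] B →ₗ[R] C' ⊗[R] K :=
  ((Algebra.TensorProduct.productMap f.hom g).toLinearMap.rTensor K) ∘ₗ
    (TensorProduct.rightComm R C K B).toLinearMap

lemma Ψ_tmul {C C' : Alg R} (f : C ⟶ C') (g : B →ₐ[R] C') (c : C) (k : K) (b : B) :
    Ψ B K f g ((c ⊗ₜ[R] k) ⊗ₜ[R] b) = (f.hom c * g b) ⊗ₜ[R] k := by
  simp [Ψ]

lemma Ψ_bijective {C C' : Alg R} (f : C ⟶ C') (g : B →ₐ[R] C')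
    (hbij : Function.Bijective (Algebra.TensorProduct.productMap f.hom g)) :
    Function.Bijective (Ψ B K f g) := by
  let e : (C ⊗[R] B) ≃ₗ[R] C' :=
    LinearEquiv.ofBijective (Algebra.TensorProduct.productMap f.hom g).toLinearMap hbij
  have h : Ψ B K f g = ((TensorProduct.rightComm R C K B).trans (e.rTensor K)).toLinearMap := by
    apply LinearMap.ext
    intro w
    rfl
  rw [h]
  exact LinearEquiv.bijective _

lemma Ψ_tmul' {C C' : Alg R} (f : C ⟶ C') (g : B →ₐ[R] C') (w : C ⊗[R] K) (b : B) :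
    Ψ B K f g (w ⊗ₜ[R] b) = (g b) • (f.hom.toLinearMap.rTensor K w) := by
  induction w using TensorProduct.induction_on with
  | zero => rw [zero_tmul, map_zero, map_zero, smul_zero]
  | tmul c k =>
    rw [Ψ_tmul, LinearMap.rTensor_tmul, TensorProduct.smul_tmul', smul_eq_mul, mul_comm]
    rfl
  | add w w' h h' => rw [add_tmul, map_add, map_add, smul_add, h, h']

lemma Ψ_natural {K K' : ModuleCat.{u + 1} R} (φ : K ⟶ K') {C C' : Alg R} (f : C ⟶ C')
    (g : B →ₐ[R] C') (v : (C ⊗[R] K) ⊗[R] B) :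
    φ.hom.lTensor C' (Ψ B K f g v) = Ψ B K' f g ((φ.hom.lTensor C).rTensor B v) := by
  induction v using TensorProduct.induction_on with
  | zero => simp
  | tmul w b =>
    induction w using TensorProduct.induction_on with
    | zero => simp
    | tmul c k =>
      rw [Ψ_tmul, LinearMap.rTensor_tmul, LinearMap.lTensor_tmul, LinearMap.lTensor_tmul, Ψ_tmul]
    | add w w' h h' =>
      rw [add_tmul, map_add, map_add, h, h', map_add, map_add]
  | add v v' h h' => rw [map_add, map_add, h, h', map_add, map_add]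

end FB

section FBthm

variable {F : MVF R} (B : Type u) [CommRing B] [Algebra R B]
  {M N : ModuleCat.{u + 1} R} {φ : M ⟶ N} (j : F ⟶ (underline R).obj M)

/-- `j` at `C`, as an `R`-linear map -/
noncomputable def jR (C : Alg R) : VR F C →ₗ[R] C ⊗[R] M where
  toFun x := j.app (pt C) x
  map_add' x y := (j.app (pt C)).hom.map_add x y
  map_smul' r x := by
    rw [smulR_def]
    refine ((j.app (pt C)).hom.map_smul (algebraMap R C r) x).trans ?_
    exact algebraMap_smul C r (M := C ⊗[R] M) _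

lemma jR_apply (C : Alg R) (x : VR F C) : jR j C x = j.app (pt C) x := rfl

lemma jR_smul (C : Alg R) (c : C) (x : VR F C) : jR j C (c • x) = c • jR j C x :=
  (j.app (pt C)).hom.map_smul c x

lemma jR_mapV {C C' : Alg R} (f : C ⟶ C') (x : VR F C) :
    jR j C' (mapV F f x) = f.hom.toLinearMap.rTensor M (jR j C x) :=
  PresheafOfModules.naturality_apply j (ptHom f) x

lemma jR_Φ {C C' : Alg R} (f : C ⟶ C') (g : B →ₐ[R] C') (w : VR F C ⊗[R] B) :
    jR j C' (Φ F B f g w) = Ψ B M f g ((jR j C).rTensor B w) := by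
  induction w using TensorProduct.induction_on with
  | zero => simp
  | tmul x b =>
    rw [Φ_tmul, jR_smul, jR_mapV, LinearMap.rTensor_tmul, Ψ_tmul']
  | add w w' h h' => rw [map_add, map_add, h, h', map_add, map_add]

variable (hk : IsKer j ((underline R).map φ))
include hk

lemma jR_injective (C : Alg R) : Function.Injective (jR j C) := hk.inj (pt C)

lemma jR_exact (C : Alg R) : Function.Exact (jR j C) (φ.hom.lTensor C) := by
  intro y
  constructor
  · intro hy
    obtain ⟨x, hx⟩ := hk.exact (pt C) y hy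
    exact ⟨x, hx⟩
  · rintro ⟨x, rfl⟩
    exact hk.zero (pt C) x

theorem FB_aux [Module.Flat R B] {C C' : Alg R} (f : C ⟶ C') (g : B →ₐ[R] C')
    (hbij : Function.Bijective (Algebra.TensorProduct.productMap f.hom g)) :
    Function.Bijective (Φ F B f g) := by
  have hinj : Function.Injective ((jR j C).rTensor B) :=
    Module.Flat.rTensor_preserves_injective_linearMap _ (jR_injective j hk C)
  have hex : Function.Exact ((jR j C).rTensor B) ((φ.hom.lTensor C).rTensor B) :=
    Module.Flat.rTensor_exact B (jR_exact j hk C)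
  have hM := Ψ_bijective B M f g hbij
  have hN := Ψ_bijective B N f g hbij
  constructor
  · intro w w' hww
    apply hinj
    apply hM.1
    rw [← jR_Φ, ← jR_Φ, hww]
  · intro y
    obtain ⟨v, hv⟩ := hM.2 (jR j C' y)
    have hv0 : (φ.hom.lTensor C).rTensor B v = 0 := by
      apply hN.1
      rw [← Ψ_natural, hv, map_zero]
      exact hk.zero (pt C') y
    obtain ⟨w, hw⟩ := (hex v).1 hv0
    refine ⟨w, jR_injective j hk C' ?_⟩
    rw [jR_Φ, hw, hv]

end FBthm

theorem FB {F : MVF R} (hF : adequate R F) (B : Type u) [CommRing B] [Algebra R B]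
    [Module.Flat R B] {C C' : Alg R} (f : C ⟶ C') (g : B →ₐ[R] C')
    (hbij : Function.Bijective (Algebra.TensorProduct.productMap f.hom g)) :
    Function.Bijective (Φ F B f g) := by
  obtain ⟨M, N, φ, j, hk⟩ := (adequate_iff F).1 hF
  exact FB_aux B j hk f g hbij

section Tcos

variable (R) (B : Type u) [CommRing B] [Algebra R B]

/-- the constant family -/
abbrev fam (n : ℕ) : Fin (n + 1) → CommAlgCat.{u} R := fun _ => CommAlgCat.of R B

/-- the cosimplicial `R`-algebra `n ↦ B^{⊗(n+1)}`, as abstract coproducts -/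
noncomputable def Tcos : SimplexCategory ⥤ CommAlgCat.{u} R where
  obj n := ∐ (fam R B n.len)
  map {m n} θ := Sigma.desc (fun i => Sigma.ι (fam R B n.len) (θ.toOrderHom i))
  map_id n := by
    apply Sigma.hom_ext
    intro i
    simp
    rfl
  map_comp {l m n} θ θ' := by
    apply Sigma.hom_ext
    intro i
    simp
    rfl

/-- the terms -/
noncomputable abbrev T (n : ℕ) : CommAlgCat.{u} R := (Tcos R B).obj ⦋n⦌

/-- the coprojections -/
noncomputable def inc (n : ℕ) (i : Fin (n + 1)) : CommAlgCat.of R B ⟶ T R B n :=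
  Sigma.ι (fam R B n) i

lemma inc_map {m n : ℕ} (θ : ⦋m⦌ ⟶ ⦋n⦌) (i : Fin (m + 1)) :
    inc R B m i ≫ (Tcos R B).map θ = inc R B n (θ.toOrderHom i) :=
  Sigma.ι_desc (f := fam R B m) (fun i => Sigma.ι (fam R B n) (θ.toOrderHom i)) i

lemma inc_map_apply {m n : ℕ} (θ : ⦋m⦌ ⟶ ⦋n⦌) (i : Fin (m + 1)) (b : B) :
    ((Tcos R B).map θ).hom ((inc R B m i).hom b) = (inc R B n (θ.toOrderHom i)).hom b := by
  rw [← inc_map]
  rfl

lemma hom_ext_T {n : ℕ} {C : CommAlgCat.{u} R} (f g : T R B n ⟶ C)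
    (h : ∀ i, inc R B n i ≫ f = inc R B n i ≫ g) : f = g :=
  Sigma.hom_ext _ _ h

/-- `T_n ⊗ B` -/
noncomputable abbrev TB (n : ℕ) : CommAlgCat.{u} R := CommAlgCat.of R (T R B n ⊗[R] B)

/-- include left -/
noncomputable def iL (n : ℕ) : T R B n ⟶ TB R B n :=
  CommAlgCat.ofHom (Algebra.TensorProduct.includeLeft : T R B n →ₐ[R] T R B n ⊗[R] B)

/-- include right -/
noncomputable def iR (n : ℕ) : CommAlgCat.of R B ⟶ TB R B n :=
  CommAlgCat.ofHom (Algebra.TensorProduct.includeRight : B →ₐ[R] T R B n ⊗[R] B)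

/-- the inverse of the product map -/
noncomputable def ψ (n : ℕ) : T R B (n + 1) ⟶ TB R B n :=
  Sigma.desc (fun i : Fin (n + 2) => Fin.lastCases
    (motive := fun _ => CommAlgCat.of R B ⟶ TB R B n)
    (iR R B n) (fun k => inc R B n k ≫ iL R B n) i)

lemma inc_ψ_last (n : ℕ) : inc R B (n + 1) (Fin.last (n + 1)) ≫ ψ R B n = iR R B n := by
  refine (Sigma.ι_desc (f := fam R B (n + 1)) _ (Fin.last (n + 1))).trans ?_
  exact Fin.lastCases_last

lemma inc_ψ_castSucc (n : ℕ) (k : Fin (n + 1)) :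
    inc R B (n + 1) k.castSucc ≫ ψ R B n = inc R B n k ≫ iL R B n := by
  refine (Sigma.ι_desc (f := fam R B (n + 1)) _ k.castSucc).trans ?_
  exact Fin.lastCases_castSucc ..

/-- the last coface -/
noncomputable abbrev δl (n : ℕ) : T R B n ⟶ T R B (n + 1) :=
  (Tcos R B).map (SimplexCategory.δ (Fin.last (n + 1)))

/-- the last coprojection as an algebra map -/
noncomputable abbrev gl (n : ℕ) : B →ₐ[R] T R B (n + 1) := (inc R B (n + 1) (Fin.last (n + 1))).hom

/-- the product map `T_n ⊗ B → T_{n+1}` -/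
noncomputable abbrev pm (n : ℕ) : T R B n ⊗[R] B →ₐ[R] T R B (n + 1) :=
  Algebra.TensorProduct.productMap (δl R B n).hom (gl R B n)

lemma inc_δl (n : ℕ) (k : Fin (n + 1)) :
    inc R B n k ≫ δl R B n = inc R B (n + 1) k.castSucc := by
  rw [inc_map]
  congr 1
  exact Fin.succAbove_last_apply k

lemma δl_ψ (n : ℕ) : δl R B n ≫ ψ R B n = iL R B n := by
  apply hom_ext_T
  intro k
  rw [← Category.assoc, inc_δl, inc_ψ_castSucc]

lemma iL_pm (n : ℕ) : iL R B n ≫ CommAlgCat.ofHom (pm R B n) = δl R B n := by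
  ext a
  exact Algebra.TensorProduct.productMap_left_apply _ _ a

lemma iR_pm (n : ℕ) :
    iR R B n ≫ CommAlgCat.ofHom (pm R B n) = inc R B (n + 1) (Fin.last (n + 1)) := by
  ext b
  exact Algebra.TensorProduct.productMap_right_apply _ _ b

lemma ψ_pm (n : ℕ) : ψ R B n ≫ CommAlgCat.ofHom (pm R B n) = 𝟙 _ := by
  apply hom_ext_T
  intro i
  rw [Category.comp_id]
  induction i using Fin.lastCases with
  | last => rw [← Category.assoc, inc_ψ_last, iR_pm]
  | cast k => rw [← Category.assoc, inc_ψ_castSucc, Category.assoc, iL_pm, inc_δl]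

lemma pm_ψ_apply (n : ℕ) (w : T R B n ⊗[R] B) : (ψ R B n).hom (pm R B n w) = w := by
  induction w using TensorProduct.induction_on with
  | zero => rw [map_zero, map_zero]
  | tmul a b =>
    rw [Algebra.TensorProduct.productMap_apply_tmul, map_mul]
    have h1 : (ψ R B n).hom ((δl R B n).hom a) = a ⊗ₜ[R] (1 : B) :=
      congrArg (fun f => f.hom a) (δl_ψ R B n)
    have h2 : (ψ R B n).hom (gl R B n b) = (1 : T R B n) ⊗ₜ[R] b :=
      congrArg (fun f => f.hom b) (inc_ψ_last R B n)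
    rw [h1, h2, Algebra.TensorProduct.tmul_mul_tmul, mul_one, one_mul]
  | add w w' h h' => rw [map_add, map_add, h, h']

lemma pm_bijective (n : ℕ) : Function.Bijective (pm R B n) := by
  constructor
  · apply Function.LeftInverse.injective (g := (ψ R B n).hom)
    exact pm_ψ_apply R B n
  · apply Function.RightInverse.surjective (g := (ψ R B n).hom)
    intro t
    exact congrArg (fun a => a.hom t) (ψ_pm R B n)

end Tcos

section Complex

variable (F : MVF R) (B : Type u) [CommRing B] [Algebra R B]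

/-- the cosimplicial abelian group `n ↦ F(B^{⊗(n+1)})` -/
noncomputable abbrev XF : SimplexCategory ⥤ Ab.{u + 1} := Tcos R B ⋙ F.toAb

/-- the terms, as `R`-modules -/
abbrev V (n : ℕ) : Type (u + 1) := VR F (T R B n)

lemma XF_map_apply {m n : ℕ} (θ : ⦋m⦌ ⟶ ⦋n⦌) (x : V F B m) :
    ((XF F B).map θ) x = mapV F ((Tcos R B).map θ) x := rfl

/-- evaluation of a morphism of abelian groups at an element, as an additive map -/
noncomputable def evalAt {X Y : Ab.{u + 1}} (x : X) : (X ⟶ Y) →+ Y where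
  toFun f := f x
  map_zero' := rfl
  map_add' _ _ := rfl

/-- the full differential on elements -/
noncomputable def dV (n : ℕ) (x : V F B n) : V F B (n + 1) :=
  ∑ i : Fin (n + 2), (-1 : ℤ) ^ (i : ℕ) • mapV F ((Tcos R B).map (SimplexCategory.δ i)) x

/-- the decalage differential on elements -/
noncomputable def dDV (n : ℕ) (x : V F B (n + 1)) : V F B (n + 2) :=
  ∑ i : Fin (n + 2), (-1 : ℤ) ^ (i : ℕ) • mapV F ((Tcos R B).map (SimplexCategory.δ i.castSucc)) x

/-- the contraction on elements -/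
noncomputable def sV (n : ℕ) (x : V F B (n + 1)) : V F B n :=
  mapV F ((Tcos R B).map (SimplexCategory.σ (Fin.last n))) x

lemma dC_apply (n : ℕ) (x : V F B n) : (dC (XF F B) n) x = dV F B n x := by
  have h := map_sum (evalAt (Y := (XF F B).obj ⦋n + 1⦌) (X := (XF F B).obj ⦋n⦌) x)
    (fun i : Fin (n + 2) => (-1 : ℤ) ^ (i : ℕ) • (XF F B).map (SimplexCategory.δ i)) Finset.univ
  refine h.trans ?_
  refine Finset.sum_congr rfl (fun i _ => ?_)
  exact map_zsmul (evalAt (Y := (XF F B).obj ⦋n + 1⦌) (X := (XF F B).obj ⦋n⦌) x) _ _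

lemma dD_apply (n : ℕ) (x : V F B (n + 1)) : (dD (XF F B) n) x = dDV F B n x := by
  have h := map_sum (evalAt (Y := (XF F B).obj ⦋n + 2⦌) (X := (XF F B).obj ⦋n + 1⦌) x)
    (fun i : Fin (n + 2) => (-1 : ℤ) ^ (i : ℕ) • (XF F B).map (SimplexCategory.δ i.castSucc))
    Finset.univ
  refine h.trans ?_
  refine Finset.sum_congr rfl (fun i _ => ?_)
  exact map_zsmul (evalAt (Y := (XF F B).obj ⦋n + 2⦌) (X := (XF F B).obj ⦋n + 1⦌) x) _ _

lemma sD_apply (n : ℕ) (x : V F B (n + 1)) : (sD (XF F B) n) x = sV F B n x := rfl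

/-- the contraction identity on elements -/
lemma contraction (m : ℕ) (y : V F B (m + 2)) :
    sV F B (m + 2) (dDV F B (m + 1) y) =
      dDV F B m (sV F B (m + 1) y) + (-1 : ℤ) ^ (m + 2) • y := by
  have h := congrArg (evalAt (X := (XF F B).obj ⦋m + 2⦌) (Y := (XF F B).obj ⦋m + 2⦌) y)
    (dD_sD (XF F B) m)
  rw [map_add, map_zsmul] at h
  have h1 : evalAt (X := (XF F B).obj ⦋m + 2⦌) (Y := (XF F B).obj ⦋m + 2⦌) y
      (dD (XF F B) (m + 1) ≫ sD (XF F B) (m + 2)) = sV F B (m + 2) (dDV F B (m + 1) y) := by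
    change (sD (XF F B) (m + 2)) ((dD (XF F B) (m + 1)) y) = _
    rw [dD_apply]
    rfl
  have h2 : evalAt (X := (XF F B).obj ⦋m + 2⦌) (Y := (XF F B).obj ⦋m + 2⦌) y
      (sD (XF F B) (m + 1) ≫ dD (XF F B) m) = dDV F B m (sV F B (m + 1) y) := by
    change (dD (XF F B) m) ((sD (XF F B) (m + 1)) y) = _
    rw [dD_apply]
    rfl
  have h3 : evalAt (X := (XF F B).obj ⦋m + 2⦌) (Y := (XF F B).obj ⦋m + 2⦌) y (𝟙 _) = y := rfl
  rw [h1, h2, h3] at h
  exact h

end Complex

section Linear

variable (F : MVF R) (B : Type u) [CommRing B] [Algebra R B]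

/-- the differential as an `R`-linear map -/
noncomputable def dVR (n : ℕ) : V F B n →ₗ[R] V F B (n + 1) :=
  ∑ i : Fin (n + 2), (-1 : ℤ) ^ (i : ℕ) • mapR F ((Tcos R B).map (SimplexCategory.δ i))

lemma dVR_apply (n : ℕ) (x : V F B n) : dVR F B n x = dV F B n x := by
  unfold dVR dV
  rw [LinearMap.sum_apply]
  refine Finset.sum_congr rfl (fun i _ => ?_)
  rw [LinearMap.smul_apply]
  rfl

/-- the decalage differential as an `R`-linear map -/
noncomputable def dDVR (n : ℕ) : V F B (n + 1) →ₗ[R] V F B (n + 2) :=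
  ∑ i : Fin (n + 2), (-1 : ℤ) ^ (i : ℕ) • mapR F ((Tcos R B).map (SimplexCategory.δ i.castSucc))

lemma dDVR_apply (n : ℕ) (x : V F B (n + 1)) : dDVR F B n x = dDV F B n x := by
  unfold dDVR dDV
  rw [LinearMap.sum_apply]
  refine Finset.sum_congr rfl (fun i _ => ?_)
  rw [LinearMap.smul_apply]
  rfl

/-- the comparison `F(T_n) ⊗ B → F(T_{n+1})` -/
noncomputable def Φn (n : ℕ) : V F B n ⊗[R] B →ₗ[R] V F B (n + 1) :=
  Φ F B (δl R B n) (gl R B n)

lemma Φn_tmul (n : ℕ) (x : V F B n) (b : B) :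
    Φn F B n (x ⊗ₜ[R] b) = (gl R B n b) • mapV F (δl R B n) x := rfl

lemma Φn_bijective (hF : adequate R F) [Module.Flat R B] (n : ℕ) :
    Function.Bijective (Φn F B n) :=
  FB hF B (δl R B n) (gl R B n) (pm_bijective R B n)

lemma map_gl (n : ℕ) (i : Fin (n + 2)) (b : B) :
    ((Tcos R B).map (SimplexCategory.δ i.castSucc)).hom (gl R B n b) = gl R B (n + 1) b := by
  refine (inc_map_apply R B (SimplexCategory.δ i.castSucc) (Fin.last (n + 1)) b).trans ?_
  have h : (SimplexCategory.Hom.toOrderHom (SimplexCategory.δ i.castSucc)) (Fin.last (n + 1)) =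
      Fin.last (n + 2) := by
    change Fin.succAbove i.castSucc (Fin.last (n + 1)) = Fin.last (n + 2)
    rw [Fin.succAbove_of_le_castSucc _ _ (Fin.castSucc_le_castSucc_iff.2 (Fin.le_last i)),
      Fin.succ_last]
  rw [h]

lemma δ_comp_δl (n : ℕ) (i : Fin (n + 2)) :
    (Tcos R B).map (SimplexCategory.δ i) ≫ δl R B (n + 1) =
      δl R B n ≫ (Tcos R B).map (SimplexCategory.δ i.castSucc) := by
  unfold δl
  rw [← Functor.map_comp, ← Functor.map_comp]
  congr 1
  have := SimplexCategory.δ_comp_δ (n := n) (i := i) (j := Fin.last (n + 1)) (Fin.le_last i)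
  rwa [Fin.succ_last] at this

lemma Φn_chain (n : ℕ) (w : V F B n ⊗[R] B) :
    Φn F B (n + 1) ((dVR F B n).rTensor B w) = dDVR F B n (Φn F B n w) := by
  induction w using TensorProduct.induction_on with
  | zero => simp
  | tmul x b =>
    rw [LinearMap.rTensor_tmul, Φn_tmul, Φn_tmul, dVR_apply, dDVR_apply]
    unfold dV dDV
    rw [← mapR_apply, map_sum, Finset.smul_sum]
    refine Finset.sum_congr rfl (fun i _ => ?_)
    rw [map_zsmul, smul_comm, mapR_apply, mapV_smul, map_gl, ← mapV_comp, ← mapV_comp, δ_comp_δl]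
  | add w w' h h' => rw [map_add, map_add, h, h', map_add, map_add]

end Linear

section Exact

variable (F : MVF R) (B : Type u) [CommRing B] [Algebra R B]

lemma dV_dV (n : ℕ) (x : V F B n) : dV F B (n + 1) (dV F B n x) = 0 := by
  have h := ((AlgebraicTopology.alternatingCofaceMapComplex Ab.{u + 1}).obj (XF F B)).d_comp_d
    n (n + 1) (n + 2)
  rw [dC_eq, dC_eq] at h
  have h' := congrArg (evalAt (X := (XF F B).obj ⦋n⦌) (Y := (XF F B).obj ⦋n + 2⦌) x) h
  change (dC (XF F B) (n + 1)) ((dC (XF F B) n) x) = 0 at h'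
  rw [dC_apply F B n x] at h'
  exact (dC_apply F B (n + 1) _).symm.trans h'

omit [CommRing R] in
lemma sign_solve {G : Type*} [AddCommGroup G] (m : ℕ) (y D : G)
    (h : 0 = D + (-1 : ℤ) ^ (m + 2) • y) : y = (-1 : ℤ) ^ (m + 1) • D := by
  have hε : ((-1 : ℤ) ^ m) * ((-1 : ℤ) ^ m) = 1 := by
    rw [← pow_add, ← two_mul, pow_mul]; simp
  have e2 : (-1 : ℤ) ^ (m + 2) = (-1 : ℤ) ^ m := by rw [pow_add]; simp
  have e1 : (-1 : ℤ) ^ (m + 1) = -((-1 : ℤ) ^ m) := by rw [pow_succ]; simp
  rw [e2] at h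
  rw [e1]
  have h1 : (-1 : ℤ) ^ m • y = -D := eq_neg_of_add_eq_zero_right h.symm
  calc y = ((-1 : ℤ) ^ m * (-1 : ℤ) ^ m) • y := by rw [hε, one_smul]
    _ = (-1 : ℤ) ^ m • ((-1 : ℤ) ^ m • y) := by rw [mul_smul]
    _ = (-1 : ℤ) ^ m • (-D) := by rw [h1]
    _ = -((-1 : ℤ) ^ m) • D := by rw [smul_neg, neg_smul]

variable (hF : adequate R F) [Module.FaithfullyFlat R B]
include hF

theorem exact_dVR (m : ℕ) : Function.Exact (dVR F B m) (dVR F B (m + 1)) := by
  apply Module.FaithfullyFlat.rTensor_reflects_exact R B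
  intro w
  constructor
  · intro hw
    have hb1 := Φn_bijective F B hF (m + 1)
    have hb0 := Φn_bijective F B hF m
    set y := Φn F B (m + 1) w with hy
    have hdy : dDV F B (m + 1) y = 0 := by
      rw [← dDVR_apply, hy, ← Φn_chain, hw, map_zero]
    have hc := contraction F B m y
    rw [hdy] at hc
    obtain ⟨w', hw'⟩ := hb0.2 (sV F B (m + 1) y)
    have hy2 : y = dDVR F B m (Φn F B m ((-1 : ℤ) ^ (m + 1) • w')) := by
      rw [map_zsmul, map_zsmul, hw', dDVR_apply]
      have h0 : sV F B (m + 2) (0 : V F B (m + 3)) = 0 := (mapR F _).map_zero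
      rw [h0] at hc
      exact sign_solve m y _ hc
    refine ⟨(-1 : ℤ) ^ (m + 1) • w', hb1.1 ?_⟩
    rw [Φn_chain, ← hy2]
  · rintro ⟨w', rfl⟩
    rw [← LinearMap.comp_apply, ← LinearMap.rTensor_comp]
    have h0 : dVR F B (m + 1) ∘ₗ dVR F B m = 0 := by
      apply LinearMap.ext
      intro x
      rw [LinearMap.comp_apply, dVR_apply, dVR_apply]
      exact dV_dV F B m x
    rw [h0, LinearMap.rTensor_zero, LinearMap.zero_apply]

/-- exactness of the Čech complex of an adequate functor along a faithfully flat map, on elements -/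
theorem exact_dV (m : ℕ) (x : V F B (m + 1)) (hx : dV F B (m + 1) x = 0) :
    ∃ y : V F B m, dV F B m y = x := by
  have h := (exact_dVR F B hF m x).1 (by rw [dVR_apply]; exact hx)
  obtain ⟨y, hy⟩ := h
  exact ⟨y, by rw [← dVR_apply]; exact hy⟩

theorem exactAt (m : ℕ) :
    ((AlgebraicTopology.alternatingCofaceMapComplex Ab.{u + 1}).obj (XF F B)).ExactAt (m + 1) := by
  rw [HomologicalComplex.exactAt_iff' _ m (m + 1) (m + 2) (by simp) (by simp),
    ShortComplex.ab_exact_iff]
  intro x hx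
  have hx' : dV F B (m + 1) x = 0 := by
    rw [← dC_apply, ← dC_eq]
    exact hx
  obtain ⟨y, hy⟩ := exact_dV F B hF m x hx'
  refine ⟨y, ?_⟩
  rw [← dC_apply, ← dC_eq] at hy
  exact hy

end Exact

end Groth.Agent.H92.AdeqAmitsur
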