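import Mathlib
import Groth.Prelude.Def_Adeq
import Groth.Agent.H92.AdeqBase
import Groth.Agent.H92.AdeqCok
import Groth.Agent.S8749
import Groth.Agent.S8750

/-!
# Descent of adequacy along a ring map (helper92)
-/

set_option autoImplicit false
universe u
open CategoryTheory Limits Opposite TensorProduct

namespace Groth.Agent.H92.AdeqDesc

open Adeq Groth.Agent.H92.AdeqBase Groth.Agent.H92.AdeqCok

variable (A A' : Type u) [CommRing A] [CommRing A'] [Algebra A A']

lemma unit_naturality {B B' : Alg A} (k : B ⟶ B') :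
    Alg.unit A A' B ≫ (Alg.restr A A').map ((Alg.baseChange A A').map k) =
      k ≫ Alg.unit A A' B' := by
  ext
  rfl

/-- the unit `F ⟶ push (restr F)`, with components `F(B) → F(A' ⊗ B)` -/
noncomputable def unitHom (F : MVF A) : F ⟶ (push A A').obj ((restr A A').obj F) where
  app X := ModuleCat.ofHom (X := F.obj X) (Y := ((push A A').obj ((restr A A').obj F)).obj X)
    ({ toFun := fun x => F.map (ptHom (Alg.unit A A' X.unop.unop)) x
       map_add' := fun x y => map_add _ x y
       map_smul' := fun b x =>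
        PresheafOfModules.map_smul F (ptHom (Alg.unit A A' X.unop.unop)) b x } :
      F.obj X →ₗ[(ringOf A).obj X] ((push A A').obj ((restr A A').obj F)).obj X)
  naturality := by
    intro X Y k
    ext x
    show F.map (ptHom (Alg.unit A A' Y.unop.unop)) (F.map k x) =
      F.map (ptHom ((Alg.restr A A').map ((Alg.baseChange A A').map k.unop.unop)))
        (F.map (ptHom (Alg.unit A A' X.unop.unop)) x)
    rw [← PresheafOfModules.map_comp_apply, ← PresheafOfModules.map_comp_apply]
    apply PresheafOfModules.congr_map_apply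
    exact congrArg (fun t => ptHom t) (unit_naturality A A' k.unop.unop).symm


/-- descent of adequacy (= S8751) -/
theorem adequate_of_restr (F : MVF A) (h₁ : adequate A' ((restr A A').obj F))
    (h₂ : ∀ B : Alg A, Function.Injective (F.map (ptHom (Alg.unit A A' B))) ∧
      ∀ y : F.obj (pt ((Alg.restr A A').obj ((Alg.baseChange A A').obj B))),
        F.map (ptHom (Alg.unit A A' ((Alg.restr A A').obj ((Alg.baseChange A A').obj B)))) y =
          F.map (ptHom ((Alg.restr A A').map ((Alg.baseChange A A').map (Alg.unit A A' B)))) y →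
        y ∈ Set.range (F.map (ptHom (Alg.unit A A' B)))) : adequate A F := by
  let G₁ : MVF A := (push A A').obj ((restr A A').obj F)
  have hG₁ : adequate A G₁ := Groth.Agent.S8750.result A A' _ h₁
  let G₂ : MVF A := (push A A').obj ((restr A A').obj G₁)
  have hG₂ : adequate A G₂ :=
    Groth.Agent.S8750.result A A' _ (Groth.Agent.S8749.result A A' G₁ hG₁)
  let β₁ : G₁ ⟶ G₂ := unitHom A A' G₁
  let β₂ : G₁ ⟶ G₂ := (push A A').map ((restr A A').map (unitHom A A' F))
  have hβ₁ : ∀ (X : (Alg A)ᵒᵖᵒᵖ) (y : G₁.obj X), β₁.app X y =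
      F.map (ptHom ((Alg.restr A A').map ((Alg.baseChange A A').map
        (Alg.unit A A' X.unop.unop)))) y := fun X y => rfl
  have hβ₂ : ∀ (X : (Alg A)ᵒᵖᵒᵖ) (y : G₁.obj X), β₂.app X y =
      F.map (ptHom (Alg.unit A A' ((Alg.restr A A').obj
        ((Alg.baseChange A A').obj X.unop.unop)))) y := fun X y => rfl
  have hsub : ∀ (X : (Alg A)ᵒᵖᵒᵖ) (y : G₁.obj X), (β₂ - β₁).app X y =
      β₂.app X y - β₁.app X y := fun X y => rfl
  have hker : IsKer (unitHom A A' F) (β₂ - β₁) := by
    refine ⟨fun X => (h₂ X.unop.unop).1, ?_, ?_⟩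
    · intro X x
      rw [hsub, hβ₁, hβ₂, sub_eq_zero]
      show F.map (ptHom (Alg.unit A A' ((Alg.restr A A').obj
          ((Alg.baseChange A A').obj X.unop.unop))))
          (F.map (ptHom (Alg.unit A A' X.unop.unop)) x) =
        F.map (ptHom ((Alg.restr A A').map ((Alg.baseChange A A').map (Alg.unit A A' X.unop.unop))))
          (F.map (ptHom (Alg.unit A A' X.unop.unop)) x)
      rw [← PresheafOfModules.map_comp_apply, ← PresheafOfModules.map_comp_apply]
      apply PresheafOfModules.congr_map_apply
      exact congrArg (fun t => ptHom t)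
        (unit_naturality A A' (Alg.unit A A' X.unop.unop)).symm
    · intro X y hy
      rw [hsub, hβ₁, hβ₂, sub_eq_zero] at hy
      obtain ⟨x, hx⟩ := (h₂ X.unop.unop).2 y hy
      exact ⟨x, hx⟩
  exact (adequate A).prop_of_iso hker.iso.symm (adequate_kernel (β₂ - β₁) hG₁ hG₂)

end Groth.Agent.H92.AdeqDesc
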