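import Mathlib
import Groth.Prelude.Def_Adeq
import Groth.Agent.H92.AdeqDesc
import Groth.Agent.H92.AdeqAdj

/-!
# Descent of adequacy along a finite family of ring maps (helper92)

`adequate_of_finite_restr`: if `F` is a module-valued functor on `A`-algebras, `C k` (`k` in a finite type) are
`A`-algebras with `restr F` adequate over each `C k`, and `F` satisfies the sheaf condition with respect to the
families `B → C k ⊗ B`, then `F` is adequate.
-/

set_option autoImplicit false
universe u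
open CategoryTheory Limits Opposite TensorProduct

namespace Groth.Agent.H92.AdeqFin

open Adeq Groth.Agent.H92.AdeqBase Groth.Agent.H92.AdeqCok Groth.Agent.H92.AdeqDesc

variable {A : Type u} [CommRing A]

instance : HasFiniteBiproducts (MVF A) := Abelian.hasFiniteBiproducts

/-- evaluation of morphisms at an element, as an additive map -/
noncomputable def appAddHom {F G : MVF A} (X : (Alg A)ᵒᵖᵒᵖ) (x : F.obj X) : (F ⟶ G) →+ G.obj X where
  toFun a := a.app X x
  map_zero' := rfl
  map_add' _ _ := rfl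

lemma sum_app_apply {F G : MVF A} {ι : Type*} (s : Finset ι) (a : ι → (F ⟶ G))
    (X : (Alg A)ᵒᵖᵒᵖ) (x : F.obj X) :
    (∑ k ∈ s, a k).app X x = ∑ k ∈ s, (a k).app X x :=
  map_sum (appAddHom (G := G) X x) a s

lemma sub_app_apply {F G : MVF A} (a b : F ⟶ G) (X : (Alg A)ᵒᵖᵒᵖ) (x : F.obj X) :
    (a - b).app X x = a.app X x - b.app X x := rfl

lemma id_app_apply {F : MVF A} (X : (Alg A)ᵒᵖᵒᵖ) (x : F.obj X) :
    (𝟙 F : F ⟶ F).app X x = x := rfl

section biproduct

variable {ι : Type} [Fintype ι] (G : ι → MVF A)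

lemma bi_decomp (X : (Alg A)ᵒᵖᵒᵖ) (y : (⨁ G).obj X) :
    y = ∑ k, (biproduct.ι G k).app X ((biproduct.π G k).app X y) := by
  have h := app_congr (biproduct.total (f := G)) X y
  rw [sum_app_apply, id_app_apply] at h
  exact h.symm

lemma bi_ext (X : (Alg A)ᵒᵖᵒᵖ) (y y' : (⨁ G).obj X)
    (h : ∀ k, (biproduct.π G k).app X y = (biproduct.π G k).app X y') : y = y' := by
  rw [bi_decomp G X y, bi_decomp G X y']
  exact Finset.sum_congr rfl (fun k _ => by rw [h k])

lemma bi_exists (X : (Alg A)ᵒᵖᵒᵖ) (z : ∀ k, (G k).obj X) :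
    ∃ y : (⨁ G).obj X, ∀ k, (biproduct.π G k).app X y = z k := by
  refine ⟨∑ k, (biproduct.ι G k).app X (z k), fun l => ?_⟩
  rw [map_sum]
  rw [Finset.sum_eq_single l]
  · rw [← comp_app_apply, app_congr (biproduct.ι_π_self G l)]
    rfl
  · intro k _ hk
    rw [← comp_app_apply, app_congr (biproduct.ι_π_ne G hk)]
    rfl
  · intro h
    exact absurd (Finset.mem_univ l) h

lemma adequate_biproduct (hG : ∀ k, adequate A (G k)) : adequate A (⨁ G) :=
  (adequate A).prop_of_isLimit_fan (biproduct.isLimit G) hG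

end biproduct


section main

variable (A) {ι : Type} [Fintype ι] (C : ι → Type u) [∀ k, CommRing (C k)] [∀ k, Algebra A (C k)]

/-- descent of adequacy along a finite family of ring maps satisfying the sheaf condition for `F` -/
theorem adequate_of_finite_restr (F : MVF A)
    (h₁ : ∀ k, adequate (C k) ((restr A (C k)).obj F))
    (hsep : ∀ (B : Alg A) (x : F.obj (pt B)),
      (∀ k, F.map (ptHom (Alg.unit A (C k) B)) x = 0) → x = 0)
    (hglue : ∀ (B : Alg A)
      (y : ∀ k, F.obj (pt ((Alg.restr A (C k)).obj ((Alg.baseChange A (C k)).obj B)))),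
      (∀ k l, F.map (ptHom (Alg.unit A (C k)
            ((Alg.restr A (C l)).obj ((Alg.baseChange A (C l)).obj B)))) (y l) =
          F.map (ptHom ((Alg.restr A (C k)).map ((Alg.baseChange A (C k)).map
            (Alg.unit A (C l) B)))) (y k)) →
      ∃ x : F.obj (pt B), ∀ k, F.map (ptHom (Alg.unit A (C k) B)) x = y k) :
    adequate A F := by
  classical
  let G : ι → MVF A := fun k => (push A (C k)).obj ((restr A (C k)).obj F)
  have hG : ∀ k, adequate A (G k) := fun k => Groth.Agent.S8750.result A (C k) _ (h₁ k)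
  let H : ι × ι → MVF A := fun p => (push A (C p.1)).obj ((restr A (C p.1)).obj (G p.2))
  have hH : ∀ p, adequate A (H p) := fun p =>
    Groth.Agent.S8750.result A (C p.1) _ (Groth.Agent.S8749.result A (C p.1) (G p.2) (hG p.2))
  let uu : ∀ k, F ⟶ G k := fun k => unitHom A (C k) F
  let β₁ : ∀ p : ι × ι, G p.2 ⟶ H p := fun p => unitHom A (C p.1) (G p.2)
  let β₂ : ∀ p : ι × ι, G p.1 ⟶ H p := fun p =>
    (push A (C p.1)).map ((restr A (C p.1)).map (unitHom A (C p.2) F))
  have huu : ∀ (k : ι) (X : (Alg A)ᵒᵖᵒᵖ) (x : F.obj X), (uu k).app X x =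
      F.map (ptHom (Alg.unit A (C k) X.unop.unop)) x := fun k X x => rfl
  have hβ₁ : ∀ (p : ι × ι) (X : (Alg A)ᵒᵖᵒᵖ) (y : (G p.2).obj X), (β₁ p).app X y =
      F.map (ptHom ((Alg.restr A (C p.2)).map ((Alg.baseChange A (C p.2)).map
        (Alg.unit A (C p.1) X.unop.unop)))) y := fun p X y => rfl
  have hβ₂ : ∀ (p : ι × ι) (X : (Alg A)ᵒᵖᵒᵖ) (y : (G p.1).obj X), (β₂ p).app X y =
      F.map (ptHom (Alg.unit A (C p.2) ((Alg.restr A (C p.1)).obj
        ((Alg.baseChange A (C p.1)).obj X.unop.unop)))) y := fun p X y => rfl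
  let j : F ⟶ ⨁ G := biproduct.lift uu
  let ψ : (⨁ G) ⟶ ⨁ H :=
    biproduct.lift (fun p => biproduct.π G p.2 ≫ β₁ p - biproduct.π G p.1 ≫ β₂ p)
  have hjπ : ∀ (k : ι) (X : (Alg A)ᵒᵖᵒᵖ) (x : F.obj X),
      (biproduct.π G k).app X (j.app X x) = (uu k).app X x := by
    intro k X x
    rw [← comp_app_apply, app_congr (biproduct.lift_π uu k)]
  have hψπ : ∀ (p : ι × ι) (X : (Alg A)ᵒᵖᵒᵖ) (y : (⨁ G).obj X),
      (biproduct.π H p).app X (ψ.app X y) =
        (β₁ p).app X ((biproduct.π G p.2).app X y) - (β₂ p).app X ((biproduct.π G p.1).app X y) := by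
    intro p X y
    rw [← comp_app_apply, app_congr (biproduct.lift_π _ p)]
    rfl
  have hcompat : ∀ (p : ι × ι) (X : (Alg A)ᵒᵖᵒᵖ) (x : F.obj X),
      (β₁ p).app X ((uu p.2).app X x) = (β₂ p).app X ((uu p.1).app X x) := by
    intro p X x
    rw [hβ₁, hβ₂, huu, huu, ← PresheafOfModules.map_comp_apply, ← PresheafOfModules.map_comp_apply]
    apply PresheafOfModules.congr_map_apply
    exact congrArg (fun t => ptHom t) (unit_naturality A (C p.2) (Alg.unit A (C p.1) X.unop.unop))
  have hker : IsKer j ψ := by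
    refine ⟨fun X => ?_, fun X x => ?_, fun X y hy => ?_⟩
    · -- injectivity
      rw [injective_iff_map_eq_zero]
      intro x hx
      obtain ⟨B, rfl⟩ : ∃ B : Alg A, X = pt B := ⟨X.unop.unop, rfl⟩
      apply hsep B x
      intro k
      rw [← huu k (pt B) x, ← hjπ k (pt B) x, hx, map_zero]
      rfl
    · apply bi_ext H X
      intro p
      rw [hψπ, hjπ, hjπ, hcompat, sub_self, map_zero]
    · obtain ⟨B, rfl⟩ : ∃ B : Alg A, X = pt B := ⟨X.unop.unop, rfl⟩
      obtain ⟨x, hx⟩ := hglue B (fun k => (biproduct.π G k).app (pt B) y) (by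
        intro k l
        have h := congrArg (fun t => (biproduct.π H (l, k)).app (pt B) t) hy
        simp only [map_zero] at h
        rw [hψπ (l, k) (pt B) y, sub_eq_zero] at h
        rw [hβ₁, hβ₂] at h
        exact h.symm)
      refine ⟨x, ?_⟩
      apply bi_ext G (pt B)
      intro k
      rw [hjπ, huu]
      exact hx k
  exact (adequate A).prop_of_iso hker.iso.symm
    (adequate_kernel ψ (adequate_biproduct G hG) (adequate_biproduct H hH))

end main

end Groth.Agent.H92.AdeqFin
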