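import Mathlib
import Groth.Prelude.Def_Adeq2
import Groth.Agent.H92.AdeqFin
import Groth.Agent.H64.AdeqKer

/-!
# Adequate big-site modules are adequate on every affine (helper92)

`adequate_toMVF_of_finite_cover`: if `{Spec (C k) → Spec R}` is a finite `K`-covering and `F_{M, C k}` is adequate for
every `k`, then `F_{M,R}` is adequate (sheaf condition + `AdeqFin.adequate_of_finite_restr`).
-/

set_option autoImplicit false
universe u
open CategoryTheory Limits AlgebraicGeometry Opposite TensorProduct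

namespace Groth.Agent.H92.AdeqBig

open Adeq

variable (K : Precoverage Scheme.{u}) [BigSite.OSh K] {S : Scheme.{u}}

section sheaf

variable (M : BigSite.Mod K S)

/-- the type-valued sheaf condition for a module on the big site -/
lemma isSheaf_type : Presieve.IsSheaf (QuotSh.J K S) (M.val.presheaf ⋙ forget AddCommGrpCat) :=
  (isSheaf_iff_isSheaf_of_type _ _).1
    ((Presheaf.isSheaf_iff_isSheaf_forget _ _ (forget AddCommGrpCat)).1 M.isSheaf)

lemma sheaf_sep {U : Over S} {ι : Type*} (V : ι → Over S) (π : ∀ k, V k ⟶ U)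
    (hT : Sieve.generate (Presieve.ofArrows V π) ∈ QuotSh.J K S U)
    (x : M.val.obj (op U)) (hx : ∀ k, M.val.map (π k).op x = 0) : x = 0 := by
  have h1 := ((isSheaf_type K M) _ hT).isSeparatedFor
  rw [← Presieve.isSeparatedFor_iff_generate] at h1
  refine h1.ext (t₁ := x) (t₂ := (0 : M.val.obj (op U))) ?_
  rintro _ _ ⟨k⟩
  show M.val.map (π k).op x = M.val.map (π k).op 0
  rw [hx k]
  exact (map_zero (M.val.presheaf.map (π k).op).hom).symm

lemma sheaf_glue {U : Over S} {ι : Type*} (V : ι → Over S) (π : ∀ k, V k ⟶ U)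
    (hT : Sieve.generate (Presieve.ofArrows V π) ∈ QuotSh.J K S U)
    (y : ∀ k, M.val.obj (op (V k)))
    (hy : ∀ k l (Z : Over S) (gk : Z ⟶ V k) (gl : Z ⟶ V l), gk ≫ π k = gl ≫ π l →
        M.val.map gk.op (y k) = M.val.map gl.op (y l)) :
    ∃ x : M.val.obj (op U), ∀ k, M.val.map (π k).op x = y k := by
  have h1 := (isSheaf_type K M) _ hT
  rw [← Presieve.isSheafFor_iff_generate, Presieve.isSheafFor_arrows_iff] at h1
  obtain ⟨t, ht, -⟩ := h1 y (fun k l Z gk gl h => hy k l Z gk gl h)
  exact ⟨t, ht⟩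

end sheaf


section rings

variable (R : Type u) [CommRing R] (Ck B D : Type u) [CommRing Ck] [CommRing B] [CommRing D]
  [Algebra R Ck] [Algebra R B] [Algebra R D]

/-- the pushout square `(Ck ⊗ B) ⊗_B D = Ck ⊗ D` for an `R`-algebra map `u : B → D` -/
lemma isPushout_double (u : B →ₐ[R] D) :
    IsPushout
      (CommRingCat.ofHom u.toRingHom)
      (CommRingCat.ofHom (Algebra.TensorProduct.includeRight (R := R) (A := Ck) (B := B)).toRingHom)
      (CommRingCat.ofHom
        (Algebra.TensorProduct.includeRight (R := R) (A := Ck) (B := D)).toRingHom)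
      (CommRingCat.ofHom (Algebra.TensorProduct.map (AlgHom.id Ck Ck) u).toRingHom) := by
  have h1 : IsPushout (CommRingCat.ofHom (algebraMap R B)) (CommRingCat.ofHom (algebraMap R Ck))
      (CommRingCat.ofHom (Algebra.TensorProduct.includeRight (R := R) (A := Ck) (B := B)).toRingHom)
      (CommRingCat.ofHom (Algebra.TensorProduct.includeLeftRingHom (R := R) (A := Ck) (B := B))) :=
    (CommRingCat.isPushout_tensorProduct R Ck B).flip
  have h2 : IsPushout (CommRingCat.ofHom (algebraMap R D))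
      (CommRingCat.ofHom (algebraMap R Ck))
      (CommRingCat.ofHom
        (Algebra.TensorProduct.includeRight (R := R) (A := Ck) (B := D)).toRingHom)
      (CommRingCat.ofHom
        (Algebra.TensorProduct.includeLeftRingHom (R := R) (A := Ck) (B := D))) :=
    (CommRingCat.isPushout_tensorProduct R Ck D).flip
  have e1 : CommRingCat.ofHom (algebraMap R D) =
      CommRingCat.ofHom (algebraMap R B) ≫ CommRingCat.ofHom u.toRingHom := by
    ext r
    exact (u.commutes r).symm
  have e2 : CommRingCat.ofHom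
        (Algebra.TensorProduct.includeLeftRingHom (R := R) (A := Ck) (B := D)) =
      CommRingCat.ofHom (Algebra.TensorProduct.includeLeftRingHom (R := R) (A := Ck) (B := B)) ≫
        CommRingCat.ofHom (Algebra.TensorProduct.map (AlgHom.id Ck Ck) u).toRingHom := by
    ext c
    show c ⊗ₜ[R] (1 : D) = Algebra.TensorProduct.map (AlgHom.id Ck Ck) u (c ⊗ₜ[R] (1 : B))
    rw [Algebra.TensorProduct.map_tmul, map_one]
    rfl
  rw [e1, e2] at h2
  refine IsPushout.of_left h2 ?_ h1
  ext b
  show (1 : Ck) ⊗ₜ[R] (u b) = Algebra.TensorProduct.map (AlgHom.id Ck Ck) u ((1 : Ck) ⊗ₜ[R] b)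
  rw [Algebra.TensorProduct.map_tmul]
  rfl

end rings


section cover

variable {R : CommRingCat.{u}} (a : Spec R ⟶ S) {ι : Type} (C : ι → CommRingCat.{u})
  [∀ k, Algebra R (C k)]

/-- `C k ⊗ B` as an `R`-algebra -/
noncomputable abbrev RB (k : ι) (B : Alg R) : Alg R := (Alg.restr R (C k)).obj ((Alg.baseChange R (C k)).obj B)

/-- the objects `Spec (C k ⊗ B)` over `S` -/
noncomputable abbrev VV (k : ι) (B : Alg R) : Over S := (specOver a).obj (op (RB C k B))

/-- the maps `Spec (C k ⊗ B) → Spec B` over `S` -/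
noncomputable abbrev ππ (k : ι) (B : Alg R) : VV a C k B ⟶ (specOver a).obj (op B) :=
  (specOver a).map (Alg.unit R (C k) B).op

lemma ππ_left (k : ι) (B : Alg R) :
    (ππ a C k B).left = Spec.map (CommRingCat.ofHom
      (Algebra.TensorProduct.includeRight (R := R) (A := C k) (B := B)).toRingHom) := rfl

variable [K.IsStableUnderBaseChange]

lemma cover_mem
    (hcov : Presieve.ofArrows (fun k => Spec (C k))
      (fun k => Spec.map (CommRingCat.ofHom (algebraMap R (C k)))) ∈ K.coverings (Spec R))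
    (B : Alg R) :
    Sieve.generate (Presieve.ofArrows (fun k => VV a C k B) (fun k => ππ a C k B)) ∈
      QuotSh.J K S ((specOver a).obj (op B)) := by
  rw [GrothendieckTopology.mem_over_iff]
  have hB : Presieve.ofArrows (fun k => Spec (CommRingCat.of ((C k) ⊗[R] B)))
      (fun k => Spec.map (CommRingCat.ofHom
        (Algebra.TensorProduct.includeRight (R := R) (A := C k) (B := B)).toRingHom)) ∈
      K.coverings (Spec (CommRingCat.of B)) := by
    refine Precoverage.mem_coverings_of_isPullback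
      (fun k => Spec.map (CommRingCat.ofHom (algebraMap R (C k)))) hcov
      (Spec.map (CommRingCat.ofHom (algebraMap R B))) _
      (fun k => Spec.map (CommRingCat.ofHom
        (Algebra.TensorProduct.includeLeftRingHom (R := R) (A := C k) (B := B)))) (fun k => ?_)
    exact isPullback_SpecMap_of_isPushout _ _ _ _ (CommRingCat.isPushout_tensorProduct R (C k) B).flip
  refine K.toGrothendieck.superset_covering ?_ (Precoverage.generate_mem_toGrothendieck hB)
  rintro W g ⟨Y, h, f, ⟨k⟩, rfl⟩
  rw [Sieve.overEquiv_iff]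
  refine ⟨VV a C k B, Over.homMk h ?_, ππ a C k B, Presieve.ofArrows.mk k, ?_⟩
  · show h ≫ (VV a C k B).hom = (h ≫ _) ≫ ((specOver a).obj (op B)).hom
    rw [Category.assoc]
    congr 1
    exact (Over.w (ππ a C k B)).symm
  · ext : 1
    rfl


/-- the second projection `Spec (C k ⊗ (C l ⊗ B)) → Spec (C k ⊗ B)` -/
noncomputable abbrev p₂ (k l : ι) (B : Alg R) : VV a C k (RB C l B) ⟶ VV a C k B :=
  (specOver a).map ((Alg.restr R (C k)).map ((Alg.baseChange R (C k)).map (Alg.unit R (C l) B))).op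

lemma isPullback_double (k l : ι) (B : Alg R) :
    IsPullback (ππ a C k (RB C l B)).left (p₂ a C k l B).left (ππ a C l B).left (ππ a C k B).left :=
  isPullback_SpecMap_of_isPushout _ _ _ _
    (@isPushout_double R _ (C k) B (RB C l B) _ _ (RB C l B).commRing _ _ (RB C l B).algebra
      (Alg.unit R (C l) B).hom)

lemma toMVF_map_apply (M : BigSite.Mod K S) {B B' : Alg R} (φ : B ⟶ B')
    (x : ((toMVF K a).obj M).obj (pt B)) :
    ((toMVF K a).obj M).map (ptHom φ) x = M.val.map ((specOver a).map φ.op).op x := rfl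

theorem adequate_toMVF_of_finite_cover [Fintype ι] (M : BigSite.Mod K S)
    (hcov : Presieve.ofArrows (fun k => Spec (C k))
      (fun k => Spec.map (CommRingCat.ofHom (algebraMap R (C k)))) ∈ K.coverings (Spec R))
    (had : ∀ k, adequate (C k)
      ((toMVF K (Spec.map (CommRingCat.ofHom (algebraMap R (C k))) ≫ a)).obj M)) :
    adequate R ((toMVF K a).obj M) := by
  refine Groth.Agent.H92.AdeqFin.adequate_of_finite_restr R (fun k => (C k : Type u)) _
    (fun k => (adequate (C k)).prop_of_iso (Groth.Agent.H64.AdeqPull.isoB K a M) (had k)) ?_ ?_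
  · intro B x hx
    exact sheaf_sep K M (fun k => VV a C k B) (fun k => ππ a C k B) (cover_mem K a C hcov B) x hx
  · intro B y hy
    refine sheaf_glue K M (fun k => VV a C k B) (fun k => ππ a C k B) (cover_mem K a C hcov B) y ?_
    intro k l Z gk gl h
    have hpb := isPullback_double a C k l B
    have w : gl.left ≫ (ππ a C l B).left = gk.left ≫ (ππ a C k B).left := by
      rw [← Over.comp_left, ← Over.comp_left, h]
    let t : Z.left ⟶ (VV a C k (RB C l B)).left := hpb.lift gl.left gk.left w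
    have ht₁ : t ≫ (ππ a C k (RB C l B)).left = gl.left := hpb.lift_fst _ _ _
    have ht₂ : t ≫ (p₂ a C k l B).left = gk.left := hpb.lift_snd _ _ _
    let tO : Z ⟶ VV a C k (RB C l B) := Over.homMk t (by
      rw [← Over.w (ππ a C k (RB C l B)), ← Category.assoc, ht₁]
      exact Over.w gl)
    have e₁ : gl = tO ≫ ππ a C k (RB C l B) := by
      ext : 1
      exact ht₁.symm
    have e₂ : gk = tO ≫ p₂ a C k l B := by
      ext : 1
      exact ht₂.symm
    rw [e₁, e₂, op_comp, op_comp, PresheafOfModules.map_comp_apply, PresheafOfModules.map_comp_apply]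
    congr 1
    exact (hy k l).symm

end cover


section main

variable [K.IsStableUnderBaseChange] [K.IsStableUnderComposition]

/-- adequate modules on the big site are adequate on every affine object -/
theorem adequate_toMVF_of_adequateMod (P : MorphismProperty Scheme.{u})
    (hmem : ∀ {T : Scheme.{u}} {ι : Type u} {X : ι → Scheme.{u}} {f : ∀ i, X i ⟶ T},
      Presieve.ofArrows X f ∈ K.coverings T ↔ (∀ x, ∃ i, x ∈ Set.range (f i)) ∧ ∀ i, P (f i))
    (hmem₀ : ∀ {T : Scheme.{u}} {ι : Type} {X : ι → Scheme.{u}} {f : ∀ i, X i ⟶ T},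
      ((∀ x, ∃ i, x ∈ Set.range (f i)) ∧ ∀ i, P (f i)) → Presieve.ofArrows X f ∈ K.coverings T)
    (hK : Scheme.zariskiPrecoverage ≤ K)
    (hopen : ∀ {X Y : Scheme.{u}} (f : X ⟶ Y), P f → IsOpenMap f)
    (M : BigSite.Mod K S) (hM : adequateMod K S M) (R₀ : CommRingCat.{u}) (a₀ : Spec R₀ ⟶ S) :
    adequate R₀ ((toMVF K a₀).obj M) := by
  classical
  obtain ⟨I, R, a, hcov, had⟩ := hM
  let 𝒰 : ∀ i, (pullback a₀ (a i)).AffineOpenCover := fun i => (pullback a₀ (a i)).affineOpenCover
  let g : ∀ p : (Σ i, (𝒰 i).I₀), Spec ((𝒰 p.1).X p.2) ⟶ Spec R₀ :=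
    fun p => (𝒰 p.1).f p.2 ≫ pullback.fst a₀ (a p.1)
  have hg : Presieve.ofArrows (fun p : (Σ i, (𝒰 i).I₀) => Spec ((𝒰 p.1).X p.2)) g ∈
      K.coverings (Spec R₀) := by
    refine Precoverage.comp_mem_coverings (fun i => pullback.fst a₀ (a i)) ?_
      (fun i j => (𝒰 i).f j) (fun i => hK _ ((𝒰 i).openCover.mem₀))
    exact Precoverage.mem_coverings_of_isPullback a hcov a₀ _ _
      (fun i => IsPullback.of_hasPullback a₀ (a i))
  obtain ⟨hsurj, hP⟩ := hmem.1 hg
  obtain ⟨t, ht⟩ := isCompact_univ.elim_finite_subcover (fun p => Set.range (g p))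
    (fun p => (hopen _ (hP p)).isOpen_range) (by
      intro x _
      obtain ⟨p, hp⟩ := hsurj x
      exact Set.mem_iUnion.2 ⟨p, hp⟩)
  let e : Fin t.card ≃ ↥t := t.equivFin.symm
  let q : Fin t.card → (Σ i, (𝒰 i).I₀) := fun k => (e k).1
  let C : Fin t.card → CommRingCat.{u} := fun k => (𝒰 (q k).1).X (q k).2
  let ψ : ∀ k, R₀ ⟶ C k := fun k => Spec.preimage (g (q k))
  letI : ∀ k, Algebra R₀ (C k) := fun k => (ψ k).hom.toAlgebra
  have hψ : ∀ k, Spec.map (CommRingCat.ofHom (algebraMap R₀ (C k))) = g (q k) :=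
    fun k => Spec.map_preimage _
  refine adequate_toMVF_of_finite_cover K a₀ C M ?_ ?_
  · refine hmem₀ ⟨fun x => ?_, fun k => ?_⟩
    · obtain ⟨p, hp⟩ := Set.mem_iUnion.1 (ht (Set.mem_univ x))
      obtain ⟨hpt, hx⟩ := Set.mem_iUnion.1 hp
      refine ⟨e.symm ⟨p, hpt⟩, ?_⟩
      rw [hψ]
      show x ∈ Set.range (g (e (e.symm ⟨p, hpt⟩)).1)
      rw [Equiv.apply_symm_apply]
      exact hx
    · rw [hψ]
      exact hP _
  · intro k
    refine Groth.Agent.H64.AdeqKer.adequate_of_factor K (a (q k).1) _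
      ((𝒰 (q k).1).f (q k).2 ≫ pullback.snd a₀ (a (q k).1)) ?_ M (had (q k).1)
    rw [hψ]
    show ((𝒰 (q k).1).f (q k).2 ≫ pullback.snd a₀ (a (q k).1)) ≫ a (q k).1 =
      ((𝒰 (q k).1).f (q k).2 ≫ pullback.fst a₀ (a (q k).1)) ≫ a₀
    rw [Category.assoc, Category.assoc, pullback.condition]

end main

end Groth.Agent.H92.AdeqBig
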