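import Mathlib
import Groth.Prelude.Def_Adeq
import Groth.Agent.H92.AdeqEps
import Groth.Agent.H92.AdeqFlat

/-!
# Adequate functors satisfy the sheaf condition for faithfully flat ring maps (first two Čech terms) (helper92)
-/

set_option autoImplicit false
universe u
open CategoryTheory Limits Opposite TensorProduct

namespace Groth.Agent.H92.AdeqCech

open Adeq Groth.Agent.H92.AdeqBase Groth.Agent.H92.AdeqEps Groth.Agent.H92.AdeqFlat

variable {A : Type u} [CommRing A]

section lin

variable (A) (B : Type u) [CommRing B] [Algebra A B] (M : Type (u + 1)) [AddCommGroup M] [Module A M]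

lemma rTensor_ofId_eq (w : A ⊗[A] M) :
    (Algebra.ofId A B).toLinearMap.rTensor M w = αM A B M (TensorProduct.lid A M w) := by
  induction w using TensorProduct.induction_on with
  | zero => simp
  | add x y hx hy => simp only [map_add, hx, hy]
  | tmul a m =>
    rw [LinearMap.rTensor_tmul, TensorProduct.lid_tmul, αM_apply, TensorProduct.tmul_smul]
    show (algebraMap A B a) ⊗ₜ[A] m = a • ((1 : B) ⊗ₜ[A] m)
    rw [Algebra.algebraMap_eq_smul_one, TensorProduct.smul_tmul']

lemma rTensor_ofId_injective [Module.FaithfullyFlat A B] :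
    Function.Injective ((Algebra.ofId A B).toLinearMap.rTensor M) := by
  intro w w' h
  rw [rTensor_ofId_eq, rTensor_ofId_eq] at h
  exact (TensorProduct.lid A M).injective (αM_injective A B M h)

lemma δM_eq (z : B ⊗[A] M) :
    δM A B M z =
      (Algebra.TensorProduct.includeLeft : B →ₐ[A] B ⊗[A] B).toLinearMap.rTensor M z -
        (Algebra.TensorProduct.includeRight : B →ₐ[A] B ⊗[A] B).toLinearMap.rTensor M z := by
  unfold δM Algebra.TensorProduct.includeLeftSubRight
  rw [LinearMap.rTensor_sub, LinearMap.sub_apply]

end lin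

theorem cech_two (F : MVF A) (hF : adequate A F) (B : Type u) [CommRing B] [Algebra A B]
    [Module.FaithfullyFlat A B] :
    Function.Injective (mapA F (Algebra.ofId A B)) ∧
      ∀ y : val F B,
        mapA F (Algebra.TensorProduct.includeLeft : B →ₐ[A] B ⊗[A] B) y =
          mapA F (Algebra.TensorProduct.includeRight : B →ₐ[A] B ⊗[A] B) y →
        ∃ x : val F A, mapA F (Algebra.ofId A B) x = y := by
  obtain ⟨M, N, φ, j, hj⟩ := (adequate_iff F).1 hF
  refine ⟨fun x x' h => ?_, fun y hy => ?_⟩
  · apply hj.inj _
    apply rTensor_ofId_injective A B M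
    have h1 := mapA_natural j (Algebra.ofId A B) x
    have h2 := mapA_natural j (Algebra.ofId A B) x'
    rw [mapA_underline] at h1 h2
    rw [← h1, ← h2, h]
  · have hz : δM A B M (j.app _ y) = 0 := by
      rw [δM_eq, sub_eq_zero]
      have h1 := mapA_natural j (Algebra.TensorProduct.includeLeft : B →ₐ[A] B ⊗[A] B) y
      have h2 := mapA_natural j (Algebra.TensorProduct.includeRight : B →ₐ[A] B ⊗[A] B) y
      rw [mapA_underline] at h1 h2
      rw [← h1, ← h2, hy]
    obtain ⟨m, hm⟩ := (amitsur_exact A B M (j.app _ y)).1 hz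
    let w : A ⊗[A] M := (TensorProduct.lid A M).symm m
    have hw : (Algebra.ofId A B).toLinearMap.rTensor M w = j.app _ y := by
      rw [rTensor_ofId_eq, LinearEquiv.apply_symm_apply, hm]
    have hφw : ((underline A).map φ).app (pt (algOf A A)) w = 0 := by
      apply rTensor_ofId_injective A B N
      have h3 := mapA_natural ((underline A).map φ) (Algebra.ofId A B) w
      rw [mapA_underline, mapA_underline, hw] at h3
      exact h3.symm.trans ((hj.zero _ y).trans (map_zero _).symm)
    obtain ⟨x, hx⟩ := hj.exact (pt (algOf A A)) w hφw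
    refine ⟨x, ?_⟩
    apply hj.inj _
    have h4 := mapA_natural j (Algebra.ofId A B) x
    rw [mapA_underline] at h4
    rw [h4, hx, hw]

end Groth.Agent.H92.AdeqCech
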