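import Mathlib
import Groth.Prelude.Def_Adeq
import Groth.Agent.H92.AdeqCech
import Groth.Agent.H92.AdeqFlat1

/-!
# Vanishing of the first Čech cohomology of an adequate functor along a faithfully flat ring map (helper92)
-/

set_option autoImplicit false
universe u
open CategoryTheory Limits Opposite TensorProduct

namespace Groth.Agent.H92.AdeqCech1

open Adeq Groth.Agent.H92.AdeqBase Groth.Agent.H92.AdeqEps Groth.Agent.H92.AdeqFlat
  Groth.Agent.H92.AdeqFlat1 Groth.Agent.H92.AdeqCech

variable {A : Type u} [CommRing A]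

theorem cech_H1 (F : MVF A) (hF : adequate A F) (B : Type u) [CommRing B] [Algebra A B]
    [Module.FaithfullyFlat A B] (c : val F (B ⊗[A] B))
    (hc : mapA F (d0 A B) c - mapA F (d1 A B) c + mapA F (d2 A B) c = 0) :
    ∃ b : val F B,
      mapA F (Algebra.TensorProduct.includeLeft : B →ₐ[A] B ⊗[A] B) b -
        mapA F (Algebra.TensorProduct.includeRight : B →ₐ[A] B ⊗[A] B) b = c := by
  obtain ⟨M, N, φ, j, hj⟩ := (adequate_iff F).1 hF
  -- naturality of `j` in the form we need
  have hjnat : ∀ {B₁ B₂ : Type u} [CommRing B₁] [Algebra A B₁] [CommRing B₂] [Algebra A B₂]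
      (a : B₁ →ₐ[A] B₂) (x : val F B₁),
      a.toLinearMap.rTensor M (j.app _ x) = j.app _ (mapA F a x) := by
    intro B₁ B₂ _ _ _ _ a x
    have h1 := mapA_natural j a x
    rw [mapA_underline] at h1
    exact h1.symm
  have hφnat : ∀ {B₁ B₂ : Type u} [CommRing B₁] [Algebra A B₁] [CommRing B₂] [Algebra A B₂]
      (a : B₁ →ₐ[A] B₂) (w : B₁ ⊗[A] M),
      a.toLinearMap.rTensor N (((underline A).map φ).app (pt (algOf A B₁)) w) =
        ((underline A).map φ).app (pt (algOf A B₂)) (a.toLinearMap.rTensor M w) := by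
    intro B₁ B₂ _ _ _ _ a w
    have h3 := mapA_natural ((underline A).map φ) a w
    rw [mapA_underline, mapA_underline] at h3
    exact h3.symm
  -- `j c` is a cocycle
  have hε : εM A B M (j.app _ c) = 0 := by
    rw [εM_eq, hjnat, hjnat, hjnat]
    have h0 := congrArg (j.app (pt (algOf A ((B ⊗[A] B) ⊗[A] B)))) hc
    rw [map_add, map_sub, map_zero] at h0
    exact h0
  obtain ⟨m, hm⟩ := (amitsur_exact1 A B M (j.app _ c)).1 hε
  -- `φ m` is a cocycle in degree zero
  have h1 : δM A B N (((underline A).map φ).app (pt (algOf A B)) m) = 0 := by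
    rw [δM_eq, hφnat, hφnat]
    have h2 : (Algebra.TensorProduct.includeLeft : B →ₐ[A] B ⊗[A] B).toLinearMap.rTensor M m -
        (Algebra.TensorProduct.includeRight : B →ₐ[A] B ⊗[A] B).toLinearMap.rTensor M m =
        j.app _ c := by
      rw [← δM_eq, hm]
    refine (map_sub (((underline A).map φ).app (pt (algOf A (B ⊗[A] B)))).hom _ _).symm.trans ?_
    exact (congrArg (((underline A).map φ).app (pt (algOf A (B ⊗[A] B)))).hom h2).trans (hj.zero _ c)
  obtain ⟨n₀, hn₀⟩ := (amitsur_exact A B N _).1 h1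
  -- `n₀` lies in the image of `φ`
  have hn₀' : n₀ ∈ LinearMap.range φ.hom := by
    let π := (LinearMap.range φ.hom).mkQ
    have hπφ : π.comp φ.hom = 0 := LinearMap.range_mkQ_comp _
    have h3 : π.lTensor B (((underline A).map φ).app (pt (algOf A B)) m) = 0 := by
      have : ((underline A).map φ).app (pt (algOf A B)) m = φ.hom.lTensor B m := rfl
      rw [this, ← LinearMap.comp_apply, ← LinearMap.lTensor_comp, hπφ, LinearMap.lTensor_zero,
        LinearMap.zero_apply]
    rw [← hn₀] at h3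
    have h4 : αM A B (N ⧸ LinearMap.range φ.hom) (π n₀) = 0 := h3
    have h5 : π n₀ = 0 := αM_injective A B _ (h4.trans (map_zero _).symm)
    exact (Submodule.Quotient.mk_eq_zero _).1 h5
  obtain ⟨m₀, hm₀⟩ := hn₀'
  -- correct `m`
  have hφm' : ((underline A).map φ).app (pt (algOf A B)) (m - αM A B M m₀) = 0 := by
    refine (map_sub (((underline A).map φ).app (pt (algOf A B))).hom m (αM A B M m₀)).trans ?_
    rw [sub_eq_zero]
    refine hn₀.symm.trans ?_
    rw [← hm₀]
    rfl
  obtain ⟨b, hb⟩ := hj.exact (pt (algOf A B)) _ hφm'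
  refine ⟨b, ?_⟩
  apply hj.inj
  refine (map_sub (j.app (pt (algOf A (B ⊗[A] B)))).hom _ _).trans ?_
  have e1 := hjnat (Algebra.TensorProduct.includeLeft : B →ₐ[A] B ⊗[A] B) b
  have e2 := hjnat (Algebra.TensorProduct.includeRight : B →ₐ[A] B ⊗[A] B) b
  refine (congrArg₂ (· - ·) e1.symm e2.symm).trans ?_
  have e3 : j.app (pt (algOf A B)) b = m - αM A B M m₀ := hb
  rw [e3]
  refine (δM_eq A B M _).symm.trans ?_
  have h6 : δM A B M (αM A B M m₀) = 0 := LinearMap.congr_fun (δM_comp_αM A B M) m₀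
  rw [map_sub, h6, sub_zero, hm]

end Groth.Agent.H92.AdeqCech1
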