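import Mathlib

/-!
# Transport of the Čech cosimplicial object of a one-element family to another model of the powers
(helper92)
-/

set_option autoImplicit false
open CategoryTheory Limits Opposite Simplicial

universe w v v' u u'

namespace Groth.Agent.H92.CechTransport

variable {C : Type u} [Category.{v} C] [HasFiniteProducts C]
  {A : Type u'} [Category.{v'} A] [HasProducts.{w} A]
  (P : Cᵒᵖ ⥤ A) (U₀ : C)

/-- the Čech cosimplicial object of the one-element family `U₀` -/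
noncomputable abbrev Q : SimplexCategory ⥤ A :=
  (FormalCoproduct.cosimplicialObjectFunctor
    (FormalCoproduct.mk _ (fun _ : PUnit.{w + 1} => U₀)).cech).obj P

/-- the constant index -/
abbrev y₀ (n : SimplexCategory) : Fin (n.len + 1) → PUnit.{w + 1} := fun _ => PUnit.unit

instance (n : SimplexCategory) : Unique (Fin (n.len + 1) → PUnit.{w + 1}) where
  default := y₀ n
  uniq _ := rfl

lemma Q_map_π {m n : SimplexCategory} (θ : m ⟶ n) (y : Fin (n.len + 1) → PUnit.{w + 1}) :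
    (Q.{w} P U₀).map θ ≫ Pi.π (fun y : Fin (n.len + 1) → PUnit.{w + 1} =>
        P.obj (op (∏ᶜ ((fun _ : PUnit.{w + 1} => U₀) ∘ y)))) y =
      Pi.π (fun y : Fin (m.len + 1) → PUnit.{w + 1} =>
        P.obj (op (∏ᶜ ((fun _ : PUnit.{w + 1} => U₀) ∘ y)))) (y ∘ θ.toOrderHom) ≫
        P.map (Pi.lift (fun a => Pi.π ((fun _ : PUnit.{w + 1} => U₀) ∘ y) (θ.toOrderHom a))).op := by
  exact Pi.lift_π _ y

section transport

variable (Y : SimplexCategory ⥤ Cᵒᵖ)
  (π : ∀ (n : SimplexCategory) (_ : Fin (n.len + 1)), (Y.obj n).unop ⟶ U₀)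
  (hπ : ∀ n : SimplexCategory, IsLimit (Fan.mk (Y.obj n).unop (π n)))
  (hY : ∀ {m n : SimplexCategory} (θ : m ⟶ n) (i : Fin (m.len + 1)),
    (Y.map θ).unop ≫ π m i = π n (θ.toOrderHom i))

/-- the comparison of powers -/
noncomputable def wn (n : SimplexCategory) :
    (Y.obj n).unop ⟶ ∏ᶜ ((fun _ : PUnit.{w + 1} => U₀) ∘ y₀.{w} n) :=
  Pi.lift (π n)

lemma wn_π (n : SimplexCategory) (i : Fin (n.len + 1)) :
    wn.{w} U₀ Y π n ≫ Pi.π ((fun _ : PUnit.{w + 1} => U₀) ∘ y₀.{w} n) i = π n i :=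
  Pi.lift_π _ i

include hπ in
lemma isIso_wn (n : SimplexCategory) : IsIso (wn.{w} U₀ Y π n) := by
  have h : wn.{w} U₀ Y π n =
      ((hπ n).conePointUniqueUpToIso
        (productIsProduct ((fun _ : PUnit.{w + 1} => U₀) ∘ y₀.{w} n))).hom := by
    apply Pi.hom_ext
    intro i
    rw [wn_π]
    exact ((hπ n).conePointUniqueUpToIso_hom_comp
      (productIsProduct ((fun _ : PUnit.{w + 1} => U₀) ∘ y₀.{w} n)) ⟨i⟩).symm
  rw [h]
  infer_instance

/-- the components of the comparison -/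
noncomputable def en (n : SimplexCategory) : (Q.{w} P U₀).obj n ⟶ (Y ⋙ P).obj n :=
  Pi.π (fun y : Fin (n.len + 1) → PUnit.{w + 1} =>
      P.obj (op (∏ᶜ ((fun _ : PUnit.{w + 1} => U₀) ∘ y)))) (y₀.{w} n) ≫
    P.map (wn.{w} U₀ Y π n).op

include hπ in
lemma isIso_en (n : SimplexCategory) : IsIso (en.{w} P U₀ Y π n) := by
  have h1 : IsIso (Pi.π (fun y : Fin (n.len + 1) → PUnit.{w + 1} =>
      P.obj (op (∏ᶜ ((fun _ : PUnit.{w + 1} => U₀) ∘ y)))) (y₀.{w} n)) :=
    (productUniqueIso (fun y : Fin (n.len + 1) → PUnit.{w + 1} =>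
      P.obj (op (∏ᶜ ((fun _ : PUnit.{w + 1} => U₀) ∘ y))))).isIso_hom
  have h2 : IsIso (wn.{w} U₀ Y π n) := isIso_wn U₀ Y π hπ n
  have h3 : IsIso (P.map (wn.{w} U₀ Y π n).op) := inferInstance
  exact IsIso.comp_isIso' h1 h3

include hY in
lemma en_naturality {m n : SimplexCategory} (θ : m ⟶ n) :
    (Q.{w} P U₀).map θ ≫ en.{w} P U₀ Y π n = en.{w} P U₀ Y π m ≫ (Y ⋙ P).map θ := by
  have h : wn.{w} U₀ Y π n ≫
      Pi.lift (fun a => Pi.π ((fun _ : PUnit.{w + 1} => U₀) ∘ y₀.{w} n) (θ.toOrderHom a)) =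
      (Y.map θ).unop ≫ wn.{w} U₀ Y π m := by
    apply Pi.hom_ext
    intro a
    refine (Category.assoc _ _ _).trans ?_
    refine (congrArg (fun t => wn.{w} U₀ Y π n ≫ t) (Pi.lift_π _ a)).trans ?_
    refine (wn_π U₀ Y π n _).trans ?_
    refine Eq.trans ?_ (Category.assoc _ _ _).symm
    exact ((congrArg (fun t => (Y.map θ).unop ≫ t) (wn_π U₀ Y π m a)).trans (hY θ a)).symm
  have h' : (Pi.lift (fun a => Pi.π ((fun _ : PUnit.{w + 1} => U₀) ∘ y₀.{w} n)
      (θ.toOrderHom a))).op ≫ (wn.{w} U₀ Y π n).op = (wn.{w} U₀ Y π m).op ≫ Y.map θ :=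
    congrArg Quiver.Hom.op h
  unfold en
  refine (Category.assoc _ _ _).symm.trans ?_
  refine (congrArg (fun t => t ≫ P.map (wn.{w} U₀ Y π n).op) (Q_map_π P U₀ θ (y₀.{w} n))).trans ?_
  refine (Category.assoc _ _ _).trans ?_
  refine Eq.trans ?_ (Category.assoc _ _ _).symm
  refine congrArg (fun t => Pi.π (fun y : Fin (m.len + 1) → PUnit.{w + 1} =>
      P.obj (op (∏ᶜ ((fun _ : PUnit.{w + 1} => U₀) ∘ y)))) (y₀.{w} m) ≫ t) ?_
  refine (P.map_comp _ _).symm.trans ?_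
  refine (congrArg P.map h').trans ?_
  exact P.map_comp _ _

include hπ hY in
/-- the Čech cosimplicial object of a one-element family, computed on another model of the
powers of `U₀` -/
theorem nonempty_iso : Nonempty (Q.{w} P U₀ ≅ Y ⋙ P) := by
  have := isIso_en P U₀ Y π hπ
  exact ⟨NatIso.ofComponents (fun n => asIso (en.{w} P U₀ Y π n))
    (fun θ => en_naturality P U₀ Y π hY θ)⟩

end transport

end Groth.Agent.H92.CechTransport
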