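import Mathlib
import Groth.Prelude.Def_Adeq2
import Groth.Agent.H92.AdeqAmitsur
import Groth.Agent.H92.CechTransport
import Groth.Agent.H92.AdeqBig

/-!
# Exactness of the Čech complex of an adequate module along a faithfully flat map of affines
(helper92)
-/

set_option autoImplicit false
universe u
open CategoryTheory Limits AlgebraicGeometry Opposite TensorProduct Simplicial

namespace Groth.Agent.H92.AdeqCechGeo

open Adeq Groth.Agent.H92.AdeqBase Groth.Agent.H92.AdeqAmitsur Groth.Agent.H92.CechTransport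

variable (K : Precoverage Scheme.{u}) [BigSite.OSh K] {S : Scheme.{u}} (M : BigSite.Mod K S)
  (R : CommRingCat.{u}) (a : Spec R ⟶ S) (B : Type u) [CommRing B] [Algebra R B]

/-- the presheaf on schemes over `Spec R` -/
noncomputable abbrev PP : (Over (Spec R))ᵒᵖ ⥤ AddCommGrpCat.{u + 1} :=
  (Over.map a).op ⋙ ((BigSite.toAbMod K S).obj M).obj

/-- the cover -/
noncomputable abbrev U₀ : Over (Spec R) :=
  Over.mk (Spec.map (CommRingCat.ofHom (algebraMap R B)))

/-- the simplicial scheme -/
noncomputable abbrev YY : SimplexCategory ⥤ (Over (Spec R))ᵒᵖ :=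
  Tcos R B ⋙ opOp (CommAlgCat.{u} R) ⋙ (algSpec R).op

/-- the projections -/
noncomputable def ππ (n : SimplexCategory) (i : Fin (n.len + 1)) :
    ((YY R B).obj n).unop ⟶ U₀ R B :=
  (algSpec R).map (Sigma.ι (fam R B n.len) i).op

/-- the powers -/
noncomputable def hππ (n : SimplexCategory) :
    IsLimit (Fan.mk ((YY R B).obj n).unop (ππ R B n)) := by
  have hc : IsColimit (Cofan.mk (∐ (fam R B n.len)) (Sigma.ι (fam R B n.len))) :=
    coproductIsCoproduct (fam R B n.len)
  have h1 := Cofan.IsColimit.op hc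
  exact isLimitFanMkObjOfIsLimit (algSpec R) _ _ h1

lemma hYY {m n : SimplexCategory} (θ : m ⟶ n) (i : Fin (m.len + 1)) :
    ((YY R B).map θ).unop ≫ ππ R B m i = ππ R B n (θ.toOrderHom i) := by
  refine ((algSpec R).map_comp ((Tcos R B).map θ).op (Sigma.ι (fam R B m.len) i).op).symm.trans ?_
  exact congrArg (fun t : CommAlgCat.of R B ⟶ (Tcos R B).obj n => (algSpec R).map t.op)
    (Sigma.ι_desc (f := fam R B m.len) (fun i => Sigma.ι (fam R B n.len) (θ.toOrderHom i)) i)

/-- the module-valued functor -/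
noncomputable abbrev FF : MVF R := (toMVF K a).obj M

lemma specOver_map_eq {C C' : (CommAlgCat.{u} R)ᵒᵖ} (φ : C ⟶ C') :
    (specOver a).map φ = (Over.map a).map ((algSpec R).map φ) := rfl

/-- comparison with the algebraic cosimplicial group -/
noncomputable def isoXF : YY R B ⋙ PP K M R a ≅ XF (FF K M R a) B :=
  NatIso.ofComponents (fun n => Iso.refl _) (by
    intro m n θ
    exact (Category.comp_id _).trans
      ((show (YY R B ⋙ PP K M R a).map θ = (XF (FF K M R a) B).map θ from rfl).trans
        (Category.id_comp _).symm))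

/-- the Čech complex of an `O`-module `M` adequate at `a : Spec R ⟶ S`, along a faithfully flat
`R → B`, is exact in positive degrees -/
theorem exactAt (hF : adequate R (FF K M R a)) [Module.FaithfullyFlat R B] (m : ℕ) :
    ((cechComplexFunctor (A := AddCommGrpCat.{u + 1})
        (fun _ : PUnit.{u + 2} => U₀ R B)).obj (PP K M R a)).ExactAt (m + 1) := by
  obtain ⟨e⟩ := nonempty_iso.{u + 1} (PP K M R a) (U₀ R B) (YY R B) (ππ R B) (hππ R B)
    (fun θ i => hYY R B θ i)
  have e2 : Q.{u + 1} (PP K M R a) (U₀ R B) ≅ XF (FF K M R a) B := e ≪≫ isoXF K M R a B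
  have h := Groth.Agent.H92.AdeqAmitsur.exactAt (FF K M R a) B hF m
  exact h.of_iso ((AlgebraicTopology.alternatingCofaceMapComplex AddCommGrpCat.{u + 1}).mapIso e2.symm)

end Groth.Agent.H92.AdeqCechGeo
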