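import Mathlib

/-!
# Tensor products commute with filtered colimits, elementwise (helper92)

For a filtered system of `A`-modules `Bf j` with a compatible jointly surjective family of maps `ι j : Bf j → B`
such that elements killed by `ι j` are killed by some transition map (i.e. `B` is the filtered colimit of the
`Bf j` at the level of sets), the same two properties hold after tensoring with any `A`-module `N`.
-/

set_option autoImplicit false
universe v w u
open CategoryTheory TensorProduct

namespace Groth.Agent.H92.TensorFiltered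

variable {A : Type u} [CommRing A] {J : Type w} [Category J] [IsFiltered J]
  {Bf : J → Type u} [∀ j, AddCommGroup (Bf j)] [∀ j, Module A (Bf j)]
  {B : Type u} [AddCommGroup B] [Module A B]
  (t : ∀ {j k : J}, (j ⟶ k) → Bf j →ₗ[A] Bf k) (ι : ∀ j, Bf j →ₗ[A] B)

/-- the data of a filtered colimit of modules, elementwise -/
structure IsFilteredColim : Prop where
  comp : ∀ {j k : J} (f : j ⟶ k), ι k ∘ₗ t f = ι j
  tcomp : ∀ {j k l : J} (f : j ⟶ k) (g : k ⟶ l), t (f ≫ g) = t g ∘ₗ t f
  surj : ∀ b : B, ∃ (j : J) (x : Bf j), ι j x = b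
  inj : ∀ (j : J) (x : Bf j), ι j x = 0 → ∃ (k : J) (f : j ⟶ k), t f x = 0

variable {t ι} (h : IsFilteredColim t ι)
include h

section surj

variable (N : Type v) [AddCommGroup N] [Module A N]

lemma rTensor_comp {j k : J} (f : j ⟶ k) (w : Bf j ⊗[A] N) :
    (ι k).rTensor N ((t f).rTensor N w) = (ι j).rTensor N w := by
  rw [← LinearMap.comp_apply, ← LinearMap.rTensor_comp, h.comp]

lemma rTensor_tcomp {j k l : J} (f : j ⟶ k) (g : k ⟶ l) (w : Bf j ⊗[A] N) :
    (t (f ≫ g)).rTensor N w = (t g).rTensor N ((t f).rTensor N w) := by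
  rw [h.tcomp, LinearMap.rTensor_comp]
  rfl

/-- every element of `B ⊗ N` comes from some `Bf j ⊗ N` -/
lemma tensor_surj (z : B ⊗[A] N) : ∃ (j : J) (w : Bf j ⊗[A] N), (ι j).rTensor N w = z := by
  induction z using TensorProduct.induction_on with
  | zero => exact ⟨IsFiltered.nonempty.some, 0, map_zero _⟩
  | tmul b n =>
    obtain ⟨j, x, rfl⟩ := h.surj b
    exact ⟨j, x ⊗ₜ n, rfl⟩
  | add z₁ z₂ h₁ h₂ =>
    obtain ⟨j₁, w₁, rfl⟩ := h₁
    obtain ⟨j₂, w₂, rfl⟩ := h₂
    refine ⟨IsFiltered.max j₁ j₂, (t (IsFiltered.leftToMax j₁ j₂)).rTensor N w₁ +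
      (t (IsFiltered.rightToMax j₁ j₂)).rTensor N w₂, ?_⟩
    rw [map_add, rTensor_comp h, rTensor_comp h]

end surj

section free

variable (I : Type v)

open Classical in
lemma finsupp_inj {j : J} (s : I →₀ Bf j) (hs : Finsupp.mapRange.linearMap (ι j) s = 0) :
    ∃ (k : J) (f : j ⟶ k), Finsupp.mapRange.linearMap (t f) s = 0 := by
  induction s using Finsupp.induction with
  | zero => exact ⟨j, 𝟙 j, map_zero _⟩
  | single_add i b s' hi hb ih =>
    have h1 : ι j b = 0 := by
      have := DFunLike.congr_fun hs i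
      simp only [map_add, Finsupp.mapRange.linearMap_apply, Finsupp.mapRange_single,
        Finsupp.coe_add, Pi.add_apply, Finsupp.single_eq_same, Finsupp.mapRange_apply,
        Finsupp.coe_zero, Pi.zero_apply] at this
      rw [Finsupp.notMem_support_iff.1 hi, map_zero, add_zero] at this
      exact this
    have h2 : Finsupp.mapRange.linearMap (ι j) s' = 0 := by
      have h3 : Finsupp.mapRange.linearMap (ι j) (Finsupp.single i b) = 0 := by
        rw [Finsupp.mapRange.linearMap_apply, Finsupp.mapRange_single, h1, Finsupp.single_zero]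
      rw [map_add, h3, zero_add] at hs
      exact hs
    obtain ⟨k₁, f₁, hf₁⟩ := h.inj j b h1
    obtain ⟨k₂, f₂, hf₂⟩ := ih h2
    obtain ⟨k, g₁, g₂, hg⟩ := IsFiltered.span f₁ f₂
    refine ⟨k, f₁ ≫ g₁, ?_⟩
    rw [map_add]
    have e1 : Finsupp.mapRange.linearMap (t (f₁ ≫ g₁)) (Finsupp.single i b) = 0 := by
      rw [Finsupp.mapRange.linearMap_apply, Finsupp.mapRange_single, h.tcomp, LinearMap.comp_apply,
        hf₁, map_zero, Finsupp.single_zero]
    have e2 : Finsupp.mapRange.linearMap (t (f₁ ≫ g₁)) s' = 0 := by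
      rw [hg, h.tcomp]
      ext i'
      have := DFunLike.congr_fun hf₂ i'
      simp only [Finsupp.mapRange.linearMap_apply, Finsupp.mapRange_apply, Finsupp.coe_zero,
        Pi.zero_apply, LinearMap.comp_apply] at this ⊢
      rw [this, map_zero]
    rw [e1, e2, add_zero]

open Classical in
omit h [IsFiltered J] in
lemma finsuppScalarRight_rTensor {X Y : Type u} [AddCommGroup X] [Module A X] [AddCommGroup Y]
    [Module A Y] (g : X →ₗ[A] Y) (w : X ⊗[A] (I →₀ A)) :
    TensorProduct.finsuppScalarRight A A Y I (g.rTensor (I →₀ A) w) =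
      Finsupp.mapRange.linearMap g (TensorProduct.finsuppScalarRight A A X I w) := by
  induction w using TensorProduct.induction_on with
  | zero => simp
  | tmul x p =>
    ext i
    rw [LinearMap.rTensor_tmul, TensorProduct.finsuppScalarRight_apply_tmul_apply,
      Finsupp.mapRange.linearMap_apply, Finsupp.mapRange_apply,
      TensorProduct.finsuppScalarRight_apply_tmul_apply, map_smul]
  | add w₁ w₂ h₁ h₂ => rw [map_add, map_add, h₁, h₂, map_add, map_add]

open Classical in
/-- the case of a free module -/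
lemma tensor_inj_free {j : J} (w : Bf j ⊗[A] (I →₀ A)) (hw : (ι j).rTensor (I →₀ A) w = 0) :
    ∃ (k : J) (f : j ⟶ k), (t f).rTensor (I →₀ A) w = 0 := by
  have h1 : Finsupp.mapRange.linearMap (ι j) (TensorProduct.finsuppScalarRight A A (Bf j) I w) = 0 := by
    rw [← finsuppScalarRight_rTensor, hw, map_zero]
  obtain ⟨k, f, hf⟩ := finsupp_inj h I _ h1
  refine ⟨k, f, ?_⟩
  apply (TensorProduct.finsuppScalarRight A A (Bf k) I).injective
  rw [finsuppScalarRight_rTensor, hf, map_zero]

end free

section general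

variable (N : Type v) [AddCommGroup N] [Module A N]

omit h [IsFiltered J] in
lemma lTensor_rTensor {X Y : Type*} [AddCommGroup X] [Module A X] [AddCommGroup Y] [Module A Y]
    {P Q : Type*} [AddCommGroup P] [Module A P] [AddCommGroup Q] [Module A Q]
    (g : X →ₗ[A] Y) (π : P →ₗ[A] Q) (w : X ⊗[A] P) :
    π.lTensor Y (g.rTensor P w) = g.rTensor Q (π.lTensor X w) := by
  rw [← LinearMap.comp_apply, ← LinearMap.comp_apply, LinearMap.lTensor_comp_rTensor,
    LinearMap.rTensor_comp_lTensor]

omit h [IsFiltered J] in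
lemma subtype_lTensor_rTensor {X Y : Type*} [AddCommGroup X] [Module A X] [AddCommGroup Y] [Module A Y]
    {P : Type*} [AddCommGroup P] [Module A P] (K : Submodule A P)
    (g : X →ₗ[A] Y) (v : X ⊗[A] K) :
    g.rTensor P (K.subtype.lTensor X v) = K.subtype.lTensor Y (g.rTensor K v) := by
  rw [← LinearMap.comp_apply, ← LinearMap.comp_apply, LinearMap.lTensor_comp_rTensor,
    LinearMap.rTensor_comp_lTensor]

/-- reduction of the injectivity statement along a presentation -/
lemma tensor_inj_aux {F : Type*} [AddCommGroup F] [Module A F] (π : F →ₗ[A] N)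
    (hπ : Function.Surjective π) (K : Submodule A F) (hex : Function.Exact K.subtype π)
    (hfree : ∀ (j : J) (y : Bf j ⊗[A] F), (ι j).rTensor F y = 0 →
      ∃ (k : J) (f : j ⟶ k), (t f).rTensor F y = 0)
    {j : J} (w : Bf j ⊗[A] N) (hw : (ι j).rTensor N w = 0) :
    ∃ (k : J) (f : j ⟶ k), (t f).rTensor N w = 0 := by
  -- step 1: lift
  obtain ⟨w', rfl⟩ := LinearMap.lTensor_surjective (Bf j) hπ w
  -- step 2
  have h2 : π.lTensor B ((ι j).rTensor F w') = 0 := by
    rw [lTensor_rTensor, hw]
  -- step 3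
  obtain ⟨v, hv⟩ := (lTensor_exact (M := ↥K) B hex hπ _).1 h2
  -- step 4
  obtain ⟨j', v', rfl⟩ := tensor_surj h K v
  -- step 5
  obtain ⟨k, f, f', -⟩ : ∃ (k : J) (_ : j ⟶ k) (_ : j' ⟶ k), True :=
    ⟨IsFiltered.max j j', IsFiltered.leftToMax j j', IsFiltered.rightToMax j j', trivial⟩
  obtain ⟨y, hydef⟩ : ∃ y : Bf k ⊗[A] F, y = (t f).rTensor F w' -
    K.subtype.lTensor (Bf k) ((t f').rTensor K v') := ⟨_, rfl⟩
  have hy : (ι k).rTensor F y = 0 := by
    rw [hydef, map_sub, rTensor_comp h, subtype_lTensor_rTensor, rTensor_comp h, hv, sub_self]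
  -- step 6
  obtain ⟨l, g, hg⟩ := hfree k y hy
  refine ⟨l, f ≫ g, ?_⟩
  -- step 7
  rw [← lTensor_rTensor, rTensor_tcomp h]
  have e1 : (t f).rTensor F w' = y + K.subtype.lTensor (Bf k) ((t f').rTensor K v') := by
    rw [hydef]
    abel
  have e2 : π ∘ₗ K.subtype = 0 := by
    ext x
    exact (hex _).2 ⟨x, rfl⟩
  rw [e1, map_add, hg, zero_add, subtype_lTensor_rTensor, ← LinearMap.comp_apply,
    ← LinearMap.lTensor_comp, e2, LinearMap.lTensor_zero, LinearMap.zero_apply]

/-- an element of `Bf j ⊗ N` which dies in `B ⊗ N` dies in some `Bf k ⊗ N` -/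
theorem tensor_inj {j : J} (w : Bf j ⊗[A] N) (hw : (ι j).rTensor N w = 0) :
    ∃ (k : J) (f : j ⟶ k), (t f).rTensor N w = 0 :=
  tensor_inj_aux h N (Finsupp.linearCombination A id)
    (Finsupp.linearCombination_id_surjective A N) _
    (LinearMap.exact_subtype_ker_map _) (fun _ y hy => tensor_inj_free h N y hy) w hw

end general

end Groth.Agent.H92.TensorFiltered
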