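import Mathlib
import Groth.Prelude.Def_Adeq
import Groth.Agent.H92.AdeqBase
import Groth.Agent.H92.TensorFiltered

/-!
# Adequate functors commute with filtered colimits of algebras (helper92)
-/

set_option autoImplicit false
universe u
open CategoryTheory Limits Opposite TensorProduct

namespace Groth.Agent.H92.AdeqColim

open Adeq Groth.Agent.H92.AdeqBase Groth.Agent.H92.TensorFiltered

variable {A : Type u} [CommRing A]

/-- forget of `CommAlgCat A` factors through `Under`. -/
noncomputable def forgetIso :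
    forget (CommAlgCat.{u} A) ≅
      (commAlgCatEquivUnder (.of A)).functor ⋙ Under.forget _ ⋙ forget CommRingCat.{u} :=
  NatIso.ofComponents (fun B => Iso.refl _) (by
    intro B B' f
    rfl)

instance forget_preservesFiltered {J : Type u} [SmallCategory J] [IsFiltered J] :
    PreservesColimitsOfShape J (forget (CommAlgCat.{u} A)) := by
  have : PreservesColimitsOfShape J (forget CommRingCat.{u}) := inferInstance
  have : PreservesColimitsOfShape J (Under.forget (CommRingCat.of A)) := inferInstance
  exact preservesColimitsOfShape_of_natIso (forgetIso (A := A)).symm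

variable {J : Type u} [SmallCategory J] [IsFiltered J] (D : J ⥤ Alg A) (c : Cocone D)

/-- transition maps as linear maps -/
def tt {j k : J} (f : j ⟶ k) : (D.obj j : Type u) →ₗ[A] (D.obj k : Type u) :=
  (D.map f).hom.toLinearMap

/-- cocone maps as algebra maps -/
def ia (j : J) : (D.obj j : Type u) →ₐ[A] (c.pt : Type u) :=
  (show D.obj j ⟶ c.pt from c.ι.app j).hom

/-- cocone maps as linear maps -/
def ii (j : J) : (D.obj j : Type u) →ₗ[A] (c.pt : Type u) := (ia D c j).toLinearMap

lemma isFilteredColim (hc : IsColimit c) :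
    IsFilteredColim (A := A) (Bf := fun j => (D.obj j : Type u)) (B := (c.pt : Type u))
      (fun {j k} (f : j ⟶ k) => tt D f) (fun j => ii D c j) where
  comp {j k} f := by
    ext x
    have := c.w f
    exact congrArg (fun g => (show D.obj j ⟶ c.pt from g).hom x) this
  tcomp {j k l} f g := by
    ext x
    exact congrArg (fun g => g.hom x) (D.map_comp f g)
  surj b := by
    have h := isColimitOfPreserves (forget (CommAlgCat.{u} A)) hc
    obtain ⟨j, x, hx⟩ := Types.jointly_surjective_of_isColimit h b
    exact ⟨j, x, Eq.trans rfl hx⟩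
  inj j x hx := by
    have h := isColimitOfPreserves (forget (CommAlgCat.{u} A)) hc
    have h0 : ia D c j x = ia D c j (0 : D.obj j) := by
      rw [map_zero]; exact hx
    obtain ⟨k, f, hf⟩ := (Types.FilteredColimit.isColimit_eq_iff' h x (0 : D.obj j)).1 h0
    exact ⟨k, f, by
      have : (D.map f).hom x = (D.map f).hom 0 := hf
      rw [map_zero] at this
      exact this⟩

section main

variable {F : MVF A} {M N : ModuleCat.{u + 1} A} {φ : M ⟶ N} {j : F ⟶ (underline A).obj M}

omit [IsFiltered J] in
lemma j_nat (j : F ⟶ (underline A).obj M) {B₁ B₂ : Alg A} (f : B₁ ⟶ B₂) (x : F.obj (pt B₁)) :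
    j.app (pt B₂) (F.map (ptHom f) x) = f.hom.toLinearMap.rTensor M (j.app (pt B₁) x) :=
  PresheafOfModules.naturality_apply j (ptHom f) x

lemma phi_nat (φ : M ⟶ N) {B₁ B₂ : Alg A} (f : B₁ ⟶ B₂) (w : B₁ ⊗[A] M) :
    ((underline A).map φ).app (pt B₂) (f.hom.toLinearMap.rTensor M w) =
      f.hom.toLinearMap.rTensor N (((underline A).map φ).app (pt B₁) w) :=
  PresheafOfModules.naturality_apply ((underline A).map φ) (ptHom f) w

variable (hk : IsKer j ((underline A).map φ)) (hc : IsColimit c)
include hk hc

lemma surj_aux (x : F.obj (pt c.pt)) :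
    ∃ (k : J) (x' : F.obj (pt (D.obj k))), F.map (ptHom (c.ι.app k)) x' = x := by
  have hfc := isFilteredColim D c hc
  obtain ⟨i, w, hw⟩ := tensor_surj hfc M (j.app (pt c.pt) x)
  have hv : (ii D c i).rTensor N (((underline A).map φ).app (pt (D.obj i)) w) = 0 := by
    refine (phi_nat φ (c.ι.app i) w).symm.trans ?_
    refine (congrArg (((underline A).map φ).app (pt c.pt)) hw).trans ?_
    exact hk.zero (pt c.pt) x
  obtain ⟨k, f, hf⟩ := tensor_inj hfc N _ hv
  have hw' : ((underline A).map φ).app (pt (D.obj k)) ((tt D f).rTensor M w) = 0 :=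
    (phi_nat φ (D.map f) w).trans hf
  obtain ⟨x', hx'⟩ := hk.exact (pt (D.obj k)) _ hw'
  refine ⟨k, x', hk.inj (pt c.pt) ?_⟩
  refine (j_nat j (c.ι.app k) x').trans ?_
  refine (congrArg ((ii D c k).rTensor M) hx').trans ?_
  exact (rTensor_comp hfc M f w).trans hw

lemma inj_aux (i : J) (x y : F.obj (pt (D.obj i)))
    (hxy : F.map (ptHom (c.ι.app i)) x = F.map (ptHom (c.ι.app i)) y) :
    ∃ (k : J) (f : i ⟶ k), F.map (ptHom (D.map f)) x = F.map (ptHom (D.map f)) y := by
  have hfc := isFilteredColim D c hc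
  have hsub : F.map (ptHom (c.ι.app i)) (x - y) = 0 := by
    have := (F.map (ptHom (c.ι.app i))).hom.map_sub x y
    exact this.trans (sub_eq_zero.2 hxy)
  have h0 : (ii D c i).rTensor M (j.app (pt (D.obj i)) (x - y)) = 0 := by
    refine (j_nat j (c.ι.app i) (x - y)).symm.trans ?_
    exact (congrArg (j.app (pt c.pt)) hsub).trans (j.app (pt c.pt)).hom.map_zero
  obtain ⟨k, f, hf⟩ := tensor_inj hfc M _ h0
  refine ⟨k, f, ?_⟩
  have h1 : F.map (ptHom (D.map f)) (x - y) = 0 := by
    apply hk.inj (pt (D.obj k))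
    refine (j_nat j (D.map f) (x - y)).trans ?_
    exact hf.trans (j.app (pt (D.obj k))).hom.map_zero.symm
  have h2 := (F.map (ptHom (D.map f))).hom.map_sub x y
  exact sub_eq_zero.1 (h2.symm.trans h1)

end main

theorem main (F : MVF A) (hF : adequate A F) (hc : IsColimit c) :
    Nonempty (IsColimit (F.toAb.mapCocone c)) := by
  obtain ⟨M, N, φ, j, hk⟩ := (adequate_iff F).1 hF
  have hT : IsColimit ((forget Ab.{u+1}).mapCocone (F.toAb.mapCocone c)) := by
    apply Types.FilteredColimit.isColimitOf'
    · intro x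
      obtain ⟨k, x', hx'⟩ := surj_aux D c hk hc x
      exact ⟨k, x', hx'.symm⟩
    · intro i x y hxy
      obtain ⟨k, f, hf⟩ := inj_aux D c hk hc i x y hxy
      exact ⟨k, f, hf⟩
  have : PreservesFilteredColimitsOfSize.{u, u} (forget Ab.{u+1}) :=
    preservesFilteredColimitsOfSize_shrink.{u, u + 1, u, u + 1} _
  have : PreservesColimitsOfShape J (forget Ab.{u+1}) := inferInstance
  have : ReflectsColimitsOfShape J (forget Ab.{u+1}) :=
    reflectsColimitsOfShape_of_reflectsIsomorphisms
  exact ⟨isColimitOfReflects (forget Ab.{u+1}) hT⟩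

end Groth.Agent.H92.AdeqColim
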