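import Mathlib

/-!
# The presheaf `T ↦ Σ (t : T ⟶ S), G(T, t)` attached to a presheaf `G` on `Over S` (helper92)

For a presheaf of types `G` on `Over S` we define the presheaf `sig G` on `C` with
`(sig G)(T) = Σ (t : T ⟶ S), G(T, t)` (the presheaf-level "extension by the empty set" `j_!`), and show:
* if `yoneda S` is `J`-separated and `sig G` is a `J`-sheaf, then `G` is a `J.over S`-sheaf;
* if `yoneda S` is a `J`-sheaf and `G` is a `J.over S`-sheaf, then `sig G` is a `J`-sheaf.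
-/

set_option autoImplicit false
universe w v u
open CategoryTheory Limits Opposite

namespace Groth.Agent.H92.SigmaSheaf

variable {C : Type u} [Category.{v} C] {S : C} (G : (Over S)ᵒᵖ ⥤ Type w)

lemma mk_eq {T : C} {V : Over S} (k : T ⟶ V.left) (v : T ⟶ S) (hv : k ≫ V.hom = v)
    (y : G.obj (op V)) :
    (⟨k ≫ V.hom, G.map (Over.homMk k rfl : Over.mk (k ≫ V.hom) ⟶ V).op y⟩ :
      Σ t : T ⟶ S, G.obj (op (Over.mk t))) =
      ⟨v, G.map (Over.homMk k hv : Over.mk v ⟶ V).op y⟩ := by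
  subst hv
  rfl

/-- the presheaf `T ↦ Σ (t : T ⟶ S), G(T, t)` on `C` attached to a presheaf `G` on `Over S` -/
def sig : Cᵒᵖ ⥤ Type (max v w) where
  obj T := Σ t : (T.unop ⟶ S), G.obj (op (Over.mk t))
  map {T T'} g := TypeCat.ofHom fun z =>
    ⟨g.unop ≫ z.1, G.map (Over.homMk g.unop rfl : Over.mk (g.unop ≫ z.1) ⟶ Over.mk z.1).op z.2⟩
  map_id T := by
    refine ConcreteCategory.hom_ext _ _ fun z => ?_
    obtain ⟨t, y⟩ := z
    refine (mk_eq G (V := Over.mk t) (𝟙 _) t (Category.id_comp _) y).trans ?_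
    have h : (Over.homMk (𝟙 _) (Category.id_comp _) : Over.mk t ⟶ Over.mk t) = 𝟙 _ := rfl
    rw [h, op_id, G.map_id]
    rfl
  map_comp {T T' T''} g g' := by
    refine ConcreteCategory.hom_ext _ _ fun z => ?_
    obtain ⟨t, y⟩ := z
    refine (mk_eq G (V := Over.mk t) (g'.unop ≫ g.unop) (g'.unop ≫ g.unop ≫ t)
      (Category.assoc _ _ _) y).trans ?_
    have h : (Over.homMk (g'.unop ≫ g.unop) (Category.assoc _ _ _) :
        Over.mk (g'.unop ≫ g.unop ≫ t) ⟶ Over.mk t) =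
        (Over.homMk g'.unop rfl : Over.mk (g'.unop ≫ g.unop ≫ t) ⟶ Over.mk (g.unop ≫ t)) ≫
          (Over.homMk g.unop rfl : Over.mk (g.unop ≫ t) ⟶ Over.mk t) := rfl
    rw [h, op_comp, G.map_comp]
    rfl

variable {G}

/-- the inclusion of `G(V)` into `(sig G)(V.left)` -/
def ι (V : Over S) (y : G.obj (op V)) : (sig G).obj (op V.left) := ⟨V.hom, y⟩

lemma ι_fst (V : Over S) (y : G.obj (op V)) : (ι V y).1 = V.hom := rfl

lemma ι_injective (V : Over S) : Function.Injective (ι (G := G) V) := by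
  intro y y' h
  exact eq_of_heq (Sigma.mk.inj h).2

lemma exists_ι (V : Over S) (z : (sig G).obj (op V.left)) (hz : z.1 = V.hom) :
    ∃ y, ι V y = z := by
  obtain ⟨t, y⟩ := z
  change t = V.hom at hz
  subst hz
  exact ⟨y, rfl⟩

lemma map_fst {T T' : C} (g : T' ⟶ T) (z : (sig G).obj (op T)) :
    ((sig G).map g.op z).1 = g ≫ z.1 := rfl

lemma map_ι {V W : Over S} (k : V ⟶ W) (x : G.obj (op W)) :
    (sig G).map k.left.op (ι W x) = ι V (G.map k.op x) :=
  mk_eq G k.left V.hom (Over.w k) x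

lemma map_ι' {W : Over S} {T : C} (g : T ⟶ W.left) (x : G.obj (op W)) :
    (sig G).map g.op (ι W x) =
      ι (Over.mk (g ≫ W.hom)) (G.map (Over.homMk g rfl : Over.mk (g ≫ W.hom) ⟶ W).op x) :=
  map_ι (Over.homMk g rfl : Over.mk (g ≫ W.hom) ⟶ W) x

lemma mem_of_eq {W : Over S} (R : Sieve W) {T : C} (k : T ⟶ W.left) (v : T ⟶ S)
    (hv : k ≫ W.hom = v) (h1 : R (Over.homMk k hv : Over.mk v ⟶ W)) :
    R (Over.homMk k rfl : Over.mk (k ≫ W.hom) ⟶ W) := by
  subst hv
  exact h1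

lemma fam_eq {W : Over S} (R : Sieve W) (x : Presieve.FamilyOfElements G R.arrows) {T : C}
    (k : T ⟶ W.left) (v : T ⟶ S) (hv : k ≫ W.hom = v)
    (h0 : R (Over.homMk k rfl : Over.mk (k ≫ W.hom) ⟶ W))
    (h1 : R (Over.homMk k hv : Over.mk v ⟶ W)) :
    (⟨k ≫ W.hom, x (Over.homMk k rfl : Over.mk (k ≫ W.hom) ⟶ W) h0⟩ : (sig G).obj (op T)) =
      ⟨v, x (Over.homMk k hv : Over.mk v ⟶ W) h1⟩ := by
  subst hv
  rfl

section sheaf

variable (J : GrothendieckTopology C)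

/-- if `yoneda S` is separated and `sig G` is a sheaf on `C`, then `G` is a sheaf on `Over S` -/
theorem isSheaf_over_of_isSheaf_sig (hS : Presieve.IsSeparated J (yoneda.obj S))
    (h : Presieve.IsSheaf J (sig G)) : Presieve.IsSheaf (J.over S) G := by
  intro W R hR
  have hR' : Sieve.overEquiv W R ∈ J W.left := (GrothendieckTopology.mem_over_iff _ _).1 hR
  intro x hx
  -- the induced family for `sig G`
  let x' : Presieve.FamilyOfElements (sig G) (Sieve.overEquiv W R).arrows := fun Z g hg =>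
    ι (Over.mk (g ≫ W.hom))
      (x (Over.homMk g rfl : Over.mk (g ≫ W.hom) ⟶ W) ((Sieve.overEquiv_iff R g).1 hg))
  have hx' : x'.Compatible := by
    intro Z₁ Z₂ Z h₁ h₂ g₁ g₂ hg₁ hg₂ hcomm
    let Z' : Over S := Over.mk (h₁ ≫ g₁ ≫ W.hom)
    let k₁ : Z' ⟶ Over.mk (g₁ ≫ W.hom) := Over.homMk h₁ rfl
    let k₂ : Z' ⟶ Over.mk (g₂ ≫ W.hom) := Over.homMk h₂ (by
      show h₂ ≫ g₂ ≫ W.hom = h₁ ≫ g₁ ≫ W.hom
      rw [← Category.assoc, ← hcomm, Category.assoc])
    have e₁ : (sig G).map h₁.op (x' g₁ hg₁) = ι Z' (G.map k₁.op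
        (x (Over.homMk g₁ rfl : Over.mk (g₁ ≫ W.hom) ⟶ W) ((Sieve.overEquiv_iff R g₁).1 hg₁))) :=
      map_ι k₁ _
    have e₂ : (sig G).map h₂.op (x' g₂ hg₂) = ι Z' (G.map k₂.op
        (x (Over.homMk g₂ rfl : Over.mk (g₂ ≫ W.hom) ⟶ W) ((Sieve.overEquiv_iff R g₂).1 hg₂))) :=
      map_ι k₂ _
    rw [e₁, e₂]
    congr 1
    apply hx
    ext
    exact hcomm
  obtain ⟨z, hz, hzu⟩ := h _ hR' x' hx'
  -- the first component of `z` is the structure map of `W`
  have hz1 : z.1 = W.hom := by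
    refine (hS _ hR').ext ?_
    intro Z g hg
    have := congrArg Sigma.fst (hz g hg)
    exact this
  obtain ⟨y, rfl⟩ := exists_ι W z hz1
  -- comparison of `x'` with `x`
  have hmem : ∀ {V : Over S} (f : V ⟶ W) (_ : R f), Sieve.overEquiv W R f.left := fun {V} f hf =>
    (Sieve.overEquiv_iff R f.left).2 (mem_of_eq R f.left V.hom (Over.w f) hf)
  have hxx : ∀ {V : Over S} (f : V ⟶ W) (hf : R f), x' f.left (hmem f hf) = ι V (x f hf) :=
    fun {V} f hf => fam_eq R x f.left V.hom (Over.w f) _ hf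
  refine ⟨y, fun V f hf => ?_, fun y' hy' => ?_⟩
  · apply ι_injective V
    rw [← map_ι, ← hxx f hf]
    exact hz f.left (hmem f hf)
  · apply ι_injective W
    apply hzu
    intro Z g hg
    rw [map_ι']
    exact congrArg (ι (Over.mk (g ≫ W.hom))) (hy' _ _)

/-- if `yoneda S` is a sheaf and `G` is a sheaf on `Over S`, then `sig G` is a sheaf on `C` -/
theorem isSheaf_sig_of_isSheaf_over (hS : Presieve.IsSheaf J (yoneda.obj S))
    (h : Presieve.IsSheaf (J.over S) G) : Presieve.IsSheaf J (sig G) := by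
  intro T R hR x hx
  -- first components
  let t₀ : Presieve.FamilyOfElements (yoneda.obj S) R.arrows := fun Z g hg => (x g hg).1
  have ht₀ : t₀.Compatible := by
    intro Z₁ Z₂ Z h₁ h₂ g₁ g₂ hg₁ hg₂ hcomm
    exact congrArg Sigma.fst (hx h₁ h₂ hg₁ hg₂ hcomm)
  obtain ⟨t, ht, htu⟩ := hS _ hR t₀ ht₀
  have ht' : ∀ {Z : C} (g : Z ⟶ T) (hg : R g), g ≫ t = (x g hg).1 := fun g hg => ht g hg
  let W : Over S := Over.mk t
  have hR' : (Sieve.overEquiv W).symm R ∈ (J.over S) W := J.overEquiv_symm_mem_over W R hR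
  have hy : ∀ {V : Over S} (f : V ⟶ W) (hf : R f.left), ∃ y, ι V y = x f.left hf := fun {V} f hf =>
    exists_ι V _ ((ht' f.left hf).symm.trans (Over.w f))
  let y' : Presieve.FamilyOfElements G ((Sieve.overEquiv W).symm R).arrows := fun V f hf =>
    (hy f ((Sieve.overEquiv_symm_iff R f).1 hf)).choose
  have hy' : ∀ {V : Over S} (f : V ⟶ W) (hf : (Sieve.overEquiv W).symm R f),
      ι V (y' f hf) = x f.left ((Sieve.overEquiv_symm_iff R f).1 hf) :=
    fun f hf => (hy f _).choose_spec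
  have hcompat : y'.Compatible := by
    intro V₁ V₂ V k₁ k₂ f₁ f₂ hf₁ hf₂ hcomm
    apply ι_injective V
    rw [← map_ι, ← map_ι, hy' f₁ hf₁, hy' f₂ hf₂]
    exact hx k₁.left k₂.left _ _ (congrArg CommaMorphism.left hcomm)
  obtain ⟨y, hy1, hyu⟩ := h _ hR' y' hcompat
  refine ⟨ι W y, fun Z g hg => ?_, fun z' hz' => ?_⟩
  · refine (map_ι' (W := W) g y).trans ?_
    have hg' : (Sieve.overEquiv W).symm R (Over.homMk g rfl : Over.mk (g ≫ W.hom) ⟶ W) :=
      (Sieve.overEquiv_symm_iff (Y := W) R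
        (Over.homMk g rfl : Over.mk (g ≫ W.hom) ⟶ W)).2 hg
    rw [hy1 _ hg']
    exact hy' _ hg'
  · have h1 : z'.1 = t := by
      apply htu
      intro Z g hg
      exact congrArg Sigma.fst (hz' g hg)
    obtain ⟨y'', rfl⟩ := exists_ι W z' h1
    congr 1
    apply hyu
    intro V f hf
    apply ι_injective V
    rw [← map_ι, hy' f hf]
    exact hz' f.left _

end sheaf

/-- the sheaf condition of `sig G` for a single morphism `f : X ⟶ Y`, from the sheaf condition of `yoneda S` and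
the descent property of `G` along the morphisms `(X, f ≫ a) ⟶ (Y, a)` of `Over S` -/
theorem isSheafFor_sig_singleton {X Y : C} (f : X ⟶ Y)
    (hS : Presieve.IsSheafFor (yoneda.obj S) (Presieve.singleton f))
    (hG : ∀ a : Y ⟶ S,
      Function.Injective (G.map (Over.homMk f rfl : Over.mk (f ≫ a) ⟶ Over.mk a).op) ∧
      ∀ y : G.obj (op (Over.mk (f ≫ a))),
        (∀ (Z : Over S) (k₁ k₂ : Z ⟶ Over.mk (f ≫ a)),
          k₁ ≫ (Over.homMk f rfl : Over.mk (f ≫ a) ⟶ Over.mk a) =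
            k₂ ≫ (Over.homMk f rfl : Over.mk (f ≫ a) ⟶ Over.mk a) →
          G.map k₁.op y = G.map k₂.op y) →
        ∃ x, G.map (Over.homMk f rfl : Over.mk (f ≫ a) ⟶ Over.mk a).op x = y) :
    Presieve.IsSheafFor (sig G) (Presieve.singleton f) := by
  rw [Presieve.isSheafFor_singleton]
  intro z hz
  obtain ⟨t', y'⟩ := z
  obtain ⟨a, ha, hau⟩ := (Presieve.isSheafFor_singleton.1 hS) t'
    (fun p₁ p₂ hp => congrArg Sigma.fst (hz p₁ p₂ hp))
  change f ≫ a = t' at ha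
  subst ha
  let V : Over S := Over.mk (f ≫ a)
  let W : Over S := Over.mk a
  let π : V ⟶ W := Over.homMk f rfl
  have heq : ∀ (Z : Over S) (k₁ k₂ : Z ⟶ V), k₁ ≫ π = k₂ ≫ π → G.map k₁.op y' = G.map k₂.op y' := by
    intro Z k₁ k₂ hk
    apply ι_injective Z
    rw [← map_ι, ← map_ι]
    exact hz k₁.left k₂.left (congrArg CommaMorphism.left hk)
  obtain ⟨x, hx⟩ := (hG a).2 y' heq
  refine ⟨ι W x, (map_ι π x).trans (congrArg (ι V) hx), fun z' hz' => ?_⟩
  have h1 : z'.1 = a := hau z'.1 (congrArg Sigma.fst hz')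
  obtain ⟨x', rfl⟩ := exists_ι W z' h1
  congr 1
  apply (hG a).1
  apply ι_injective V
  rw [hx]
  exact (map_ι π x').symm.trans hz'

end Groth.Agent.H92.SigmaSheaf
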