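import Mathlib
import Groth.Prelude.Def_Adeq2
import Groth.Agent.H92.SigmaSheaf
import Groth.Agent.H92.AdeqCech
import Groth.Agent.H92.AdeqBig

/-!
# Modules on the big site which are adequate on all affines are fpqc sheaves (helper92)
-/

set_option autoImplicit false
universe u
open CategoryTheory Limits AlgebraicGeometry Opposite TensorProduct

namespace Groth.Agent.H92.AdeqFpqc

open Adeq Groth.Agent.H92.AdeqBase Groth.Agent.H92.AdeqEps Groth.Agent.H92.SigmaSheaf

section objs

variable {S : Scheme.{u}} {R : CommRingCat.{u}} (a : Spec R ⟶ S)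

/-- the object `Spec X → Spec R → S` -/
noncomputable abbrev ob (X : Type u) [CommRing X] [Algebra R X] : Over S :=
  (specOver a).obj (op (algOf R X))

/-- the map of objects induced by a map of algebras -/
noncomputable abbrev mp {X Y : Type u} [CommRing X] [Algebra R X] [CommRing Y] [Algebra R Y]
    (φ : X →ₐ[R] Y) : ob a Y ⟶ ob a X :=
  (specOver a).map (CommAlgCat.ofHom φ).op

lemma mp_comp {X Y Z : Type u} [CommRing X] [Algebra R X] [CommRing Y] [Algebra R Y]
    [CommRing Z] [Algebra R Z] (φ : X →ₐ[R] Y) (ψ : Y →ₐ[R] Z) :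
    mp a ψ ≫ mp a φ = mp a (ψ.comp φ) := by
  unfold mp
  rw [← Functor.map_comp, ← op_comp]
  rfl

/-- `Spec R → Spec R → S` is `Spec R → S` -/
noncomputable def obIso : ob a R ≅ Over.mk a :=
  Over.isoMk (Iso.refl _) (by
    show 𝟙 _ ≫ a = Spec.map (CommRingCat.ofHom (algebraMap R R)) ≫ a
    have : Spec.map (CommRingCat.ofHom (algebraMap R R)) = 𝟙 (Spec R) := Spec.map_id R
    rw [this])

end objs

variable (K : Precoverage Scheme.{u}) [BigSite.OSh K] {S : Scheme.{u}}

lemma map_comp_apply' (F : (Over S)ᵒᵖ ⥤ AddCommGrpCat.{u + 1}) {X Y Z : Over S} (f : X ⟶ Y) (g : Y ⟶ Z)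
    (x : F.obj (op Z)) : F.map (f ≫ g).op x = F.map f.op (F.map g.op x) := by
  rw [op_comp, F.map_comp]
  rfl

lemma map_id_apply' (F : (Over S)ᵒᵖ ⥤ AddCommGrpCat.{u + 1}) (X : Over S)
    (x : F.obj (op X)) : F.map (𝟙 X).op x = x := by
  rw [op_id, F.map_id]
  rfl

lemma mapA_toMVF (M : BigSite.Mod K S) {R : CommRingCat.{u}} (a : Spec R ⟶ S)
    {X Y : Type u} [CommRing X] [Algebra R X] [CommRing Y] [Algebra R Y] (φ : X →ₐ[R] Y)
    (x : val ((toMVF K a).obj M) X) :
    mapA ((toMVF K a).obj M) φ x = M.val.presheaf.map (mp a φ).op x := rfl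

/-- descent of sections of a module adequate on `Spec R` along a faithfully flat ring map `R → R'` -/
theorem descent (M : BigSite.Mod K S) {R R' : CommRingCat.{u}} (a : Spec R ⟶ S) (f : R ⟶ R')
    (hf : f.hom.FaithfullyFlat) (had : adequate R ((toMVF K a).obj M)) :
    Function.Injective (M.val.presheaf.map
      (Over.homMk (Spec.map f) rfl : Over.mk (Spec.map f ≫ a) ⟶ Over.mk a).op) ∧
    ∀ y : M.val.presheaf.obj (op (Over.mk (Spec.map f ≫ a))),
      (∀ (Z : Over S) (k₁ k₂ : Z ⟶ Over.mk (Spec.map f ≫ a)),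
        k₁ ≫ (Over.homMk (Spec.map f) rfl : Over.mk (Spec.map f ≫ a) ⟶ Over.mk a) =
          k₂ ≫ (Over.homMk (Spec.map f) rfl : Over.mk (Spec.map f ≫ a) ⟶ Over.mk a) →
        M.val.presheaf.map k₁.op y = M.val.presheaf.map k₂.op y) →
      ∃ x, M.val.presheaf.map
        (Over.homMk (Spec.map f) rfl : Over.mk (Spec.map f ≫ a) ⟶ Over.mk a).op x = y := by
  letI : Algebra R R' := f.hom.toAlgebra
  haveI : Module.FaithfullyFlat R R' := hf
  let Q := M.val.presheaf
  let π : Over.mk (Spec.map f ≫ a) ⟶ Over.mk a := Over.homMk (Spec.map f) rfl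
  let p : ob a R' ⟶ ob a R := mp a (Algebra.ofId R R')
  have hp : (p ≫ (obIso a).hom : ob a R' ⟶ Over.mk a) = π := by
    ext : 1
    show Spec.map (CommRingCat.ofHom (Algebra.ofId R R').toRingHom) ≫ 𝟙 _ = Spec.map f
    rw [Category.comp_id]
    rfl
  obtain ⟨h1, h2⟩ := Groth.Agent.H92.AdeqCech.cech_two ((toMVF K a).obj M) had R'
  have h1' : Function.Injective (Q.map p.op) := h1
  refine ⟨?_, ?_⟩
  · intro x x' hxx
    have e1 : Q.map π.op x = Q.map p.op (Q.map (obIso a).hom.op x) :=
      (congrArg (fun k => Q.map (Quiver.Hom.op k) x) hp.symm).trans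
        (map_comp_apply' Q p (obIso a).hom x)
    have e2 : Q.map π.op x' = Q.map p.op (Q.map (obIso a).hom.op x') :=
      (congrArg (fun k => Q.map (Quiver.Hom.op k) x') hp.symm).trans
        (map_comp_apply' Q p (obIso a).hom x')
    have h3 : Q.map (obIso a).hom.op x = Q.map (obIso a).hom.op x' :=
      h1' (e1.symm.trans (hxx.trans e2))
    have h4 := congrArg (Q.map (obIso a).inv.op) h3
    rw [← map_comp_apply', ← map_comp_apply', Iso.inv_hom_id, map_id_apply', map_id_apply'] at h4
    exact h4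
  · intro y hy
    let q₁ : ob a (R' ⊗[R] R') ⟶ ob a R' := mp a Algebra.TensorProduct.includeLeft
    let q₂ : ob a (R' ⊗[R] R') ⟶ ob a R' := mp a Algebra.TensorProduct.includeRight
    have hq : q₁ ≫ p = q₂ ≫ p := by
      show mp a (Algebra.TensorProduct.includeLeft : R' →ₐ[R] R' ⊗[R] R') ≫ mp a (Algebra.ofId R R') =
        mp a (Algebra.TensorProduct.includeRight : R' →ₐ[R] R' ⊗[R] R') ≫ mp a (Algebra.ofId R R')
      rw [mp_comp, mp_comp]
      exact congrArg (mp a) (Subsingleton.elim _ _)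
    have hq' : (q₁ ≫ π : ob a (R' ⊗[R] R') ⟶ Over.mk a) = q₂ ≫ π := by
      rw [← hp, ← Category.assoc, ← Category.assoc, hq]
    obtain ⟨x₀, hx₀⟩ := h2 y (hy _ q₁ q₂ hq')
    refine ⟨Q.map (obIso a).inv.op x₀, ?_⟩
    have e1 : Q.map π.op (Q.map (obIso a).inv.op x₀) =
        Q.map p.op (Q.map (obIso a).hom.op (Q.map (obIso a).inv.op x₀)) :=
      (congrArg (fun k => Q.map (Quiver.Hom.op k) (Q.map (obIso a).inv.op x₀)) hp.symm).trans
        (map_comp_apply' Q p (obIso a).hom _)
    refine e1.trans ?_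
    rw [← map_comp_apply' Q (obIso a).hom (obIso a).inv, Iso.hom_inv_id, map_id_apply']
    exact hx₀

lemma over_mono {J₁ J₂ : GrothendieckTopology Scheme.{u}} (h : J₁ ≤ J₂) (S : Scheme.{u}) :
    J₁.over S ≤ J₂.over S := by
  intro W R hR
  exact (GrothendieckTopology.mem_over_iff _ _).2 (h _ ((GrothendieckTopology.mem_over_iff _ _).1 hR))

/-- a module on the big `K`-site (`K` finer than Zariski) which is adequate on every affine is an fpqc sheaf -/
theorem isSheaf_fpqc (hK : Scheme.zariskiPrecoverage ≤ K) (M : BigSite.Mod K S)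
    (had : ∀ (R : CommRingCat.{u}) (a : Spec R ⟶ S), adequate R ((toMVF K a).obj M)) :
    Presheaf.IsSheaf (QuotSh.J Scheme.fpqcPrecoverage S) M.val.presheaf := by
  rw [Presheaf.isSheaf_iff_isSheaf_forget _ _ (forget AddCommGrpCat), isSheaf_iff_isSheaf_of_type]
  refine isSheaf_over_of_isSheaf_sig Scheme.fpqcTopology ?_ ?_
  · exact (GrothendieckTopology.Subcanonical.isSheaf_of_isRepresentable (yoneda.obj S)).isSeparated
  · rw [Scheme.fpqcTopology_eq_propQCTopology, isSheaf_type_propQCTopology_iff]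
    refine ⟨?_, fun {R R'} f hf hs => ?_⟩
    · refine isSheaf_sig_of_isSheaf_over Scheme.zariskiTopology
        (GrothendieckTopology.Subcanonical.isSheaf_of_isRepresentable (yoneda.obj S)) ?_
      refine Presieve.isSheaf_of_le _ ?_ (Groth.Agent.H92.AdeqBig.isSheaf_type K M)
      exact over_mono (Precoverage.toGrothendieck_mono hK) S
    · have hff : f.hom.FaithfullyFlat := (flat_and_surjective_SpecMap_iff f).1 ⟨hf, hs⟩
      refine isSheafFor_sig_singleton (Spec.map f) ?_ (fun a => ?_)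
      · exact ((isSheaf_type_propQCTopology_iff (P := @Flat) (yoneda.obj S)).1
          (by
            rw [← Scheme.fpqcTopology_eq_propQCTopology]
            exact GrothendieckTopology.Subcanonical.isSheaf_of_isRepresentable (yoneda.obj S))).2
          f hf hs
      · exact descent K M a f hff (had R a)

end Groth.Agent.H92.AdeqFpqc
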