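import Mathlib
import Groth.Prelude.Def_Adeq
import Groth.Agent.H92.AdeqEps

/-!
# Adequate functors commute with finite products of algebras (helper92)
-/

set_option autoImplicit false
universe u
open CategoryTheory Limits Opposite TensorProduct

namespace Groth.Agent.H92.AdeqProd

open Adeq Groth.Agent.H92.AdeqBase Groth.Agent.H92.AdeqEps

variable {A : Type u} [CommRing A]

section lin

variable (A) {ι : Type} [Fintype ι] [DecidableEq ι] (C : ι → Type u) [∀ k, CommRing (C k)]
  [∀ k, Algebra A (C k)] (M : Type (u + 1)) [AddCommGroup M] [Module A M]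

/-- `(∏ C_k) ⊗ M ≃ ∏ (C_k ⊗ M)` -/
noncomputable def piLeft : (∀ k, C k) ⊗[A] M ≃ₗ[A] ∀ k, (C k) ⊗[A] M :=
  (TensorProduct.comm A (∀ k, C k) M) ≪≫ₗ (TensorProduct.piRight A A M C) ≪≫ₗ
    (LinearEquiv.piCongrRight (fun k => TensorProduct.comm A M (C k)))

lemma piLeft_apply (w : (∀ k, C k) ⊗[A] M) (k : ι) :
    piLeft A C M w k = (Pi.evalAlgHom A C k).toLinearMap.rTensor M w := by
  induction w using TensorProduct.induction_on with
  | zero => simp
  | add x y hx hy => rw [map_add, map_add, Pi.add_apply, hx, hy]
  | tmul c m =>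
    simp [piLeft]

end lin

theorem adequate_pi_bijective (F : MVF A) (hF : adequate A F) {ι : Type} [Fintype ι] [DecidableEq ι]
    (C : ι → Type u) [∀ k, CommRing (C k)] [∀ k, Algebra A (C k)] :
    Function.Bijective (fun (x : val F (∀ k, C k)) (k : ι) => mapA F (Pi.evalAlgHom A C k) x) := by
  obtain ⟨M, N, φ, j, hj⟩ := (adequate_iff F).1 hF
  have key : ∀ (k : ι) (x : val F (∀ k, C k)),
      piLeft A C M (j.app _ x) k = j.app _ (mapA F (Pi.evalAlgHom A C k) x) := by
    intro k x
    rw [piLeft_apply]
    have h1 := mapA_natural j (Pi.evalAlgHom A C k) x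
    rw [mapA_underline] at h1
    exact h1.symm
  constructor
  · intro x x' h
    apply hj.inj _
    apply (piLeft A C M).injective
    funext k
    rw [key, key]
    exact congrArg (j.app _) (congrFun h k)
  · intro z
    let w : (∀ k, C k) ⊗[A] M := (piLeft A C M).symm (fun k => j.app _ (z k))
    have hw : ∀ k, (Pi.evalAlgHom A C k).toLinearMap.rTensor M w = j.app _ (z k) := by
      intro k
      rw [← piLeft_apply, LinearEquiv.apply_symm_apply]
    have hφw : ((underline A).map φ).app (pt (algOf A (∀ k, C k))) w = 0 := by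
      apply (piLeft A C N).injective
      funext k
      rw [piLeft_apply]
      refine Eq.trans ?_ (congrFun (map_zero (piLeft A C N)) k).symm
      have h3 := mapA_natural ((underline A).map φ) (Pi.evalAlgHom A C k) w
      rw [mapA_underline, mapA_underline, hw] at h3
      exact h3.symm.trans (hj.zero _ (z k))
    obtain ⟨x, hx⟩ := hj.exact (pt (algOf A (∀ k, C k))) w hφw
    refine ⟨x, ?_⟩
    funext k
    apply hj.inj _
    have h4 := mapA_natural j (Pi.evalAlgHom A C k) x
    rw [mapA_underline] at h4
    rw [h4, hx, hw]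

end Groth.Agent.H92.AdeqProd
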