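import Mathlib

/-!
# A criterion for `P(U) → P^#(U)` to be bijective on a class of objects (helper92)

If `η : P ⟶ Q` is a locally bijective map from a presheaf of abelian groups to a sheaf, and a class `good` of objects
has the property that every covering sieve of a good object `U` contains a "nice cover"
`V_k → V → U` (with `P(U) → P(V) ⇉ P(W)` exact, `W` good, and `P(V) ≅ ∏ P(V_k)`), then `η_U` is bijective for good `U`.
-/

set_option autoImplicit false
universe w v u
open CategoryTheory Opposite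

namespace Groth.Agent.H92.SheafifyBij

variable {C : Type u} [Category.{v} C] (J : GrothendieckTopology C)
  {P Q : Cᵒᵖ ⥤ AddCommGrpCat.{w}} (η : P ⟶ Q)

/-- the data of a nice cover of `U` inside the sieve `T` -/
structure Nice (good : C → Prop) (U : C) (T : Sieve U) : Prop where
  ex : ∃ (V W : C) (p : V ⟶ U) (q₁ q₂ : W ⟶ V) (ι : Type) (Vk : ι → C) (i : ∀ k, Vk k ⟶ V)
      (π : ∀ k, Vk k ⟶ U),
      good W ∧ q₁ ≫ p = q₂ ≫ p ∧ (∀ k, i k ≫ p = π k) ∧
      Function.Injective (P.map p.op) ∧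
      (∀ y : P.obj (op V), P.map q₁.op y = P.map q₂.op y → ∃ x : P.obj (op U), P.map p.op x = y) ∧
      Function.Bijective (fun (y : P.obj (op V)) (k : ι) => P.map (i k).op y) ∧
      (∀ k, T (π k)) ∧
      Sieve.generate (Presieve.ofArrows Vk i) ∈ J V ∧
      Sieve.generate (Presieve.ofArrows Vk π) ∈ J U

variable {J}

lemma map_comp_apply' (F : Cᵒᵖ ⥤ AddCommGrpCat.{w}) {X Y Z : C} (f : X ⟶ Y) (g : Y ⟶ Z)
    (x : F.obj (op Z)) : F.map (f ≫ g).op x = F.map f.op (F.map g.op x) := by
  rw [op_comp, F.map_comp]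
  rfl

lemma nat_apply {X Y : C} (f : X ⟶ Y) (x : P.obj (op Y)) :
    η.app (op X) (P.map f.op x) = Q.map f.op (η.app (op Y) x) :=
  NatTrans.naturality_apply η f.op x

lemma sep_generate (hQ : Presheaf.IsSheaf J Q) {U : C} {ι : Type*} (V : ι → C) (π : ∀ k, V k ⟶ U)
    (hT : Sieve.generate (Presieve.ofArrows V π) ∈ J U) (x y : Q.obj (op U))
    (h : ∀ k, Q.map (π k).op x = Q.map (π k).op y) : x = y := by
  refine hQ.isSeparated U _ hT x y ?_
  rintro Y f ⟨Z, g, _, ⟨k⟩, rfl⟩
  rw [map_comp_apply', map_comp_apply', h k]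

variable [Presheaf.IsLocallyInjective J η] [Presheaf.IsLocallySurjective J η]

omit [Presheaf.IsLocallySurjective J η] in
theorem injective_of_nice (good : C → Prop)
    (H : ∀ (U : C), good U → ∀ T ∈ J U, Nice (P := P) J good U T) (U : C) (hU : good U) :
    Function.Injective (η.app (op U)) := by
  intro x x' hxx
  have hT : Presheaf.equalizerSieve x x' ∈ J U := Presheaf.equalizerSieve_mem J η x x' hxx
  obtain ⟨V, W, p, q₁, q₂, ι, Vk, i, π, -, -, hπ, hinj, -, hbij, hTπ, -, -⟩ := (H U hU _ hT).ex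
  apply hinj
  apply hbij.1
  funext k
  show P.map (i k).op (P.map p.op x) = P.map (i k).op (P.map p.op x')
  rw [← map_comp_apply', ← map_comp_apply', hπ k]
  exact hTπ k

theorem bijective_of_nice (hQ : Presheaf.IsSheaf J Q) (good : C → Prop)
    (H : ∀ (U : C), good U → ∀ T ∈ J U, Nice (P := P) J good U T) (U : C) (hU : good U) :
    Function.Bijective (η.app (op U)) := by
  refine ⟨injective_of_nice η good H U hU, fun t => ?_⟩
  have hT : Presheaf.imageSieve η t ∈ J U := Presheaf.imageSieve_mem J η t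
  obtain ⟨V, W, p, q₁, q₂, ι, Vk, i, π, hW, hq, hπ, hinj, heq, hbij, hTπ, hcovV, hcovU⟩ :=
    (H U hU _ hT).ex
  choose s hs using hTπ
  obtain ⟨y, hy⟩ := hbij.2 s
  have hy' : ∀ k, P.map (i k).op y = s k := fun k => congrFun hy k
  have hηy : η.app (op V) y = Q.map p.op t := by
    refine sep_generate hQ Vk i hcovV _ _ (fun k => ?_)
    rw [← nat_apply, hy' k, hs k, ← map_comp_apply', hπ k]
  have hqy : P.map q₁.op y = P.map q₂.op y := by
    apply injective_of_nice η good H W hW
    rw [nat_apply, nat_apply, hηy, ← map_comp_apply', ← map_comp_apply', hq]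
  obtain ⟨x, hx⟩ := heq y hqy
  refine ⟨x, ?_⟩
  refine sep_generate hQ Vk π hcovU _ _ (fun k => ?_)
  rw [← hπ k, map_comp_apply', map_comp_apply', ← nat_apply, hx, hηy]

end Groth.Agent.H92.SheafifyBij
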