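import Mathlib
import Groth.Prelude.Def_Adeq2
import Groth.Agent.H92.AdeqCech
import Groth.Agent.H92.AdeqProd
import Groth.Agent.H92.SheafifyBij

/-!
# Sheafification of a presheaf of modules that is adequate on all affines (helper92)
-/

set_option autoImplicit false
universe u
open CategoryTheory Limits AlgebraicGeometry Opposite TensorProduct

namespace Groth.Agent.H92.AdeqShf

open Adeq Groth.Agent.H92.AdeqBase Groth.Agent.H92.AdeqEps

section site

lemma generate_mem_over (K : Precoverage Scheme.{u}) {S : Scheme.{u}} {U : Over S} {ι : Type*}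
    (V : ι → Over S) (π : ∀ k, V k ⟶ U)
    (hcov : Presieve.ofArrows (fun k => (V k).left) (fun k => (π k).left) ∈ K.coverings U.left) :
    Sieve.generate (Presieve.ofArrows V π) ∈ QuotSh.J K S U := by
  rw [GrothendieckTopology.mem_over_iff]
  refine K.toGrothendieck.superset_covering ?_ (Precoverage.generate_mem_toGrothendieck hcov)
  rintro W g ⟨Y, h, f, ⟨k⟩, rfl⟩
  rw [Sieve.overEquiv_iff]
  refine ⟨V k, Over.homMk h ?_, π k, Presieve.ofArrows.mk k, ?_⟩
  · show h ≫ (V k).hom = (h ≫ (π k).left) ≫ U.hom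
    rw [Category.assoc, Over.w]
  · ext : 1
    rfl

instance fppf_hasIsos : Scheme.fppfPrecoverage.{u}.HasIsos := ⟨fun {X Y} f _ => by
  unfold Scheme.fppfPrecoverage
  rw [Scheme.singleton_mem_precoverage_iff]
  exact ⟨(inferInstance : Surjective f).surj, inferInstance, inferInstance⟩⟩

lemma exists_finite_affine_refinement (R : CommRingCat.{u}) (T' : Sieve (Spec R))
    (hT' : T' ∈ Scheme.fppfPrecoverage.toGrothendieck (Spec R)) :
    ∃ (n : ℕ) (C : Fin n → CommRingCat.{u}) (ψ : ∀ k, R ⟶ C k),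
      (∀ k, T' (Spec.map (ψ k))) ∧ (∀ x : Spec R, ∃ k, x ∈ Set.range (Spec.map (ψ k))) ∧
      (∀ k, Flat (Spec.map (ψ k))) ∧ (∀ k, LocallyOfFinitePresentation (Spec.map (ψ k))) := by
  classical
  obtain ⟨R₁, hR₁, hle⟩ := (Precoverage.mem_toGrothendieck_iff_of_isStableUnderComposition).1 hT'
  have hJS : Scheme.JointlySurjective Scheme.fppfPrecoverage.{u} := by
    unfold Scheme.fppfPrecoverage; infer_instance
  have hx : ∀ x : Spec R, ∃ (A : CommRingCat.{u}) (w : Spec A ⟶ Spec R), T' w ∧ x ∈ Set.range w ∧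
      Flat w ∧ LocallyOfFinitePresentation w := by
    intro x
    obtain ⟨Y, g, hg, y, hy⟩ := hJS.exists_eq R₁ hR₁ x
    obtain ⟨j, z, hz⟩ := Y.affineOpenCover.openCover.exists_eq y
    have hP := hR₁.2 hg
    have : Flat g := hP.1
    have : LocallyOfFinitePresentation g := hP.2
    refine ⟨Y.affineOpenCover.X j, Y.affineOpenCover.f j ≫ g,
      T'.downward_closed (hle _ _ hg) _, ⟨z, ?_⟩, inferInstance, inferInstance⟩
    rw [Scheme.Hom.comp_apply]
    exact (congrArg g hz).trans hy
  choose A w hwT hwx hwflat hwlfp using hx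
  obtain ⟨t, ht⟩ := isCompact_univ.elim_finite_subcover (fun x => Set.range (w x))
    (fun x => by
      have := hwflat x
      have := hwlfp x
      exact (w x).isOpenMap.isOpen_range)
    (fun x _ => Set.mem_iUnion.2 ⟨x, hwx x⟩)
  let e : Fin t.card ≃ ↥t := t.equivFin.symm
  have hψ : ∀ k, Spec.map (Spec.preimage (w (e k).1)) = w (e k).1 := fun k => Spec.map_preimage _
  refine ⟨t.card, fun k => A (e k).1, fun k => Spec.preimage (w (e k).1), fun k => ?_, fun x => ?_,
    fun k => ?_, fun k => ?_⟩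
  · rw [hψ]; exact hwT _
  · obtain ⟨p, hp⟩ := Set.mem_iUnion.1 (ht (Set.mem_univ x))
    obtain ⟨hpt, hx⟩ := Set.mem_iUnion.1 hp
    refine ⟨e.symm ⟨p, hpt⟩, ?_⟩
    rw [hψ]
    show x ∈ Set.range (w (e (e.symm ⟨p, hpt⟩)).1)
    rw [Equiv.apply_symm_apply]
    exact hx
  · rw [hψ]; exact hwflat _
  · rw [hψ]; exact hwlfp _

lemma faithfullyFlat_pi {R : Type u} [CommRing R] {n : ℕ} (C : Fin n → Type u) [∀ k, CommRing (C k)]
    [∀ k, Algebra R (C k)] (hflat : ∀ k, Module.Flat R (C k))
    (hsurj : ∀ x : PrimeSpectrum R, ∃ k, ∃ y : PrimeSpectrum (C k),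
      PrimeSpectrum.comap (algebraMap R (C k)) y = x) :
    Module.FaithfullyFlat R (∀ k, C k) := by
  have : Module.Flat R (∀ k, C k) :=
    Module.Flat.of_linearEquiv (DFinsupp.linearEquivFunOnFintype (R := R) (M := C)).symm
  refine Module.FaithfullyFlat.of_comap_surjective (fun x => ?_)
  obtain ⟨k, y, hy⟩ := hsurj x
  refine ⟨PrimeSpectrum.comap (Pi.evalRingHom C k) y, ?_⟩
  rw [← hy]
  rfl

lemma pi_cover_mem {n : ℕ} (C : Fin n → Type u) [∀ k, CommRing (C k)] :
    Presieve.ofArrows (fun k => Spec (CommRingCat.of (C k)))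
      (fun k => Spec.map (CommRingCat.ofHom (Pi.evalRingHom C k))) ∈
      Scheme.fppfPrecoverage.coverings (Spec (CommRingCat.of (∀ k, C k))) := by
  refine (Scheme.ofArrows_mem_precoverage_iff (@Flat ⊓ @LocallyOfFinitePresentation)).2
    ⟨fun x => ?_, fun k => ⟨inferInstance, inferInstance⟩⟩
  obtain ⟨k, q, hq⟩ := PrimeSpectrum.exists_comap_evalRingHom_eq (R := C) x
  exact ⟨k, q, hq⟩

end site

section main

variable {S : Scheme.{u}}
  (P : PresheafOfModules.{u + 1} (BigSite.ORing Scheme.fppfPrecoverage S).obj)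

/-- the objects `Spec R → S` of the big site in `specOver` form -/
def good (U : Over S) : Prop :=
  ∃ (R : CommRingCat.{u}) (a : Spec R ⟶ S), U = (specOver a).obj (op (algOf R R))

lemma good_specOver {R : CommRingCat.{u}} (a : Spec R ⟶ S) (B : Alg R) :
    good ((specOver a).obj (op B)) := by
  refine ⟨CommRingCat.of B, Spec.map (CommRingCat.ofHom (algebraMap R B)) ≫ a, ?_⟩
  show Over.mk _ = Over.mk _
  congr 1
  have h : CommRingCat.ofHom (algebraMap (CommRingCat.of B) (CommRingCat.of B)) = 𝟙 _ := rfl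
  exact ((congrArg (fun t => Spec.map t ≫ Spec.map (CommRingCat.ofHom (algebraMap R B)) ≫ a) h).trans
    ((congrArg (fun t => t ≫ Spec.map (CommRingCat.ofHom (algebraMap R B)) ≫ a) (Spec.map_id _)).trans
      (Category.id_comp _))).symm

lemma toMVFPre_map_apply {R : CommRingCat.{u}} (a : Spec R ⟶ S) {B B' : Alg R} (φ : B ⟶ B')
    (x : ((toMVFPre Scheme.fppfPrecoverage a).obj P).obj (pt B)) :
    ((toMVFPre Scheme.fppfPrecoverage a).obj P).map (ptHom φ) x =
      P.presheaf.map ((specOver a).map φ.op).op x := rfl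

variable (h : ∀ (R : CommRingCat.{u}) (a : Spec R ⟶ S),
  adequate R ((toMVFPre Scheme.fppfPrecoverage a).obj P))

include h in
theorem nice (U : Over S) (hU : good U) (T : Sieve U)
    (hT : T ∈ QuotSh.J Scheme.fppfPrecoverage S U) :
    Groth.Agent.H92.SheafifyBij.Nice (P := P.presheaf) (QuotSh.J Scheme.fppfPrecoverage S) good U T := by
  obtain ⟨R, a, rfl⟩ := hU
  obtain ⟨n, C, ψ, hTψ, hsurj, hflat, hlfp⟩ := exists_finite_affine_refinement R
    (Sieve.overEquiv _ T) ((GrothendieckTopology.mem_over_iff _ _).1 hT)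
  let _ : ∀ k, Algebra R (C k) := fun k => (ψ k).hom.toAlgebra
  have hψ : ∀ k, CommRingCat.ofHom (algebraMap R (C k)) = ψ k := fun k => rfl
  have hff : Module.FaithfullyFlat R (∀ k, C k) := by
    refine faithfullyFlat_pi (fun k => (C k : Type u)) (fun k => ?_) (fun x => ?_)
    · exact (Flat.SpecMap_iff.1 (hflat k))
    · obtain ⟨k, y, hy⟩ := hsurj x
      exact ⟨k, y, hy⟩
  let F : MVF R := (toMVFPre Scheme.fppfPrecoverage a).obj P
  have hF : adequate R F := h R a
  obtain ⟨hinj, heq⟩ := Groth.Agent.H92.AdeqCech.cech_two F hF (∀ k, C k)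
  have hbij := Groth.Agent.H92.AdeqProd.adequate_pi_bijective F hF (fun k => (C k : Type u))
  refine ⟨⟨(specOver a).obj (op (algOf R (∀ k, C k))),
    (specOver a).obj (op (algOf R ((∀ k, C k) ⊗[R] (∀ k, C k)))),
    (specOver a).map (CommAlgCat.ofHom (Algebra.ofId R (∀ k, C k))).op,
    (specOver a).map (CommAlgCat.ofHom
      (Algebra.TensorProduct.includeLeft : (∀ k, C k) →ₐ[R] (∀ k, C k) ⊗[R] (∀ k, C k))).op,
    (specOver a).map (CommAlgCat.ofHom
      (Algebra.TensorProduct.includeRight : (∀ k, C k) →ₐ[R] (∀ k, C k) ⊗[R] (∀ k, C k))).op,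
    Fin n, fun k => (specOver a).obj (op (algOf R (C k))),
    fun k => (specOver a).map (CommAlgCat.ofHom (Pi.evalAlgHom R (fun k => (C k : Type u)) k)).op,
    fun k => (specOver a).map (CommAlgCat.ofHom (Algebra.ofId R (C k))).op,
    good_specOver a _, ?_, ?_, ?_, ?_, ?_, ?_, ?_, ?_⟩⟩
  · rw [← Functor.map_comp, ← Functor.map_comp, ← op_comp, ← op_comp]
    congr 2
    ext : 1
    exact Subsingleton.elim _ _
  · intro k
    rw [← Functor.map_comp, ← op_comp]
    congr 2
  · intro x y hxy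
    exact hinj hxy
  · intro y hy
    obtain ⟨x, hx⟩ := heq y hy
    exact ⟨x, hx⟩
  · refine ⟨fun x y hxy => hbij.1 hxy, fun z => ?_⟩
    obtain ⟨x, hx⟩ := hbij.2 z
    exact ⟨x, hx⟩
  · intro k
    have h1 := (Sieve.overEquiv_symm_iff (Sieve.overEquiv _ T)
      ((specOver a).map (CommAlgCat.ofHom (Algebra.ofId R (C k))).op)).2 (hTψ k)
    have e := OrderIso.symm_apply_apply (Sieve.overEquiv ((specOver a).obj (op (algOf R R)))) T
    rw [e] at h1
    exact h1
  · exact generate_mem_over _ _ _ (pi_cover_mem (fun k => (C k : Type u)))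
  · refine generate_mem_over _ _ _ ?_
    exact (Scheme.ofArrows_mem_precoverage_iff (@Flat ⊓ @LocallyOfFinitePresentation)).2
      ⟨hsurj, fun k => ⟨hflat k, hlfp k⟩⟩

/-- the sheafification of `P` as a sheaf of modules -/
noncomputable abbrev Psh : BigSite.Mod Scheme.fppfPrecoverage S :=
  (PresheafOfModules.sheafification (𝟙 (BigSite.ORing Scheme.fppfPrecoverage S).obj)).obj P

/-- the canonical map of presheaves of abelian groups `P → P^#` -/
noncomputable abbrev ηη : P.presheaf ⟶ (Psh P).val.presheaf :=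
  CategoryTheory.toSheafify (QuotSh.J Scheme.fppfPrecoverage S) P.presheaf

instance : Presheaf.IsLocallyInjective (QuotSh.J Scheme.fppfPrecoverage S) (ηη P) :=
  inferInstanceAs (Presheaf.IsLocallyInjective (QuotSh.J Scheme.fppfPrecoverage S)
    (CategoryTheory.toSheafify (QuotSh.J Scheme.fppfPrecoverage S) P.presheaf))

instance : Presheaf.IsLocallySurjective (QuotSh.J Scheme.fppfPrecoverage S) (ηη P) :=
  inferInstanceAs (Presheaf.IsLocallySurjective (QuotSh.J Scheme.fppfPrecoverage S)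
    (CategoryTheory.toSheafify (QuotSh.J Scheme.fppfPrecoverage S) P.presheaf))

include h in
theorem bijective_ηη {R : CommRingCat.{u}} (a : Spec R ⟶ S) (B : Alg R) :
    Function.Bijective ((ηη P).app (op ((specOver a).obj (op B)))) :=
  Groth.Agent.H92.SheafifyBij.bijective_of_nice (ηη P) (Psh P).isSheaf good
    (fun U hU T hT => nice P h U hU T hT) _ (good_specOver a B)

/-- the canonical map `P → P^#` as a map of presheaves of modules -/
noncomputable def toPsh : P ⟶ (Psh P).val :=
  PresheafOfModules.homMk (ηη P) (fun X r m =>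
    ((PresheafOfModules.sheafificationAdjunction
      (𝟙 (BigSite.ORing Scheme.fppfPrecoverage S).obj)).unit.app P |>.app X).hom.map_smul r m)

lemma toPsh_app_apply (X : (Over S)ᵒᵖ) (x : P.obj X) : (toPsh P).app X x = (ηη P).app X x := rfl

include h in
theorem isIso_toMVFPre_map_toPsh {R : CommRingCat.{u}} (a : Spec R ⟶ S) :
    IsIso ((toMVFPre Scheme.fppfPrecoverage a).map (toPsh P)) := by
  have hm : Mono ((toMVFPre Scheme.fppfPrecoverage a).map (toPsh P)) := by
    apply PresheafOfModules.mono_of_injective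
    intro X x y hxy
    exact (bijective_ηη P h a X.unop.unop).1 hxy
  have he : Epi ((toMVFPre Scheme.fppfPrecoverage a).map (toPsh P)) := by
    apply PresheafOfModules.epi_of_surjective
    intro X y
    obtain ⟨x, hx⟩ := (bijective_ηη P h a X.unop.unop).2 y
    exact ⟨x, hx⟩
  exact isIso_of_mono_of_epi _

include h in
theorem adequate_toMVF_Psh {R : CommRingCat.{u}} (a : Spec R ⟶ S) :
    adequate R ((toMVF Scheme.fppfPrecoverage a).obj (Psh P)) := by
  have := isIso_toMVFPre_map_toPsh P h a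
  let e : (toMVFPre Scheme.fppfPrecoverage a).obj P ≅ (toMVFPre Scheme.fppfPrecoverage a).obj (Psh P).val :=
    asIso ((toMVFPre Scheme.fppfPrecoverage a).map (toPsh P))
  exact (adequate R).prop_of_iso e (h R a)

include h in
/-- S8760 -/
theorem adequateMod_Psh : adequateMod Scheme.fppfPrecoverage S (Psh P) := by
  let 𝒰 := S.affineOpenCover
  exact ⟨𝒰.I₀, 𝒰.X, 𝒰.f, Scheme.zariskiPrecoverage_le_fppfPrecoverage _ 𝒰.openCover.mem₀,
    fun i => adequate_toMVF_Psh P h (𝒰.f i)⟩

end main

end Groth.Agent.H92.AdeqShf
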