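import Mathlib
import Groth.Prelude.Def_Adeq2
import Groth.Agent.H92.AdeqShf
import Groth.Agent.H92.AdeqCok
import Groth.Agent.H92.AdeqBig

/-!
# Cokernels of maps of adequate modules on the big fppf site are adequate (helper92)
-/

set_option autoImplicit false
universe u
open CategoryTheory Limits AlgebraicGeometry Opposite

namespace Groth.Agent.H92.AdeqShfCok

open Adeq Groth.Agent.H92.AdeqBase Groth.Agent.H92.AdeqShf

variable {S : Scheme.{u}}

/-- the ring map `𝟙` along which we sheafify -/
noncomputable abbrev αα : (BigSite.ORing Scheme.fppfPrecoverage S).obj ⟶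
    (BigSite.ORing Scheme.fppfPrecoverage S).obj := 𝟙 _

/-- sheafification of presheaves of modules on the big fppf site -/
noncomputable abbrev Sh : PresheafOfModules.{u + 1} (BigSite.ORing Scheme.fppfPrecoverage S).obj ⥤
    BigSite.Mod Scheme.fppfPrecoverage S :=
  PresheafOfModules.sheafification (αα (S := S))

/-- the right adjoint of sheafification -/
noncomputable abbrev GG : BigSite.Mod Scheme.fppfPrecoverage S ⥤
    PresheafOfModules.{u + 1} (BigSite.ORing Scheme.fppfPrecoverage S).obj :=
  SheafOfModules.forget _ ⋙ PresheafOfModules.restrictScalars (αα (S := S))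

noncomputable abbrev adj : Sh (S := S) ⊣ GG (S := S) :=
  PresheafOfModules.sheafificationAdjunction (αα (S := S))

instance : (Sh (S := S)).Additive := (adj (S := S)).left_adjoint_additive

noncomputable instance : PreservesColimitsOfSize.{u + 1, u + 1} (Sh (S := S)) :=
  (adj (S := S)).leftAdjoint_preservesColimits

/-- the counit isomorphism `(M.val)^# ≅ M` -/
noncomputable def counitIso : GG (S := S) ⋙ Sh (S := S) ≅ 𝟭 _ := asIso (adj (S := S)).counit

section cokernel

variable {M N : BigSite.Mod Scheme.fppfPrecoverage S} (φ : M ⟶ N)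

/-- the cokernel in sheaves of modules is the sheafification of the presheaf cokernel -/
noncomputable def cokernelIso : cokernel φ ≅ (Sh (S := S)).obj (cokernel ((GG (S := S)).map φ)) :=
  (cokernel.mapIso ((Sh (S := S)).map ((GG (S := S)).map φ)) φ (counitIso.app M) (counitIso.app N)
    ((adj (S := S)).counit.naturality φ)).symm ≪≫
  (PreservesCokernel.iso (Sh (S := S)) ((GG (S := S)).map φ)).symm

end cokernel

section pcok

variable {X Y : PresheafOfModules.{u + 1} (BigSite.ORing Scheme.fppfPrecoverage S).obj} (f : X ⟶ Y)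

lemma pcok_π_surjective (U : (Over S)ᵒᵖ) : Function.Surjective ((cokernel.π f).app U) :=
  PresheafOfModules.surjective_of_epi (cokernel.π f) U

lemma pcok_exact (U : (Over S)ᵒᵖ) (y : Y.obj U) (hy : (cokernel.π f).app U y = 0) :
    ∃ x : X.obj U, f.app U x = y := by
  have hex : (ShortComplex.mk f (cokernel.π f) (cokernel.condition f)).Exact :=
    ShortComplex.exact_of_g_is_cokernel _ (cokernelIsCokernel f)
  have h2 := hex.map (PresheafOfModules.evaluation (BigSite.ORing Scheme.fppfPrecoverage S).obj U)
  rw [ShortComplex.moduleCat_exact_iff] at h2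
  exact h2 y hy

/-- `toMVFPre` commutes with cokernels -/
noncomputable def toMVFPreCokernelIso {R : CommRingCat.{u}} (a : Spec R ⟶ S) :
    cokernel ((toMVFPre Scheme.fppfPrecoverage a).map f) ≅
      (toMVFPre Scheme.fppfPrecoverage a).obj (cokernel f) :=
  Groth.Agent.H92.AdeqCok.cokernelIsoOfPointwise ((toMVFPre Scheme.fppfPrecoverage a).map f)
    ((toMVFPre Scheme.fppfPrecoverage a).map (cokernel.π f))
    (fun Z y => by
      obtain ⟨x, hx⟩ := pcok_π_surjective f (op ((specOver a).obj Z.unop)) y
      exact ⟨x, hx⟩)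
    (by rw [← Functor.map_comp, cokernel.condition, Functor.map_zero])
    (fun Z y hy => by
      obtain ⟨x, hx⟩ := pcok_exact f (op ((specOver a).obj Z.unop)) y hy
      exact ⟨x, hx⟩)

end pcok

/-- S8755 restated: an adequate module on the big fppf site is adequate on every affine -/
theorem adequate_toMVF_fppf (M : BigSite.Mod Scheme.fppfPrecoverage S)
    (hM : adequateMod Scheme.fppfPrecoverage S M) (R : CommRingCat.{u}) (a : Spec R ⟶ S) :
    adequate R ((toMVF Scheme.fppfPrecoverage a).obj M) := by
  refine Groth.Agent.H92.AdeqBig.adequate_toMVF_of_adequateMod Scheme.fppfPrecoverage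
    (@Flat ⊓ @LocallyOfFinitePresentation) ?_ ?_ Scheme.zariskiPrecoverage_le_fppfPrecoverage ?_
    M hM R a
  · intro T ι X f
    exact Scheme.ofArrows_mem_precoverage_iff (@Flat ⊓ @LocallyOfFinitePresentation)
  · intro T ι X f h
    exact (Scheme.ofArrows_mem_precoverage_iff (@Flat ⊓ @LocallyOfFinitePresentation)).2 h
  · intro X Y f hf
    have : Flat f := hf.1
    have : LocallyOfFinitePresentation f := hf.2
    exact f.isOpenMap

/-- S8762 -/
theorem adequateMod_cokernel {M N : BigSite.Mod Scheme.fppfPrecoverage S} (φ : M ⟶ N)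
    (hM : ∀ (R : CommRingCat.{u}) (a : Spec R ⟶ S),
      adequate R ((toMVF Scheme.fppfPrecoverage a).obj M))
    (hN : ∀ (R : CommRingCat.{u}) (a : Spec R ⟶ S),
      adequate R ((toMVF Scheme.fppfPrecoverage a).obj N)) :
    adequateMod Scheme.fppfPrecoverage S (cokernel φ) := by
  refine (adequateMod Scheme.fppfPrecoverage S).prop_of_iso (cokernelIso φ).symm ?_
  refine adequateMod_Psh _ (fun R a => ?_)
  refine (adequate R).prop_of_iso (toMVFPreCokernelIso ((GG (S := S)).map φ) a) ?_
  exact Groth.Agent.H92.AdeqCok.adequate_cokernel _ (hM R a) (hN R a)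

theorem adequateMod_cokernel' {M N : BigSite.Mod Scheme.fppfPrecoverage S} (φ : M ⟶ N)
    (hM : adequateMod Scheme.fppfPrecoverage S M) (hN : adequateMod Scheme.fppfPrecoverage S N) :
    adequateMod Scheme.fppfPrecoverage S (cokernel φ) :=
  adequateMod_cokernel φ (adequate_toMVF_fppf M hM) (adequate_toMVF_fppf N hN)

end Groth.Agent.H92.AdeqShfCok
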