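import Mathlib
import Groth.Prelude.Def_Adeq2
import Groth.Agent.H92.AdeqShfCok

/-!
# Colimits of adequate modules on the big fppf site are adequate (helper92)
-/

set_option autoImplicit false
universe u
open CategoryTheory Limits AlgebraicGeometry Opposite

namespace Groth.Agent.H92.AdeqShfColim

open Adeq Groth.Agent.H92.AdeqBase Groth.Agent.H92.AdeqShf Groth.Agent.H92.AdeqShfCok

variable {S : Scheme.{u}} {J : Type (u + 1)} [SmallCategory J]

section pcolim

variable (F : J ⥤ PresheafOfModules.{u + 1} (BigSite.ORing Scheme.fppfPrecoverage S).obj)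

/-- `toMVFPre` sends the pointwise colimit cocone to a colimit cocone -/
noncomputable def isColimitMapCocone {R : CommRingCat.{u}} (a : Spec R ⟶ S) :
    IsColimit ((toMVFPre Scheme.fppfPrecoverage a).mapCocone (PresheafOfModules.colimitCocone F)) := by
  refine PresheafOfModules.evaluationJointlyReflectsColimits _ _ (fun X => ?_)
  refine isColimitOfReflects (forget₂ (ModuleCat _) AddCommGrpCat) ?_
  exact isColimitOfPreserves
    (PresheafOfModules.evaluation _ (op ((specOver a).obj X.unop)) ⋙ forget₂ _ AddCommGrpCat)
    (PresheafOfModules.isColimitColimitCocone F)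

noncomputable instance {R : CommRingCat.{u}} (a : Spec R ⟶ S) :
    PreservesColimit F (toMVFPre Scheme.fppfPrecoverage a) :=
  preservesColimit_of_preserves_colimit_cocone (PresheafOfModules.isColimitColimitCocone F)
    (isColimitMapCocone F a)

end pcolim

section colimit

variable (D : J ⥤ BigSite.Mod Scheme.fppfPrecoverage S)

/-- the colimit in sheaves of modules is the sheafification of the presheaf colimit -/
noncomputable def colimitIso : colimit D ≅ (Sh (S := S)).obj (colimit (D ⋙ GG (S := S))) :=
  (HasColimit.isoOfNatIso (Functor.associator D (GG (S := S)) (Sh (S := S)) ≪≫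
    Functor.isoWhiskerLeft D counitIso ≪≫ Functor.rightUnitor D)).symm ≪≫
  (preservesColimitIso (Sh (S := S)) (D ⋙ GG (S := S))).symm

/-- S8764 -/
theorem adequateMod_colimit
    (hD : ∀ j (R : CommRingCat.{u}) (a : Spec R ⟶ S),
      adequate R ((toMVF Scheme.fppfPrecoverage a).obj (D.obj j))) :
    adequateMod Scheme.fppfPrecoverage S (colimit D) := by
  refine (adequateMod Scheme.fppfPrecoverage S).prop_of_iso (colimitIso D).symm ?_
  refine adequateMod_Psh _ (fun R a => ?_)
  refine (adequate R).prop_of_iso
    (preservesColimitIso (toMVFPre Scheme.fppfPrecoverage a) (D ⋙ GG (S := S))).symm ?_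
  exact Groth.Agent.H92.AdeqCok.adequate_colimit _ (fun j => hD j R a)

theorem adequateMod_colimit'
    (hD : ∀ j, adequateMod Scheme.fppfPrecoverage S (D.obj j)) :
    adequateMod Scheme.fppfPrecoverage S (colimit D) :=
  adequateMod_colimit D (fun j => adequate_toMVF_fppf (D.obj j) (hD j))

end colimit

end Groth.Agent.H92.AdeqShfColim
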