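import Mathlib
import Groth.Prelude.Def_Adeq2
import Groth.Agent.H92.AdeqShfCok
import Groth.Agent.H92.AdeqCech1
import Groth.Agent.H64.ToSheafEpi

/-!
# Extensions of adequate modules on the big fppf site are adequate (helper92)
-/

set_option autoImplicit false
universe u
open CategoryTheory Limits AlgebraicGeometry Opposite TensorProduct

namespace Groth.Agent.H92.AdeqShfExt

open Adeq Groth.Agent.H92.AdeqBase Groth.Agent.H92.AdeqEps Groth.Agent.H92.AdeqShf
  Groth.Agent.H92.SheafifyBij Groth.Agent.H92.AdeqFlat1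

section ab

variable {C : Type (u + 1)} [Category.{u} C] {J : GrothendieckTopology C} {Q : Cᵒᵖ ⥤ AddCommGrpCat.{u + 1}}

lemma glue_generate (hQ : Presheaf.IsSheaf J Q) {U : C} {ι : Type*} (V : ι → C) (π : ∀ k, V k ⟶ U)
    (hT : Sieve.generate (Presieve.ofArrows V π) ∈ J U) (y : ∀ k, Q.obj (op (V k)))
    (hy : ∀ k l (Z : C) (gk : Z ⟶ V k) (gl : Z ⟶ V l), gk ≫ π k = gl ≫ π l →
        Q.map gk.op (y k) = Q.map gl.op (y l)) :
    ∃ x : Q.obj (op U), ∀ k, Q.map (π k).op x = y k := by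
  have h0 : Presieve.IsSheaf J (Q ⋙ forget AddCommGrpCat) :=
    (isSheaf_iff_isSheaf_of_type _ _).1
      ((Presheaf.isSheaf_iff_isSheaf_forget _ _ (forget AddCommGrpCat)).1 hQ)
  have h1 := h0 _ hT
  rw [← Presieve.isSheafFor_iff_generate, Presieve.isSheafFor_arrows_iff] at h1
  obtain ⟨t, ht, -⟩ := h1 y (fun k l Z gk gl h => hy k l Z gk gl h)
  exact ⟨t, ht⟩

end ab

section objs

variable {S : Scheme.{u}} {R : CommRingCat.{u}} (a : Spec R ⟶ S)

/-- the object `Spec X → Spec R → S` -/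
noncomputable abbrev ob (X : Type u) [CommRing X] [Algebra R X] : Over S :=
  (specOver a).obj (op (algOf R X))

/-- the map of objects induced by a map of algebras -/
noncomputable abbrev mp {X Y : Type u} [CommRing X] [Algebra R X] [CommRing Y] [Algebra R Y]
    (φ : X →ₐ[R] Y) : ob a Y ⟶ ob a X :=
  (specOver a).map (CommAlgCat.ofHom φ).op

lemma mp_comp {X Y Z : Type u} [CommRing X] [Algebra R X] [CommRing Y] [Algebra R Y]
    [CommRing Z] [Algebra R Z] (φ : X →ₐ[R] Y) (ψ : Y →ₐ[R] Z) :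
    mp a ψ ≫ mp a φ = mp a (ψ.comp φ) := by
  unfold mp
  rw [← Functor.map_comp, ← op_comp]
  rfl

end objs

section pi

variable {S : Scheme.{u}} (M : BigSite.Mod Scheme.fppfPrecoverage S)

lemma eq_of_isEmpty (Z : Over S) [IsEmpty Z.left] (x y : M.val.presheaf.obj (op Z)) : x = y := by
  refine sep_generate M.isSheaf (fun k : PEmpty.{1} => (k.elim : Over S)) (fun k => k.elim) ?_ x y
    (fun k => k.elim)
  refine generate_mem_over _ _ _ ?_
  exact (Scheme.ofArrows_mem_precoverage_iff (@Flat ⊓ @LocallyOfFinitePresentation)).2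
    ⟨fun z => (IsEmpty.false z).elim, fun k => k.elim⟩

lemma glue_pi {R : CommRingCat.{u}} (a : Spec R ⟶ S) {n : ℕ} (Ck : Fin n → Type u)
    [∀ k, CommRing (Ck k)] [∀ k, Algebra R (Ck k)]
    (y : ∀ k, M.val.presheaf.obj (op (ob a (Ck k)))) :
    ∃ t : M.val.presheaf.obj (op (ob a (∀ k, Ck k))),
      ∀ k, M.val.presheaf.map (mp a (Pi.evalAlgHom R Ck k)).op t = y k := by
  refine glue_generate M.isSheaf _ _ (generate_mem_over _ _ _ (pi_cover_mem Ck)) y ?_
  intro k l Z gk gl h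
  by_cases hkl : k = l
  · subst hkl
    have : Mono (mp a (Pi.evalAlgHom R Ck k)).left :=
      inferInstanceAs (Mono (Spec.map (CommRingCat.ofHom (Pi.evalRingHom Ck k))))
    have e : gk = gl := by
      ext : 1
      rw [← cancel_mono (mp a (Pi.evalAlgHom R Ck k)).left, ← Over.comp_left, ← Over.comp_left, h]
    rw [e]
  · have : IsEmpty Z.left := ⟨fun z => hkl (by
      have hz := congrArg (fun g : Z ⟶ ob a (∀ k, Ck k) => g.left z) h
      simp only [Over.comp_left, Scheme.Hom.comp_apply] at hz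
      have hz' : PrimeSpectrum.sigmaToPi Ck ⟨k, gk.left z⟩ =
          PrimeSpectrum.sigmaToPi Ck ⟨l, gl.left z⟩ := hz
      exact congrArg Sigma.fst (PrimeSpectrum.sigmaToPi_injective Ck hz'))⟩
    exact eq_of_isEmpty M Z _ _

end pi

section main

variable {S : Scheme.{u}} (C : ShortComplex (BigSite.Mod Scheme.fppfPrecoverage S)) (hC : C.ShortExact)

/-- the maps on underlying presheaves of abelian groups -/
noncomputable abbrev fN : C.X₁.val.presheaf ⟶ C.X₂.val.presheaf :=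
  (PresheafOfModules.toPresheaf _).map C.f.val
noncomputable abbrev gN : C.X₂.val.presheaf ⟶ C.X₃.val.presheaf :=
  (PresheafOfModules.toPresheaf _).map C.g.val

lemma gN_fN (U : (Over S)ᵒᵖ) (x : C.X₁.val.presheaf.obj U) :
    (gN C).app U ((fN C).app U x) = 0 := by
  have h : C.f ≫ C.g = 0 := C.zero
  exact congrArg (fun φ : C.X₁ ⟶ C.X₃ => φ.val.app U x) h

include hC in
lemma fN_injective (U : (Over S)ᵒᵖ) : Function.Injective ((fN C).app U) := by
  have : Mono C.f := hC.mono_f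
  have h2 : Mono ((SheafOfModules.evaluation (BigSite.ORing Scheme.fppfPrecoverage S) U).map C.f) :=
    inferInstance
  exact (ModuleCat.mono_iff_injective _).1 h2

include hC in
lemma exact_sections (U : (Over S)ᵒᵖ) (x : C.X₂.val.presheaf.obj U) (hx : (gN C).app U x = 0) :
    ∃ y : C.X₁.val.presheaf.obj U, (fN C).app U y = x := by
  have hm : Mono C.f := hC.mono_f
  have : (SheafOfModules.evaluation (BigSite.ORing Scheme.fppfPrecoverage S) U).Additive :=
    inferInstanceAs ((SheafOfModules.forget _ ⋙ PresheafOfModules.evaluation _ U).Additive)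
  have h2 := hC.exact.map_of_mono_of_preservesKernel
    (SheafOfModules.evaluation (BigSite.ORing Scheme.fppfPrecoverage S) U) hm inferInstance
  exact (ShortComplex.moduleCat_exact_iff _).1 h2 x hx

lemma mapA_toMVF (M : BigSite.Mod Scheme.fppfPrecoverage S) {R : CommRingCat.{u}} (a : Spec R ⟶ S)
    {X Y : Type u} [CommRing X] [Algebra R X] [CommRing Y] [Algebra R Y] (φ : X →ₐ[R] Y)
    (x : val ((toMVF Scheme.fppfPrecoverage a).obj M) X) :
    mapA ((toMVF Scheme.fppfPrecoverage a).obj M) φ x = M.val.presheaf.map (mp a φ).op x := rfl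

include hC in
theorem surjective_g
    (h₁ : ∀ (R : CommRingCat.{u}) (a : Spec R ⟶ S),
      adequate R ((toMVF Scheme.fppfPrecoverage a).obj C.X₁))
    (U : Over S) (hU : good U) : Function.Surjective ((gN C).app (op U)) := by
  obtain ⟨R, a, rfl⟩ := hU
  intro s
  have : Epi C.g := hC.epi_g
  obtain ⟨T, hT, hloc⟩ := Groth.Agent.H64.ToSheafEpi.locally_surjective_of_epi
    (BigSite.ORing Scheme.fppfPrecoverage S) C.g _ s
  obtain ⟨n, Ck, ψ, hTψ, hsurj, hflat, hlfp⟩ := exists_finite_affine_refinement R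
    (Sieve.overEquiv _ T) ((GrothendieckTopology.mem_over_iff _ _).1 hT)
  let _ : ∀ k, Algebra R (Ck k) := fun k => (ψ k).hom.toAlgebra
  have hff : Module.FaithfullyFlat R (∀ k, Ck k) := by
    refine faithfullyFlat_pi (fun k => (Ck k : Type u)) (fun k => ?_) (fun x => ?_)
    · exact (Flat.SpecMap_iff.1 (hflat k))
    · obtain ⟨k, y, hy⟩ := hsurj x
      exact ⟨k, y, hy⟩
  -- notation
  let P₁ := C.X₁.val.presheaf
  let P₂ := C.X₂.val.presheaf
  let P₃ := C.X₃.val.presheaf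
  let ik : ∀ k, ob a (Ck k) ⟶ ob a (∀ k, Ck k) := fun k => mp a (Pi.evalAlgHom R (fun k => (Ck k : Type u)) k)
  let πk : ∀ k, ob a (Ck k) ⟶ ob a R := fun k => mp a (Algebra.ofId R (Ck k))
  let p : ob a (∀ k, Ck k) ⟶ ob a R := mp a (Algebra.ofId R (∀ k, Ck k))
  let q₁ : ob a ((∀ k, Ck k) ⊗[R] (∀ k, Ck k)) ⟶ ob a (∀ k, Ck k) := mp a Algebra.TensorProduct.includeLeft
  let q₂ : ob a ((∀ k, Ck k) ⊗[R] (∀ k, Ck k)) ⟶ ob a (∀ k, Ck k) := mp a Algebra.TensorProduct.includeRight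
  let r₀ : ob a (((∀ k, Ck k) ⊗[R] (∀ k, Ck k)) ⊗[R] (∀ k, Ck k)) ⟶ ob a ((∀ k, Ck k) ⊗[R] (∀ k, Ck k)) :=
    mp a (d0 R (∀ k, Ck k))
  let r₁ : ob a (((∀ k, Ck k) ⊗[R] (∀ k, Ck k)) ⊗[R] (∀ k, Ck k)) ⟶ ob a ((∀ k, Ck k) ⊗[R] (∀ k, Ck k)) :=
    mp a (d1 R (∀ k, Ck k))
  let r₂ : ob a (((∀ k, Ck k) ⊗[R] (∀ k, Ck k)) ⊗[R] (∀ k, Ck k)) ⟶ ob a ((∀ k, Ck k) ⊗[R] (∀ k, Ck k)) :=
    mp a (d2 R (∀ k, Ck k))
  have hπ : ∀ k, ik k ≫ p = πk k := by
    intro k
    show mp a (Pi.evalAlgHom R (fun k => (Ck k : Type u)) k) ≫ mp a (Algebra.ofId R (∀ k, Ck k)) =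
      mp a (Algebra.ofId R (Ck k))
    rw [mp_comp]
    exact congrArg (mp a) (Subsingleton.elim _ _)
  have hq : q₁ ≫ p = q₂ ≫ p := by
    show mp a (Algebra.TensorProduct.includeLeft : (∀ k, Ck k) →ₐ[R] (∀ k, Ck k) ⊗[R] (∀ k, Ck k)) ≫
        mp a (Algebra.ofId R (∀ k, Ck k)) =
      mp a (Algebra.TensorProduct.includeRight : (∀ k, Ck k) →ₐ[R] (∀ k, Ck k) ⊗[R] (∀ k, Ck k)) ≫
        mp a (Algebra.ofId R (∀ k, Ck k))
    rw [mp_comp, mp_comp]
    exact congrArg (mp a) (Subsingleton.elim _ _)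
  have h02 : r₀ ≫ q₂ = r₁ ≫ q₂ := by
    show mp a (d0 R (∀ k, Ck k)) ≫ mp a (Algebra.TensorProduct.includeRight :
        (∀ k, Ck k) →ₐ[R] (∀ k, Ck k) ⊗[R] (∀ k, Ck k)) =
      mp a (d1 R (∀ k, Ck k)) ≫ mp a (Algebra.TensorProduct.includeRight :
        (∀ k, Ck k) →ₐ[R] (∀ k, Ck k) ⊗[R] (∀ k, Ck k))
    rw [mp_comp, mp_comp]
    exact congrArg (mp a) (AlgHom.ext fun b => rfl)
  have h11 : r₁ ≫ q₁ = r₂ ≫ q₁ := by
    show mp a (d1 R (∀ k, Ck k)) ≫ mp a (Algebra.TensorProduct.includeLeft :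
        (∀ k, Ck k) →ₐ[R] (∀ k, Ck k) ⊗[R] (∀ k, Ck k)) =
      mp a (d2 R (∀ k, Ck k)) ≫ mp a (Algebra.TensorProduct.includeLeft :
        (∀ k, Ck k) →ₐ[R] (∀ k, Ck k) ⊗[R] (∀ k, Ck k))
    rw [mp_comp, mp_comp]
    exact congrArg (mp a) (AlgHom.ext fun b => rfl)
  have h01 : r₀ ≫ q₁ = r₂ ≫ q₂ := by
    show mp a (d0 R (∀ k, Ck k)) ≫ mp a (Algebra.TensorProduct.includeLeft :
        (∀ k, Ck k) →ₐ[R] (∀ k, Ck k) ⊗[R] (∀ k, Ck k)) =
      mp a (d2 R (∀ k, Ck k)) ≫ mp a (Algebra.TensorProduct.includeRight :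
        (∀ k, Ck k) →ₐ[R] (∀ k, Ck k) ⊗[R] (∀ k, Ck k))
    rw [mp_comp, mp_comp]
    exact congrArg (mp a) (AlgHom.ext fun b => rfl)
  have hTπ : ∀ k, T (πk k) := by
    intro k
    have h1 := (Sieve.overEquiv_symm_iff (Sieve.overEquiv _ T) (πk k)).2 (hTψ k)
    have e := OrderIso.symm_apply_apply (Sieve.overEquiv ((specOver a).obj (op (algOf R R)))) T
    rw [e] at h1
    exact h1
  have hcovV : Sieve.generate (Presieve.ofArrows (fun k => ob a (Ck k)) ik) ∈
      QuotSh.J Scheme.fppfPrecoverage S (ob a (∀ k, Ck k)) :=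
    generate_mem_over _ _ _ (pi_cover_mem (fun k => (Ck k : Type u)))
  have hcovU : Sieve.generate (Presieve.ofArrows (fun k => ob a (Ck k)) πk) ∈
      QuotSh.J Scheme.fppfPrecoverage S (ob a R) := by
    refine generate_mem_over _ _ _ ?_
    exact (Scheme.ofArrows_mem_precoverage_iff (@Flat ⊓ @LocallyOfFinitePresentation)).2
      ⟨hsurj, fun k => ⟨hflat k, hlfp k⟩⟩
  -- local lifts
  have hloc' : ∀ k, ∃ r : P₂.obj (op (ob a (Ck k))), (gN C).app _ r = P₃.map (πk k).op s :=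
    fun k => hloc (πk k) (hTπ k)
  choose tk htk using hloc'
  obtain ⟨t, ht⟩ := glue_pi C.X₂ a (fun k => (Ck k : Type u)) tk
  have hgt : (gN C).app _ t = P₃.map p.op s := by
    refine sep_generate C.X₃.isSheaf _ ik hcovV _ _ (fun k => ?_)
    rw [← nat_apply, ht k, htk k, ← map_comp_apply', hπ k]
  -- the Čech 1-cocycle
  have hgc : (gN C).app _ (P₂.map q₁.op t - P₂.map q₂.op t) = 0 := by
    rw [map_sub, nat_apply, nat_apply, hgt, ← map_comp_apply', ← map_comp_apply', hq, sub_self]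
  obtain ⟨c₁, hc₁⟩ := exact_sections C hC _ _ hgc
  have hcoc : P₁.map r₀.op c₁ - P₁.map r₁.op c₁ + P₁.map r₂.op c₁ = 0 := by
    apply fN_injective C hC
    rw [map_add, map_sub, nat_apply, nat_apply, nat_apply, hc₁, map_zero, map_sub, map_sub, map_sub,
      ← map_comp_apply', ← map_comp_apply', ← map_comp_apply', ← map_comp_apply', ← map_comp_apply',
      ← map_comp_apply', h02, h11, h01]
    abel
  obtain ⟨b, hb'⟩ : ∃ b : P₁.obj (op (ob a (∀ k, Ck k))), P₁.map q₁.op b - P₁.map q₂.op b = c₁ :=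
    Groth.Agent.H92.AdeqCech1.cech_H1 ((toMVF Scheme.fppfPrecoverage a).obj C.X₁)
      (h₁ R a) (∀ k, Ck k) c₁ hcoc
  -- the corrected lift descends
  have ht' : P₂.map q₁.op (t - (fN C).app _ b) = P₂.map q₂.op (t - (fN C).app _ b) := by
    rw [map_sub, map_sub, ← nat_apply, ← nat_apply, sub_eq_sub_iff_sub_eq_sub, ← hc₁, ← hb', map_sub]
  obtain ⟨x, hx⟩ := glue_generate C.X₂.isSheaf _ πk hcovU
    (fun k => P₂.map (ik k).op (t - (fN C).app _ b)) (by
      intro k l Z gk gl h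
      have hpb : IsPullback q₁.left q₂.left p.left p.left :=
        isPullback_SpecMap_of_isPushout _ _ _ _
          (CommRingCat.isPushout_tensorProduct R (∀ k, Ck k) (∀ k, Ck k))
      have w : (gk ≫ ik k).left ≫ p.left = (gl ≫ ik l).left ≫ p.left := by
        rw [← Over.comp_left, ← Over.comp_left, Category.assoc, Category.assoc, hπ k, hπ l, h]
      let tZ : Z.left ⟶ (ob a ((∀ k, Ck k) ⊗[R] (∀ k, Ck k))).left := hpb.lift _ _ w
      have htZ₁ : tZ ≫ q₁.left = (gk ≫ ik k).left := hpb.lift_fst _ _ _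
      have htZ₂ : tZ ≫ q₂.left = (gl ≫ ik l).left := hpb.lift_snd _ _ _
      let tO : Z ⟶ ob a ((∀ k, Ck k) ⊗[R] (∀ k, Ck k)) := Over.homMk tZ (by
        rw [← Over.w q₁, ← Category.assoc, htZ₁]
        exact Over.w (gk ≫ ik k))
      have e₁ : gk ≫ ik k = tO ≫ q₁ := by
        ext : 1
        exact htZ₁.symm
      have e₂ : gl ≫ ik l = tO ≫ q₂ := by
        ext : 1
        exact htZ₂.symm
      rw [← map_comp_apply', ← map_comp_apply', e₁, e₂, map_comp_apply', map_comp_apply', ht'])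
  refine ⟨x, ?_⟩
  refine sep_generate C.X₃.isSheaf _ πk hcovU _ _ (fun k => ?_)
  rw [← nat_apply, hx k, nat_apply, map_sub, hgt, gN_fN, sub_zero, ← map_comp_apply', hπ k]

include hC in
theorem shortExact_map
    (h₁ : ∀ (R : CommRingCat.{u}) (a : Spec R ⟶ S),
      adequate R ((toMVF Scheme.fppfPrecoverage a).obj C.X₁))
    {R : CommRingCat.{u}} (a : Spec R ⟶ S) :
    (C.map (toMVF Scheme.fppfPrecoverage a)).ShortExact := by
  have hmono : Mono (C.map (toMVF Scheme.fppfPrecoverage a)).f := by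
    apply PresheafOfModules.mono_of_injective
    intro X x y hxy
    exact fN_injective C hC (op ((specOver a).obj X.unop)) hxy
  have hepi : Epi (C.map (toMVF Scheme.fppfPrecoverage a)).g := by
    apply PresheafOfModules.epi_of_surjective
    intro X y
    obtain ⟨x, hx⟩ := surjective_g C hC h₁ _ (good_specOver a X.unop.unop) y
    exact ⟨x, hx⟩
  have hex : (C.map (toMVF Scheme.fppfPrecoverage a)).Exact := by
    rw [ShortComplex.exact_iff_epi_kernel_lift]
    apply PresheafOfModules.epi_of_surjective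
    intro X z
    obtain ⟨x, hx⟩ := exact_sections C hC (op ((specOver a).obj X.unop))
      ((kernel.ι (C.map (toMVF Scheme.fppfPrecoverage a)).g).app X z)
      (kernel_ι_comp_apply (C.map (toMVF Scheme.fppfPrecoverage a)).g X z)
    refine ⟨x, ?_⟩
    apply kernel_ι_injective (C.map (toMVF Scheme.fppfPrecoverage a)).g X
    have h1 : kernel.lift (C.map (toMVF Scheme.fppfPrecoverage a)).g
        (C.map (toMVF Scheme.fppfPrecoverage a)).f (C.map (toMVF Scheme.fppfPrecoverage a)).zero ≫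
        kernel.ι (C.map (toMVF Scheme.fppfPrecoverage a)).g =
        (C.map (toMVF Scheme.fppfPrecoverage a)).f := kernel.lift_ι _ _ _
    have hx' := app_congr h1 X x
    rw [comp_app_apply] at hx'
    rw [hx']
    exact hx
  exact ShortComplex.ShortExact.mk' hex hmono hepi

include hC in
theorem adequate_toMVF_X₂
    (h₁ : ∀ (R : CommRingCat.{u}) (a : Spec R ⟶ S),
      adequate R ((toMVF Scheme.fppfPrecoverage a).obj C.X₁))
    (h₃ : ∀ (R : CommRingCat.{u}) (a : Spec R ⟶ S),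
      adequate R ((toMVF Scheme.fppfPrecoverage a).obj C.X₃))
    {R : CommRingCat.{u}} (a : Spec R ⟶ S) :
    adequate R ((toMVF Scheme.fppfPrecoverage a).obj C.X₂) :=
  Groth.Agent.H92.AdeqEps.adequate_of_shortExact (C.map (toMVF Scheme.fppfPrecoverage a))
    (shortExact_map C hC h₁ a) (h₁ R a) (h₃ R a)

include hC in
/-- S8763 -/
theorem adequateMod_X₂ (h₁ : adequateMod Scheme.fppfPrecoverage S C.X₁)
    (h₃ : adequateMod Scheme.fppfPrecoverage S C.X₃) :
    adequateMod Scheme.fppfPrecoverage S C.X₂ := by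
  let 𝒰 := S.affineOpenCover
  exact ⟨𝒰.I₀, 𝒰.X, 𝒰.f, Scheme.zariskiPrecoverage_le_fppfPrecoverage _ 𝒰.openCover.mem₀,
    fun i => adequate_toMVF_X₂ C hC (Groth.Agent.H92.AdeqShfCok.adequate_toMVF_fppf C.X₁ h₁)
      (Groth.Agent.H92.AdeqShfCok.adequate_toMVF_fppf C.X₃ h₃) (𝒰.f i)⟩

end main

end Groth.Agent.H92.AdeqShfExt
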