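import Mathlib
import Groth.Prelude.Def_DCoh3
import Groth.Agent.H31.StalkExact

/-!
# Acyclicity of a complex of modules on a scheme is detected on affine opens (helper92)

`acyclic_of_forall_affine`: a cochain complex of `O_Y`-modules whose complexes of sections over
all affine opens are acyclic is acyclic.  (Piece (GL) for helper6's S11114.)
-/

set_option autoImplicit false
set_option backward.isDefEq.respectTransparency false
universe u
open CategoryTheory CategoryTheory.Limits AlgebraicGeometry Opposite TopologicalSpace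

namespace Groth.Agent.H92.AffGlue

open Groth.Agent.H31 Groth.Agent.H31.Stalk Groth.Agent.H40

/-- The structure sheaf of a scheme, typed as a sheaf for the Grothendieck topology of opens. -/
abbrev shX (X : Scheme.{u}) : Sheaf (Opens.grothendieckTopology X) CommRingCat.{u} := X.sheaf

/-- the key local statement: a section over `W` of the middle term of a short complex of modules
killed by the second map lifts, near each point, along the first map, provided this holds over
affine opens -/
theorem exact_of_forall_affine {Y : Scheme.{u}} (S : ShortComplex (ModSite.Mod (shX Y)))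
    (h : ∀ U : Y.Opens, IsAffineOpen U → ∀ s : ((toPM (shX Y)).obj S.X₂).obj (op U),
      ((toPM (shX Y)).map S.g).app (op U) s = 0 →
      ∃ t : ((toPM (shX Y)).obj S.X₁).obj (op U), ((toPM (shX Y)).map S.f).app (op U) t = s) :
    S.Exact := by
  refine exact_of_stk (O := shX Y) S (fun x => ?_)
  rw [ShortComplex.moduleCat_exact_iff]
  intro a ha
  obtain ⟨W, hW, s, rfl⟩ := StalkTensor.exists_gm_eq ((toPM (shX Y)).obj S.X₂) x a
  have h1 : StalkTensor.gm ((toPM (shX Y)).obj S.X₃) x W hW
      (((toPM (shX Y)).map S.g).app (op W) s) =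
      StalkTensor.gm ((toPM (shX Y)).obj S.X₃) x W hW 0 := by
    rw [map_zero]
    exact (stkP_map_gm x ((toPM (shX Y)).map S.g) W hW s).symm.trans ha
  obtain ⟨W', hxW', iU, iV, he⟩ := TopCat.Presheaf.germ_eq
    ((toPM (shX Y)).obj S.X₃).presheaf x hW hW _ _ h1
  obtain ⟨_, ⟨U, hU, rfl⟩, hxU, hUW'⟩ :=
    Y.isBasis_affineOpens.exists_subset_of_mem_open hxW' W'.2
  have hUW'' : U ≤ W' := hUW'
  have hUW : U ≤ W := hUW''.trans iU.le
  let s' : ((toPM (shX Y)).obj S.X₂).obj (op U) :=
    ((toPM (shX Y)).obj S.X₂).map (homOfLE hUW).op s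
  have hs' : ((toPM (shX Y)).map S.g).app (op U) s' = 0 := by
    have hnat := congrArg (fun φ => φ.hom s)
      (((PresheafOfModules.toPresheaf _).map ((toPM (shX Y)).map S.g)).naturality (homOfLE hUW).op)
    have h2 : ((toPM (shX Y)).obj S.X₃).presheaf.map (homOfLE hUW).op
        (((toPM (shX Y)).map S.g).app (op W) s) = 0 := by
      have h3 : (homOfLE hUW).op = iU.op ≫ (homOfLE hUW'').op := rfl
      rw [h3, Functor.map_comp]
      show ((toPM (shX Y)).obj S.X₃).presheaf.map (homOfLE hUW'').op
        (((toPM (shX Y)).obj S.X₃).presheaf.map iU.op (((toPM (shX Y)).map S.g).app (op W) s)) = 0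
      rw [he, map_zero, map_zero]
    exact hnat.trans h2
  obtain ⟨t, ht⟩ := h U hU s' hs'
  refine ⟨StalkTensor.gm ((toPM (shX Y)).obj S.X₁) x U hxU t, ?_⟩
  refine (stkP_map_gm x ((toPM (shX Y)).map S.f) U hxU t).trans ?_
  rw [ht]
  exact StalkTensor.gm_res ((toPM (shX Y)).obj S.X₂) x (homOfLE hUW) hxU s

/-- (GL) a complex of modules on a scheme whose complexes of sections over the affine opens are
acyclic is acyclic -/
theorem acyclic_of_forall_affine {Y : Scheme.{u}} (C : CochainComplex Y.Modules ℤ)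
    (h : ∀ U : Y.Opens, IsAffineOpen U →
      (((DCoh.gammaAb (U : Scheme.{u})).mapHomologicalComplex (ComplexShape.up ℤ)).obj
        ((DCoh.restrictCx U).obj C)).Acyclic) : C.Acyclic := by
  intro n
  rw [HomologicalComplex.exactAt_iff' C (n - 1) n (n + 1) (by simp) (by simp)]
  refine exact_of_forall_affine (Y := Y) (C.sc' (n - 1) n (n + 1)) (fun U hU s hs => ?_)
  have hex := (HomologicalComplex.exactAt_iff' _ (n - 1) n (n + 1) (by simp) (by simp)).1
    (h U hU n)
  rw [ShortComplex.ab_exact_iff] at hex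
  have e : U.ι ''ᵁ ⊤ = U := Scheme.Opens.ι_image_top U
  let s'' : (C.X n).presheaf.obj (op (U.ι ''ᵁ ⊤)) :=
    (C.X n).presheaf.map (homOfLE (le_of_eq e)).op s
  have hs'' : ((toPM (shX Y)).map (C.d n (n + 1))).app (op (U.ι ''ᵁ ⊤)) s'' = 0 := by
    have hnat := congrArg (fun φ => φ.hom s)
      (((PresheafOfModules.toPresheaf _).map ((toPM (shX Y)).map (C.d n (n + 1)))).naturality
        (homOfLE (le_of_eq e)).op)
    refine hnat.trans ?_
    show (C.X (n + 1)).presheaf.map (homOfLE (le_of_eq e)).op
      (((toPM (shX Y)).map (C.d n (n + 1))).app (op U) s) = 0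
    have hs0 : ((toPM (shX Y)).map (C.d n (n + 1))).app (op U) s = 0 := hs
    rw [hs0, map_zero]
  obtain ⟨t'', ht''⟩ := hex s'' hs''
  let t : (C.X (n - 1)).presheaf.obj (op U) :=
    (C.X (n - 1)).presheaf.map (homOfLE (le_of_eq e.symm)).op t''
  refine ⟨t, ?_⟩
  have hnat := congrArg (fun φ => φ.hom t'')
    (((PresheafOfModules.toPresheaf _).map ((toPM (shX Y)).map (C.d (n - 1) n))).naturality
      (homOfLE (le_of_eq e.symm)).op)
  refine hnat.trans ?_
  have ht3 : ((toPM (shX Y)).map (C.d (n - 1) n)).app (op (U.ι ''ᵁ ⊤)) t'' = s'' := ht''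
  show (C.X n).presheaf.map (homOfLE (le_of_eq e.symm)).op
    (((toPM (shX Y)).map (C.d (n - 1) n)).app (op (U.ι ''ᵁ ⊤)) t'') = s
  rw [ht3]
  show (C.X n).presheaf.map (homOfLE (le_of_eq e.symm)).op
    ((C.X n).presheaf.map (homOfLE (le_of_eq e)).op s) = s
  rw [← ConcreteCategory.comp_apply, ← Functor.map_comp]
  have hid : (homOfLE (le_of_eq e)).op ≫ (homOfLE (le_of_eq e.symm)).op = 𝟙 (op U) := rfl
  rw [hid, CategoryTheory.Functor.map_id]
  rfl

end Groth.Agent.H92.AffGlue
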