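import Mathlib

/-!
# The Čech nerve `cechNerveTerminalFrom X` is `n`-coskeletal for every `n`
-/

set_option autoImplicit false
open CategoryTheory CategoryTheory.Limits Opposite Simplicial SimplexCategory

universe v u

namespace Groth.Agent.H92.CechCosk

variable {C : Type u} [Category.{v} C] [HasFiniteProducts C] (X : C) (n : ℕ)

/-- the inclusion, opposite -/
abbrev Lf : (SimplexCategory.Truncated n)ᵒᵖ ⥤ SimplexCategoryᵒᵖ :=
  (SimplexCategory.Truncated.inclusion n).op

/-- the vertex structured arrow -/
def g0 (m : ℕ) (a : Fin (m + 1)) :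
    StructuredArrow (op (SimplexCategory.mk m)) (Lf n) :=
  StructuredArrow.mk (Y := op ⟨SimplexCategory.mk 0, Nat.zero_le n⟩)
    (show op (SimplexCategory.mk m) ⟶ (Lf n).obj (op ⟨SimplexCategory.mk 0, Nat.zero_le n⟩) from
    (SimplexCategory.const (SimplexCategory.mk 0) (SimplexCategory.mk m) a).op)

/-- from an arbitrary structured arrow to a vertex -/
def toG0 (m : ℕ) (g : StructuredArrow (op (SimplexCategory.mk m)) (Lf n))
    (c : Fin (g.right.unop.obj.len + 1)) : g ⟶ g0 n m (g.hom.unop.toOrderHom c) :=
  StructuredArrow.homMk
    (SimplexCategory.Truncated.Hom.tr (n := n)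
      (SimplexCategory.const (SimplexCategory.mk 0) g.right.unop.obj c) (Nat.zero_le n)
      g.right.unop.property).op
    (by rfl)

/-- projection to a factor -/
noncomputable def pr {k : SimplexCategory} (c : Fin (k.len + 1)) :
    (cechNerveTerminalFrom X).obj (op k) ⟶ X :=
  Pi.π (fun _ : Fin (k.len + 1) => X) c

theorem map_pr {k k' : SimplexCategory} (θ : k' ⟶ k) (c : Fin (k'.len + 1)) :
    (cechNerveTerminalFrom X).map θ.op ≫ pr X c = pr X (θ.toOrderHom c) := by
  unfold pr cechNerveTerminalFrom
  simp

theorem hom_ext' {k : SimplexCategory} {T : C} (u w : T ⟶ (cechNerveTerminalFrom X).obj (op k))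
    (h : ∀ c, u ≫ pr X c = w ≫ pr X c) : u = w :=
  Pi.hom_ext _ _ h

/-- the lift -/
noncomputable def liftC {k : SimplexCategory} {T : C} (φ : Fin (k.len + 1) → (T ⟶ X)) :
    T ⟶ (cechNerveTerminalFrom X).obj (op k) :=
  Pi.lift φ

theorem liftC_pr {k : SimplexCategory} {T : C} (φ : Fin (k.len + 1) → (T ⟶ X))
    (c : Fin (k.len + 1)) : liftC X φ ≫ pr X c = φ c := by
  unfold liftC pr
  exact Limits.Pi.lift_π _ _

/-- `cechNerveTerminalFrom X` is `n`-coskeletal for every `n`. -/
theorem isCoskeletal : SimplicialObject.IsCoskeletal (cechNerveTerminalFrom X) n := by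
  constructor
  have hpt : (Functor.RightExtension.mk (cechNerveTerminalFrom X)
      (𝟙 ((SimplexCategory.Truncated.inclusion n).op ⋙
        cechNerveTerminalFrom X))).IsPointwiseRightKanExtension := by
    intro Y
    induction Y using Opposite.rec with | _ Y => ?_
    induction Y using SimplexCategory.rec with | _ m => ?_
    -- naturality of a cone with respect to `toG0`
    have hnat : ∀ (s : Cone (StructuredArrow.proj (op (SimplexCategory.mk m)) (Lf n) ⋙
        (Lf n ⋙ cechNerveTerminalFrom X)))
        (g : StructuredArrow (op (SimplexCategory.mk m)) (Lf n))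
        (c : Fin (g.right.unop.obj.len + 1)),
        s.π.app g ≫ pr X c = s.π.app (g0 n m (g.hom.unop.toOrderHom c)) ≫
          pr X (k := SimplexCategory.mk 0) 0 := by
      intro s g c
      have h1 := s.w (toG0 n m g c)
      rw [← h1, Category.assoc]
      congr 1
      exact (map_pr X (SimplexCategory.const (SimplexCategory.mk 0) g.right.unop.obj c) 0).symm
    have hπ : ∀ (g : StructuredArrow (op (SimplexCategory.mk m)) (Lf n))
        (c : Fin (g.right.unop.obj.len + 1)),
        ((Functor.RightExtension.mk (cechNerveTerminalFrom X)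
          (𝟙 ((SimplexCategory.Truncated.inclusion n).op ⋙
            cechNerveTerminalFrom X))).coneAt (op (SimplexCategory.mk m))).π.app g ≫ pr X c =
          pr X (k := SimplexCategory.mk m) (g.hom.unop.toOrderHom c) := by
      intro g c
      show ((cechNerveTerminalFrom X).map g.hom ≫ 𝟙 _) ≫ pr X c = _
      rw [Category.comp_id]
      exact map_pr X g.hom.unop c
    exact
      { lift := fun s => liftC X (k := SimplexCategory.mk m)
          (fun a => s.π.app (g0 n m a) ≫ pr X (k := SimplexCategory.mk 0) 0)
        fac := by
          intro s g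
          apply hom_ext' X (k := g.right.unop.obj)
          intro c
          refine Eq.trans ?_ (hnat s g c).symm
          refine (Category.assoc _ _ _).trans ?_
          refine (congrArg (fun t => liftC X (k := SimplexCategory.mk m)
            (fun a => s.π.app (g0 n m a) ≫ pr X (k := SimplexCategory.mk 0) 0) ≫ t)
            (hπ g c)).trans ?_
          exact liftC_pr X _ _
        uniq := by
          intro s m' hm'
          apply hom_ext' X (k := SimplexCategory.mk m)
          intro a
          refine Eq.trans ?_ (liftC_pr X _ _).symm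
          have h3 := hπ (g0 n m a) 0
          have h4 : m' ≫ pr X (k := SimplexCategory.mk m) a =
              (m' ≫ ((Functor.RightExtension.mk (cechNerveTerminalFrom X)
                (𝟙 ((SimplexCategory.Truncated.inclusion n).op ⋙
                  cechNerveTerminalFrom X))).coneAt (op (SimplexCategory.mk m))).π.app
                    (g0 n m a)) ≫ pr X (k := SimplexCategory.mk 0) 0 := by
            refine Eq.trans ?_ (Category.assoc _ _ _).symm
            exact congrArg (fun t => m' ≫ t) h3.symm
          refine h4.trans ?_
          exact congrArg (fun t => t ≫ pr X (k := SimplexCategory.mk 0) 0) (hm' (g0 n m a)) }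
  exact hpt.isRightKanExtension

end Groth.Agent.H92.CechCosk
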