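import Groth.Agent.H92.DimShift
import Groth.Agent.H67.CechJ

/-!
# Čech cohomology of presheaves as right derived functors of Čech `H⁰`

`Groth.Agent.H92.CechDerived.main Y p P : Nonempty (CohCx.cechH P Y p ≅ ((H0 Y).rightDerived p).obj P)`
for presheaves of abelian groups `P` on a small category with pullbacks and a family `Y` over `U`.
-/

set_option autoImplicit false
universe u
open CategoryTheory CategoryTheory.Limits Opposite

namespace Groth.Agent.H92.CechDerived

open Groth.Agent.H67.Cech

variable {C : Type u} [SmallCategory C] [HasPullbacks C] {U : C} {ι : Type u} (Y : ι → Over U)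

instance additive_cxFunctor : (CechEdge.cxFunctor (C := C) Y).Additive where
  map_add {P Q f g} := by
    apply HomologicalComplex.hom_ext
    intro n
    show Limits.Pi.map (fun (a : Fin (n + 1) → ι) => (f + g).app (op (∏ᶜ (Y ∘ a)).left)) =
      Limits.Pi.map (fun (a : Fin (n + 1) → ι) => f.app (op (∏ᶜ (Y ∘ a)).left)) +
      Limits.Pi.map (fun (a : Fin (n + 1) → ι) => g.app (op (∏ᶜ (Y ∘ a)).left))
    apply Limits.Pi.hom_ext
    intro a
    simp [Preadditive.add_comp]

/-- Čech `H⁰` as a functor on presheaves. -/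
noncomputable abbrev H0 : (Cᵒᵖ ⥤ AddCommGrpCat.{u}) ⥤ AddCommGrpCat.{u} :=
  CechEdge.cxFunctor Y ⋙ HomologicalComplex.homologyFunctor _ _ 0

instance : (H0 Y).Additive := by
  dsimp only [H0]
  infer_instance

instance preservesFiniteLimits_H0 : PreservesFiniteLimits (H0 Y) := by
  rw [Functor.preservesFiniteLimits_iff_forall_exact_map_and_mono]
  intro T hT
  have hC := cxFunctor_shortExact hT Y
  constructor
  · exact hC.homology_exact₂ 0
  · have := hC.mono_f
    have h2 : Mono (((CechEdge.cxFunctor Y).map T.f).f 0) :=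
      inferInstanceAs (Mono ((T.map (CechEdge.cxFunctor Y)).f.f 0))
    exact HomologicalComplex.mono_homologyMap_of_mono_of_not_rel
      ((CechEdge.cxFunctor Y).map T.f) 0 (fun i hi => by simp at hi)

/-- **Čech cohomology of presheaves is the right derived functor of Čech `H⁰`.** -/
theorem main (p : ℕ) (P : Cᵒᵖ ⥤ AddCommGrpCat.{u}) :
    Nonempty (CohCx.cechH P Y p ≅ ((H0 Y).rightDerived p).obj P) := by
  refine Groth.Agent.H92.DimShift.main (H0 Y) (fun p P => CohCx.cechH P Y p)
    (fun P => ⟨Iso.refl _⟩) ?_ ?_ p P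
  · intro T hT hI
    have hC := cxFunctor_shortExact hT Y
    have hz : IsZero ((T.map (CechEdge.cxFunctor Y)).X₂.homology 1) :=
      cechH_isZero_of_injective_presheaf T.X₂ Y 0
    have hepi : Epi (hC.δ 0 1 rfl) := hC.epi_δ 0 1 rfl hz
    have hex := hC.homology_exact₃ 0 1 rfl
    have hepi' : Epi (ShortComplex.mk _ _ (hC.comp_δ 0 1 rfl)).g := hepi
    exact ⟨(IsColimit.coconePointUniqueUpToIso (colimit.isColimit _) hex.gIsCokernel).symm⟩
  · intro T hT hI p
    have hC := cxFunctor_shortExact hT Y
    have hz1 : IsZero ((T.map (CechEdge.cxFunctor Y)).X₂.homology (p + 1)) :=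
      cechH_isZero_of_injective_presheaf T.X₂ Y p
    have hz2 : IsZero ((T.map (CechEdge.cxFunctor Y)).X₂.homology (p + 2)) :=
      cechH_isZero_of_injective_presheaf T.X₂ Y (p + 1)
    exact ⟨(hC.δIso (p + 1) (p + 2) rfl hz1 hz2).symm⟩

end Groth.Agent.H92.CechDerived
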