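import Groth.Agent.H92.RSLocalB
import Mathlib.Algebra.Category.ModuleCat.ChangeOfRings
import Mathlib.Algebra.Category.ModuleCat.Sheaf.Quasicoherent
import Mathlib.Algebra.Category.ModuleCat.Descent
import Mathlib.Algebra.Category.ModuleCat.Presheaf.Colimits
import Mathlib.Algebra.Category.ModuleCat.Presheaf.Limits

/-!
# Sheaves of modules on a chaotic site (helper92)

On a site all of whose covering sieves are maximal, sheaves of modules are presheaves of modules:
the forgetful functor is an equivalence and the evaluation functors are exact and commute with all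
colimits.  The base-change maps `F(V) ⊗_{O(V)} O(U) ⟶ F(U)` form a natural transformation between
such functors.
-/

set_option autoImplicit false
set_option backward.isDefEq.respectTransparency false
universe u
open CategoryTheory CategoryTheory.Limits Opposite TensorProduct ModuleCat ChangeOfRings

namespace Groth.Agent.H92.Chaotic

variable {C : Type u} [SmallCategory C]

/-- a topology all of whose covering sieves are maximal -/
def IsChaotic (J : GrothendieckTopology C) : Prop :=
  ∀ (X : C) (S : Sieve X), S ∈ J X → S = ⊤

lemma isChaotic_bot : IsChaotic (⊥ : GrothendieckTopology C) :=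
  fun _ _ h => GrothendieckTopology.bot_covering.1 h

lemma isChaotic_over {J : GrothendieckTopology C} (hJ : IsChaotic J) (X : C) :
    IsChaotic (J.over X) := by
  intro Y S hS
  have h1 : Sieve.overEquiv Y S = ⊤ := hJ _ _ ((J.mem_over_iff S).1 hS)
  have h2 : Sieve.overEquiv Y (⊤ : Sieve Y) = ⊤ := map_top _
  exact (Sieve.overEquiv Y).injective (h1.trans h2.symm)

section Equiv

variable {J : GrothendieckTopology C} (hJ : IsChaotic J) (R : Sheaf J RingCat.{u})

include hJ in
lemma isSheaf_of_isChaotic (P : Cᵒᵖ ⥤ AddCommGrpCat.{u}) : Presheaf.IsSheaf J P := by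
  intro E X S hS
  rw [hJ X S hS]
  exact Presieve.isSheafFor_top _

include hJ in
lemma essSurj_forget : (SheafOfModules.forget.{u} R).EssSurj :=
  ⟨fun P => ⟨⟨P, isSheaf_of_isChaotic hJ _⟩, ⟨Iso.refl _⟩⟩⟩

include hJ in
lemma isEquivalence_forget : (SheafOfModules.forget.{u} R).IsEquivalence := by
  have := essSurj_forget hJ R
  exact { }

end Equiv


section Alg

variable {R S : Type u} [CommRing R] [CommRing S] (f : R →+* S)

lemma symm_tmul {M : ModuleCat.{u} R} {N : ModuleCat.{u} S}
    (h : M ⟶ (restrictScalars f).obj N) (s : S) (m : M) :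
    (((extendRestrictScalarsAdj f).homEquiv M N).symm h).hom (s ⊗ₜ[R,f] m) = s • (h.hom m : N) := by
  rfl

/-- base change of a free module of rank one -/
lemma isIso_symm_of_rank_one {M : ModuleCat.{u} R} {N : ModuleCat.{u} S}
    (h : M ⟶ (restrictScalars f).obj N) (m₀ : M) (n₀ : N)
    (hM : Function.Surjective (fun r : R => r • m₀))
    (hN : Function.Bijective (fun s : S => s • n₀)) (h0 : h.hom m₀ = n₀) :
    IsIso (((extendRestrictScalarsAdj f).homEquiv M N).symm h) := by
  set Ψ := ((extendRestrictScalarsAdj f).homEquiv M N).symm h with hΨ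
  let e : S ≃ₗ[S] N := LinearEquiv.ofBijective (LinearMap.toSpanSingleton S N n₀) hN
  let x₀ : (extendScalars f).obj M := (1 : S) ⊗ₜ[R,f] m₀
  let Θ : N ⟶ (extendScalars f).obj M :=
    ModuleCat.ofHom ((LinearMap.toSpanSingleton S _ x₀).comp e.symm.toLinearMap)
  have hΨx : Ψ.hom x₀ = n₀ := by
    rw [hΨ]
    show (1 : S) • (h.hom m₀ : N) = n₀
    rw [one_smul, h0]
  have hΘ : ∀ s : S, Θ.hom (s • n₀) = s • x₀ := by
    intro s
    show (LinearMap.toSpanSingleton S _ x₀) (e.symm (s • n₀)) = s • x₀
    have : e.symm (s • n₀) = s := by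
      apply e.injective
      rw [LinearEquiv.apply_symm_apply]
      rfl
    rw [this]
    rfl
  refine ⟨Θ, ?_, ?_⟩
  · apply ExtendScalars.hom_ext
    intro m
    obtain ⟨r, rfl⟩ := hM m
    show Θ.hom (Ψ.hom ((1 : S) ⊗ₜ[R,f] (r • m₀))) = (1 : S) ⊗ₜ[R,f] (r • m₀)
    have h1 : ((1 : S) ⊗ₜ[R,f] (r • m₀) : (extendScalars f).obj M) = f r • x₀ := by
      show _ = f r • ((1 : S) ⊗ₜ[R,f] m₀)
      rw [ExtendScalars.smul_tmul, mul_one]
      let _ : Module R S := Module.compHom S f
      have := (TensorProduct.smul_tmul (R := R) (R' := R) (M := S) (N := M) r (1 : S) m₀)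
      rw [← this]
      congr 1
      show f r * 1 = f r
      rw [mul_one]
    rw [h1, map_smul, hΨx, hΘ]
  · apply ModuleCat.hom_ext
    apply LinearMap.ext
    intro n
    obtain ⟨s, rfl⟩ := hN.2 n
    show Ψ.hom (Θ.hom (s • n₀)) = s • n₀
    rw [hΘ, map_smul, hΨx]

end Alg

section Ev

variable {J : GrothendieckTopology C} (hJ : IsChaotic J) (O : Sheaf J CommRingCat.{u})

/-- evaluation of modules at an object -/
noncomputable abbrev evM (W : C) : ModSite.Mod O ⥤ ModuleCat.{u} (O.obj.obj (op W)) :=
  SheafOfModules.evaluation (R := ModSite.ringSh O) (op W)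

include hJ in
lemma preservesColimits_evM (W : C) : PreservesColimitsOfSize.{u, u} (evM O W) := by
  have := isEquivalence_forget hJ (ModSite.ringSh O)
  exact (inferInstance : PreservesColimitsOfSize.{u, u} (SheafOfModules.forget (ModSite.ringSh O) ⋙
    PresheafOfModules.evaluation (ModSite.ringSh O).obj (op W)))

include hJ in
lemma preservesFiniteColimits_evM (W : C) : PreservesFiniteColimits (evM O W) := by
  have := isEquivalence_forget hJ (ModSite.ringSh O)
  exact (inferInstance : PreservesFiniteColimits (SheafOfModules.forget (ModSite.ringSh O) ⋙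
    PresheafOfModules.evaluation (ModSite.ringSh O).obj (op W)))

include hJ in
lemma preservesFiniteLimits_evM (W : C) : PreservesFiniteLimits (evM O W) := by
  have := isEquivalence_forget hJ (ModSite.ringSh O)
  exact (inferInstance : PreservesFiniteLimits (SheafOfModules.forget (ModSite.ringSh O) ⋙
    PresheafOfModules.evaluation (ModSite.ringSh O).obj (op W)))

/-- the base change map `F(V) ⊗_{O(V)} O(U) ⟶ F(U)` -/
noncomputable def bcMap (F : ModSite.Mod O) {U V : C} (g : U ⟶ V) :
    (ModuleCat.extendScalars (O.obj.map g.op).hom).obj ((evM O V).obj F) ⟶ (evM O U).obj F :=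
  ((ModuleCat.extendRestrictScalarsAdj (O.obj.map g.op).hom).homEquiv _ _).symm (F.val.map g.op)

/-- the base change maps form a natural transformation -/
noncomputable def bcNat {U V : C} (g : U ⟶ V) :
    evM O V ⋙ ModuleCat.extendScalars (O.obj.map g.op).hom ⟶ evM O U where
  app F := bcMap O F g
  naturality F G φ := by
    have h := PresheafOfModules.Hom.naturality φ.val g.op
    show (ModuleCat.extendScalars (O.obj.map g.op).hom).map ((evM O V).map φ) ≫ bcMap O G g =
      bcMap O F g ≫ (evM O U).map φ
    unfold bcMap
    rw [← Adjunction.homEquiv_naturality_left_symm, ← Adjunction.homEquiv_naturality_right_symm]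
    exact congrArg _ h.symm


include hJ in
lemma preservesColimits_bcSource {U V : C} (g : U ⟶ V) :
    PreservesColimitsOfSize.{u, u}
      (evM O V ⋙ ModuleCat.extendScalars.{u, u, u} (O.obj.map g.op).hom) := by
  have := preservesColimits_evM hJ O V
  infer_instance

include hJ in
lemma preservesFiniteColimits_bcSource {U V : C} (g : U ⟶ V) :
    PreservesFiniteColimits
      (evM O V ⋙ ModuleCat.extendScalars.{u, u, u} (O.obj.map g.op).hom) := by
  have := preservesFiniteColimits_evM hJ O V
  infer_instance

lemma isIso_bcMap_unit {U V : C} (g : U ⟶ V) :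
    IsIso (bcMap O (SheafOfModules.unit (ModSite.ringSh O)) g) := by
  unfold bcMap
  refine isIso_symm_of_rank_one _ _ (1 : O.obj.obj (op V)) (1 : O.obj.obj (op U)) ?_ ?_ ?_
  · intro m
    exact ⟨(show O.obj.obj (op V) from m), mul_one (show O.obj.obj (op V) from m)⟩
  · constructor
    · intro a b hab
      have h1 : (show O.obj.obj (op U) from a) * 1 = (show O.obj.obj (op U) from b) * 1 := hab
      rwa [mul_one, mul_one] at h1
    · intro m
      exact ⟨(show O.obj.obj (op U) from m), mul_one (show O.obj.obj (op U) from m)⟩
  · exact map_one (O.obj.map g.op).hom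

include hJ in
lemma isIso_bcMap_free {U V : C} (g : U ⟶ V) (I : Type u) :
    IsIso (bcMap O (SheafOfModules.free (R := ModSite.ringSh O) I) g) := by
  have h1 := preservesColimits_bcSource hJ O g
  have h2 := preservesColimits_evM hJ O U
  have : IsIso (Functor.whiskerLeft
      (Discrete.functor fun _ : I => SheafOfModules.unit (ModSite.ringSh O)) (bcNat O g)) := by
    apply (config := { allowSynthFailures := true }) NatIso.isIso_of_isIso_app
    intro i
    exact isIso_bcMap_unit O g
  exact isIso_app_coconePt_of_preservesColimit _ (bcNat O g) (SheafOfModules.freeCofan I)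
    (SheafOfModules.isColimitFreeCofan I)

include hJ in
/-- a module with a global presentation satisfies base change -/
theorem isIso_bcMap_of_presentation {N : ModSite.Mod O}
    (P : SheafOfModules.Presentation (R := ModSite.ringSh O) N) {U V : C} (g : U ⟶ V) :
    IsIso (bcMap O N g) := by
  have h1 := preservesFiniteColimits_bcSource hJ O g
  have h2 := preservesFiniteColimits_evM hJ O U
  set f : SheafOfModules.free (R := ModSite.ringSh O) P.relations.I ⟶
      SheafOfModules.free P.generators.I :=
    (SheafOfModules.freeHomEquiv _).symm P.relations.s ≫ kernel.ι _ with hf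
  have hc : IsColimit (CokernelCofork.ofπ (f := f) P.generators.π (by simp [hf])) := P.isColimit
  have h3 : PreservesColimit (parallelPair f 0)
      (evM O V ⋙ ModuleCat.extendScalars.{u, u, u} (O.obj.map g.op).hom) := inferInstance
  have h4 : PreservesColimit (parallelPair f 0) (evM O U) := inferInstance
  have h5 : IsIso (Functor.whiskerLeft (parallelPair f 0) (bcNat O g)) := by
    apply (config := { allowSynthFailures := true }) NatIso.isIso_of_isIso_app
    rintro (_ | _)
    · exact isIso_bcMap_free hJ O g _
    · exact isIso_bcMap_free hJ O g _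
  exact isIso_app_coconePt_of_preservesColimit (parallelPair f 0) (bcNat O g)
    (CokernelCofork.ofπ (f := f) P.generators.π (by simp [hf])) hc

end Ev

end Groth.Agent.H92.Chaotic
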