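import Groth.Agent.H92.Chaotic
import Mathlib.Algebra.Homology.ShortComplex.ModuleCat
import Mathlib.Algebra.Homology.ShortComplex.ExactFunctor
import Mathlib.CategoryTheory.Adjunction.Additive

/-!
# Sheaves of modules on a chaotic site: from base change to presentations (helper92)
-/

set_option autoImplicit false
set_option backward.isDefEq.respectTransparency false
universe u
open CategoryTheory CategoryTheory.Limits Opposite TensorProduct ModuleCat ChangeOfRings

namespace Groth.Agent.H92.Chaotic

open Groth.Agent.H31 Groth.Agent.H92.EqCrit Groth.Agent.H92.EqCritConv Groth.Agent.H92.RSLocal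

variable {C : Type u} [SmallCategory C] {J : GrothendieckTopology C} (hJ : IsChaotic J)
  (O : Sheaf J CommRingCat.{u})

lemma additive_extendScalars {R S : Type u} [CommRing R] [CommRing S] (f : R →+* S) :
    (ModuleCat.extendScalars.{u, u, u} f).Additive :=
  (ModuleCat.extendRestrictScalarsAdj.{u, u, u} f).left_adjoint_additive

/-- a morphism which is surjective on sections is an epimorphism -/
lemma epi_of_forall_epi_evM {A B : ModSite.Mod O} (ψ : A ⟶ B)
    (h : ∀ W : C, Epi ((evM O W).map ψ)) : Epi ψ := by
  refine epi_of_cover_lift ψ (fun V b => ⟨⊤, J.top_mem V, fun W g _ => ?_⟩)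
  have hs := (ModuleCat.epi_iff_surjective _).1 (h W)
  obtain ⟨a, ha⟩ := hs (rM ((toPM O).obj B) g b)
  exact ⟨a, ha⟩

include hJ in
/-- on a chaotic site epimorphisms are surjective on sections -/
lemma epi_evM_of_epi {A B : ModSite.Mod O} (ψ : A ⟶ B) [Epi ψ] (W : C) :
    Epi ((evM O W).map ψ) := by
  have := preservesFiniteColimits_evM hJ O W
  infer_instance

variable {T : C} (hT : IsTerminal T)

/-- epimorphisms can be tested on global sections when the target satisfies base change -/
lemma epi_of_epi_evM_terminal {A B : ModSite.Mod O} (ψ : A ⟶ B)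
    (h1 : Epi ((evM O T).map ψ)) (h2 : ∀ W : C, Epi (bcMap O B (hT.from W))) : Epi ψ := by
  refine epi_of_forall_epi_evM O ψ (fun W => ?_)
  have hn := (bcNat O (hT.from W)).naturality ψ
  have := h2 W
  have : Epi ((ModuleCat.extendScalars.{u, u, u} (O.obj.map (hT.from W).op).hom).map
      ((evM O T).map ψ)) := inferInstance
  have h3 : Epi ((ModuleCat.extendScalars.{u, u, u} (O.obj.map (hT.from W).op).hom).map
      ((evM O T).map ψ) ≫ bcMap O B (hT.from W)) := epi_comp _ _
  exact @epi_of_epi_fac _ _ _ _ _ _ _ _ h3 hn.symm


include hJ in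
/-- four lemma: the base change map of a kernel is an epimorphism -/
lemma epi_bcMap_kernel {A B : ModSite.Mod O} (π : A ⟶ B) [Epi π] {U V : C} (g : U ⟶ V)
    (hA : Epi (bcMap O A g)) (hB : Mono (bcMap O B g)) : Epi (bcMap O (kernel π) g) := by
  let S : ShortComplex (ModSite.Mod O) := ShortComplex.mk (kernel.ι π) π (kernel.condition π)
  have hS : S.ShortExact :=
    { exact := ShortComplex.exact_of_f_is_kernel _ (kernelIsKernel π)
      mono_f := inferInstanceAs (Mono (kernel.ι π))
      epi_g := inferInstanceAs (Epi π) }
  have hV := preservesFiniteLimits_evM hJ O V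
  have hV' := preservesFiniteColimits_evM hJ O V
  have hU := preservesFiniteLimits_evM hJ O U
  have hU' := preservesFiniteColimits_evM hJ O U
  have hSV : (S.map (evM O V)).ShortExact := hS.map_of_exact (evM O V)
  have hSU : (S.map (evM O U)).ShortExact := hS.map_of_exact (evM O U)
  have hadd := additive_extendScalars (O.obj.map g.op).hom
  have hE : ((S.map (evM O V)).map
      (ModuleCat.extendScalars.{u, u, u} (O.obj.map g.op).hom)).Exact :=
    hSV.exact.map_of_epi_of_preservesCokernel _ hSV.epi_g inferInstance
  have surjA := (ModuleCat.epi_iff_surjective _).1 hA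
  have injB := (ModuleCat.mono_iff_injective _).1 hB
  have injι := (ModuleCat.mono_iff_injective _).1 hSU.mono_f
  have natι := (bcNat O g).naturality (kernel.ι π)
  have natπ := (bcNat O g).naturality π
  rw [ModuleCat.epi_iff_surjective]
  intro y
  obtain ⟨x, hx⟩ := surjA (((evM O U).map (kernel.ι π)).hom y)
  have h0 : ((evM O U).map π).hom (((evM O U).map (kernel.ι π)).hom y) = 0 := by
    have := (S.map (evM O U)).zero
    exact congrArg (fun φ => φ.hom y) this
  have h1 : (bcMap O B g).hom (((ModuleCat.extendScalars.{u, u, u} (O.obj.map g.op).hom).map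
      ((evM O V).map π)).hom x) = 0 := by
    have := congrArg (fun φ => φ.hom x) natπ
    refine this.trans ?_
    show ((evM O U).map π).hom ((bcMap O A g).hom x) = 0
    rw [hx, h0]
  have h2 : ((ModuleCat.extendScalars.{u, u, u} (O.obj.map g.op).hom).map
      ((evM O V).map π)).hom x = 0 := injB (h1.trans (map_zero _).symm)
  obtain ⟨w, hw⟩ := (ShortComplex.moduleCat_exact_iff _).1 hE x h2
  refine ⟨w, injι ?_⟩
  have := congrArg (fun φ => φ.hom w) natι
  refine this.symm.trans ?_
  show (bcMap O A g).hom (((ModuleCat.extendScalars.{u, u, u} (O.obj.map g.op).hom).map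
      ((evM O V).map (kernel.ι π))).hom w) = _
  exact (congrArg _ hw).trans hx


/-- the canonical morphism from the free module on all global sections is surjective on global
sections -/
lemma epi_evM_descFree_id (N : ModSite.Mod O) :
    Epi ((evM O T).map (descFree hT N (fun n : ((toPM O).obj N).obj (op T) => n))) := by
  rw [ModuleCat.epi_iff_surjective]
  intro n
  let n' : ((toPM O).obj N).obj (op T) := n
  let one' : ((toPM O).obj (SheafOfModules.unit (ModSite.ringSh O))).obj (op T) :=
    (1 : O.obj.obj (op T))
  refine ⟨sec ((toPM O).map (SheafOfModules.ιFree (R := ModSite.ringSh O)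
    (I := ((toPM O).obj N).obj (op T)) n')) (op T) one', ?_⟩
  have e1 : sec ((toPM O).map (descFree hT N (fun n : ((toPM O).obj N).obj (op T) => n))) (op T)
      (sec ((toPM O).map (SheafOfModules.ιFree n')) (op T) one') =
      sec ((toPM O).map (SheafOfModules.ιFree n' ≫
        descFree hT N (fun n : ((toPM O).obj N).obj (op T) => n))) (op T) one' := by
    rw [Functor.map_comp]
    rfl
  have e2 : sec ((toPM O).map (SheafOfModules.ιFree n' ≫
        descFree hT N (fun n : ((toPM O).obj N).obj (op T) => n))) (op T) one' = n' := by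
    rw [ιFree_descFree]
    refine (sec_sHom hT N n' (op T) (1 : O.obj.obj (op T))).trans ?_
    rw [one_smul, res_self]
  exact e1.trans e2

include hJ in
/-- a module all of whose base change maps from the terminal object are isomorphisms has a global
presentation -/
theorem nonempty_presentation_of_isIso_bcMap (N : ModSite.Mod O)
    (h : ∀ W : C, IsIso (bcMap O N (hT.from W))) :
    Nonempty (SheafOfModules.Presentation (R := ModSite.ringSh O) N) := by
  let π := descFree hT N (fun n : ((toPM O).obj N).obj (op T) => n)
  have hπ : Epi π := epi_of_epi_evM_terminal O hT π (epi_evM_descFree_id O hT N)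
    (fun W => by have := h W; infer_instance)
  let κ := descFree hT (kernel π) (fun k : ((toPM O).obj (kernel π)).obj (op T) => k)
  have hκ : Epi κ := epi_of_epi_evM_terminal O hT κ (epi_evM_descFree_id O hT (kernel π))
    (fun W => by
      have h1 := isIso_bcMap_free hJ O (hT.from W) (((toPM O).obj N).obj (op T))
      have h2 := h W
      exact epi_bcMap_kernel hJ O π (hT.from W) inferInstance inferInstance)
  exact ⟨SheafOfModules.presentationOfIsCokernelFree (κ ≫ kernel.ι π) π (by simp)
    (isCokernelEpiComp (c := CokernelCofork.ofπ _ (kernel.condition π))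
      (Abelian.epiIsCokernelOfKernel _ (limit.isLimit _)) κ rfl)⟩


include hJ in
/-- a quasi-coherent module on a chaotic site satisfies base change -/
theorem isIso_bcMap_of_isQuasicoherent (F : ModSite.Mod O)
    [hF : SheafOfModules.IsQuasicoherent (R := ModSite.ringSh O) F] {U V : C} (g : U ⟶ V) :
    IsIso (bcMap O F g) := by
  obtain ⟨σ⟩ := hF.nonempty_quasicoherentData
  have htop : Sieve.ofObjects σ.X V = ⊤ := hJ V _ (σ.coversTop V)
  have hid : (Sieve.ofObjects σ.X V) (𝟙 V) := by rw [htop]; trivial
  obtain ⟨i, ⟨h⟩⟩ := (Sieve.mem_ofObjects_iff ..).1 hid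
  have key := isIso_bcMap_of_presentation (isChaotic_over hJ (σ.X i)) (O.over (σ.X i))
    (N := (ModSite.restr O (σ.X i)).obj F) (σ.presentation i)
    (U := Over.mk (g ≫ h)) (V := Over.mk h) (Over.homMk g)
  exact key

include hJ in
/-- a module on a chaotic site satisfying base change is quasi-coherent -/
theorem isQuasicoherent_of_isIso_bcMap (F : ModSite.Mod O)
    (h : ∀ {U V : C} (g : U ⟶ V), IsIso (bcMap O F g)) :
    SheafOfModules.IsQuasicoherent (R := ModSite.ringSh O) F := by
  have hp : ∀ V : C, Nonempty (SheafOfModules.Presentation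
      (R := (ModSite.ringSh O).over V) (F.over V)) := by
    intro V
    exact nonempty_presentation_of_isIso_bcMap (isChaotic_over hJ V) (O.over V)
      (Over.mkIdTerminal (X := V)) ((ModSite.restr O V).obj F)
      (fun W => h ((Over.mkIdTerminal (X := V)).from W).left)
  have hct : J.CoversTop (id : C → C) := fun W => by
    have h1 : (Sieve.ofObjects (id : C → C) W) (𝟙 W) :=
      (Sieve.mem_ofObjects_iff (id : C → C) (𝟙 W)).2 ⟨W, ⟨𝟙 W⟩⟩
    rw [(Sieve.id_mem_iff_eq_top).1 h1]
    exact J.top_mem W
  let σ : SheafOfModules.QuasicoherentData.{u} (R := ModSite.ringSh O) F :=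
    { I := C
      X := id
      coversTop := hct
      presentation := fun V => (hp V).some }
  exact σ.isQuasicoherent

end Groth.Agent.H92.Chaotic
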