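import Groth.Agent.H92.ChaoticB

/-!
# Quasi-coherent modules on a chaotic site with flat restriction maps form a weak Serre
subcategory (helper92)
-/

set_option autoImplicit false
set_option backward.isDefEq.respectTransparency false
universe u
open CategoryTheory CategoryTheory.Limits Opposite TensorProduct ModuleCat ChangeOfRings

namespace Groth.Agent.H92.Chaotic

/-- dual of `isIso_app_coconePt_of_preservesColimit` -/
lemma isIso_app_conePt_of_preservesLimit
    {C D J : Type*} [Category C] [Category D] [Category J] (K : J ⥤ C) {L L' : C ⥤ D}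
    (α : L ⟶ L') [IsIso (Functor.whiskerLeft K α)] (c : Cone K) (hc : IsLimit c)
    [PreservesLimit K L] [PreservesLimit K L'] :
    IsIso (α.app c.pt) := by
  let e := IsLimit.conePointsIsoOfNatIso
    (isLimitOfPreserves L hc) (isLimitOfPreserves L' hc) (asIso (Functor.whiskerLeft K α))
  have he : α.app c.pt = e.hom := by
    apply (isLimitOfPreserves L' hc).hom_ext fun j => ?_
    rw [IsLimit.conePointsIsoOfNatIso_hom_comp]
    simp
  rw [he]
  infer_instance

variable {C : Type u} [SmallCategory C] {J : GrothendieckTopology C} (hJ : IsChaotic J)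
  (O : Sheaf J CommRingCat.{u})

include hJ in
lemma preservesFiniteLimits_bcSource {U V : C} (g : U ⟶ V) (hg : (O.obj.map g.op).hom.Flat) :
    PreservesFiniteLimits
      (evM O V ⋙ ModuleCat.extendScalars.{u, u, u} (O.obj.map g.op).hom) := by
  have := preservesFiniteLimits_evM hJ O V
  have := ModuleCat.preservesFiniteLimits_extendScalars_of_flat.{u} hg
  infer_instance

include hJ in
/-- base change for kernels, flat case -/
theorem isIso_bcMap_kernel {U V : C} (g : U ⟶ V) (hg : (O.obj.map g.op).hom.Flat)
    {F G : ModSite.Mod O} (α : F ⟶ G) (c : KernelFork α) (hc : IsLimit c)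
    (hF : IsIso (bcMap O F g)) (hG : IsIso (bcMap O G g)) : IsIso (bcMap O c.pt g) := by
  have h1 := preservesFiniteLimits_bcSource hJ O g hg
  have h2 := preservesFiniteLimits_evM hJ O U
  have h3 : PreservesLimit (parallelPair α 0)
      (evM O V ⋙ ModuleCat.extendScalars.{u, u, u} (O.obj.map g.op).hom) := inferInstance
  have h4 : PreservesLimit (parallelPair α 0) (evM O U) := inferInstance
  have h5 : IsIso (Functor.whiskerLeft (parallelPair α 0) (bcNat O g)) := by
    apply (config := { allowSynthFailures := true }) NatIso.isIso_of_isIso_app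
    rintro (_ | _)
    · exact hF
    · exact hG
  exact isIso_app_conePt_of_preservesLimit (parallelPair α 0) (bcNat O g) c hc

include hJ in
/-- base change for cokernels -/
theorem isIso_bcMap_cokernel {U V : C} (g : U ⟶ V)
    {F G : ModSite.Mod O} (α : F ⟶ G) (c : CokernelCofork α) (hc : IsColimit c)
    (hF : IsIso (bcMap O F g)) (hG : IsIso (bcMap O G g)) : IsIso (bcMap O c.pt g) := by
  have h1 := preservesFiniteColimits_bcSource hJ O g
  have h2 := preservesFiniteColimits_evM hJ O U
  have h3 : PreservesColimit (parallelPair α 0)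
      (evM O V ⋙ ModuleCat.extendScalars.{u, u, u} (O.obj.map g.op).hom) := inferInstance
  have h4 : PreservesColimit (parallelPair α 0) (evM O U) := inferInstance
  have h5 : IsIso (Functor.whiskerLeft (parallelPair α 0) (bcNat O g)) := by
    apply (config := { allowSynthFailures := true }) NatIso.isIso_of_isIso_app
    rintro (_ | _)
    · exact hF
    · exact hG
  exact isIso_app_coconePt_of_preservesColimit (parallelPair α 0) (bcNat O g) c hc

include hJ in
/-- base change for extensions, flat case -/
theorem isIso_bcMap_extension {U V : C} (g : U ⟶ V) (hg : (O.obj.map g.op).hom.Flat)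
    (S : ShortComplex (ModSite.Mod O)) (hS : S.ShortExact)
    (h1 : IsIso (bcMap O S.X₁ g)) (h3 : IsIso (bcMap O S.X₃ g)) : IsIso (bcMap O S.X₂ g) := by
  have a1 := preservesFiniteLimits_bcSource hJ O g hg
  have a2 := preservesFiniteColimits_bcSource hJ O g
  have a3 := preservesFiniteLimits_evM hJ O U
  have a4 := preservesFiniteColimits_evM hJ O U
  have a5 := additive_extendScalars (O.obj.map g.op).hom
  have e1 : (S.map (evM O V ⋙
      ModuleCat.extendScalars.{u, u, u} (O.obj.map g.op).hom)).ShortExact := hS.map_of_exact _
  have e2 : (S.map (evM O U)).ShortExact := hS.map_of_exact _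
  let φ := S.mapNatTrans (bcNat O g)
  have t1 : IsIso φ.τ₁ := h1
  have t3 : IsIso φ.τ₃ := h3
  exact ShortComplex.isIso₂_of_shortExact_of_isIso₁₃ φ e1 e2

end Groth.Agent.H92.Chaotic
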