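import Groth.Agent.H45.DeltaIso

/-!
# An exact functor sending injectives to acyclics commutes with right derived functors, naturally
(helper92)

* `precomp E T`: precomposition of a cohomological delta-functor with an exact functor.
* `nonempty_comp_rightDerived_iso E G hacy q : Nonempty ((E ⋙ G).rightDerived q ≅ E ⋙ G.rightDerived q)`
  for `E` exact and `G` left exact with `R^{n+1}G(E I) = 0` for `I` injective.
-/

set_option autoImplicit false
universe v v' v'' u u' u''
open CategoryTheory CategoryTheory.Limits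

namespace Groth.Agent.H92.CompAcyNat

variable {A : Type u} [Category.{v} A] [Abelian A] {B : Type u'} [Category.{v'} B] [Abelian B]
  {D : Type u''} [Category.{v''} D] [Abelian D]

/-- precomposition of a delta-functor with an exact functor -/
noncomputable def precomp (E : A ⥤ B) [E.Additive] [PreservesFiniteLimits E]
    [PreservesFiniteColimits E] (T : DeltaF.CohDeltaFunctor B D ℕ) :
    DeltaF.CohDeltaFunctor A D ℕ where
  F n := E ⋙ T.F n
  additive n := inferInstance
  δ S hS n₀ n₁ h := T.δ (S.map E) (hS.map_of_exact E) n₀ n₁ h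
  δ_natural hS hS' φ n₀ n₁ h :=
    T.δ_natural (hS.map_of_exact E) (hS'.map_of_exact E) (E.mapShortComplex.map φ) n₀ n₁ h
  exact₂ S hS n := T.exact₂ (S.map E) (hS.map_of_exact E) n
  comp_δ S hS n₀ n₁ h := T.comp_δ (S.map E) (hS.map_of_exact E) n₀ n₁ h
  exact₃ S hS n₀ n₁ h := T.exact₃ (S.map E) (hS.map_of_exact E) n₀ n₁ h
  δ_comp S hS n₀ n₁ h := T.δ_comp (S.map E) (hS.map_of_exact E) n₀ n₁ h
  exact₁ S hS n₀ n₁ h := T.exact₁ (S.map E) (hS.map_of_exact E) n₀ n₁ h

theorem nonempty_comp_rightDerived_iso [HasInjectiveResolutions A] [HasInjectiveResolutions B]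
    (E : A ⥤ B) [E.Additive] [PreservesFiniteLimits E] [PreservesFiniteColimits E]
    (G : B ⥤ D) [G.Additive] [PreservesFiniteLimits G]
    (hacy : ∀ I : A, Injective I → ∀ n : ℕ, IsZero ((G.rightDerived (n + 1)).obj (E.obj I)))
    (q : ℕ) : Nonempty ((E ⋙ G).rightDerived q ≅ E ⋙ G.rightDerived q) := by
  have hA := Groth.Agent.H45.DeltaIso.enoughInjectives A
  have hB := Groth.Agent.H45.DeltaIso.enoughInjectives B
  obtain ⟨Δ⟩ := Groth.Agent.S16463.result G
  let T := precomp E Δ.toCohDeltaFunctor
  have hT : T.IsEffaceable := by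
    intro n X
    exact ⟨Injective.under X, Injective.ι X, inferInstance,
      (hacy _ inferInstance n).eq_of_tgt _ _⟩
  have : PreservesFiniteLimits (E ⋙ G) := comp_preservesFiniteLimits E G
  exact Groth.Agent.H45.DeltaIso.nonempty_rightDerived_iso' (E ⋙ G) T hT
    (Functor.isoWhiskerLeft E G.rightDerivedZeroIsoSelf.symm) q

end Groth.Agent.H92.CompAcyNat
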