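import Groth.Agent.H45.RDerivedLES

/-!
# Complements to `H45.RDerivedLES` (helper92)

* `comp_eq_zero` : `Rⁿα ≫ Rⁿβ = 0` when `α ≫ β = 0`;
* `mono_rightDerived_zero` : `R⁰α` is a monomorphism when `α` is a monomorphism on injectives.
-/

set_option autoImplicit false

namespace Groth.Agent.H92.ContraLES

open CategoryTheory Limits
open Groth.Agent.H45.RDerivedLES

universe v₁ v₂ u₁ u₂

variable {A : Type u₁} [Category.{v₁} A] [Abelian A]
  {B : Type u₂} [Category.{v₂} B] [Abelian B]
  {F₁ F₂ F₃ : A ⥤ B} [F₁.Additive] [F₂.Additive] [F₃.Additive]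
  (α : F₁ ⟶ F₂) (β : F₂ ⟶ F₃) (w : α ≫ β = 0) [HasInjectiveResolutions A]

include w in
theorem comp_eq_zero (n : ℕ) (X : A) :
    (NatTrans.rightDerived α n).app X ≫ (NatTrans.rightDerived β n).app X = 0 := by
  rw [app_eq α X n, app_eq β X n]
  simp only [Category.assoc, Iso.inv_hom_id_assoc]
  rw [← HomologicalComplex.homologyMap_comp_assoc, ← NatTrans.comp_app,
    ← NatTrans.mapHomologicalComplex_comp, w]
  have : (NatTrans.mapHomologicalComplex (0 : F₁ ⟶ F₃) (ComplexShape.up ℕ)).app
      (res X).cocomplex = 0 := by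
    ext i
    simp
    rfl
  rw [this, HomologicalComplex.homologyMap_zero, zero_comp, comp_zero]

theorem mono_homologyMap_zero {K L : CochainComplex B ℕ} (φ : K ⟶ L) [Mono (φ.f 0)] :
    Mono (HomologicalComplex.homologyMap φ 0) := by
  have h1 : Mono (HomologicalComplex.cyclesMap φ 0) := by
    have : Mono (HomologicalComplex.cyclesMap φ 0 ≫ L.iCycles 0) := by
      rw [HomologicalComplex.cyclesMap_i]
      infer_instance
    exact mono_of_mono _ (L.iCycles 0)
  have e : HomologicalComplex.homologyMap φ 0 =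
      (K.isoHomologyπ₀).inv ≫ HomologicalComplex.cyclesMap φ 0 ≫ (L.isoHomologyπ₀).hom := by
    rw [← cancel_epi (K.isoHomologyπ₀).hom, Iso.hom_inv_id_assoc]
    simp
  rw [e]
  infer_instance

theorem mono_rightDerived_zero (hα : ∀ I : A, Injective I → Mono (α.app I)) (X : A) :
    Mono ((NatTrans.rightDerived α 0).app X) := by
  rw [app_eq α X 0]
  have : Mono (((NatTrans.mapHomologicalComplex α (ComplexShape.up ℕ)).app (res X).cocomplex).f 0) :=
    hα _ ((res X).injective 0)
  have := mono_homologyMap_zero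
    ((NatTrans.mapHomologicalComplex α (ComplexShape.up ℕ)).app (res X).cocomplex)
  infer_instance

end Groth.Agent.H92.ContraLES
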