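import Mathlib

/-!
# Coskeletal simplicial sets: elementary consequences of the universal property
-/

set_option autoImplicit false

namespace Groth.Agent.H92.Cosk

open CategoryTheory Simplicial SSet Opposite

universe u

section

variable {X : SSet.{u}} (n : ℕ) [SimplicialObject.IsCoskeletal X n]

/-- Morphisms into an `n`-coskeletal simplicial set are determined by their components in
degrees `≤ n`. -/
theorem hom_ext {Y : SSet.{u}} (f g : Y ⟶ X)
    (h : ∀ k, k ≤ n → f.app (op ⦋k⦌) = g.app (op ⦋k⦌)) : f = g := by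
  apply Functor.hom_ext_of_isRightKanExtension X
    (𝟙 ((SimplexCategory.Truncated.inclusion n).op ⋙ X))
  apply NatTrans.ext
  funext ⟨⟨k, hk⟩⟩
  simp only [Category.comp_id, Functor.whiskerLeft_app]
  exact h k.len hk

/-- Morphisms of `n`-truncations lift to morphisms into an `n`-coskeletal simplicial set. -/
theorem exists_lift {Y : SSet.{u}}
    (φ : (SimplexCategory.Truncated.inclusion n).op ⋙ Y ⟶
      (SimplexCategory.Truncated.inclusion n).op ⋙ X) :
    ∃ l : Y ⟶ X, Functor.whiskerLeft (SimplexCategory.Truncated.inclusion n).op l = φ := by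
  refine ⟨X.liftOfIsRightKanExtension (𝟙 _) Y φ, ?_⟩
  have := X.liftOfIsRightKanExtension_fac (𝟙 ((SimplexCategory.Truncated.inclusion n).op ⋙ X)) Y φ
  rwa [Category.comp_id] at this

end

/-- The inclusion of the boundary of `Δ[m]` is an isomorphism on `n`-truncations for `n < m`. -/
theorem isIso_whiskerLeft_boundary_ι (n m : ℕ) (h : n < m) :
    IsIso (Functor.whiskerLeft (SimplexCategory.Truncated.inclusion n).op
      (∂Δ[m] : (Δ[m] : SSet.{u}).Subcomplex).ι) := by
  have : ∀ a, IsIso ((Functor.whiskerLeft (SimplexCategory.Truncated.inclusion n).op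
      (∂Δ[m] : (Δ[m] : SSet.{u}).Subcomplex).ι).app a) := by
    rintro ⟨⟨k, hk⟩⟩
    rw [isIso_iff_bijective]
    have hk' : k.len < m := lt_of_le_of_lt hk h
    have huniv := boundary_obj_eq_univ.{u} k.len m hk'
    constructor
    · intro a b hab
      exact Subtype.ext hab
    · intro y
      refine ⟨⟨y, ?_⟩, rfl⟩
      have : y ∈ (Set.univ : Set ((Δ[m] : SSet.{u}).obj (op ⦋k.len⦌))) := Set.mem_univ _
      rw [← huniv] at this
      exact this
  exact NatIso.isIso_of_isIso_app _

section lifting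

variable {E S : SSet.{u}} (p : E ⟶ S)

theorem hasLiftingProperty_boundary_zero (hs : Function.Surjective (p.app (op ⦋0⦌))) :
    HasLiftingProperty (∂Δ[0] : (Δ[0] : SSet.{u}).Subcomplex).ι p := by
  refine ⟨fun {t b} sq ↦ ?_⟩
  obtain ⟨w, hw⟩ := hs (yonedaEquiv b)
  refine ⟨⟨{ l := yonedaEquiv.symm w, fac_left := boundary.hom_ext₀, fac_right := ?_ }⟩⟩
  rw [yonedaEquiv_symm_comp, hw, Equiv.symm_apply_apply]

theorem hasLiftingProperty_boundary_succ (m : ℕ)
    (hs : Function.Surjective (p.app (op ⦋m+1⦌))) (hi : Function.Injective (p.app (op ⦋m⦌))) :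
    HasLiftingProperty (∂Δ[m+1] : (Δ[m+1] : SSet.{u}).Subcomplex).ι p := by
  refine ⟨fun {t b} sq ↦ ?_⟩
  obtain ⟨w, hw⟩ := hs (yonedaEquiv b)
  refine ⟨⟨{ l := yonedaEquiv.symm w, fac_left := ?_, fac_right := ?_ }⟩⟩
  · refine boundary.hom_ext (fun j => ?_)
    rw [boundary.ι_ι_assoc, stdSimplex.δ_comp_yonedaEquiv_symm]
    apply yonedaEquiv.injective
    rw [Equiv.apply_symm_apply]
    apply hi
    have h1 : p.app (op ⦋m⦌) (E.δ j w) = S.δ j (p.app (op ⦋m+1⦌) w) :=
      ConcreteCategory.congr_hom (p.naturality (SimplexCategory.δ j).op) w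
    rw [h1, hw, ← stdSimplex.yonedaEquiv_δ_comp, ← yonedaEquiv_comp, Category.assoc, sq.w,
      boundary.ι_ι_assoc]
  · rw [yonedaEquiv_symm_comp, hw, Equiv.symm_apply_apply]

theorem hasLiftingProperty_boundary_of_isCoskeletal (n m : ℕ) (h : n < m)
    [SimplicialObject.IsCoskeletal E n] [SimplicialObject.IsCoskeletal S n] :
    HasLiftingProperty (∂Δ[m] : (Δ[m] : SSet.{u}).Subcomplex).ι p := by
  refine ⟨fun {t b} sq ↦ ?_⟩
  have := isIso_whiskerLeft_boundary_ι.{u} n m h
  obtain ⟨l, hl⟩ := exists_lift (X := E) n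
    (inv (Functor.whiskerLeft (SimplexCategory.Truncated.inclusion n).op
      (∂Δ[m] : (Δ[m] : SSet.{u}).Subcomplex).ι) ≫
      Functor.whiskerLeft (SimplexCategory.Truncated.inclusion n).op t)
  have key : ∀ {A B : SSet.{u}} (f g : A ⟶ B) [SimplicialObject.IsCoskeletal B n],
      Functor.whiskerLeft (SimplexCategory.Truncated.inclusion n).op f =
        Functor.whiskerLeft (SimplexCategory.Truncated.inclusion n).op g → f = g := by
    intro A B f g _ hfg
    apply hom_ext n
    intro k hk
    exact congrArg (fun φ => φ.app (op ⟨⦋k⦌, hk⟩)) hfg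
  refine ⟨⟨{ l := l, fac_left := ?_, fac_right := ?_ }⟩⟩
  · apply key
    rw [Functor.whiskerLeft_comp, hl, IsIso.hom_inv_id_assoc]
  · apply key
    rw [Functor.whiskerLeft_comp, hl, Category.assoc, ← Functor.whiskerLeft_comp, sq.w,
      Functor.whiskerLeft_comp, IsIso.inv_hom_id_assoc]

end lifting

end Groth.Agent.H92.Cosk
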