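import Mathlib

/-!
# Homotopies between maps into pointwise right Kan extensions along the truncated simplex category

General construction used for S8565: if `W'` is a pointwise right Kan extension of the
`n`-truncation of `X'` and `cf cg : W ⟶ W'` are compatible with `f g : X ⟶ X'` agreeing in
degrees `< n`, then `cf` and `cg` are (combinatorially) simplicially homotopic.
-/

set_option autoImplicit false
open CategoryTheory CategoryTheory.Limits Opposite Simplicial SimplexCategory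

universe v u

namespace Groth.Agent.H92.CoskHomotopy

/-- The inclusion functor of the truncated simplex category, opposite. -/
abbrev Lf (n : ℕ) : (SimplexCategory.Truncated n)ᵒᵖ ⥤ SimplexCategoryᵒᵖ :=
  (SimplexCategory.Truncated.inclusion n).op

/-- A map to `⦋1⦌` is constant with value `0`. -/
def IsZ {k : SimplexCategory} (b : k ⟶ ⦋1⦌) : Prop := ∀ x, b.toOrderHom x = 0

theorem isZ_comp {j k : SimplexCategory} (θ : j ⟶ k) (b : k ⟶ ⦋1⦌) (hb : IsZ b) :
    IsZ (θ ≫ b) :=
  fun x => hb (θ.toOrderHom x)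

theorem not_surjective_of_isZ_comp {j k : SimplexCategory} (θ : j ⟶ k) (b : k ⟶ ⦋1⦌)
    (hb : ¬ IsZ b) (hb' : IsZ (θ ≫ b)) : ¬ Function.Surjective θ.toOrderHom := by
  intro hs
  apply hb
  intro x
  obtain ⟨y, rfl⟩ := hs x
  exact hb' y

theorem hom_ext_one {k : SimplexCategory} (b b' : k ⟶ ⦋1⦌)
    (h : ∀ x, b.toOrderHom x = 0 ↔ b'.toOrderHom x = 0) : b = b' := by
  have h2 : ∀ u v : Fin 2, (u = 0 ↔ v = 0) → u = v := by decide
  apply SimplexCategory.Hom.ext
  apply OrderHom.ext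
  funext x
  exact h2 _ _ (h x)

/-- the cut map: `x ↦ 0` if `x ≤ t`, else `1`. -/
def cut (k t : ℕ) : (⦋k⦌ : SimplexCategory) ⟶ ⦋1⦌ :=
  SimplexCategory.mkHom ⟨fun x => if (x : ℕ) ≤ t then 0 else 1, by
    intro x y hxy
    have hxy' : (x : ℕ) ≤ y := hxy
    dsimp only
    split_ifs with h1 h2
    · exact le_rfl
    · exact Fin.zero_le _
    · omega
    · exact le_rfl⟩

theorem cut_apply (k t : ℕ) (x : Fin (k + 1)) :
    (cut k t).toOrderHom x = 0 ↔ (x : ℕ) ≤ t := by
  show (if (x : ℕ) ≤ t then (0 : Fin 2) else 1) = 0 ↔ _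
  split_ifs with h <;> simp [h]

theorem val_succAbove {k : ℕ} (i : Fin (k + 2)) (x : Fin (k + 1)) :
    ((i.succAbove x : Fin (k + 2)) : ℕ) = if (x : ℕ) < (i : ℕ) then (x : ℕ) else x + 1 := by
  unfold Fin.succAbove
  simp only [Fin.lt_def, Fin.val_castSucc]
  split_ifs <;> simp

theorem val_predAbove {k : ℕ} (i : Fin (k + 1)) (x : Fin (k + 2)) :
    ((i.predAbove x : Fin (k + 1)) : ℕ) = if (i : ℕ) < (x : ℕ) then (x : ℕ) - 1 else x := by
  unfold Fin.predAbove
  simp only [Fin.lt_def, Fin.val_castSucc]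
  split_ifs <;> simp

theorem δ_cut_apply {k : ℕ} (i : Fin (k + 2)) (t : ℕ) (x : Fin (k + 1)) :
    (SimplexCategory.δ i ≫ cut (k + 1) t).toOrderHom x = 0 ↔
      (if (x : ℕ) < (i : ℕ) then (x : ℕ) else x + 1) ≤ t := by
  rw [← val_succAbove]
  exact cut_apply (k + 1) t (i.succAbove x)

theorem σ_cut_apply {k : ℕ} (i : Fin (k + 1)) (t : ℕ) (x : Fin (k + 2)) :
    (SimplexCategory.σ i ≫ cut k t).toOrderHom x = 0 ↔
      (if (i : ℕ) < (x : ℕ) then (x : ℕ) - 1 else x) ≤ t := by
  rw [← val_predAbove]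
  exact cut_apply k t (i.predAbove x)

section
variable {E : Type u} [Category.{v} E] {n : ℕ}

open Classical in
/-- selects `f` for constant-zero colourings, `g` otherwise -/
noncomputable def sel {X X' : SimplicialObject E} (f g : X ⟶ X') {k : SimplexCategory}
    (b : k ⟶ ⦋1⦌) : X ⟶ X' :=
  if IsZ b then f else g

theorem sel_of_isZ {X X' : SimplicialObject E} (f g : X ⟶ X') {k : SimplexCategory}
    (b : k ⟶ ⦋1⦌) (hb : IsZ b) : sel f g b = f := if_pos hb

theorem sel_of_not_isZ {X X' : SimplicialObject E} (f g : X ⟶ X') {k : SimplexCategory}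
    (b : k ⟶ ⦋1⦌) (hb : ¬ IsZ b) : sel f g b = g := if_neg hb

theorem key {X X' : SimplicialObject E} (f g : X ⟶ X')
    (hfg : ∀ p : ℕ, p < n → f.app (op ⦋p⦌) = g.app (op ⦋p⦌))
    (k j : SimplexCategory) (hk : k.len ≤ n) (θ : j ⟶ k) (a : k ⟶ ⦋1⦌) :
    X.map θ.op ≫ (sel f g (θ ≫ a)).app (op j) = (sel f g a).app (op k) ≫ X'.map θ.op := by
  by_cases ha : IsZ a
  · rw [sel_of_isZ f g a ha, sel_of_isZ f g _ (isZ_comp θ a ha)]
    exact f.naturality θ.op
  · rw [sel_of_not_isZ f g a ha]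
    by_cases ha' : IsZ (θ ≫ a)
    · rw [sel_of_isZ f g _ ha']
      have hns := not_surjective_of_isZ_comp θ a ha ha'
      induction k using SimplexCategory.rec with | _ k => ?_
      obtain _ | k := k
      · exfalso
        apply hns
        intro y
        exact ⟨0, Subsingleton.elim (α := Fin 1) _ _⟩
      · obtain ⟨i, θ', rfl⟩ := SimplexCategory.eq_comp_δ_of_not_surjective θ hns
        have hk' : k < n := hk
        rw [op_comp, X.map_comp, X'.map_comp, Category.assoc, f.naturality θ'.op, hfg k hk',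
          g.naturality_assoc]
    · rw [sel_of_not_isZ f g _ ha']
      exact g.naturality θ.op

end

section
variable {E : Type u} [Category.{v} E] {n : ℕ} {X X' W W' : SimplicialObject E} (f g : X ⟶ X')
  (hfg : ∀ p : ℕ, p < n → f.app (op ⦋p⦌) = g.app (op ⦋p⦌))
  (α : Lf n ⋙ W ⟶ Lf n ⋙ X) (α' : Lf n ⋙ W' ⟶ Lf n ⋙ X')
  (hP' : (Functor.RightExtension.mk W' α').IsPointwiseRightKanExtension)

include hfg in
theorem coneH_nat {k k' : SimplexCategory} (ψ : k' ⟶ k) (a : k' ⟶ ⦋1⦌)
    (s s' : StructuredArrow (op k') (Lf n)) (φ : s ⟶ s') :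
    (W.map (ψ.op ≫ s.hom) ≫ α.app s.right ≫
      (sel f g (s.hom.unop ≫ a)).app ((Lf n).obj s.right)) ≫ X'.map ((Lf n).map φ.right) =
    W.map (ψ.op ≫ s'.hom) ≫ α.app s'.right ≫
      (sel f g (s'.hom.unop ≫ a)).app ((Lf n).obj s'.right) := by
  have hw : s.hom ≫ (Lf n).map φ.right = s'.hom := StructuredArrow.w φ
  have hk := key f g hfg (s.right.unop.obj) (s'.right.unop.obj) s.right.unop.property
    ((Lf n).map φ.right).unop (s.hom.unop ≫ a)
  have hα : W.map ((Lf n).map φ.right) ≫ α.app s'.right =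
      α.app s.right ≫ X.map ((Lf n).map φ.right) := α.naturality φ.right
  have e1 : s'.hom.unop ≫ a = ((Lf n).map φ.right).unop ≫ s.hom.unop ≫ a := by
    rw [← hw]; rfl
  have hk' : X.map ((Lf n).map φ.right) ≫
      (sel f g (((Lf n).map φ.right).unop ≫ s.hom.unop ≫ a)).app ((Lf n).obj s'.right) =
      (sel f g (s.hom.unop ≫ a)).app ((Lf n).obj s.right) ≫ X'.map ((Lf n).map φ.right) := hk
  have e2 : W.map (ψ.op ≫ s.hom ≫ (Lf n).map φ.right) =
      W.map (ψ.op ≫ s.hom) ≫ W.map ((Lf n).map φ.right) := by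
    rw [← W.map_comp, Category.assoc]
  rw [e1, ← hw, e2, Category.assoc, Category.assoc, Category.assoc, reassoc_of% hα, hk']

/-- the cone defining `H` -/
noncomputable def coneH {k k' : SimplexCategory} (ψ : k' ⟶ k) (a : k' ⟶ ⦋1⦌) :
    Cone (StructuredArrow.proj (op k') (Lf n) ⋙ (Lf n ⋙ X')) where
  pt := W.obj (op k)
  π :=
    { app := fun s => W.map (ψ.op ≫ s.hom) ≫ α.app s.right ≫
        (sel f g (s.hom.unop ≫ a)).app ((Lf n).obj s.right)
      naturality := by
        intro s s' φ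
        have := coneH_nat f g hfg α ψ a s s' φ
        dsimp only [Functor.const_obj_obj, Functor.const_obj_map]
        rw [Category.id_comp]
        exact this.symm }

/-- the basic morphisms from which the homotopy is built -/
noncomputable def H {k k' : SimplexCategory} (ψ : k' ⟶ k) (a : k' ⟶ ⦋1⦌) :
    W.obj (op k) ⟶ W'.obj (op k') :=
  (hP' (op k')).lift (coneH f g hfg α ψ a)

theorem H_π {k k' : SimplexCategory} (ψ : k' ⟶ k) (a : k' ⟶ ⦋1⦌)
    (s : StructuredArrow (op k') (Lf n)) :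
    H f g hfg α α' hP' ψ a ≫ W'.map s.hom ≫ α'.app s.right =
      W.map (ψ.op ≫ s.hom) ≫ α.app s.right ≫
        (sel f g (s.hom.unop ≫ a)).app ((Lf n).obj s.right) :=
  (hP' (op k')).fac (coneH f g hfg α ψ a) s

include hP' in
theorem hom_ext' {k' : SimplexCategory} {T : E} (u v : T ⟶ W'.obj (op k'))
    (h : ∀ s : StructuredArrow (op k') (Lf n),
      u ≫ W'.map s.hom ≫ α'.app s.right = v ≫ W'.map s.hom ≫ α'.app s.right) : u = v :=
  (hP' (op k')).hom_ext h

theorem H_congr {k k' : SimplexCategory} {ψ ψ' : k' ⟶ k} {a a' : k' ⟶ ⦋1⦌} (h1 : ψ = ψ')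
    (h2 : a = a') : H f g hfg α α' hP' ψ a = H f g hfg α α' hP' ψ' a' := by
  subst h1 h2; rfl

theorem H_comp_map {k k' k'' : SimplexCategory} (ψ : k' ⟶ k) (a : k' ⟶ ⦋1⦌) (χ : k'' ⟶ k') :
    H f g hfg α α' hP' ψ a ≫ W'.map χ.op = H f g hfg α α' hP' (χ ≫ ψ) (χ ≫ a) := by
  apply hom_ext' α' hP'
  intro s
  have h1 := H_π f g hfg α α' hP' ψ a (StructuredArrow.mk (χ.op ≫ s.hom))
  have h2 := H_π f g hfg α α' hP' (χ ≫ ψ) (χ ≫ a) s
  rw [h2, Category.assoc, ← Category.assoc (W'.map χ.op), ← W'.map_comp]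
  refine h1.trans ?_
  have e1 : ψ.op ≫ (StructuredArrow.mk (χ.op ≫ s.hom)).hom = (χ ≫ ψ).op ≫ s.hom := by
    simp
  have e2 : (StructuredArrow.mk (χ.op ≫ s.hom)).hom.unop ≫ a = s.hom.unop ≫ χ ≫ a := by
    simp
  rw [e1, e2]
  rfl

theorem map_comp_H {k k' k₀ : SimplexCategory} (ψ : k' ⟶ k) (a : k' ⟶ ⦋1⦌) (ρ : k ⟶ k₀) :
    W.map ρ.op ≫ H f g hfg α α' hP' ψ a = H f g hfg α α' hP' (ψ ≫ ρ) a := by
  apply hom_ext' α' hP'
  intro s
  rw [Category.assoc, H_π, H_π, ← Category.assoc, ← W.map_comp, op_comp, Category.assoc]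

theorem H_of_isZ {k k' : SimplexCategory} (ψ : k' ⟶ k) (a : k' ⟶ ⦋1⦌) (ha : IsZ a)
    (cf : W ⟶ W')
    (hcf : ∀ x, cf.app ((Lf n).obj x) ≫ α'.app x = α.app x ≫ f.app ((Lf n).obj x)) :
    H f g hfg α α' hP' ψ a = W.map ψ.op ≫ cf.app (op k') := by
  apply hom_ext' α' hP'
  intro s
  rw [H_π, sel_of_isZ f g _ (isZ_comp _ a ha), Category.assoc, ← cf.naturality_assoc, hcf,
    W.map_comp, Category.assoc]

theorem H_of_one {k k' : SimplexCategory} (ψ : k' ⟶ k) (a : k' ⟶ ⦋1⦌)
    (ha : ∀ x, a.toOrderHom x = 1) (cg : W ⟶ W')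
    (hcg : ∀ x, cg.app ((Lf n).obj x) ≫ α'.app x = α.app x ≫ g.app ((Lf n).obj x)) :
    H f g hfg α α' hP' ψ a = W.map ψ.op ≫ cg.app (op k') := by
  apply hom_ext' α' hP'
  intro s
  have hnz : ¬ IsZ (s.hom.unop ≫ a) := by
    intro hz
    have h0 := hz 0
    have h1 := ha (s.hom.unop.toOrderHom 0)
    have : (s.hom.unop ≫ a).toOrderHom 0 = a.toOrderHom (s.hom.unop.toOrderHom 0) := rfl
    rw [this, h1] at h0
    exact absurd h0 (by decide)
  rw [H_π, sel_of_not_isZ f g _ hnz, Category.assoc, ← cg.naturality_assoc, hcg,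
    W.map_comp, Category.assoc]

/-- The homotopy. -/
noncomputable def homotopy (cf cg : W ⟶ W')
    (hcf : ∀ x, cf.app ((Lf n).obj x) ≫ α'.app x = α.app x ≫ f.app ((Lf n).obj x))
    (hcg : ∀ x, cg.app ((Lf n).obj x) ≫ α'.app x = α.app x ≫ g.app ((Lf n).obj x)) :
    SimplicialObject.Homotopy cf cg where
  h {m} i := H f g hfg α α' hP' (SimplexCategory.σ i) (cut (m + 1) i)
  h_zero_comp_δ_zero m := by
    show H f g hfg α α' hP' (SimplexCategory.σ 0) (cut (m + 1) ((0 : Fin (m + 1)) : ℕ)) ≫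
      W'.map (SimplexCategory.δ 0).op = _
    rw [H_comp_map, H_of_one f g hfg α α' hP' _ _ _ cg hcg]
    · have : SimplexCategory.δ (0 : Fin (m + 2)) ≫ SimplexCategory.σ 0 = 𝟙 _ :=
        SimplexCategory.δ_comp_σ_self (i := (0 : Fin (m + 1)))
      rw [this, op_id, W.map_id, Category.id_comp]
    · intro x
      have h2 : ∀ u : Fin 2, ¬ u = 0 → u = 1 := by decide
      apply h2
      rw [δ_cut_apply]
      simp
  h_last_comp_δ_last m := by
    show H f g hfg α α' hP' (SimplexCategory.σ (Fin.last m)) (cut (m + 1) ((Fin.last m : Fin (m + 1)) : ℕ)) ≫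
      W'.map (SimplexCategory.δ (Fin.last (m + 1))).op = _
    rw [H_comp_map, H_of_isZ f g hfg α α' hP' _ _ _ cf hcf]
    · have : SimplexCategory.δ (Fin.last (m + 1)) ≫ SimplexCategory.σ (Fin.last m) = 𝟙 _ :=
        SimplexCategory.δ_comp_σ_succ (i := Fin.last m)
      rw [this, op_id, W.map_id, Category.id_comp]
    · intro x
      rw [δ_cut_apply]
      have : (x : ℕ) < m + 1 := x.isLt
      simp only [Fin.val_last]
      split_ifs <;> omega
  h_succ_comp_δ_castSucc_of_lt {m} i j hij := by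
    show H f g hfg α α' hP' (SimplexCategory.σ j.succ) (cut (m + 1 + 1) (j.succ : ℕ)) ≫
      W'.map (SimplexCategory.δ i.castSucc).op =
      W.map (SimplexCategory.δ i).op ≫ H f g hfg α α' hP' (SimplexCategory.σ j) (cut (m + 1) (j : ℕ))
    rw [H_comp_map, map_comp_H]
    apply H_congr
    · exact SimplexCategory.δ_comp_σ_of_le hij
    · apply hom_ext_one
      intro x
      rw [δ_cut_apply, cut_apply]
      have hij' : (i : ℕ) ≤ j := hij
      simp only [Fin.val_castSucc, Fin.val_succ]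
      split_ifs <;> omega
  h_succ_comp_δ_castSucc_succ {m} j := by
    show H f g hfg α α' hP' (SimplexCategory.σ j.succ) (cut (m + 1 + 1) (j.succ : ℕ)) ≫
      W'.map (SimplexCategory.δ j.castSucc.succ).op =
      H f g hfg α α' hP' (SimplexCategory.σ j.castSucc) (cut (m + 1 + 1) (j.castSucc : ℕ)) ≫
      W'.map (SimplexCategory.δ j.castSucc.succ).op
    rw [H_comp_map, H_comp_map]
    apply H_congr
    · have h1 : SimplexCategory.δ j.castSucc.succ ≫ SimplexCategory.σ j.succ = 𝟙 _ :=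
        SimplexCategory.δ_comp_σ_self' (Fin.succ_castSucc j)
      have h2 : SimplexCategory.δ j.castSucc.succ ≫ SimplexCategory.σ j.castSucc = 𝟙 _ :=
        SimplexCategory.δ_comp_σ_succ
      rw [h1, h2]
    · apply hom_ext_one
      intro x
      rw [δ_cut_apply, δ_cut_apply]
      simp only [Fin.val_castSucc, Fin.val_succ]
      split_ifs <;> omega
  h_castSucc_comp_δ_succ_of_lt {m} i j hji := by
    show H f g hfg α α' hP' (SimplexCategory.σ j.castSucc) (cut (m + 1 + 1) (j.castSucc : ℕ)) ≫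
      W'.map (SimplexCategory.δ i.succ).op =
      W.map (SimplexCategory.δ i).op ≫ H f g hfg α α' hP' (SimplexCategory.σ j) (cut (m + 1) (j : ℕ))
    rw [H_comp_map, map_comp_H]
    apply H_congr
    · exact SimplexCategory.δ_comp_σ_of_gt hji
    · apply hom_ext_one
      intro x
      rw [δ_cut_apply, cut_apply]
      have hji' : (j : ℕ) < i := hji
      simp only [Fin.val_castSucc, Fin.val_succ]
      split_ifs <;> omega
  h_comp_σ_castSucc_of_le {m} i j hij := by
    show H f g hfg α α' hP' (SimplexCategory.σ j) (cut (m + 1) (j : ℕ)) ≫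
      W'.map (SimplexCategory.σ i.castSucc).op =
      W.map (SimplexCategory.σ i).op ≫
        H f g hfg α α' hP' (SimplexCategory.σ j.succ) (cut (m + 1 + 1) (j.succ : ℕ))
    rw [H_comp_map, map_comp_H]
    apply H_congr
    · exact SimplexCategory.σ_comp_σ hij
    · apply hom_ext_one
      intro x
      rw [σ_cut_apply, cut_apply]
      have hij' : (i : ℕ) ≤ j := hij
      simp only [Fin.val_castSucc, Fin.val_succ]
      split_ifs <;> omega
  h_comp_σ_succ_of_lt {m} i j hji := by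
    show H f g hfg α α' hP' (SimplexCategory.σ j) (cut (m + 1) (j : ℕ)) ≫
      W'.map (SimplexCategory.σ i.succ).op =
      W.map (SimplexCategory.σ i).op ≫
        H f g hfg α α' hP' (SimplexCategory.σ j.castSucc) (cut (m + 1 + 1) (j.castSucc : ℕ))
    rw [H_comp_map, map_comp_H]
    apply H_congr
    · exact (SimplexCategory.σ_comp_σ hji).symm
    · apply hom_ext_one
      intro x
      rw [σ_cut_apply, cut_apply]
      have hji' : (j : ℕ) ≤ i := hji
      simp only [Fin.val_castSucc, Fin.val_succ]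
      split_ifs <;> omega

end

end Groth.Agent.H92.CoskHomotopy
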