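import Groth.Agent.H92.DimShift

/-!
# Dimension shifting, continued: classical right derived functors

* `r1'`, `rs'`: the dimension shifting isomorphisms for the classical `Functor.rightDerived`.
* `comp_exact`: `R^p(F ⋙ E) X ≅ E (R^p F X)` for `E` exact.
-/

set_option autoImplicit false
universe v v' v'' u u' u''
open CategoryTheory CategoryTheory.Limits
open Groth.Agent.H45.RDP

namespace Groth.Agent.H92.DimShift

variable {A : Type u} [Category.{v} A] [Abelian A] [HasInjectiveResolutions A]
  {B : Type u'} [Category.{v'} B] [Abelian B]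
  (F : A ⥤ B) [F.Additive] [PreservesFiniteLimits F]

theorem r1' {S : ShortComplex A} (hS : S.ShortExact) [Injective S.X₂] :
    Nonempty ((F.rightDerived 1).obj S.X₁ ≅ cokernel (F.map S.g)) := by
  let _ := HasDerivedCategory.standard A
  let _ := HasDerivedCategory.standard B
  have := Groth.Agent.H5.GSS.enoughInjectives_of_hasInjectiveResolutions A
  obtain ⟨a⟩ := Groth.Agent.H5.GSS.nonempty_rnf_iso F S.X₁ 1
  obtain ⟨b⟩ := r1 F hS
  exact ⟨a.symm ≪≫ b⟩

omit [PreservesFiniteLimits F] in
theorem rs' {S : ShortComplex A} (hS : S.ShortExact) [Injective S.X₂] (p : ℕ) :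
    Nonempty ((F.rightDerived (p + 2)).obj S.X₁ ≅ (F.rightDerived (p + 1)).obj S.X₃) := by
  let _ := HasDerivedCategory.standard A
  let _ := HasDerivedCategory.standard B
  have := Groth.Agent.H5.GSS.enoughInjectives_of_hasInjectiveResolutions A
  obtain ⟨a⟩ := Groth.Agent.H5.GSS.nonempty_rnf_iso F S.X₁ (p + 2)
  obtain ⟨c⟩ := Groth.Agent.H5.GSS.nonempty_rnf_iso F S.X₃ (p + 1)
  obtain ⟨b⟩ := rs F hS p
  exact ⟨a.symm ≪≫ b ≪≫ c⟩

/-- Right derived functors commute with postcomposition by an exact functor (objectwise). -/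
theorem comp_exact {B' : Type u''} [Category.{v''} B'] [Abelian B'] (E : B ⥤ B') [E.Additive]
    [PreservesFiniteLimits E] [PreservesFiniteColimits E] (p : ℕ) (X : A) :
    Nonempty (E.obj ((F.rightDerived p).obj X) ≅ ((F ⋙ E).rightDerived p).obj X) := by
  have : PreservesFiniteLimits (F ⋙ E) := comp_preservesFiniteLimits F E
  refine main (F ⋙ E) (fun p X => E.obj ((F.rightDerived p).obj X)) ?_ ?_ ?_ p X
  · intro X
    exact ⟨E.mapIso ((Functor.rightDerivedZeroIsoSelf F).app X)⟩
  · intro S hS hI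
    obtain ⟨a⟩ := r1' F hS
    exact ⟨E.mapIso a ≪≫ PreservesCokernel.iso E (F.map S.g)⟩
  · intro S hS hI p
    obtain ⟨a⟩ := rs' F hS p
    exact ⟨E.mapIso a⟩

end Groth.Agent.H92.DimShift
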