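import Groth.Agent.H31.ExtZeroFlat
import Groth.Agent.H31.FlatSite

/-!
# The equational criterion of flatness on a ringed site with a terminal object (helper92)

`exists_local_trivialisation`: for a flat module `H`, a matrix of global sections `a` of `O` and
global sections `h` of `H` with `∑ j, a i j • h j = 0`, locally `h j = ∑ k, b j k • t k` with
`∑ j, a i j * b j k = 0`.
-/

set_option autoImplicit false
set_option backward.isDefEq.respectTransparency false
universe u
open CategoryTheory CategoryTheory.Limits Opposite MonoidalCategory TensorProduct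

namespace Groth.Agent.H92.EqCrit

open Groth.Agent.H31

variable {C : Type u} [SmallCategory C] {J : GrothendieckTopology C} {O : Sheaf J CommRingCat.{u}}

instance hasFiniteBiproducts_mod : HasFiniteBiproducts (ModSite.Mod O) :=
  HasFiniteBiproducts.of_hasFiniteProducts

/-- the value of a morphism of presheaves of modules on sections -/
noncomputable def sec {A B : PM O} (φ : A ⟶ B) (V : Cᵒᵖ) : A.obj V →+ B.obj V :=
  (((PresheafOfModules.toPresheaf _).map φ).app V).hom

lemma sec_comp {A B D : PM O} (φ : A ⟶ B) (ψ : B ⟶ D) (V : Cᵒᵖ) (a : A.obj V) :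
    sec (φ ≫ ψ) V a = sec ψ V (sec φ V a) := rfl

lemma sec_smul {A B : PM O} (φ : A ⟶ B) (V : Cᵒᵖ) (r : O.obj.obj V) (a : A.obj V) :
    sec φ V (r • a) = r • sec φ V a :=
  (φ.app V).hom.map_smul r a

lemma sec_res {A B : PM O} (φ : A ⟶ B) {V W : Cᵒᵖ} (i : V ⟶ W) (a : A.obj V) :
    sec φ W (A.map i a) = B.map i (sec φ V a) :=
  congrArg (fun f => f.hom a) (((PresheafOfModules.toPresheaf _).map φ).naturality i)

/-- pure tensors as sections of the tensor product presheaf -/
def tm (N M : PM O) (V : Cᵒᵖ) (n : N.obj V) (m : M.obj V) : ↑((N ⊗ M).presheaf.obj V) :=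
  n ⊗ₜ m

lemma sec_whiskerRight_tm {M M' : PM O} (κ : M ⟶ M') (H : PM O) (V : Cᵒᵖ) (k : M.obj V)
    (t : H.obj V) : sec (κ ▷ H) V (tm M H V k t) = tm M' H V (sec κ V k) t := rfl

lemma sec_leftUnitor_tm (H : PM O) (V : Cᵒᵖ) (r : O.obj.obj V) (t : H.obj V) :
    sec (λ_ H).hom V (tm (𝟙_ (PM O)) H V r t) = r • t := rfl

lemma sec_shf_map {A A' : PM O} (h : A ⟶ A') (V : Cᵒᵖ) (a : A.obj V) :
    sec ((toPM O).map ((shf O).map h)) V (sec (η A) V a) = sec (η A') V (sec h V a) := by
  rw [← sec_comp, ← sec_comp]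
  exact congrArg (fun φ => sec φ V a) ((shfAdj O).unit.naturality h).symm

lemma sec_counit (H : ModSite.Mod O) (V : Cᵒᵖ) (x : ((toPM O).obj H).obj V) :
    sec ((toPM O).map ((shfAdj O).counit.app H)) V (sec (η ((toPM O).obj H)) V x) = x := by
  exact congrArg (fun φ => sec φ V x) ((shfAdj O).right_triangle_components H)

/-- the basic computation: `(κ ⊗ H) ≫ λ_H` on (the image of) a pure tensor -/
theorem sec_map_unitIso (M H : ModSite.Mod O)
    (κ : M ⟶ SheafOfModules.unit (ModSite.ringSh O)) (V : Cᵒᵖ)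
    (k : ((toPM O).obj M).obj V) (t : ((toPM O).obj H).obj V) :
    sec ((toPM O).map (((ModSite.tensorBi O).flip.obj H).map κ ≫
        (ExtZero.tensorUnitIso O H).hom)) V
      (sec (η ((toPM O).obj M ⊗ (toPM O).obj H)) V (tm _ _ V k t)) =
      (sec ((toPM O).map κ) V k : O.obj.obj V) • t := by
  have h1 : ((ModSite.tensorBi O).flip.obj H).map κ ≫ (ExtZero.tensorUnitIso O H).hom =
      (shf O).map (((toPM O).map κ ▷ (toPM O).obj H) ≫ (λ_ ((toPM O).obj H)).hom) ≫
        (shfAdj O).counit.app H := by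
    rw [Functor.map_comp, Category.assoc]
    rfl
  rw [h1, Functor.map_comp, sec_comp]
  have h2 := sec_shf_map (((toPM O).map κ ▷ (toPM O).obj H) ≫ (λ_ ((toPM O).obj H)).hom) V
    (tm _ _ V k t)
  have h3 : sec (((toPM O).map κ ▷ (toPM O).obj H) ≫ (λ_ ((toPM O).obj H)).hom) V
      (tm _ _ V k t) = (sec ((toPM O).map κ) V k : O.obj.obj V) • t := by
    rw [sec_comp, sec_whiskerRight_tm]
    exact sec_leftUnitor_tm _ V _ t
  rw [h3] at h2
  refine (congrArg (fun w => sec ((toPM O).map ((shfAdj O).counit.app H)) V w) h2).trans ?_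
  exact sec_counit H V _

/-- sections of a tensor product of sheaves of modules are locally sums of pure tensors -/
theorem exists_local_tensor (N M : PM O) (V : C)
    (z : ((toPM O).obj ((shf O).obj (N ⊗ M))).obj (op V)) :
    ∃ S ∈ J V, ∀ ⦃W : C⦄ (g : W ⟶ V), S g →
      ∃ (ι : Type u) (_ : Fintype ι) (n : ι → N.obj (op W)) (m : ι → M.obj (op W)),
        ((toPM O).obj ((shf O).obj (N ⊗ M))).map g.op z =
          ∑ i, sec (η (N ⊗ M)) (op W) (tm N M (op W) (n i) (m i)) := by
  have hls : Presheaf.IsLocallySurjective J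
      ((PresheafOfModules.toPresheaf _).map (η (N ⊗ M))) :=
    (Presheaf.isLocallySurjective_toSheafify' J (N ⊗ M).presheaf :
      Presheaf.IsLocallySurjective J (toSheafify J (N ⊗ M).presheaf))
  refine ⟨Presheaf.imageSieve ((PresheafOfModules.toPresheaf _).map (η (N ⊗ M))) z,
    hls.imageSieve_mem z, ?_⟩
  intro W g hg
  obtain ⟨w, hw⟩ := hg
  obtain ⟨S, hS⟩ := TensorProduct.exists_finset
    (R := O.obj.obj (op W)) (M := N.obj (op W)) (N := M.obj (op W)) w
  refine ⟨S, inferInstance, fun i => i.1.1, fun i => i.1.2, ?_⟩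
  refine hw.symm.trans ?_
  show sec (η (N ⊗ M)) (op W) w = _
  rw [hS, map_sum]
  exact (Finset.sum_coe_sort S
    (fun i => sec (η (N ⊗ M)) (op W) (tm N M (op W) i.1 i.2))).symm

lemma sec_toPM_zero {A B : ModSite.Mod O} (V : Cᵒᵖ) (x : ((toPM O).obj A).obj V) :
    sec ((toPM O).map (0 : A ⟶ B)) V x = 0 := rfl

lemma sec_toPM_add {A B : ModSite.Mod O} (f g : A ⟶ B) (V : Cᵒᵖ) (x : ((toPM O).obj A).obj V) :
    sec ((toPM O).map (f + g)) V x = sec ((toPM O).map f) V x + sec ((toPM O).map g) V x := rfl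

lemma sec_toPM_sum {A B : ModSite.Mod O} {ι : Type*} (s : Finset ι) (f : ι → (A ⟶ B))
    (V : Cᵒᵖ) (x : ((toPM O).obj A).obj V) :
    sec ((toPM O).map (∑ j ∈ s, f j)) V x = ∑ j ∈ s, sec ((toPM O).map (f j)) V x := by
  classical
  induction s using Finset.induction_on with
  | empty => simp only [Finset.sum_empty]; rfl
  | insert j s hj ih =>
    rw [Finset.sum_insert hj, Finset.sum_insert hj, sec_toPM_add, ih]

section Terminal

variable {T : C} (hT : IsTerminal T)

/-- restriction of a global section -/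
noncomputable def res (M : ModSite.Mod O) (V : Cᵒᵖ) (x : M.val.obj (op T)) : M.val.obj V :=
  M.val.map (hT.from V.unop).op x

/-- a morphism out of the unit is multiplication with the corresponding global section -/
theorem sec_unitHom (M : ModSite.Mod O) (f : SheafOfModules.unit (ModSite.ringSh O) ⟶ M)
    (V : Cᵒᵖ) (r : O.obj.obj V) :
    sec ((toPM O).map f) V r = r • res hT M V (ExtZero.unitHomAddEquiv M hT f) := by
  have h1 : (r : ((toPM O).obj (SheafOfModules.unit (ModSite.ringSh O))).obj V) =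
      r • (1 : O.obj.obj V) := (mul_one r).symm
  have h2 : sec ((toPM O).map f) V (1 : O.obj.obj V) =
      res hT M V (ExtZero.unitHomAddEquiv M hT f) := by
    have h3 := sec_res ((toPM O).map f) (hT.from V.unop).op (1 : O.obj.obj (op T))
    have h4 : ((toPM O).obj (SheafOfModules.unit (ModSite.ringSh O))).map (hT.from V.unop).op
        (1 : O.obj.obj (op T)) = (1 : O.obj.obj V) := PresheafOfModules.unit_map_one _ _
    rw [h4] at h3
    exact h3
  refine (congrArg (fun w => sec ((toPM O).map f) V w) h1).trans ?_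
  exact (sec_smul ((toPM O).map f) V r (1 : O.obj.obj V)).trans (congrArg (fun w => r • w) h2)

/-- the endomorphism of the unit attached to a global section -/
noncomputable def uHom (a : O.obj.obj (op T)) :
    SheafOfModules.unit (ModSite.ringSh O) ⟶ SheafOfModules.unit (ModSite.ringSh O) :=
  (ExtZero.unitHomAddEquiv (SheafOfModules.unit (ModSite.ringSh O)) hT).symm a

/-- the morphism from the unit attached to a global section -/
noncomputable def sHom (M : ModSite.Mod O) (x : M.val.obj (op T)) :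
    SheafOfModules.unit (ModSite.ringSh O) ⟶ M :=
  (ExtZero.unitHomAddEquiv M hT).symm x

theorem unitHomAddEquiv_sHom (M : ModSite.Mod O) (x : M.val.obj (op T)) :
    ExtZero.unitHomAddEquiv M hT (sHom hT M x) = x :=
  (ExtZero.unitHomAddEquiv M hT).apply_symm_apply x

theorem sec_sHom (M : ModSite.Mod O) (x : M.val.obj (op T)) (V : Cᵒᵖ) (r : O.obj.obj V) :
    sec ((toPM O).map (sHom hT M x)) V r = r • res hT M V x := by
  rw [sec_unitHom hT, unitHomAddEquiv_sHom]

theorem sec_uHom (a : O.obj.obj (op T)) (V : Cᵒᵖ) (r : O.obj.obj V) :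
    sec ((toPM O).map (uHom hT a)) V r =
      (r * O.obj.map (hT.from V.unop).op a : O.obj.obj V) :=
  sec_sHom hT (SheafOfModules.unit (ModSite.ringSh O)) a V r

theorem res_self (M : ModSite.Mod O) (x : M.val.obj (op T)) : res hT M (op T) x = x := by
  have h3 : (hT.from T).op = 𝟙 (op T) := Quiver.Hom.unop_inj (hT.hom_ext _ _)
  unfold res
  refine (M.val.congr_map_apply h3 x).trans ?_
  rw [PresheafOfModules.map_id]
  rfl

variable (H : ModSite.Mod O)

theorem sec_unitIso_hom (V : Cᵒᵖ) (r : O.obj.obj V) (x : ((toPM O).obj H).obj V) :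
    sec ((toPM O).map (ExtZero.tensorUnitIso O H).hom) V
      (sec (η ((toPM O).obj (SheafOfModules.unit (ModSite.ringSh O)) ⊗ (toPM O).obj H)) V
        (tm _ _ V r x)) = r • x := by
  have h := sec_map_unitIso (SheafOfModules.unit (ModSite.ringSh O)) H (𝟙 _) V r x
  have e1 : ((ModSite.tensorBi O).flip.obj H).map
      (𝟙 (SheafOfModules.unit (ModSite.ringSh O))) ≫ (ExtZero.tensorUnitIso O H).hom =
      (ExtZero.tensorUnitIso O H).hom := by
    rw [CategoryTheory.Functor.map_id, Category.id_comp]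
  rw [e1] at h
  exact h

theorem sec_unitIso_inv (V : Cᵒᵖ) (x : ((toPM O).obj H).obj V) :
    sec ((toPM O).map (ExtZero.tensorUnitIso O H).inv) V x =
      sec (η ((toPM O).obj (SheafOfModules.unit (ModSite.ringSh O)) ⊗ (toPM O).obj H)) V
        (tm _ _ V (1 : O.obj.obj V) x) := by
  have h1 := sec_unitIso_hom H V (1 : O.obj.obj V) x
  rw [one_smul] at h1
  have h2 : ∀ y, sec ((toPM O).map (ExtZero.tensorUnitIso O H).inv) V
      (sec ((toPM O).map (ExtZero.tensorUnitIso O H).hom) V y) = y := by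
    intro y
    rw [← sec_comp, ← Functor.map_comp, Iso.hom_inv_id, CategoryTheory.Functor.map_id]
    rfl
  have h3 := congrArg (fun w => sec ((toPM O).map (ExtZero.tensorUnitIso O H).inv) V w) h1
  exact h3.symm.trans (h2 _)

/-- multiplication by a global section, defined through the tensor product -/
noncomputable def gs (a : O.obj.obj (op T)) : H ⟶ H :=
  (ExtZero.tensorUnitIso O H).inv ≫ ((ModSite.tensorBi O).flip.obj H).map (uHom hT a) ≫
    (ExtZero.tensorUnitIso O H).hom

theorem sec_gs (a : O.obj.obj (op T)) (V : Cᵒᵖ) (x : ((toPM O).obj H).obj V) :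
    sec ((toPM O).map (gs hT H a)) V x =
      (O.obj.map (hT.from V.unop).op a : O.obj.obj V) • x := by
  unfold gs
  rw [Functor.map_comp, sec_comp]
  have h1 := sec_unitIso_inv H V x
  have h2 := sec_map_unitIso (SheafOfModules.unit (ModSite.ringSh O)) H (uHom hT a) V
    (1 : O.obj.obj V) x
  rw [sec_uHom, one_mul] at h2
  exact (congrArg (fun w => sec ((toPM O).map (((ModSite.tensorBi O).flip.obj H).map (uHom hT a) ≫
    (ExtZero.tensorUnitIso O H).hom)) V w) h1).trans h2

theorem unitHomAddEquiv_comp_gs (f : SheafOfModules.unit (ModSite.ringSh O) ⟶ H)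
    (a : O.obj.obj (op T)) :
    ExtZero.unitHomAddEquiv H hT (f ≫ gs hT H a) = a • ExtZero.unitHomAddEquiv H hT f := by
  have h1 : ExtZero.unitHomAddEquiv H hT (f ≫ gs hT H a) =
      sec ((toPM O).map (gs hT H a)) (op T) (ExtZero.unitHomAddEquiv H hT f) := rfl
  rw [h1, sec_gs]
  have h3 : (hT.from T).op = 𝟙 (op T) := Quiver.Hom.unop_inj (hT.hom_ext _ _)
  have h4 : (O.obj.map (hT.from (unop (op T))).op) = 𝟙 _ := by
    show O.obj.map (hT.from T).op = 𝟙 _
    rw [h3, CategoryTheory.Functor.map_id]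
  rw [h4]
  rfl

/-- a section over `V` of a global morphism from the unit -/
theorem sec_one_eq_map (M : ModSite.Mod O) (f : SheafOfModules.unit (ModSite.ringSh O) ⟶ M)
    {V : C} (g : V ⟶ T) :
    sec ((toPM O).map f) (op V) (1 : O.obj.obj (op V)) =
      ((toPM O).obj M).map g.op (ExtZero.unitHomAddEquiv M hT f) := by
  rw [sec_unitHom hT, one_smul]
  unfold res
  have : hT.from (unop (op V)) = g := hT.hom_ext _ _
  rw [this]
  rfl

include hT in
/-- **Equational criterion** (matrix form): relations between sections of a flat module are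
locally trivial. -/
theorem exists_local_trivialisation (hH : ModSite.IsFlat H) {n m : ℕ}
    (a : Fin m → Fin n → O.obj.obj (op T)) (h : Fin n → ((toPM O).obj H).obj (op T))
    (hrel : ∀ i, ∑ j, (a i j) • h j = 0) :
    ∃ S ∈ J T, ∀ ⦃V : C⦄ (g : V ⟶ T), S g →
      ∃ (ι : Type u) (_ : Fintype ι) (t : ι → ((toPM O).obj H).obj (op V))
        (b : Fin n → ι → O.obj.obj (op V)),
        (∀ j, ((toPM O).obj H).map g.op (h j) = ∑ k, b j k • t k) ∧
        (∀ i k, ∑ j, b j k * O.obj.map g.op (a i j) = 0) := by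
  classical
  obtain ⟨hlim, _⟩ := hH
  have : PreservesFiniteLimits ((ModSite.tensorBi O).flip.obj H) := hlim
  let U := SheafOfModules.unit (ModSite.ringSh O)
  let ψ : (⨁ fun _ : Fin n => U) ⟶ (⨁ fun _ : Fin m => U) :=
    biproduct.matrix (fun j i => uHom hT (a i j))
  let Sx : ShortComplex (ModSite.Mod O) := ShortComplex.mk (kernel.ι ψ) ψ (kernel.condition ψ)
  have hSx : Sx.Exact := ShortComplex.kernelSequence_exact ψ
  have hmono : Mono Sx.f := by
    show Mono (kernel.ι ψ)
    infer_instance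
  have hex : (Sx.map ((ModSite.tensorBi O).flip.obj H)).Exact :=
    hSx.map_of_mono_of_preservesKernel _ hmono inferInstance
  have hmono' : Mono (Sx.map ((ModSite.tensorBi O).flip.obj H)).f := by
    show Mono (((ModSite.tensorBi O).flip.obj H).map (kernel.ι ψ))
    infer_instance
  -- the section `h` as a morphism into the tensor product
  let h' : U ⟶ ((ModSite.tensorBi O).flip.obj H).obj (⨁ fun _ : Fin n => U) :=
    ∑ j, sHom hT H (h j) ≫ (ExtZero.tensorUnitIso O H).inv ≫
      ((ModSite.tensorBi O).flip.obj H).map (biproduct.ι (fun _ : Fin n => U) j)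
  have hgs0 : ∀ i, ∑ j, sHom hT H (h j) ≫ gs hT H (a i j) = 0 := by
    intro i
    apply (ExtZero.unitHomAddEquiv H hT).injective
    rw [map_sum, map_zero]
    refine Eq.trans (Finset.sum_congr rfl (fun j _ => ?_)) (hrel i)
    rw [unitHomAddEquiv_comp_gs, unitHomAddEquiv_sHom]
  have hz : h' ≫ ((ModSite.tensorBi O).flip.obj H).map ψ = 0 := by
    have key : ∀ j, (sHom hT H (h j) ≫ (ExtZero.tensorUnitIso O H).inv ≫
        ((ModSite.tensorBi O).flip.obj H).map (biproduct.ι (fun _ : Fin n => U) j)) ≫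
        ((ModSite.tensorBi O).flip.obj H).map ψ =
        ∑ i, (sHom hT H (h j) ≫ gs hT H (a i j)) ≫ (ExtZero.tensorUnitIso O H).inv ≫
          ((ModSite.tensorBi O).flip.obj H).map (biproduct.ι (fun _ : Fin m => U) i) := by
      intro j
      have e1 : biproduct.ι (fun _ : Fin n => U) j ≫ ψ =
          ∑ i, uHom hT (a i j) ≫ biproduct.ι (fun _ : Fin m => U) i := by
        rw [biproduct.ι_matrix, biproduct.lift_eq]
      rw [Category.assoc, Category.assoc, ← Functor.map_comp, e1, Functor.map_sum,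
        Preadditive.comp_sum, Preadditive.comp_sum]
      refine Finset.sum_congr rfl (fun i _ => ?_)
      unfold gs
      simp only [Functor.map_comp, Category.assoc, Iso.hom_inv_id_assoc]
    show (∑ j, sHom hT H (h j) ≫ (ExtZero.tensorUnitIso O H).inv ≫
      ((ModSite.tensorBi O).flip.obj H).map (biproduct.ι (fun _ : Fin n => U) j)) ≫
      ((ModSite.tensorBi O).flip.obj H).map ψ = 0
    rw [Preadditive.sum_comp]
    rw [Finset.sum_congr rfl (fun j _ => key j), Finset.sum_comm]
    refine Finset.sum_eq_zero (fun i _ => ?_)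
    rw [← Preadditive.sum_comp, hgs0 i, zero_comp]
  have hzf : hex.lift h' hz ≫ ((ModSite.tensorBi O).flip.obj H).map (kernel.ι ψ) = h' :=
    hex.lift_f h' hz
  obtain ⟨z, hzdef⟩ : ∃ z : U ⟶ ((ModSite.tensorBi O).flip.obj H).obj (kernel ψ),
    z = hex.lift h' hz := ⟨_, rfl⟩
  rw [← hzdef] at hzf
  -- recover the sections from `z`
  have hrec : ∀ j, sHom hT H (h j) = z ≫ ((ModSite.tensorBi O).flip.obj H).map
      (kernel.ι ψ ≫ biproduct.π (fun _ : Fin n => U) j) ≫ (ExtZero.tensorUnitIso O H).hom := by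
    intro j
    rw [Functor.map_comp, Category.assoc, ← Category.assoc z, hzf]
    show _ = (∑ j', sHom hT H (h j') ≫ (ExtZero.tensorUnitIso O H).inv ≫
      ((ModSite.tensorBi O).flip.obj H).map (biproduct.ι (fun _ : Fin n => U) j')) ≫ _
    rw [Preadditive.sum_comp]
    rw [Finset.sum_eq_single j]
    · simp only [Category.assoc]
      rw [← Functor.map_comp_assoc, biproduct.ι_π_self, CategoryTheory.Functor.map_id,
        Category.id_comp, Iso.inv_hom_id, Category.comp_id]
    · intro j' _ hj'
      simp only [Category.assoc]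
      rw [← Functor.map_comp_assoc, biproduct.ι_π_ne _ hj', Functor.map_zero, zero_comp,
        comp_zero, comp_zero]
    · intro hj
      exact absurd (Finset.mem_univ j) hj
  obtain ⟨S, hS, hS'⟩ := exists_local_tensor ((toPM O).obj (kernel ψ)) ((toPM O).obj H) T
    (ExtZero.unitHomAddEquiv _ hT z)
  refine ⟨S, hS, fun V g hg => ?_⟩
  obtain ⟨ι, hι, k, t, hkt⟩ := hS' g hg
  refine ⟨ι, hι, t, fun j l => (sec ((toPM O).map
    (kernel.ι ψ ≫ biproduct.π (fun _ : Fin n => U) j)) (op V) (k l) : O.obj.obj (op V)), ?_, ?_⟩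
  · intro j
    have h1 := sec_one_eq_map hT H (sHom hT H (h j)) g
    rw [unitHomAddEquiv_sHom] at h1
    rw [← h1, hrec j, Functor.map_comp, sec_comp]
    have h2 := sec_one_eq_map hT _ z g
    rw [h2]
    refine (congrArg (fun w => sec ((toPM O).map (((ModSite.tensorBi O).flip.obj H).map
      (kernel.ι ψ ≫ biproduct.π (fun _ : Fin n => U) j) ≫ (ExtZero.tensorUnitIso O H).hom))
      (op V) w) hkt).trans ?_
    rw [map_sum]
    refine Finset.sum_congr rfl (fun l _ => ?_)
    exact sec_map_unitIso (kernel ψ) H _ (op V) (k l) (t l)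
  · intro i l
    have e2 : ∑ j, (kernel.ι ψ ≫ biproduct.π (fun _ : Fin n => U) j) ≫ uHom hT (a i j) = 0 := by
      have e3 : ψ ≫ biproduct.π (fun _ : Fin m => U) i =
          ∑ j, biproduct.π (fun _ : Fin n => U) j ≫ uHom hT (a i j) := by
        rw [biproduct.matrix_π, biproduct.desc_eq]
      have e4 := kernel.condition ψ =≫ biproduct.π (fun _ : Fin m => U) i
      rw [Category.assoc, e3, zero_comp, Preadditive.comp_sum] at e4
      simpa only [Category.assoc] using e4
    have e5 : sec ((toPM O).map (∑ j, (kernel.ι ψ ≫ biproduct.π (fun _ : Fin n => U) j) ≫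
        uHom hT (a i j))) (op V) (k l) =
        sec ((toPM O).map (0 : kernel ψ ⟶ U)) (op V) (k l) := by rw [e2]
    rw [sec_toPM_sum, sec_toPM_zero] at e5
    refine Eq.trans (Finset.sum_congr rfl (fun j _ => ?_)) e5
    have e6 : sec ((toPM O).map ((kernel.ι ψ ≫ biproduct.π (fun _ : Fin n => U) j) ≫
        uHom hT (a i j))) (op V) (k l) =
        sec ((toPM O).map (uHom hT (a i j))) (op V)
          (sec ((toPM O).map (kernel.ι ψ ≫ biproduct.π (fun _ : Fin n => U) j)) (op V) (k l)) := by
      rw [Functor.map_comp, sec_comp]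
    refine Eq.trans ?_ e6.symm
    refine Eq.trans ?_ (sec_uHom hT (a i j) (op V) _).symm
    have : hT.from (unop (op V)) = g := hT.hom_ext _ _
    rw [this]

end Terminal

end Groth.Agent.H92.EqCrit
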