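import Groth.Agent.H92.EqCritObj
import Groth.Agent.H92.SheafLocal

/-!
# The converse of the equational criterion of flatness on a ringed site (helper92)

If every relation between sections of `F` is locally trivial, then `F` is flat.
-/

set_option autoImplicit false
set_option backward.isDefEq.respectTransparency false
universe u
open CategoryTheory CategoryTheory.Limits Opposite MonoidalCategory TensorProduct

namespace Groth.Agent.H92.EqCritConv

open Groth.Agent.H31 Groth.Agent.H92.EqCrit

variable {C : Type u} [SmallCategory C] {J : GrothendieckTopology C} {O : Sheaf J CommRingCat.{u}}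

/-- restriction of sections of `O` -/
def rO {U V : C} (g : V ⟶ U) : O.obj.obj (op U) →+* O.obj.obj (op V) := (O.obj.map g.op).hom

/-- restriction of sections of a presheaf of modules -/
noncomputable def rM (A : PM O) {U V : C} (g : V ⟶ U) : A.obj (op U) →+ A.obj (op V) :=
  (LinearMap.toAddMonoidHom (A.map g.op).hom : A.obj (op U) →+ A.obj (op V))

lemma rM_smul (A : PM O) {U V : C} (g : V ⟶ U) (r : O.obj.obj (op U)) (s : A.obj (op U)) :
    rM A g (r • s) = rO g r • rM A g s :=
  PresheafOfModules.map_smul A g.op r s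

lemma rM_comp (A : PM O) {U V W : C} (g : V ⟶ U) (h : W ⟶ V) (s : A.obj (op U)) :
    rM A (h ≫ g) s = rM A h (rM A g s) :=
  PresheafOfModules.map_comp_apply A g.op h.op s

lemma rO_comp {U V W : C} (g : V ⟶ U) (h : W ⟶ V) (r : O.obj.obj (op U)) :
    rO (h ≫ g) r = rO h (rO g r) := by
  show (O.obj.map (h ≫ g).op).hom r = (O.obj.map h.op).hom ((O.obj.map g.op).hom r)
  rw [op_comp, O.obj.map_comp]
  rfl

lemma rM_tm (A B : PM O) {U V : C} (g : V ⟶ U) (n : A.obj (op U)) (m : B.obj (op U)) :
    rM (A ⊗ B) g (tm A B (op U) n m) = tm A B (op V) (rM A g n) (rM B g m) := rfl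

lemma sec_rM {A B : PM O} (φ : A ⟶ B) {U V : C} (g : V ⟶ U) (a : A.obj (op U)) :
    sec φ (op V) (rM A g a) = rM B g (sec φ (op U) a) :=
  sec_res φ g.op a

/-- the equational condition: relations between sections are locally trivial -/
def EC (F : ModSite.Mod O) : Prop :=
  ∀ (U : C) (n : ℕ) (f : Fin n → O.obj.obj (op U)) (s : Fin n → ModSite.sect F U),
    ∑ j, f j • s j = 0 →
    ∃ S ∈ J U, ∀ ⦃V : C⦄ (g : V ⟶ U), S g →
      ∃ (l : ℕ) (t : Fin l → ModSite.sect F V) (a : Fin n → Fin l → O.obj.obj (op V)),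
        (∀ j, (F.val.map g.op).hom (s j) = ∑ k, a j k • t k) ∧
        (∀ k, ∑ j, a j k * (O.obj.map g.op).hom (f j) = 0)

/-- the sieve of arrows on which a family of relations becomes trivial -/
def Triv (A : PM O) {U : C} {n m : ℕ} (a : Fin m → Fin n → O.obj.obj (op U))
    (s : Fin n → A.obj (op U)) : Sieve U where
  arrows V g := ∃ (l : ℕ) (t : Fin l → A.obj (op V)) (b : Fin n → Fin l → O.obj.obj (op V)),
    (∀ j, rM A g (s j) = ∑ k, b j k • t k) ∧ (∀ i k, ∑ j, b j k * rO g (a i j) = 0)
  downward_closed := by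
    rintro V W g ⟨l, t, b, h1, h2⟩ h
    refine ⟨l, fun k => rM A h (t k), fun j k => rO h (b j k), ?_, ?_⟩
    · intro j
      rw [rM_comp, h1 j, map_sum]
      exact Finset.sum_congr rfl (fun k _ => rM_smul A h _ _)
    · intro i k
      have e := congrArg (rO h) (h2 i k)
      rw [map_sum, map_zero] at e
      refine Eq.trans (Finset.sum_congr rfl (fun j _ => ?_)) e
      rw [map_mul, rO_comp]

/-- the equational condition for one relation implies it for finitely many relations -/
theorem triv_mem (F : ModSite.Mod O) (hEC : EC F) : ∀ (m : ℕ) (U : C) (n : ℕ)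
    (a : Fin m → Fin n → O.obj.obj (op U)) (s : Fin n → ((toPM O).obj F).obj (op U)),
    (∀ i, ∑ j, a i j • s j = 0) → Triv ((toPM O).obj F) a s ∈ J U := by
  classical
  intro m
  induction m with
  | zero =>
    intro U n a s _
    refine J.superset_covering (fun V g _ => ?_) (J.top_mem U)
    refine ⟨n, fun k => rM _ g (s k), fun j k => if j = k then 1 else 0, ?_, fun i => i.elim0⟩
    intro j
    rw [Finset.sum_eq_single j]
    · beta_reduce
      rw [if_pos rfl, one_smul]
    · intro k _ hk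
      beta_reduce
      rw [if_neg (Ne.symm hk), zero_smul]
    · intro hj
      exact absurd (Finset.mem_univ j) hj
  | succ m ih =>
    intro U n a s hrel
    obtain ⟨S₁, hS₁, hS₁'⟩ := hEC U n (a (Fin.last m)) s (hrel (Fin.last m))
    refine J.transitive hS₁ _ (fun V g hg => ?_)
    obtain ⟨l, t, b, h1, h2⟩ := hS₁' g hg
    have h1' : ∀ j, rM ((toPM O).obj F) g (s j) = ∑ k, b j k • t k := h1
    have h2' : ∀ k, ∑ j, b j k * rO g (a (Fin.last m) j) = 0 := h2
    let a' : Fin m → Fin l → O.obj.obj (op V) :=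
      fun i k => ∑ j, rO g (a i.castSucc j) * b j k
    have hrel' : ∀ i, ∑ k, a' i k • (t k : ((toPM O).obj F).obj (op V)) = 0 := by
      intro i
      have e1 : rM ((toPM O).obj F) g (∑ j, a i.castSucc j • s j) = 0 := by
        rw [hrel i.castSucc, map_zero]
      rw [map_sum] at e1
      refine Eq.trans ?_ e1
      have e2 : ∀ j, rM ((toPM O).obj F) g (a i.castSucc j • s j) =
          ∑ k, (rO g (a i.castSucc j) * b j k) • t k := by
        intro j
        rw [rM_smul, h1' j, Finset.smul_sum]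
        exact Finset.sum_congr rfl (fun k _ => smul_smul _ _ _)
      rw [Finset.sum_congr rfl (fun j _ => e2 j), Finset.sum_comm]
      exact Finset.sum_congr rfl (fun k _ => Finset.sum_smul)
    have hT := ih V l a' t hrel'
    refine J.superset_covering ?_ hT
    rintro W h ⟨l', u, c, h3, h4⟩
    refine ⟨l', u, fun j r => ∑ k, rO h (b j k) * c k r, ?_, ?_⟩
    · intro j
      rw [rM_comp, h1' j, map_sum]
      have e3 : ∀ k, rM ((toPM O).obj F) h (b j k • t k) = ∑ r, (rO h (b j k) * c k r) • u r := by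
        intro k
        rw [rM_smul, h3 k, Finset.smul_sum]
        exact Finset.sum_congr rfl (fun r _ => smul_smul _ _ _)
      rw [Finset.sum_congr rfl (fun k _ => e3 k), Finset.sum_comm]
      exact Finset.sum_congr rfl (fun r _ => Finset.sum_smul.symm)
    · intro i r
      have key : ∀ (x : Fin n → O.obj.obj (op U)),
          ∑ j, (∑ k, rO h (b j k) * c k r) * rO (h ≫ g) (x j) =
            ∑ k, c k r * rO h (∑ j, rO g (x j) * b j k) := by
        intro x
        have e4 : ∀ j, (∑ k, rO h (b j k) * c k r) * rO (h ≫ g) (x j) =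
            ∑ k, c k r * (rO h (rO g (x j)) * rO h (b j k)) := by
          intro j
          rw [Finset.sum_mul, rO_comp]
          exact Finset.sum_congr rfl (fun k _ => by ring)
        rw [Finset.sum_congr rfl (fun j _ => e4 j), Finset.sum_comm]
        refine Finset.sum_congr rfl (fun k _ => ?_)
        rw [map_sum, Finset.mul_sum]
        exact Finset.sum_congr rfl (fun j _ => by rw [map_mul])
      rw [key]
      refine Fin.lastCases ?_ (fun i' => ?_) i
      · refine Finset.sum_eq_zero (fun k _ => ?_)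
        have e5 : ∑ j, rO g (a (Fin.last m) j) * b j k = 0 := by
          refine Eq.trans (Finset.sum_congr rfl (fun j _ => mul_comm _ _)) (h2' k)
        rw [e5, map_zero, mul_zero]
      · exact h4 i' r

/-- an algebraic consequence of the vanishing of a sum of pure tensors -/
theorem exists_data_of_tmul_eq_zero {R : Type u} [CommRing R] {M' M P : Type u}
    [AddCommGroup M'] [Module R M'] [AddCommGroup M] [Module R M] [AddCommGroup P] [Module R P]
    (ι : M' →ₗ[R] M) {p : ℕ} (m' : Fin p → M') (x : Fin p → P)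
    (h : ∑ i, ι (m' i) ⊗ₜ[R] x i = (0 : M ⊗[R] P)) :
    ∃ (l : ℕ) (y : Fin l → P) (a : Fin p → Fin l → R) (q : ℕ) (a' : Fin q → Fin l → R)
      (m'' : Fin q → M),
      (∀ i, x i = ∑ j, a i j • y j) ∧ (∀ k, ∑ j, a' k j • y j = 0) ∧
      (∀ j, ∑ i, a i j • ι (m' i) + ∑ k, a' k j • m'' k = 0) := by
  classical
  let M₀ : Submodule R M := Submodule.span R (Set.range (fun i => ι (m' i)))
  have hM₀ : M₀.FG := Submodule.fg_span (Set.finite_range _)
  have hmem : ∀ i, ι (m' i) ∈ M₀ := fun i => Submodule.subset_span ⟨i, rfl⟩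
  let t : M₀ ⊗[R] P := ∑ i, (⟨ι (m' i), hmem i⟩ : M₀) ⊗ₜ[R] x i
  have ht : M₀.subtype.rTensor P t = M₀.subtype.rTensor P 0 := by
    rw [map_zero, map_sum]
    exact h
  obtain ⟨M₁, hM₁, hle, heq⟩ := hM₀.exists_rTensor_fg_inclusion_eq ht
  obtain ⟨q, g, hg⟩ := Submodule.fg_iff_exists_fin_generating_family.1 hM₁
  have hgmem : ∀ k, g k ∈ M₁ := fun k => hg ▸ Submodule.subset_span ⟨k, rfl⟩
  let mm : Fin p ⊕ Fin q → M₁ :=
    Sum.elim (fun i => ⟨ι (m' i), hle (hmem i)⟩) (fun k => ⟨g k, hgmem k⟩)
  let nn : Fin p ⊕ Fin q → P := Sum.elim x (fun _ => 0)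
  have hspan : Submodule.span R (Set.range mm) = ⊤ := by
    apply Submodule.map_injective_of_injective M₁.injective_subtype
    rw [Submodule.map_span, Submodule.map_top, Submodule.range_subtype]
    apply le_antisymm
    · rw [Submodule.span_le]
      rintro _ ⟨_, ⟨i, rfl⟩, rfl⟩
      exact (mm i).2
    · refine hg.symm.le.trans (Submodule.span_mono ?_)
      rintro _ ⟨k, rfl⟩
      exact ⟨mm (Sum.inr k), ⟨Sum.inr k, rfl⟩, rfl⟩
  have hsum : ∑ i, mm i ⊗ₜ[R] nn i = (0 : M₁ ⊗[R] P) := by
    rw [Fintype.sum_sum_type]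
    have e1 : ∑ k : Fin q, mm (Sum.inr k) ⊗ₜ[R] nn (Sum.inr k) = 0 :=
      Finset.sum_eq_zero (fun k _ => TensorProduct.tmul_zero _ _)
    rw [e1, add_zero]
    rw [map_zero, map_sum] at heq
    exact heq
  obtain ⟨l, a, y, h1, h2⟩ := TensorProduct.vanishesTrivially_of_sum_tmul_eq_zero R hspan hsum
  refine ⟨l, y, fun i j => a (Sum.inl i) j, q, fun k j => a (Sum.inr k) j, g, ?_, ?_, ?_⟩
  · intro i
    exact h1 (Sum.inl i)
  · intro k
    exact (h1 (Sum.inr k)).symm
  · intro j
    have e2 := congrArg M₁.subtype (h2 j)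
    rw [Fintype.sum_sum_type, map_add, map_sum, map_sum, map_zero] at e2
    refine Eq.trans ?_ e2
    congr 1

/-- presheaf-level local injectivity of `N' ⊗ F ⟶ N ⊗ F` for a monomorphism `N' ⟶ N` -/
theorem exists_cover_tm_eq_zero (F : ModSite.Mod O) (hEC : EC F) {N' N : ModSite.Mod O}
    (i : N' ⟶ N) [Mono i] (W : C) {p : ℕ}
    (n' : Fin p → ((toPM O).obj N').obj (op W)) (x : Fin p → ((toPM O).obj F).obj (op W))
    (h : ∑ e, tm ((toPM O).obj N) ((toPM O).obj F) (op W)
      (sec ((toPM O).map i) (op W) (n' e)) (x e) = 0) :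
    ∃ S ∈ J W, ∀ ⦃W'' : C⦄ (q : W'' ⟶ W), S q →
      ∑ e, tm ((toPM O).obj N') ((toPM O).obj F) (op W'')
        (rM ((toPM O).obj N') q (n' e)) (rM ((toPM O).obj F) q (x e)) = 0 := by
  classical
  let ι : ((toPM O).obj N').obj (op W) →ₗ[O.obj.obj (op W)] ((toPM O).obj N).obj (op W) :=
    (((toPM O).map i).app (op W)).hom
  have h' : ∑ e, ι (n' e) ⊗ₜ[O.obj.obj (op W)] x e =
      (0 : ((toPM O).obj N).obj (op W) ⊗[O.obj.obj (op W)] ((toPM O).obj F).obj (op W)) := h
  obtain ⟨l, y, a, q, a', m'', hx, hy, hm⟩ := exists_data_of_tmul_eq_zero ι n' x h'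
  have hT := triv_mem F hEC q W l a' y hy
  refine ⟨_, hT, ?_⟩
  rintro W'' q' ⟨l', t, b, h3, h4⟩
  have hmono : Mono ((toPM O).map i) := inferInstance
  have hinj : Function.Injective (sec ((toPM O).map i) (op W'')) :=
    PresheafOfModules.injective_of_mono ((toPM O).map i) (op W'')
  let c : Fin p → Fin l' → O.obj.obj (op W'') := fun e r => ∑ j, rO q' (a e j) * b j r
  -- Step a
  have ha : ∀ e, rM ((toPM O).obj F) q' (x e) = ∑ r, c e r • t r := by
    intro e
    rw [hx e, map_sum]
    have e1 : ∀ j, rM ((toPM O).obj F) q' (a e j • y j) = ∑ r, (rO q' (a e j) * b j r) • t r := by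
      intro j
      rw [rM_smul, h3 j, Finset.smul_sum]
      exact Finset.sum_congr rfl (fun r _ => smul_smul _ _ _)
    rw [Finset.sum_congr rfl (fun j _ => e1 j), Finset.sum_comm]
    exact Finset.sum_congr rfl (fun r _ => Finset.sum_smul.symm)
  -- Step b
  have hb : ∀ r, ∑ e, c e r • rM ((toPM O).obj N') q' (n' e) = 0 := by
    intro r
    apply hinj
    rw [map_zero, map_sum]
    have e2 : ∀ e, sec ((toPM O).map i) (op W'') (c e r • rM ((toPM O).obj N') q' (n' e)) =
        ∑ j, b j r • rM ((toPM O).obj N) q' (a e j • ι (n' e)) := by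
      intro e
      rw [sec_smul, sec_rM, Finset.sum_smul]
      refine Finset.sum_congr rfl (fun j _ => ?_)
      rw [rM_smul, smul_smul, mul_comm]
      rfl
    rw [Finset.sum_congr rfl (fun e _ => e2 e), Finset.sum_comm]
    have e3 : ∀ j, ∑ e, b j r • rM ((toPM O).obj N) q' (a e j • ι (n' e)) =
        - ∑ k, (b j r * rO q' (a' k j)) • rM ((toPM O).obj N) q' (m'' k) := by
      intro j
      rw [← Finset.smul_sum, ← map_sum]
      have e4 : ∑ e, a e j • ι (n' e) = - ∑ k, a' k j • m'' k := eq_neg_of_add_eq_zero_left (hm j)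
      rw [e4, map_neg, smul_neg, map_sum, Finset.smul_sum]
      congr 1
      refine Finset.sum_congr rfl (fun k _ => ?_)
      rw [rM_smul, smul_smul]
    rw [Finset.sum_congr rfl (fun j _ => e3 j), Finset.sum_neg_distrib, Finset.sum_comm,
      neg_eq_zero]
    refine Finset.sum_eq_zero (fun k _ => ?_)
    rw [← Finset.sum_smul, h4 k r, zero_smul]
  -- Step c
  have hc : ∀ e, tm ((toPM O).obj N') ((toPM O).obj F) (op W'')
      (rM ((toPM O).obj N') q' (n' e)) (rM ((toPM O).obj F) q' (x e)) =
      ∑ r, (c e r • rM ((toPM O).obj N') q' (n' e)) ⊗ₜ[O.obj.obj (op W'')] t r := by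
    intro e
    rw [ha e]
    show (rM ((toPM O).obj N') q' (n' e)) ⊗ₜ[O.obj.obj (op W'')] (∑ r, c e r • t r) = _
    rw [TensorProduct.tmul_sum]
    exact Finset.sum_congr rfl (fun r _ => (TensorProduct.smul_tmul _ _ _).symm)
  rw [Finset.sum_congr rfl (fun e _ => hc e), Finset.sum_comm]
  refine Finset.sum_eq_zero (fun r _ => ?_)
  rw [← TensorProduct.sum_tmul, hb r, TensorProduct.zero_tmul]

/-- separatedness of a sheaf of modules -/
theorem eq_zero_of_cover' (M : ModSite.Mod O) {V : C} (z : ((toPM O).obj M).obj (op V))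
    (S : Sieve V) (hS : S ∈ J V)
    (h : ∀ ⦃W : C⦄ (g : W ⟶ V), S g → rM ((toPM O).obj M) g z = 0) : z = 0 :=
  SheafLocal.eq_zero_of_cover (ModSite.toAb M) z S hS (fun W g hg => h g hg)

/-- the sheafification map is locally injective -/
theorem exists_cover_of_η_eq_zero (A : PM O) {W : C} (w : A.obj (op W))
    (h : sec (η A) (op W) w = 0) :
    ∃ S ∈ J W, ∀ ⦃W' : C⦄ (g : W' ⟶ W), S g → rM A g w = 0 := by
  have hli : Presheaf.IsLocallyInjective J ((PresheafOfModules.toPresheaf _).map (η A)) :=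
    (Presheaf.isLocallyInjective_toSheafify' J A.presheaf :
      Presheaf.IsLocallyInjective J (toSheafify J A.presheaf))
  have h0 : sec (η A) (op W) w = sec (η A) (op W) 0 := by rw [h, map_zero]
  refine ⟨Presheaf.equalizerSieve (F := A.presheaf) (X := op W) w 0,
    hli.equalizerSieve_mem w 0 h0, ?_⟩
  intro W' g hg
  have hg' : rM A g w = rM A g 0 := hg
  rw [hg', map_zero]

/-- **Converse of the equational criterion**: a module whose relations are locally trivial is
flat. -/
theorem isFlat_of_EC (F : ModSite.Mod O) (hEC : EC F) : ModSite.IsFlat F := by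
  classical
  rw [isFlat_iff_preservesMonomorphisms]
  constructor
  intro N' N i hi
  have hfaith : (toPM O).Faithful := (SheafOfModules.fullyFaithfulForget _).faithful
  have key : Mono ((toPM O).map (((ModSite.tensorBi O).flip.obj F).map i)) := by
    apply PresheafOfModules.mono_of_injective
    intro V
    obtain ⟨V⟩ := V
    have hφ : ((ModSite.tensorBi O).flip.obj F).map i =
        (shf O).map ((toPM O).map i ▷ (toPM O).obj F) := rfl
    suffices hz : ∀ z : ((toPM O).obj ((shf O).obj ((toPM O).obj N' ⊗ (toPM O).obj F))).obj (op V),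
        sec ((toPM O).map ((shf O).map ((toPM O).map i ▷ (toPM O).obj F))) (op V) z = 0 → z = 0 by
      rw [hφ]
      exact (injective_iff_map_eq_zero
        (sec ((toPM O).map ((shf O).map ((toPM O).map i ▷ (toPM O).obj F))) (op V))).2 hz
    intro z hz
    -- level 1
    obtain ⟨S₁, hS₁, hS₁'⟩ := exists_local_tensor ((toPM O).obj N') ((toPM O).obj F) V z
    refine eq_zero_of_cover' _ z S₁ hS₁ (fun W g hg => ?_)
    obtain ⟨ι, hι, n₀, x₀, hzW⟩ := hS₁' g hg
    let e : Fin (Fintype.card ι) ≃ ι := (Fintype.equivFin ι).symm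
    let n' : Fin (Fintype.card ι) → ((toPM O).obj N').obj (op W) := fun k => n₀ (e k)
    let x : Fin (Fintype.card ι) → ((toPM O).obj F).obj (op W) := fun k => x₀ (e k)
    let w : ((toPM O).obj N' ⊗ (toPM O).obj F).obj (op W) :=
      ∑ k, tm ((toPM O).obj N') ((toPM O).obj F) (op W) (n' k) (x k)
    have hzW' : rM _ g z = sec (η ((toPM O).obj N' ⊗ (toPM O).obj F)) (op W) w := by
      refine Eq.trans hzW ?_
      rw [map_sum]
      exact (Equiv.sum_comp e (fun k => sec (η ((toPM O).obj N' ⊗ (toPM O).obj F)) (op W)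
        (tm ((toPM O).obj N') ((toPM O).obj F) (op W) (n₀ k) (x₀ k)))).symm
    rw [hzW']
    -- the image of `w`
    let w' : ((toPM O).obj N ⊗ (toPM O).obj F).obj (op W) :=
      ∑ k, tm ((toPM O).obj N) ((toPM O).obj F) (op W)
        (sec ((toPM O).map i) (op W) (n' k)) (x k)
    have hw' : sec ((toPM O).map i ▷ (toPM O).obj F) (op W) w = w' := by
      show sec ((toPM O).map i ▷ (toPM O).obj F) (op W)
        (∑ k, tm ((toPM O).obj N') ((toPM O).obj F) (op W) (n' k) (x k)) = _
      rw [map_sum]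
      exact Finset.sum_congr rfl (fun k _ => sec_whiskerRight_tm ((toPM O).map i) _ (op W) _ _)
    have hηw' : sec (η ((toPM O).obj N ⊗ (toPM O).obj F)) (op W) w' = 0 := by
      rw [← hw', ← sec_shf_map, ← hzW', sec_rM, hz, map_zero]
    -- level 2
    obtain ⟨S₂, hS₂, hS₂'⟩ := exists_cover_of_η_eq_zero _ w' hηw'
    have hgoal : sec (η ((toPM O).obj N' ⊗ (toPM O).obj F)) (op W) w = 0 := by
      refine eq_zero_of_cover' _ _ S₂ hS₂ (fun W' h hh => ?_)
      have hw'0 := hS₂' h hh
      -- level 3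
      have hrel : ∑ k, tm ((toPM O).obj N) ((toPM O).obj F) (op W')
          (sec ((toPM O).map i) (op W') (rM ((toPM O).obj N') h (n' k)))
          (rM ((toPM O).obj F) h (x k)) = 0 := by
        refine Eq.trans ?_ hw'0
        show _ = rM ((toPM O).obj N ⊗ (toPM O).obj F) h
          (∑ k, tm ((toPM O).obj N) ((toPM O).obj F) (op W)
            (sec ((toPM O).map i) (op W) (n' k)) (x k))
        rw [map_sum]
        refine Finset.sum_congr rfl (fun k _ => ?_)
        rw [rM_tm, sec_rM]
      obtain ⟨S₃, hS₃, hS₃'⟩ := exists_cover_tm_eq_zero F hEC i W'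
        (fun k => rM ((toPM O).obj N') h (n' k)) (fun k => rM ((toPM O).obj F) h (x k)) hrel
      refine eq_zero_of_cover' _ _ S₃ hS₃ (fun W'' q hq => ?_)
      have h3 := hS₃' q hq
      rw [← sec_rM, ← sec_rM]
      have e5 : rM ((toPM O).obj N' ⊗ (toPM O).obj F) q
          (rM ((toPM O).obj N' ⊗ (toPM O).obj F) h w) = 0 := by
        refine Eq.trans ?_ h3
        show rM ((toPM O).obj N' ⊗ (toPM O).obj F) q
          (rM ((toPM O).obj N' ⊗ (toPM O).obj F) h
            (∑ k, tm ((toPM O).obj N') ((toPM O).obj F) (op W) (n' k) (x k))) = _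
        rw [map_sum, map_sum]
        refine Finset.sum_congr rfl (fun k _ => ?_)
        rw [rM_tm, rM_tm]
      rw [e5, map_zero]
    exact hgoal
  exact (toPM O).mono_of_mono_map key

end Groth.Agent.H92.EqCritConv
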