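import Groth.Agent.H92.LocalFact

/-!
# The equational criterion of flatness over an arbitrary object of a ringed site (helper92)

`exists_local_trivialisation_obj`: for a flat module `F`, a matrix `a` of sections of `O` over `U`
and sections `s` of `F` over `U` with `∑ j, a i j • s j = 0`, locally on `U` we have
`s j = ∑ k, b j k • t k` with `∑ j, b j k * a i j = 0`.
-/

set_option autoImplicit false
set_option backward.isDefEq.respectTransparency false
universe u
open CategoryTheory CategoryTheory.Limits Opposite

namespace Groth.Agent.H92.EqCritObj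

open Groth.Agent.H31 Groth.Agent.H92.EqCrit Groth.Agent.H92.MatPres Groth.Agent.H92.LocalFact

variable {C : Type u} [SmallCategory C] {J : GrothendieckTopology C} {O : Sheaf J CommRingCat.{u}}

/-- **Equational criterion** over an object `U` (matrix form). -/
theorem exists_local_trivialisation_obj (F : ModSite.Mod O) (hF : ModSite.IsFlat F) (U : C)
    {n m : ℕ} (a : Fin m → Fin n → O.obj.obj (op U)) (s : Fin n → ModSite.sect F U)
    (hrel : ∀ i, ∑ j, a i j • s j = 0) :
    ∃ S ∈ J U, ∀ ⦃V : C⦄ (g : V ⟶ U), S g →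
      ∃ (l : ℕ) (t : Fin l → ModSite.sect F V) (b : Fin n → Fin l → O.obj.obj (op V)),
        (∀ j, (F.val.map g.op).hom (s j) = ∑ k, b j k • t k) ∧
        (∀ i k, ∑ j, b j k * (O.obj.map g.op).hom (a i j) = 0) := by
  classical
  obtain ⟨S', hS', hS''⟩ := exists_local_trivialisation (hTX U) ((ModSite.restr O U).obj F)
    (ExtZero.isFlat_restr F hF U)
    (fun i j => (a i j : (O.over U).obj.obj (op (TX U))))
    (fun j => (s j : ((toPM (O.over U)).obj ((ModSite.restr O U).obj F)).obj (op (TX U))))
    (fun i => hrel i)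
  refine ⟨Sieve.overEquiv (TX U) S', (J.mem_over_iff S').mp hS', fun V g hg => ?_⟩
  rw [Sieve.overEquiv_iff] at hg
  obtain ⟨ι, hι, t, b, h1, h2⟩ := hS'' _ hg
  let e : ι ≃ Fin (Fintype.card ι) := Fintype.equivFin ι
  refine ⟨Fintype.card ι, fun k => (t (e.symm k) : ModSite.sect F V),
    fun j k => (b j (e.symm k) : O.obj.obj (op V)), ?_, ?_⟩
  · intro j
    refine Eq.trans ?_ ((h1 j).trans
      (Equiv.sum_comp e.symm (fun k => b j k • t k)).symm)
    rfl
  · intro i k
    exact h2 i (e.symm k)

end Groth.Agent.H92.EqCritObj
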