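import Groth.Agent.H92.QuotOnExact
import Groth.Agent.H92.RestrExact

/-!
# Localisation at a subterminal object (helper92)

For `U` subterminal: `j_!` and `j_*` are fully faithful, and `I ⟶ j_*j^*I` is an epimorphism for
`I` injective.
-/

set_option autoImplicit false

namespace Groth.Agent.H92.SubPush

open CategoryTheory Limits Opposite
open Groth.Agent.H31 Groth.Agent.H31.ExtZero Groth.Agent.H92.QuotSect

universe u

variable {C : Type u} [SmallCategory C] {J : GrothendieckTopology C} (O : Sheaf J CommRingCat.{u})
  (U : C)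

section Pre

variable (hU : ∀ V : C, Subsingleton (V ⟶ U))

include hU in
attribute [local instance] Classical.propDecidable in
theorem isIso_jPreAdj_unit_app (A : PM (O.over U)) :
    IsIso ((jPreAdj (O := O) (U := U)).unit.app A) := by
  have hm := mono_jPreAdj_unit_app O U A
  have he : Epi ((jPreAdj (O := O) (U := U)).unit.app A) := by
    refine PresheafOfModules.epi_of_surjective (fun X => ?_)
    intro y
    have := hU X.unop.left
    let y' : Sec A X.unop.left := y
    refine ⟨y' X.unop.hom, ?_⟩
    refine (unit_app_apply A X.unop _).trans ?_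
    show DirectSum.of (fun f' : X.unop.left ⟶ U => cmp A f') X.unop.hom (y' X.unop.hom) = y'
    apply DFinsupp.ext
    intro f'
    obtain rfl : f' = X.unop.hom := Subsingleton.elim _ _
    exact DirectSum.of_eq_same _ _
  exact isIso_of_mono_of_epi _

end Pre

section Sh

variable (hU : ∀ V : C, Subsingleton (V ⟶ U))

include hU in
theorem isIso_jShAdj_unit_app (G : ModSite.Mod (O.over U)) :
    IsIso ((jShAdj O U).unit.app G) := by
  have ha := isIso_jPreAdj_unit_app O U hU ((toPM (O.over U)).obj G)
  have hb : IsIso ((shf (O.over U)).map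
      ((res O U).map (η ((jPre (O := O) (U := U)).obj ((toPM (O.over U)).obj G))))) :=
    isIso_shf_map_res U (η ((jPre (O := O) (U := U)).obj ((toPM (O.over U)).obj G)))
  have e : (shf (O.over U)).map ((toPM (O.over U)).map ((jShAdj O U).unit.app G)) =
      (shf (O.over U)).map ((jPreAdj (O := O) (U := U)).unit.app ((toPM (O.over U)).obj G)) ≫
      (shf (O.over U)).map
        ((res O U).map (η ((jPre (O := O) (U := U)).obj ((toPM (O.over U)).obj G)))) :=
    (congrArg (shf (O.over U)).map (toPM_map_jShAdj_unit_app O U G)).trans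
      ((shf (O.over U)).map_comp _ _)
  have h1 : IsIso ((shf (O.over U)).map ((toPM (O.over U)).map ((jShAdj O U).unit.app G))) := by
    rw [e]
    have h0 : IsIso ((shf (O.over U)).map
        ((jPreAdj (O := O) (U := U)).unit.app ((toPM (O.over U)).obj G))) := inferInstance
    exact @IsIso.comp_isIso _ _ _ _ _ _ _ h0 hb
  have nat := (shfAdj (O.over U)).counit.naturality ((jShAdj O U).unit.app G)
  have i1 : IsIso ((shfAdj (O.over U)).counit.app G) := isIso_counit (O := O.over U) G
  have i2 : IsIso ((shfAdj (O.over U)).counit.app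
      ((ModSite.restr O U).obj ((jSh O U).obj G))) := isIso_counit (O := O.over U) _
  have h3 : IsIso (((incl (O.over U)) ⋙ shf (O.over U)).map ((jShAdj O U).unit.app G) ≫
      (shfAdj (O.over U)).counit.app ((ModSite.restr O U).obj ((jSh O U).obj G))) := by
    have : IsIso (((incl (O.over U)) ⋙ shf (O.over U)).map ((jShAdj O U).unit.app G)) := h1
    infer_instance
  have h2 : IsIso ((shfAdj (O.over U)).counit.app G ≫ (jShAdj O U).unit.app G) := by
    have nat' : ((incl (O.over U)) ⋙ shf (O.over U)).map ((jShAdj O U).unit.app G) ≫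
        (shfAdj (O.over U)).counit.app ((ModSite.restr O U).obj ((jSh O U).obj G)) =
        (shfAdj (O.over U)).counit.app G ≫ (jShAdj O U).unit.app G := nat
    rw [← nat']
    exact h3
  exact IsIso.of_isIso_comp_left ((shfAdj (O.over U)).counit.app G) ((jShAdj O U).unit.app G)

include hU in
/-- for `U` subterminal, `j_*` is fully faithful: the counit `j^*j_* ⟶ 𝟭` is an isomorphism -/
theorem isIso_restrPushOver_counit [ModSite.HasPushOver O U] :
    IsIso (ModSite.restrPushOverAdj O U).counit := by
  have h1 : IsIso (jShAdj O U).unit := by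
    have : ∀ G, IsIso ((jShAdj O U).unit.app G) := isIso_jShAdj_unit_app O U hU
    exact NatIso.isIso_of_isIso_app _
  have hff : (jSh O U).FullyFaithful := (jShAdj O U).fullyFaithfulLOfIsIsoUnit
  have hff' : (ModSite.extZero O U).FullyFaithful := hff.ofIso (extZeroIso O U).symm
  have := hff'.full
  have := hff'.faithful
  have h2 : IsIso (ModSite.extZeroAdj O U).unit := inferInstance
  let t : Adjunction.Triple (ModSite.extZero O U) (ModSite.restr O U) (ModSite.pushOver O U) :=
    ⟨ModSite.extZeroAdj O U, ModSite.restrPushOverAdj O U⟩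
  exact t.isIso_unit_iff_isIso_counit.1 h2

end Sh

section EpiUnit

variable (hU : ∀ V : C, Subsingleton (V ⟶ U)) [ModSite.HasPushOver O U]

include hU in
theorem isIso_restr_map_η (A : ModSite.Mod O) :
    IsIso ((ModSite.restr O U).map (QuotSect.η O U A)) := by
  have hc := isIso_restrPushOver_counit O U hU
  have hcA : IsIso ((ModSite.restrPushOverAdj O U).counit.app ((ModSite.restr O U).obj A)) :=
    inferInstance
  have tri := (ModSite.restrPushOverAdj O U).left_triangle_components A
  have h : (ModSite.restr O U).map (QuotSect.η O U A) =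
      inv ((ModSite.restrPushOverAdj O U).counit.app ((ModSite.restr O U).obj A)) := by
    rw [← cancel_mono ((ModSite.restrPushOverAdj O U).counit.app ((ModSite.restr O U).obj A)),
      IsIso.inv_hom_id]
    exact tri
  rw [h]
  infer_instance

include hU in
/-- for `U` subterminal and `I` injective, `I ⟶ j_*j^*I` is an epimorphism -/
theorem epi_η_of_injective (I : ModSite.Mod O) [Injective I] : Epi (QuotSect.η O U I) := by
  have hK : Injective (kernel (QuotSect.η O U I)) := injective_sectOn O U I
  let ι := kernel.ι (QuotSect.η O U I)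
  let r : I ⟶ kernel (QuotSect.η O U I) := Injective.factorThru (𝟙 _) ι
  have hr : ι ≫ r = 𝟙 _ := Injective.comp_factorThru _ _
  let p : I ⟶ Abelian.coimage (QuotSect.η O U I) := Abelian.coimage.π _
  let m := Abelian.factorThruCoimage (QuotSect.η O U I)
  have hpm : p ≫ m = QuotSect.η O U I := Abelian.coimage.fac _
  have hιp : ι ≫ p = 0 := cokernel.condition _
  let e : I ⟶ I := 𝟙 I - r ≫ ι
  have hιe : ι ≫ e = 0 := by
    show ι ≫ (𝟙 I - r ≫ ι) = 0
    rw [Preadditive.comp_sub, Category.comp_id, ← Category.assoc, hr, Category.id_comp, sub_self]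
  let σ : Abelian.coimage (QuotSect.η O U I) ⟶ I := cokernel.desc ι e hιe
  have hpσ : p ≫ σ = e := cokernel.π_desc _ _ _
  have hσp : σ ≫ p = 𝟙 _ := by
    have : Epi p := by
      show Epi (cokernel.π _)
      infer_instance
    rw [← cancel_epi p, ← Category.assoc, hpσ, Category.comp_id]
    show (𝟙 I - r ≫ ι) ≫ p = p
    rw [Preadditive.sub_comp, Category.id_comp, Category.assoc, hιp, comp_zero, sub_zero]
  have hinj : Injective (Abelian.coimage (QuotSect.η O U I)) :=
    ⟨fun {X Y} g f _ => ⟨Injective.factorThru (g ≫ σ) f ≫ p, by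
      rw [← Category.assoc, Injective.comp_factorThru, Category.assoc, hσp, Category.comp_id]⟩⟩
  let ρ := Injective.factorThru (𝟙 (Abelian.coimage (QuotSect.η O U I))) m
  have hρ : m ≫ ρ = 𝟙 _ := Injective.comp_factorThru _ _
  let c' := 𝟙 ((ModSite.pushOver O U).obj ((ModSite.restr O U).obj I)) - ρ ≫ m
  have hmc : m ≫ c' = 0 := by
    show m ≫ (𝟙 _ - ρ ≫ m) = 0
    rw [Preadditive.comp_sub, Category.comp_id, ← Category.assoc, hρ, Category.id_comp, sub_self]
  have hηc : QuotSect.η O U I ≫ c' = 0 := by
    rw [← hpm, Category.assoc, hmc, comp_zero]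
  have hc0 : c' = 0 := by
    have hiso := isIso_restr_map_η O U hU I
    have h1 : (ModSite.restr O U).map c' = 0 := by
      rw [← cancel_epi ((ModSite.restr O U).map (QuotSect.η O U I)), ← Functor.map_comp, hηc,
        Functor.map_zero, comp_zero]
    apply ((ModSite.restrPushOverAdj O U).homEquiv _ _).symm.injective
    rw [Adjunction.homEquiv_counit, Adjunction.homEquiv_counit, h1, Functor.map_zero]
  have hρm : ρ ≫ m = 𝟙 _ := by
    have : 𝟙 ((ModSite.pushOver O U).obj ((ModSite.restr O U).obj I)) - ρ ≫ m = 0 := hc0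
    exact (sub_eq_zero.1 this).symm
  have hme : Epi m := (IsSplitEpi.mk' ⟨ρ, hρm⟩).epi
  have hpe : Epi p := by
    show Epi (cokernel.π _)
    infer_instance
  rw [← hpm]
  exact epi_comp p m

end EpiUnit

end Groth.Agent.H92.SubPush
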