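import Groth.Agent.H92.SuppSect3
import Groth.Agent.H92.SubPush
import Groth.Agent.H30.ExtAdj

/-!
# Excision for sheaves of modules on a ringed site (helper92)

`U, V` objects with `V` subterminal and `{U, V}` covering the final object, `Z` the closed complement
of `U` (contained in `V`).

* `eq_zero_of_restr`, `isZero_of_restr`: morphisms / modules vanishing on `U` and `V` vanish.
* `isZero_restr_pushOver`: `(j_{V*}G)|_U = 0` if `G` vanishes over `U`.
* `isIso_η_of_isNull`: `T ⟶ j_{V*}(T|_V)` is an isomorphism if `T|_U = 0`.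
* `cSharp`, `isIso_cSharp`: `j_{V!}((M|_V)/(M|_V)_{U×V}) ≅ M/M_U`.
-/

set_option autoImplicit false

namespace Groth.Agent.H92.Excision

open CategoryTheory Limits Opposite Abelian
open Groth.Agent.H30.ModCech
open Groth.Agent.H92.QuotSect Groth.Agent.H92.SuppSect Groth.Agent.H92.RestrExact

universe u

variable {C : Type u} [SmallCategory C] {J : GrothendieckTopology C} (O : Sheaf J CommRingCat.{u})

section Cover

variable (U V : C) (hUV : J.CoversTop (fun b : Bool => cond b U V))

include hUV in
theorem eq_zero_of_restr {M N : ModSite.Mod O} (φ : M ⟶ N)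
    (hU : (ModSite.restr O U).map φ = 0) (hV : (ModSite.restr O V).map φ = 0) : φ = 0 := by
  apply SheafOfModules.hom_ext
  apply PresheafOfModules.hom_ext
  intro Y
  apply ModuleCat.hom_ext
  apply LinearMap.ext
  intro y
  let z : ((UU (ModSite.ringSh O)).obj N).obj.obj (op Y.unop) := φ.val.app Y y
  show z = 0
  apply Groth.Agent.H92.SheafLocal.eq_zero_of_cover _ (V := Y.unop) z
    (Sieve.ofObjects _ Y.unop) (hUV Y.unop)
  rintro Y' h ⟨b, ⟨f⟩⟩
  have h1 := PresheafOfModules.naturality_apply φ.val h.op y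
  refine h1.symm.trans ?_
  cases b
  · exact (restr_map_eq_zero_iff O V φ).1 hV Y' ⟨f⟩ _
  · exact (restr_map_eq_zero_iff O U φ).1 hU Y' ⟨f⟩ _

include hUV in
theorem isZero_of_restr (T : ModSite.Mod O) (hU : IsZero ((ModSite.restr O U).obj T))
    (hV : IsZero ((ModSite.restr O V).obj T)) : IsZero T := by
  rw [IsZero.iff_id_eq_zero]
  exact eq_zero_of_restr O U V hUV (𝟙 T) (hU.eq_of_src _ _) (hV.eq_of_src _ _)

end Cover

section PushOver

variable (U V : C) [ModSite.HasPushOver O V]

set_option maxHeartbeats 1600000 in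
/-- `(j_{V*}G)|_U = 0` if `G` vanishes over the objects over `U` -/
theorem isZero_restr_pushOver (G : ModSite.Mod (O.over V))
    (hG : ∀ Y : Over V, Nonempty (Y.left ⟶ U) → ∀ x : G.val.obj (op Y), x = 0) :
    IsZero ((ModSite.restr O U).obj ((ModSite.pushOver O V).obj G)) := by
  rw [IsZero.iff_id_eq_zero]
  let P := (ModSite.restr O U).obj ((ModSite.pushOver O V).obj G)
  let e := ((ModSite.extZeroAdj O U).homEquiv P ((ModSite.pushOver O V).obj G)).symm (𝟙 P)
  let ξ := ((ModSite.restrPushOverAdj O V).homEquiv ((ModSite.extZero O U).obj P) G).symm e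
  have hξ : ξ = 0 := by
    apply SheafOfModules.hom_ext
    apply PresheafOfModules.hom_ext
    intro Y
    apply ModuleCat.hom_ext
    apply LinearMap.ext
    intro a
    let a' : ((ab O).obj ((ModSite.extZero O U).obj P)).obj.obj (op Y.unop.left) := a
    obtain ⟨S, hS, hS'⟩ := extZero_section_locally O U P a'
    let z : ((UU (ModSite.ringSh (O.over V))).obj G).obj.obj (op Y.unop) := ξ.val.app Y a
    show z = 0
    apply Groth.Agent.H92.SheafLocal.eq_zero_of_cover _ (V := Y.unop) z
      ((Sieve.overEquiv Y.unop).symm S) (J.overEquiv_symm_mem_over _ _ hS)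
    intro Y' h hh
    rcases hS' h.left hh with hne | h0
    · exact hG Y' hne _
    · have h1 := PresheafOfModules.naturality_apply ξ.val h.op a
      refine h1.symm.trans ?_
      have h2 : ((ModSite.restr O V).obj ((ModSite.extZero O U).obj P)).val.map h.op a = 0 := h0
      rw [h2]
      exact map_zero _
  have he : e = 0 := by
    have h := congrArg ((ModSite.restrPushOverAdj O V).homEquiv _ _) hξ
    rw [Equiv.apply_symm_apply] at h
    rw [h, Adjunction.homEquiv_unit, Functor.map_zero, comp_zero]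
  have h := congrArg ((ModSite.extZeroAdj O U).homEquiv P _) he
  rw [Equiv.apply_symm_apply] at h
  rw [h, Adjunction.homEquiv_unit, Functor.map_zero, comp_zero]

variable (hV : ∀ X : C, Subsingleton (X ⟶ V)) (hUV : J.CoversTop (fun b : Bool => cond b U V))

include hV hUV in
/-- `T ⟶ j_{V*}(T|_V)` is an isomorphism if `T|_U = 0` -/
theorem isIso_η_of_isNull (T : ModSite.Mod O) (hT : IsZero ((ModSite.restr O U).obj T)) :
    IsIso (η O V T) := by
  have hk : IsZero (kernel (η O V T)) := by
    apply isZero_of_restr O U V hUV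
    · have : Mono ((ModSite.restr O U).map (kernel.ι (η O V T))) := inferInstance
      exact IsZero.of_mono ((ModSite.restr O U).map (kernel.ι (η O V T))) hT
    · have hm : Mono ((ModSite.restr O V).map (kernel.ι (η O V T))) := inferInstance
      have h0 : (ModSite.restr O V).map (kernel.ι (η O V T)) = 0 :=
        (comp_η_eq_zero_iff O V _).1 (kernel.condition _)
      exact IsZero.of_mono_eq_zero _ h0
  have hmono : Mono (η O V T) := Preadditive.mono_of_isZero_kernel _ hk
  have hc : IsZero (cokernel (η O V T)) := by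
    apply isZero_of_restr O U V hUV
    · have : Epi ((ModSite.restr O U).map (cokernel.π (η O V T))) := inferInstance
      refine IsZero.of_epi ((ModSite.restr O U).map (cokernel.π (η O V T)))
        (isZero_restr_pushOver O U V _ ?_)
      rintro Y ⟨b⟩ x
      exact (ExtSupp.isNullOn_iff O U T).1 hT b x
    · have he : Epi ((ModSite.restr O V).map (cokernel.π (η O V T))) := inferInstance
      have hi : IsIso ((ModSite.restr O V).map (η O V T)) :=
        Groth.Agent.H92.SubPush.isIso_restr_map_η O V hV T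
      have h0 : (ModSite.restr O V).map (cokernel.π (η O V T)) = 0 := by
        rw [← cancel_epi ((ModSite.restr O V).map (η O V T)), ← Functor.map_comp,
          cokernel.condition, Functor.map_zero, comp_zero]
      exact IsZero.of_epi_eq_zero _ h0
  have hepi : Epi (η O V T) := Preadditive.epi_of_isZero_cokernel _ hc
  exact isIso_of_mono_of_epi _

end PushOver

section OverProducts

variable [HasBinaryProducts C] (V : C) (hV : ∀ X : C, Subsingleton (X ⟶ V))

include hV in
/-- the slice over a subterminal object has binary products -/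
theorem hasBinaryProducts_over : HasBinaryProducts (Over V) := by
  have : ∀ (A B : Over V), HasLimit (pair A B) := fun A B => by
    let P : Over V := Over.mk (prod.fst ≫ A.hom : A.left ⨯ B.left ⟶ V)
    let p₁ : P ⟶ A := Over.homMk prod.fst rfl
    let p₂ : P ⟶ B := Over.homMk prod.snd (Subsingleton.elim _ _)
    refine HasLimit.mk ⟨BinaryFan.mk p₁ p₂, BinaryFan.isLimitMk
      (fun s => Over.homMk (prod.lift s.fst.left s.snd.left) (Subsingleton.elim _ _)) ?_ ?_ ?_⟩
    · intro s
      apply Over.OverMorphism.ext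
      exact prod.lift_fst _ _
    · intro s
      apply Over.OverMorphism.ext
      exact prod.lift_snd _ _
    · intro s m h₁ h₂
      apply Over.OverMorphism.ext
      apply Limits.prod.hom_ext
      · exact (congrArg CommaMorphism.left h₁).trans (prod.lift_fst _ _).symm
      · exact (congrArg CommaMorphism.left h₂).trans (prod.lift_snd _ _).symm
  exact hasBinaryProducts_of_hasLimit_pair _

end OverProducts

section Main

variable [HasBinaryProducts C] (U V : C) [ModSite.HasPushOver (O.over V) (UX U V)]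

theorem ε_restr_π (M : ModSite.Mod O) :
    ε (O.over V) (UX U V) ((ModSite.restr O V).obj M) ≫ (ModSite.restr O V).map (π O U M) = 0 := by
  rw [ε_comp_eq_zero_iff]
  refine (restr_map_eq_zero_iff (O.over V) (UX U V) _).2 (fun Y hY y => ?_)
  obtain ⟨b⟩ := hY
  exact (ExtSupp.isNullOn_iff O U _).1 (ExtSupp.isNullOn_quotOn O U M) (b.left ≫ prod.fst) _

/-- the comparison `(M|_V)/(M|_V)_{U×V} ⟶ (M/M_U)|_V` -/
noncomputable def c (M : ModSite.Mod O) :
    (ModSite.quotOn (O.over V) (UX U V)).obj ((ModSite.restr O V).obj M) ⟶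
      (ModSite.restr O V).obj ((ModSite.quotOn O U).obj M) :=
  cokernel.desc _ ((ModSite.restr O V).map (π O U M)) (ε_restr_π O U V M)

theorem π_c (M : ModSite.Mod O) :
    π (O.over V) (UX U V) ((ModSite.restr O V).obj M) ≫ c O U V M =
      (ModSite.restr O V).map (π O U M) :=
  cokernel.π_desc _ _ _

/-- `ψ ↦ c ≫ ψ|_V` -/
noncomputable def τ (M N : ModSite.Mod O) (ψ : (ModSite.quotOn O U).obj M ⟶ N) :
    (ModSite.quotOn (O.over V) (UX U V)).obj ((ModSite.restr O V).obj M) ⟶
      (ModSite.restr O V).obj N :=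
  c O U V M ≫ (ModSite.restr O V).map ψ

theorem π_τ (M N : ModSite.Mod O) (ψ : (ModSite.quotOn O U).obj M ⟶ N) :
    π (O.over V) (UX U V) ((ModSite.restr O V).obj M) ≫ τ O U V M N ψ =
      (ModSite.restr O V).map (π O U M ≫ ψ) := by
  rw [τ, ← Category.assoc, π_c, Functor.map_comp]

variable (hV : ∀ X : C, Subsingleton (X ⟶ V)) (hUV : J.CoversTop (fun b : Bool => cond b U V))

include hUV in
theorem τ_injective (M N : ModSite.Mod O) : Function.Injective (τ O U V M N) := by
  intro ψ₁ ψ₂ h
  have h1 : (ModSite.restr O V).map (π O U M ≫ (ψ₁ - ψ₂)) = 0 := by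
    rw [Preadditive.comp_sub, Functor.map_sub, ← π_τ, ← π_τ, h, sub_self]
  have h2 : (ModSite.restr O U).map (π O U M ≫ (ψ₁ - ψ₂)) = 0 := by
    rw [← ε_comp_eq_zero_iff, ← Category.assoc, ε_π, zero_comp]
  have h3 := eq_zero_of_restr O U V hUV _ h2 h1
  have h4 : ψ₁ - ψ₂ = 0 := by rw [← cancel_epi (π O U M), h3, comp_zero]
  exact sub_eq_zero.1 h4

include hV hUV in
set_option maxHeartbeats 1600000 in
theorem τ_surjective (M N : ModSite.Mod O) : Function.Surjective (τ O U V M N) := by
  intro χ
  let MV := (ModSite.restr O V).obj M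
  let NV := (ModSite.restr O V).obj N
  let ψ₀ : MV ⟶ NV := π (O.over V) (UX U V) MV ≫ χ
  have h0 : ψ₀ ≫ η (O.over V) (UX U V) NV = 0 :=
    (comp_η_eq_zero_iff' (O.over V) (UX U V) ψ₀).2 (by rw [← Category.assoc, ε_π, zero_comp])
  let ψ₁' : MV ⟶ (ModSite.sectOn (O.over V) (UX U V)).obj NV :=
    kernel.lift (η (O.over V) (UX U V) NV) ψ₀ h0
  have hψ₁' : ψ₁' ≫ ι (O.over V) (UX U V) NV = ψ₀ := kernel.lift_ι _ _ _
  let T := (ModSite.sectOn O U).obj N
  have hγ : IsIso (γX O U V N) := isIso_γX O U V N
  let ψ₁ : MV ⟶ (ModSite.restr O V).obj T := ψ₁' ≫ inv (γX O U V N)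
  have hT : IsZero ((ModSite.restr O U).obj T) := by
    have hm : Mono ((ModSite.restr O U).map (ι O U N)) := inferInstance
    exact IsZero.of_mono_eq_zero _ ((comp_η_eq_zero_iff O U _).1 (ι_η O U N))
  have hiso := isIso_η_of_isNull O U V hV hUV T hT
  let adjV := ModSite.restrPushOverAdj O V
  let φ₁ : M ⟶ T := adjV.homEquiv M _ ψ₁ ≫ inv (η O V T)
  have hφ₁ : (ModSite.restr O V).map φ₁ = ψ₁ := by
    have t1 : (ModSite.restr O V).map (adjV.homEquiv M _ ψ₁) ≫
        adjV.counit.app ((ModSite.restr O V).obj T) = ψ₁ := by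
      exact (Adjunction.homEquiv_counit adjV _ _ _).symm.trans (Equiv.symm_apply_apply _ _)
    have t2 : (ModSite.restr O V).map (η O V T) ≫
        adjV.counit.app ((ModSite.restr O V).obj T) = 𝟙 _ := adjV.left_triangle_components T
    have t3 : (ModSite.restr O V).map (inv (η O V T)) =
        adjV.counit.app ((ModSite.restr O V).obj T) := by
      have hi : IsIso ((ModSite.restr O V).map (η O V T)) := inferInstance
      rw [← cancel_epi ((ModSite.restr O V).map (η O V T)), ← Functor.map_comp,
        IsIso.hom_inv_id, CategoryTheory.Functor.map_id, t2]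
    show (ModSite.restr O V).map (adjV.homEquiv M _ ψ₁ ≫ inv (η O V T)) = ψ₁
    rw [Functor.map_comp, t3, t1]
  let φ : M ⟶ N := φ₁ ≫ ι O U N
  have hφU : ε O U M ≫ φ = 0 :=
    (comp_η_eq_zero_iff' O U φ).1 (by rw [Category.assoc, ι_η, comp_zero])
  refine ⟨cokernel.desc (ε O U M) φ hφU, ?_⟩
  rw [← cancel_epi (π (O.over V) (UX U V) MV), π_τ]
  have h5 : π O U M ≫ cokernel.desc (ε O U M) φ hφU = φ := cokernel.π_desc _ _ _
  rw [h5]
  show (ModSite.restr O V).map (φ₁ ≫ ι O U N) = ψ₀
  rw [Functor.map_comp, hφ₁]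
  show (ψ₁' ≫ inv (γX O U V N)) ≫ (ModSite.restr O V).map (ι O U N) = ψ₀
  rw [Category.assoc, ← γX_ι, IsIso.inv_hom_id_assoc, hψ₁']

/-- the canonical map `j_{V!}((M|_V)/(M|_V)_{U×V}) ⟶ M/M_U` -/
noncomputable def cSharp (M : ModSite.Mod O) :
    (ModSite.extZero O V).obj
      ((ModSite.quotOn (O.over V) (UX U V)).obj ((ModSite.restr O V).obj M)) ⟶
      (ModSite.quotOn O U).obj M :=
  ((ModSite.extZeroAdj O V).homEquiv _ _).symm (c O U V M)

include hV hUV in
theorem isIso_cSharp (M : ModSite.Mod O) : IsIso (cSharp O U V M) := by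
  rw [isIso_iff_coyoneda_map_bijective]
  intro N
  have key : ∀ ψ : (ModSite.quotOn O U).obj M ⟶ N,
      (ModSite.extZeroAdj O V).homEquiv _ _ (cSharp O U V M ≫ ψ) = τ O U V M N ψ := by
    intro ψ
    rw [Adjunction.homEquiv_naturality_right, cSharp, Equiv.apply_symm_apply]
    rfl
  constructor
  · intro ψ₁ ψ₂ h
    apply τ_injective O U V hUV M N
    rw [← key, ← key]
    exact congrArg _ h
  · intro χ
    obtain ⟨ψ, hψ⟩ := τ_surjective O U V hV hUV M N ((ModSite.extZeroAdj O V).homEquiv _ _ χ)
    refine ⟨ψ, ?_⟩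
    apply ((ModSite.extZeroAdj O V).homEquiv _ _).injective
    show (ModSite.extZeroAdj O V).homEquiv _ _ (cSharp O U V M ≫ ψ) = _
    rw [key, hψ]

end Main

end Groth.Agent.H92.Excision
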