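import Groth.Agent.H92.QuotTensor
import Groth.Agent.H92.ExtLocalGlobal
import Groth.Agent.H92.HZComp

/-!
# `Ext` with supports: comparison lemmas (helper92)

* `κ` : `Hom(O/O_U, ℋom(M, N)) ≃+ Hom(M/M_U, N)`, natural in `N`;
* `sectOnSheafHomIso` : `Γ_Z ℋom(M, N) ≅ ℋom(M, Γ_Z N)`.
-/

set_option autoImplicit false

namespace Groth.Agent.H92.ExtSuppLib

open CategoryTheory Limits Opposite Abelian
open Groth.Agent.H92.QuotSect Groth.Agent.H92.QuotTensor Groth.Agent.H92.ExtLocalGlobal
open Groth.Agent.H5.GSS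

universe u

variable {C : Type u} [SmallCategory C] {J : GrothendieckTopology C} (O : Sheaf J CommRingCat.{u})
  (U : C)

section Adjoint

variable (M N : ModSite.Mod O) [ModSite.HasSheafHom M]

/-- for `ψ : P ⟶ ℋom(M, N)` with adjunct `ψ♭ : P ⊗ M ⟶ N`: `ψ` kills `j_!j^*P` iff `ψ♭` kills
`j_!j^*(P ⊗ M)` -/
theorem ε_comp_eq_zero_iff_adj {P : ModSite.Mod O} (ψ : P ⟶ (ModSite.sheafHom M).obj N) :
    ε O U P ≫ ψ = 0 ↔
      ε O U ((TM O M).obj P) ≫ ((ModSite.sheafHomAdj M).homEquiv P N).symm ψ = 0 := by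
  rw [← tensor_ε_comp_eq_zero_iff, ← Adjunction.homEquiv_naturality_left_symm]
  constructor
  · intro h
    rw [h, Adjunction.homEquiv_counit, Functor.map_zero, zero_comp]
  · intro h
    apply ((ModSite.sheafHomAdj M).homEquiv _ N).symm.injective
    rw [h, Adjunction.homEquiv_counit, Functor.map_zero, zero_comp]

theorem unit_cond (ψ : ModSite.unit O ⟶ (ModSite.sheafHom M).obj N) :
    ε O U (ModSite.unit O) ≫ ψ = 0 ↔ ε O U M ≫ homEqv O M N ψ = 0 := by
  rw [ε_comp_eq_zero_iff_adj, ε_comp_eq_zero_iff, ε_comp_eq_zero_iff]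
  have : IsIso ((ModSite.restr O U).map (unitTensorIso O M).inv) := inferInstance
  show _ ↔ (ModSite.restr O U).map ((unitTensorIso O M).inv ≫
    ((ModSite.sheafHomAdj M).homEquiv _ _).symm ψ) = 0
  rw [Functor.map_comp]
  constructor
  · intro h
    rw [h, comp_zero]
  · intro h
    rw [← cancel_epi ((ModSite.restr O U).map (unitTensorIso O M).inv), h, comp_zero]

/-- `Hom(O/O_U, ℋom(M, N)) ≃+ Hom(M/M_U, N)` -/
noncomputable def κ :
    ((ModSite.quotOn O U).obj (ModSite.unit O) ⟶ (ModSite.sheafHom M).obj N) ≃+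
      ((ModSite.quotOn O U).obj M ⟶ N) where
  toFun ψ := cokernel.desc (ε O U M) (homEqv O M N (π O U _ ≫ ψ))
    ((unit_cond O U M N _).1 (by rw [← Category.assoc, ε_π, zero_comp]))
  invFun φ := cokernel.desc (ε O U (ModSite.unit O)) ((homEqv O M N).symm (π O U _ ≫ φ))
    ((unit_cond O U M N _).2 (by
      rw [AddEquiv.apply_symm_apply, ← Category.assoc, ε_π, zero_comp]))
  left_inv ψ := by
    rw [← cancel_epi (π O U (ModSite.unit O))]
    refine (cokernel.π_desc _ _ _).trans ?_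
    have h : π O U M ≫ cokernel.desc (ε O U M) (homEqv O M N (π O U _ ≫ ψ))
        ((unit_cond O U M N _).1 (by rw [← Category.assoc, ε_π, zero_comp])) =
        homEqv O M N (π O U _ ≫ ψ) := cokernel.π_desc _ _ _
    rw [h, AddEquiv.symm_apply_apply]
  right_inv φ := by
    rw [← cancel_epi (π O U M)]
    refine (cokernel.π_desc _ _ _).trans ?_
    have h : π O U (ModSite.unit O) ≫ cokernel.desc (ε O U (ModSite.unit O))
        ((homEqv O M N).symm (π O U _ ≫ φ))
        ((unit_cond O U M N _).2 (by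
          rw [AddEquiv.apply_symm_apply, ← Category.assoc, ε_π, zero_comp])) =
        (homEqv O M N).symm (π O U _ ≫ φ) := cokernel.π_desc _ _ _
    rw [h, AddEquiv.apply_symm_apply]
  map_add' ψ ψ' := by
    rw [← cancel_epi (π O U M)]
    refine (cokernel.π_desc _ _ _).trans ?_
    refine Eq.trans ?_ (Preadditive.comp_add _ _ _ _ _ _).symm
    have h1 : π O U M ≫ cokernel.desc (ε O U M) (homEqv O M N (π O U _ ≫ ψ))
        ((unit_cond O U M N _).1 (by rw [← Category.assoc, ε_π, zero_comp])) =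
        homEqv O M N (π O U _ ≫ ψ) := cokernel.π_desc _ _ _
    have h2 : π O U M ≫ cokernel.desc (ε O U M) (homEqv O M N (π O U _ ≫ ψ'))
        ((unit_cond O U M N _).1 (by rw [← Category.assoc, ε_π, zero_comp])) =
        homEqv O M N (π O U _ ≫ ψ') := cokernel.π_desc _ _ _
    rw [h1, h2, Preadditive.comp_add, map_add]

variable {N} in
theorem κ_comp {N' : ModSite.Mod O}
    (ψ : (ModSite.quotOn O U).obj (ModSite.unit O) ⟶ (ModSite.sheafHom M).obj N) (g : N ⟶ N') :
    κ O U M N' (ψ ≫ (ModSite.sheafHom M).map g) = κ O U M N ψ ≫ g := by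
  rw [← cancel_epi (π O U M)]
  refine (cokernel.π_desc _ _ _).trans ?_
  rw [← Category.assoc, homEqv_comp]
  exact (cokernel.π_desc_assoc _ _ _ _).symm

/-- `Hom(O/O_U, ℋom(M, -)) ≅ Hom(M/M_U, -)` -/
noncomputable def κIso :
    ModSite.sheafHom M ⋙ homF ((ModSite.quotOn O U).obj (ModSite.unit O)) ≅
      homF ((ModSite.quotOn O U).obj M) :=
  NatIso.ofComponents (fun N => (κ O U M N).toAddCommGrpIso) (fun {N N'} g => by
    apply AddCommGrpCat.ext
    intro ψ
    exact κ_comp O U M ψ g)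

end Adjoint

section Kernel

/-- two maps out of `F` killing the same test maps have isomorphic kernels -/
noncomputable def kernelIsoOfIff {A : Type*} [Category A] [Abelian A] {F X X' : A} (f : F ⟶ X)
    (f' : F ⟶ X') (h : ∀ {P : A} (ψ : P ⟶ F), ψ ≫ f = 0 ↔ ψ ≫ f' = 0) :
    kernel f ≅ kernel f' where
  hom := kernel.lift f' (kernel.ι f) ((h _).1 (kernel.condition f))
  inv := kernel.lift f (kernel.ι f') ((h _).2 (kernel.condition f'))
  hom_inv_id := by
    apply equalizer.hom_ext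
    simp
  inv_hom_id := by
    apply equalizer.hom_ext
    simp

variable [ModSite.HasPushOver O U] (M N : ModSite.Mod O) [ModSite.HasSheafHom M]

theorem comp_η_eq_zero_iff_sheafHom {P : ModSite.Mod O} (ψ : P ⟶ (ModSite.sheafHom M).obj N) :
    ψ ≫ QuotSect.η O U ((ModSite.sheafHom M).obj N) = 0 ↔
      ψ ≫ (ModSite.sheafHom M).map (QuotSect.η O U N) = 0 := by
  rw [comp_η_eq_zero_iff', ε_comp_eq_zero_iff_adj, ← comp_η_eq_zero_iff',
    ← Adjunction.homEquiv_naturality_right_symm]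
  constructor
  · intro h
    apply ((ModSite.sheafHomAdj M).homEquiv _ _).symm.injective
    rw [h, Adjunction.homEquiv_counit, Functor.map_zero, zero_comp]
  · intro h
    rw [h, Adjunction.homEquiv_counit, Functor.map_zero, zero_comp]

/-- `Γ_Z ℋom(M, N) ≅ ℋom(M, Γ_Z N)` -/
noncomputable def sectOnSheafHomIso :
    (ModSite.sectOn O U).obj ((ModSite.sheafHom M).obj N) ≅
      (ModSite.sheafHom M).obj ((ModSite.sectOn O U).obj N) :=
  have : PreservesLimitsOfSize.{0, 0} (ModSite.sheafHom M) :=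
    (ModSite.sheafHomAdj M).rightAdjoint_preservesLimits
  (kernelIsoOfIff (QuotSect.η O U ((ModSite.sheafHom M).obj N))
    ((ModSite.sheafHom M).map (QuotSect.η O U N))
    (fun ψ => comp_η_eq_zero_iff_sheafHom O U M N ψ)) ≪≫
    (PreservesKernel.iso (ModSite.sheafHom M) (QuotSect.η O U N)).symm

end Kernel

end Groth.Agent.H92.ExtSuppLib
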