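import Mathlib

/-!
# Finitely generated / finitely presented objects relative to a family of generators (helper92)

Abstract closure properties (extensions, kernels) in an abelian category, for objects which are
quotients (resp. cokernels) of finite direct sums of members of a family of "generators" having a
local lifting property.
-/

set_option autoImplicit false

namespace Groth.Agent.H92.FgFp

open CategoryTheory Limits

universe v' u' w

variable {A : Type u'} [Category.{v'} A] [Abelian A]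

section Diagram

/-- four lemma, epi part -/
theorem epi_τ₂ {S₁ S₂ : ShortComplex A} (φ : S₁ ⟶ S₂) (h₂ : S₂.Exact) (h₁ : Epi φ.τ₁)
    (h : Epi (S₁.g ≫ φ.τ₃)) : Epi φ.τ₂ := by
  rw [epi_iff_surjective_up_to_refinements]
  intro X y
  obtain ⟨A₁, π₁, hπ₁, x₃, hx₃⟩ :=
    surjective_up_to_refinements_of_epi (S₁.g ≫ φ.τ₃) (y ≫ S₂.g)
  have h0 : (π₁ ≫ y - x₃ ≫ φ.τ₂) ≫ S₂.g = 0 := by
    rw [Preadditive.sub_comp, Category.assoc, Category.assoc, φ.comm₂₃, hx₃, sub_self]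
  obtain ⟨A₂, π₂, hπ₂, x₁, hx₁⟩ := h₂.exact_up_to_refinements _ h0
  obtain ⟨A₃, π₃, hπ₃, z, hz⟩ := surjective_up_to_refinements_of_epi φ.τ₁ x₁
  refine ⟨A₃, π₃ ≫ π₂ ≫ π₁, epi_comp _ _, π₃ ≫ π₂ ≫ x₃ + z ≫ S₁.f, ?_⟩
  have e1 : π₂ ≫ π₁ ≫ y = π₂ ≫ x₃ ≫ φ.τ₂ + x₁ ≫ S₂.f := by
    rw [← hx₁, Preadditive.comp_sub]
    abel
  rw [Preadditive.add_comp]
  simp only [Category.assoc]
  rw [e1, Preadditive.comp_add, ← φ.comm₁₂, ← Category.assoc z, ← hz, Category.assoc]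

/-- the complex of kernels of a morphism of short complexes -/
noncomputable abbrev kerCx {S₁ S₂ : ShortComplex A} (φ : S₁ ⟶ S₂) : ShortComplex A :=
  ShortComplex.mk (kernel.map φ.τ₁ φ.τ₂ S₁.f S₂.f φ.comm₁₂)
    (kernel.map φ.τ₂ φ.τ₃ S₁.g S₂.g φ.comm₂₃)
    (by
      apply equalizer.hom_ext
      simp)

theorem kerCx_exact {S₁ S₂ : ShortComplex A} (φ : S₁ ⟶ S₂) (h₁ : S₁.Exact) [Mono S₂.f] :
    (kerCx φ).Exact := by
  rw [ShortComplex.exact_iff_exact_up_to_refinements]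
  intro X (x₂ : X ⟶ kernel φ.τ₂)
    (hx₂ : x₂ ≫ kernel.map φ.τ₂ φ.τ₃ S₁.g S₂.g φ.comm₂₃ = 0)
  have h0 : (x₂ ≫ kernel.ι φ.τ₂) ≫ S₁.g = 0 := by
    have : (x₂ ≫ kernel.map φ.τ₂ φ.τ₃ S₁.g S₂.g φ.comm₂₃) ≫ kernel.ι φ.τ₃ = 0 := by
      rw [hx₂, zero_comp]
    simpa using this
  obtain ⟨X', π, hπ, x₁, hx₁⟩ := h₁.exact_up_to_refinements _ h0
  have h1 : x₁ ≫ φ.τ₁ = 0 := by
    rw [← cancel_mono S₂.f, Category.assoc, φ.comm₁₂, ← Category.assoc, ← hx₁, zero_comp,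
      Category.assoc, Category.assoc, kernel.condition, comp_zero, comp_zero]
  refine ⟨X', π, hπ, kernel.lift φ.τ₁ x₁ h1, ?_⟩
  show π ≫ x₂ = kernel.lift φ.τ₁ x₁ h1 ≫ kernel.map φ.τ₁ φ.τ₂ S₁.f S₂.f φ.comm₁₂
  rw [← cancel_mono (kernel.ι φ.τ₂)]
  simp [hx₁]

theorem kerCx_epi_g {S₁ S₂ : ShortComplex A} (φ : S₁ ⟶ S₂) (h₂ : S₂.Exact) [Epi S₁.g]
    [Epi φ.τ₁] : Epi (kerCx φ).g := by
  rw [epi_iff_surjective_up_to_refinements]
  intro X (y : X ⟶ kernel φ.τ₃)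
  obtain ⟨X₁, π₁, hπ₁, w, hw⟩ :=
    surjective_up_to_refinements_of_epi S₁.g (y ≫ kernel.ι φ.τ₃)
  have h0 : (w ≫ φ.τ₂) ≫ S₂.g = 0 := by
    rw [Category.assoc, φ.comm₂₃, ← Category.assoc, ← hw, Category.assoc, Category.assoc,
      kernel.condition, comp_zero, comp_zero]
  obtain ⟨X₂, π₂, hπ₂, x₁, hx₁⟩ := h₂.exact_up_to_refinements _ h0
  obtain ⟨X₃, π₃, hπ₃, z, hz⟩ := surjective_up_to_refinements_of_epi φ.τ₁ x₁
  have h1 : (π₃ ≫ π₂ ≫ w - z ≫ S₁.f) ≫ φ.τ₂ = 0 := by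
    rw [Preadditive.sub_comp, Category.assoc, Category.assoc, Category.assoc, hx₁, ← φ.comm₁₂,
      ← Category.assoc z, ← hz, Category.assoc, sub_self]
  refine ⟨X₃, π₃ ≫ π₂ ≫ π₁, epi_comp _ _, kernel.lift φ.τ₂ _ h1, ?_⟩
  show (π₃ ≫ π₂ ≫ π₁) ≫ y = kernel.lift φ.τ₂ _ h1 ≫ kernel.map φ.τ₂ φ.τ₃ S₁.g S₂.g φ.comm₂₃
  rw [← cancel_mono (kernel.ι φ.τ₃)]
  simp [hw]

end Diagram

section Sums

/-- coproduct over a sum type as a biproduct of coproducts -/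
noncomputable def sumIso {T₁ T₂ : Type} [Finite T₁] [Finite T₂] (Z : T₁ ⊕ T₂ → A) :
    (∐ fun t => Z (Sum.inl t)) ⊞ (∐ fun t => Z (Sum.inr t)) ≅ ∐ Z where
  hom := biprod.desc (Sigma.desc fun t => Sigma.ι Z (Sum.inl t))
    (Sigma.desc fun t => Sigma.ι Z (Sum.inr t))
  inv := Sigma.desc (fun s => Sum.rec (motive := fun s => Z s ⟶
      (∐ fun t => Z (Sum.inl t)) ⊞ (∐ fun t => Z (Sum.inr t)))
    (fun t => Sigma.ι (fun t => Z (Sum.inl t)) t ≫ biprod.inl)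
    (fun t => Sigma.ι (fun t => Z (Sum.inr t)) t ≫ biprod.inr) s)
  hom_inv_id := by
    apply biprod.hom_ext'
    · apply Sigma.hom_ext
      intro t
      simp
    · apply Sigma.hom_ext
      intro t
      simp
  inv_hom_id := by
    apply Sigma.hom_ext
    rintro (t | t) <;> simp

theorem isZero_sigma_fin_zero (X : Fin 0 → A) : IsZero (∐ X) := by
  rw [IsZero.iff_id_eq_zero]
  apply Sigma.hom_ext
  intro i
  exact i.elim0

end Sums

variable {ι : Type w} (gen : ι → A)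

/-- closure of the generators under zero objects, binary biproducts and isomorphisms -/
inductive Cl : A → Prop
  | gen (i : ι) : Cl (gen i)
  | zero (X : A) (h : IsZero X) : Cl X
  | biprod (X Y : A) : Cl X → Cl Y → Cl (X ⊞ Y)
  | iso {X Y : A} (e : X ≅ Y) : Cl X → Cl Y

/-- quotient of an object of `Cl` -/
def Fg (X : A) : Prop := ∃ (P : A) (p : P ⟶ X), Cl gen P ∧ Epi p

/-- quotient of an object of `Cl` with finitely generated kernel -/
def Fp (X : A) : Prop := ∃ (P : A) (p : P ⟶ X), Cl gen P ∧ Epi p ∧ Fg gen (kernel p)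

/-- local lifting property -/
def Lift0 (P : A) : Prop := ∀ {G H : A} (q : G ⟶ H) [Epi q] (a : P ⟶ H),
  ∃ (P' : A) (e : P' ⟶ P) (b : P' ⟶ G), Cl gen P' ∧ Epi e ∧ b ≫ q = e ≫ a

/-- local lifting property with finitely generated kernels -/
def Lift (P : A) : Prop := ∀ {G H : A} (q : G ⟶ H) [Epi q] (a : P ⟶ H),
  ∃ (P' : A) (e : P' ⟶ P) (b : P' ⟶ G), Cl gen P' ∧ Epi e ∧ Fg gen (kernel e) ∧ b ≫ q = e ≫ a

variable {gen}

theorem Lift.lift0 {P : A} (h : Lift gen P) : Lift0 gen P := by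
  intro G H q _ a
  obtain ⟨P', e, b, h1, h2, _, h4⟩ := h q a
  exact ⟨P', e, b, h1, h2, h4⟩

theorem cl_sigma_fin : ∀ (n : ℕ) (X : Fin n → A), (∀ i, Cl gen (X i)) → Cl gen (∐ X) := by
  intro n
  induction n with
  | zero => intro X _; exact Cl.zero _ (isZero_sigma_fin_zero X)
  | succ n ih =>
    intro X hX
    let Z : Fin n ⊕ Fin 1 → A := fun s => X (finSumFinEquiv s)
    have e1 : ∐ Z ≅ ∐ X := Sigma.reindex finSumFinEquiv X
    have h1 : Cl gen (∐ fun t => Z (Sum.inl t)) := ih _ (fun i => hX _)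
    have h2 : Cl gen (∐ fun t => Z (Sum.inr t)) :=
      Cl.iso (coproductUniqueIso (fun t => Z (Sum.inr t))).symm (hX _)
    exact Cl.iso (sumIso Z ≪≫ e1) (Cl.biprod _ _ h1 h2)

theorem cl_sigma (T : Type) [Fintype T] (X : T → A) (hX : ∀ t, Cl gen (X t)) :
    Cl gen (∐ X) := by
  let e : Fin (Fintype.card T) ≃ T := (Fintype.equivFin T).symm
  have e1 : (∐ fun k => X (e k)) ≅ ∐ X := Sigma.whiskerEquiv e (fun j => Iso.refl _)
  exact Cl.iso e1 (cl_sigma_fin _ _ (fun k => hX _))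

theorem exists_fin_of_cl {X : A} (h : Cl gen X) :
    ∃ (n : ℕ) (u : Fin n → ι), Nonempty (X ≅ ∐ fun i => gen (u i)) := by
  induction h with
  | gen i => exact ⟨1, fun _ => i, ⟨(coproductUniqueIso (fun _ : Fin 1 => gen i)).symm⟩⟩
  | zero X h => exact ⟨0, Fin.elim0, ⟨h.iso (isZero_sigma_fin_zero _)⟩⟩
  | biprod X Y _ _ ihX ihY =>
    obtain ⟨n, u, ⟨eX⟩⟩ := ihX
    obtain ⟨m, v, ⟨eY⟩⟩ := ihY
    let Z : Fin n ⊕ Fin m → A := fun s => gen (Sum.elim u v s)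
    have e1 : ∐ Z ≅ ∐ fun k : Fin (n + m) => Z (finSumFinEquiv.symm k) :=
      (Sigma.reindex finSumFinEquiv.symm Z).symm
    exact ⟨n + m, fun k => Sum.elim u v (finSumFinEquiv.symm k),
      ⟨biprod.mapIso eX eY ≪≫ sumIso Z ≪≫ e1⟩⟩
  | iso e _ ih =>
    obtain ⟨n, u, ⟨e'⟩⟩ := ih
    exact ⟨n, u, ⟨e.symm ≪≫ e'⟩⟩

theorem Fg.of_cl {X : A} (h : Cl gen X) : Fg gen X := ⟨X, 𝟙 X, h, inferInstance⟩

theorem Fg.of_epi {X Y : A} (h : Fg gen X) (f : X ⟶ Y) [Epi f] : Fg gen Y := by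
  obtain ⟨P, p, hP, hp⟩ := h
  exact ⟨P, p ≫ f, hP, epi_comp _ _⟩

theorem Fg.of_iso {X Y : A} (h : Fg gen X) (e : X ≅ Y) : Fg gen Y := h.of_epi e.hom

theorem Fg.of_isZero {X : A} (h : IsZero X) : Fg gen X := Fg.of_cl (Cl.zero X h)

/-- lifting for all of `Cl` from lifting for the generators -/
theorem lift0_of_gen (hgen : ∀ i, Lift0 gen (gen i)) : ∀ P, Cl gen P → Lift0 gen P := by
  intro P hP
  induction hP with
  | gen i => exact hgen i
  | zero X h =>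
    intro G H q _ a
    exact ⟨X, 𝟙 X, 0, Cl.zero X h, inferInstance, h.eq_of_src _ _⟩
  | biprod X Y _ _ ihX ihY =>
    intro G H q _ a
    obtain ⟨X', e₁, b₁, h1, h2, h3⟩ := ihX q (biprod.inl ≫ a)
    obtain ⟨Y', e₂, b₂, h1', h2', h3'⟩ := ihY q (biprod.inr ≫ a)
    refine ⟨X' ⊞ Y', biprod.map e₁ e₂, biprod.desc b₁ b₂, Cl.biprod _ _ h1 h1', ?_, ?_⟩
    · infer_instance
    · apply biprod.hom_ext'
      · simp [h3]
      · simp [h3']
  | iso e _ ih =>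
    intro G H q _ a
    obtain ⟨P', e', b, h1, h2, h3⟩ := ih q (e.hom ≫ a)
    exact ⟨P', e' ≫ e.hom, b, h1, epi_comp _ _, by rw [h3, Category.assoc]⟩

/-- extensions of finitely generated objects are finitely generated -/
theorem Fg.extension (hL : ∀ P, Cl gen P → Lift0 gen P) (S : ShortComplex A) (hS : S.Exact)
    [Epi S.g] (h₁ : Fg gen S.X₁) (h₃ : Fg gen S.X₃) : Fg gen S.X₂ := by
  obtain ⟨P₁, p₁, hP₁, hp₁⟩ := h₁
  obtain ⟨P₃, p₃, hP₃, hp₃⟩ := h₃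
  obtain ⟨P₃', e, b, hP₃', he, hb⟩ := hL P₃ hP₃ S.g p₃
  let S₁ : ShortComplex A := ShortComplex.mk (biprod.inl : P₁ ⟶ P₁ ⊞ P₃') biprod.snd (by simp)
  let φ : S₁ ⟶ S :=
    { τ₁ := p₁
      τ₂ := biprod.desc (p₁ ≫ S.f) b
      τ₃ := e ≫ p₃
      comm₁₂ := by simp [S₁]
      comm₂₃ := by
        apply biprod.hom_ext'
        · simp [S₁]
        · simp [S₁, hb] }
  have h : Epi (S₁.g ≫ φ.τ₃) := by
    show Epi (biprod.snd ≫ e ≫ p₃)
    infer_instance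
  exact ⟨P₁ ⊞ P₃', φ.τ₂, Cl.biprod _ _ hP₁ hP₃', epi_τ₂ φ hS hp₁ h⟩

/-- the kernel of a composition `e ≫ p` with `e` epi is an extension of kernels -/
theorem fg_kernel_comp (hL : ∀ P, Cl gen P → Lift0 gen P) {P' P X : A} (e : P' ⟶ P) [Epi e]
    (p : P ⟶ X) (h₁ : Fg gen (kernel e)) (h₂ : Fg gen (kernel p)) :
    Fg gen (kernel (e ≫ p)) := by
  let S : ShortComplex A := ShortComplex.mk
    (kernel.lift (e ≫ p) (kernel.ι e) (by simp))
    (kernel.lift p (kernel.ι (e ≫ p) ≫ e) (by simp))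
    (by
      apply equalizer.hom_ext
      simp)
  have hS : S.Exact := by
    rw [ShortComplex.exact_iff_exact_up_to_refinements]
    intro Y (x₂ : Y ⟶ kernel (e ≫ p))
      (hx₂ : x₂ ≫ kernel.lift p (kernel.ι (e ≫ p) ≫ e) (by simp) = 0)
    have h0 : (x₂ ≫ kernel.ι (e ≫ p)) ≫ e = 0 := by
      have : (x₂ ≫ kernel.lift p (kernel.ι (e ≫ p) ≫ e) (by simp)) ≫ kernel.ι p = 0 := by
        rw [hx₂, zero_comp]
      simpa using this
    refine ⟨Y, 𝟙 Y, inferInstance, kernel.lift e _ h0, ?_⟩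
    show 𝟙 Y ≫ x₂ = kernel.lift e _ h0 ≫ kernel.lift (e ≫ p) (kernel.ι e) (by simp)
    rw [← cancel_mono (kernel.ι (e ≫ p))]
    simp
  have : Epi S.g := by
    rw [epi_iff_surjective_up_to_refinements]
    intro Y (y : Y ⟶ kernel p)
    obtain ⟨Y', π, hπ, w, hw⟩ := surjective_up_to_refinements_of_epi e (y ≫ kernel.ι p)
    have h0 : w ≫ e ≫ p = 0 := by
      rw [← Category.assoc, ← hw, Category.assoc, Category.assoc, kernel.condition, comp_zero,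
        comp_zero]
    refine ⟨Y', π, hπ, kernel.lift (e ≫ p) w h0, ?_⟩
    show π ≫ y = kernel.lift (e ≫ p) w h0 ≫ kernel.lift p (kernel.ι (e ≫ p) ≫ e) (by simp)
    rw [← cancel_mono (kernel.ι p)]
    simp [hw]
  exact Fg.extension hL S hS h₁ h₂

/-- lifting with finitely generated kernels for all of `Cl` from the generators -/
theorem lift_of_gen (hgen : ∀ i, Lift gen (gen i)) : ∀ P, Cl gen P → Lift gen P := by
  have hL : ∀ P, Cl gen P → Lift0 gen P := lift0_of_gen (fun i => Lift.lift0 (hgen i))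
  intro P hP
  induction hP with
  | gen i => exact hgen i
  | zero X h =>
    intro G H q _ a
    exact ⟨X, 𝟙 X, 0, Cl.zero X h, inferInstance,
      Fg.of_isZero (isZero_kernel_of_mono (𝟙 X)), h.eq_of_src _ _⟩
  | biprod X Y _ _ ihX ihY =>
    intro G H q _ a
    obtain ⟨X', e₁, b₁, h1, h2, hk, h3⟩ := ihX q (biprod.inl ≫ a)
    obtain ⟨Y', e₂, b₂, h1', h2', hk', h3'⟩ := ihY q (biprod.inr ≫ a)
    refine ⟨X' ⊞ Y', biprod.map e₁ e₂, biprod.desc b₁ b₂, Cl.biprod _ _ h1 h1', ?_, ?_, ?_⟩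
    · infer_instance
    · let S₁ : ShortComplex A :=
        ShortComplex.mk (biprod.inl : X' ⟶ X' ⊞ Y') biprod.snd (by simp)
      let S₂ : ShortComplex A :=
        ShortComplex.mk (biprod.inl : X ⟶ X ⊞ Y) biprod.snd (by simp)
      let φ : S₁ ⟶ S₂ :=
        { τ₁ := e₁
          τ₂ := biprod.map e₁ e₂
          τ₃ := e₂
          comm₁₂ := by simp [S₁, S₂]
          comm₂₃ := by simp [S₁, S₂] }
      have hS₁ : S₁.Exact := (ShortComplex.Splitting.ofHasBinaryBiproduct X' Y').exact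
      have hS₂ : S₂.Exact := (ShortComplex.Splitting.ofHasBinaryBiproduct X Y).exact
      have : Mono S₂.f := by
        show Mono (biprod.inl : X ⟶ X ⊞ Y)
        infer_instance
      have : Epi S₁.g := by
        show Epi (biprod.snd : X' ⊞ Y' ⟶ Y')
        infer_instance
      have : Epi φ.τ₁ := h2
      have : Epi (kerCx φ).g := kerCx_epi_g φ hS₂
      exact Fg.extension hL (kerCx φ) (kerCx_exact φ hS₁) hk hk'
    · apply biprod.hom_ext'
      · simp [h3]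
      · simp [h3']
  | iso e _ ih =>
    intro G H q _ a
    obtain ⟨P', e', b, h1, h2, hk, h3⟩ := ih q (e.hom ≫ a)
    exact ⟨P', e' ≫ e.hom, b, h1, epi_comp _ _, hk.of_iso (kernelCompMono e' e.hom).symm,
      by rw [h3, Category.assoc]⟩

theorem Fp.of_iso {X Y : A} (h : Fp gen X) (e : X ≅ Y) : Fp gen Y := by
  obtain ⟨P, p, hP, hp, hk⟩ := h
  exact ⟨P, p ≫ e.hom, hP, epi_comp _ _, hk.of_iso (kernelCompMono p e.hom).symm⟩

/-- a cokernel of a map between objects of `Cl` is finitely presented -/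
theorem Fp.of_cokernel {R P : A} (ψ : R ⟶ P) (hR : Cl gen R) (hP : Cl gen P) :
    Fp gen (cokernel ψ) := by
  refine ⟨P, cokernel.π ψ, hP, inferInstance, R, kernel.lift (cokernel.π ψ) ψ (by simp), hR, ?_⟩
  exact (ShortComplex.exact_cokernel ψ).epi_kernelLift

theorem Fp.exists_cokernel {X : A} (h : Fp gen X) :
    ∃ (R P : A) (ψ : R ⟶ P), Cl gen R ∧ Cl gen P ∧ Nonempty (X ≅ cokernel ψ) := by
  obtain ⟨P, p, hP, hp, R, r, hR, hr⟩ := h
  refine ⟨R, P, r ≫ kernel.ι p, hR, hP, ⟨?_⟩⟩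
  have hc : IsColimit (CokernelCofork.ofπ (f := r ≫ kernel.ι p) p (by simp)) :=
    isCokernelEpiComp (c := CokernelCofork.ofπ _ (kernel.condition p))
      (Abelian.epiIsCokernelOfKernel _ <| limit.isLimit _) _ rfl
  exact hc.coconePointUniqueUpToIso (colimit.isColimit _)

theorem fp_iff {X : A} : Fp gen X ↔
    ∃ (R P : A) (ψ : R ⟶ P), Cl gen R ∧ Cl gen P ∧ Nonempty (X ≅ cokernel ψ) := by
  constructor
  · exact Fp.exists_cokernel
  · rintro ⟨R, P, ψ, hR, hP, ⟨e⟩⟩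
    exact (Fp.of_cokernel ψ hR hP).of_iso e.symm

/-- extensions of finitely presented objects are finitely presented -/
theorem Fp.extension (hgen : ∀ i, Lift gen (gen i)) (S : ShortComplex A) (hS : S.ShortExact)
    (h₁ : Fp gen S.X₁) (h₃ : Fp gen S.X₃) : Fp gen S.X₂ := by
  have hL0 : ∀ P, Cl gen P → Lift0 gen P := lift0_of_gen (fun i => Lift.lift0 (hgen i))
  have hL : ∀ P, Cl gen P → Lift gen P := lift_of_gen hgen
  have := hS.mono_f
  have := hS.epi_g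
  obtain ⟨P₁, p₁, hP₁, hp₁, hk₁⟩ := h₁
  obtain ⟨P₃, p₃, hP₃, hp₃, hk₃⟩ := h₃
  obtain ⟨P₃', e, b, hP₃', he, hke, hb⟩ := hL P₃ hP₃ S.g p₃
  have hk₃' : Fg gen (kernel (e ≫ p₃)) := fg_kernel_comp hL0 e p₃ hke hk₃
  let S₁ : ShortComplex A := ShortComplex.mk (biprod.inl : P₁ ⟶ P₁ ⊞ P₃') biprod.snd (by simp)
  let φ : S₁ ⟶ S :=
    { τ₁ := p₁
      τ₂ := biprod.desc (p₁ ≫ S.f) b
      τ₃ := e ≫ p₃
      comm₁₂ := by simp [S₁]
      comm₂₃ := by
        apply biprod.hom_ext'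
        · simp [S₁]
        · simp [S₁, hb] }
  have h : Epi (S₁.g ≫ φ.τ₃) := by
    show Epi (biprod.snd ≫ e ≫ p₃)
    infer_instance
  have hS₁ : S₁.Exact := (ShortComplex.Splitting.ofHasBinaryBiproduct P₁ P₃').exact
  have : Epi S₁.g := by
    show Epi (biprod.snd : P₁ ⊞ P₃' ⟶ P₃')
    infer_instance
  have : Epi φ.τ₁ := hp₁
  have : Epi (kerCx φ).g := kerCx_epi_g φ hS.exact
  refine ⟨P₁ ⊞ P₃', φ.τ₂, Cl.biprod _ _ hP₁ hP₃', epi_τ₂ φ hS.exact hp₁ h, ?_⟩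
  exact Fg.extension hL0 (kerCx φ) (kerCx_exact φ hS₁) hk₁ hk₃'

/-- kernels of maps between finitely presented objects are finitely presented, provided this
holds for maps between objects of `Cl` and cokernels of finitely presented objects are
finitely presented -/
theorem fp_kernel (hgen : ∀ i, Lift gen (gen i))
    (hker : ∀ {P Q : A} (φ : P ⟶ Q), Cl gen P → Cl gen Q → Fp gen (kernel φ))
    (hcoker : ∀ {F G : A} (α : F ⟶ G), Fp gen F → Fp gen G → Fp gen (cokernel α))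
    {F G : A} (α : F ⟶ G) (hF : Fp gen F) (hG : Fp gen G) : Fp gen (kernel α) := by
  have hL0 : ∀ P, Cl gen P → Lift0 gen P := lift0_of_gen (fun i => Lift.lift0 (hgen i))
  have hL : ∀ P, Cl gen P → Lift gen P := lift_of_gen hgen
  obtain ⟨P₀, p₀, hP₀, hp₀, hk₀⟩ := hF
  obtain ⟨Q, q, hQ, hq, RQ, r, hRQ, hr⟩ := hG
  obtain ⟨P, e, φ', hP, he, hke, hφ'⟩ := hL P₀ hP₀ q (p₀ ≫ α)
  obtain ⟨RP, rP, hRP, hrP⟩ := fg_kernel_comp hL0 e p₀ hke hk₀
  let p : P ⟶ F := e ≫ p₀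
  have hφ : φ' ≫ q = p ≫ α := by rw [hφ']; simp [p]
  have hp : Epi p := epi_comp _ _
  change RP ⟶ kernel p at rP
  let ψ : P ⊞ RQ ⟶ Q := biprod.desc φ' (r ≫ kernel.ι q)
  let ψ₂ : RP ⊞ RQ ⟶ Q := biprod.desc (rP ≫ kernel.ι p ≫ φ') (r ≫ kernel.ι q)
  have hψ : Fp gen (kernel ψ) := hker ψ (Cl.biprod _ _ hP hRQ) hQ
  have hψ₂ : Fp gen (kernel ψ₂) := hker ψ₂ (Cl.biprod _ _ hRP hRQ) hQ
  have hψq : ψ ≫ q = biprod.fst ≫ p ≫ α := by
    apply biprod.hom_ext'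
    · simp [ψ, hφ]
    · simp [ψ]
  let μ : kernel ψ₂ ⟶ kernel ψ := kernel.map ψ₂ ψ (biprod.map (rP ≫ kernel.ι p) (𝟙 RQ)) (𝟙 Q) (by
    apply biprod.hom_ext'
    · simp [ψ, ψ₂]
    · simp [ψ, ψ₂])
  let ν : kernel ψ ⟶ kernel α := kernel.lift α (kernel.ι ψ ≫ biprod.fst ≫ p) (by
    rw [Category.assoc, Category.assoc, ← hψq, kernel.condition_assoc, zero_comp])
  have hμν : μ ≫ ν = 0 := by
    apply equalizer.hom_ext
    simp [μ, ν]
  let S : ShortComplex A := ShortComplex.mk μ ν hμν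
  have hS : S.Exact := by
    rw [ShortComplex.exact_iff_exact_up_to_refinements]
    intro Y (x₂ : Y ⟶ kernel ψ) (hx₂ : x₂ ≫ ν = 0)
    obtain ⟨u, hudef⟩ : ∃ u : Y ⟶ P, u = x₂ ≫ kernel.ι ψ ≫ biprod.fst := ⟨_, rfl⟩
    obtain ⟨v, hvdef⟩ : ∃ v : Y ⟶ RQ, v = x₂ ≫ kernel.ι ψ ≫ biprod.snd := ⟨_, rfl⟩
    have hu : u ≫ p = 0 := by
      have : (x₂ ≫ ν) ≫ kernel.ι α = 0 := by rw [hx₂, zero_comp]
      rw [hudef]
      simpa [ν] using this
    obtain ⟨Y', π, hπ, z, hz⟩ := surjective_up_to_refinements_of_epi rP (kernel.lift p u hu)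
    have hz' : z ≫ rP ≫ kernel.ι p = π ≫ u := by
      rw [← Category.assoc, ← hz, Category.assoc, kernel.lift_ι]
    have huv : u ≫ φ' + v ≫ r ≫ kernel.ι q = 0 := by
      have h1 : (x₂ ≫ kernel.ι ψ) ≫ ψ = 0 := by rw [Category.assoc, kernel.condition, comp_zero]
      have h2 : ψ = biprod.fst ≫ φ' + biprod.snd ≫ r ≫ kernel.ι q := by
        apply biprod.hom_ext'
        · simp [ψ]
        · simp [ψ]
      have h3 : (x₂ ≫ kernel.ι ψ) ≫ (biprod.fst ≫ φ' + biprod.snd ≫ r ≫ kernel.ι q) = 0 := by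
        rw [← h2]
        exact h1
      rw [Preadditive.comp_add] at h3
      rw [hudef, hvdef]
      simpa only [Category.assoc] using h3
    have hw : biprod.lift z (π ≫ v) ≫ ψ₂ = 0 := by
      have e1 : biprod.lift z (π ≫ v) ≫ ψ₂ =
          z ≫ rP ≫ kernel.ι p ≫ φ' + (π ≫ v) ≫ r ≫ kernel.ι q := by
        simp only [ψ₂, biprod.lift_desc]
      have e2 : z ≫ rP ≫ kernel.ι p ≫ φ' = π ≫ u ≫ φ' := by
        rw [← Category.assoc rP, ← Category.assoc z, hz', Category.assoc]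
      rw [e1, e2, Category.assoc, ← Preadditive.comp_add, huv, comp_zero]
    refine ⟨Y', π, hπ, kernel.lift ψ₂ _ hw, ?_⟩
    show π ≫ x₂ = kernel.lift ψ₂ _ hw ≫ μ
    rw [← cancel_mono (kernel.ι ψ)]
    have e3 : (kernel.lift ψ₂ _ hw ≫ μ) ≫ kernel.ι ψ =
        biprod.lift z (π ≫ v) ≫ biprod.map (rP ≫ kernel.ι p) (𝟙 RQ) := by
      simp [μ]
    rw [e3]
    apply biprod.hom_ext
    · simp only [Category.assoc, biprod.map_fst, biprod.lift_fst_assoc]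
      rw [hz', hudef]
    · simp only [Category.assoc, biprod.map_snd, Category.comp_id, biprod.lift_snd]
      rw [hvdef]
  have hν : Epi ν := by
    rw [epi_iff_surjective_up_to_refinements]
    intro Y (y : Y ⟶ kernel α)
    obtain ⟨Y₁, π₁, hπ₁, x, hx⟩ := surjective_up_to_refinements_of_epi p (y ≫ kernel.ι α)
    have hxq : (x ≫ φ') ≫ q = 0 := by
      rw [Category.assoc, hφ, ← Category.assoc, ← hx, Category.assoc, Category.assoc,
        kernel.condition, comp_zero, comp_zero]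
    obtain ⟨Y₂, π₂, hπ₂, z, hz⟩ :=
      surjective_up_to_refinements_of_epi r (kernel.lift q (x ≫ φ') hxq)
    have hz' : z ≫ r ≫ kernel.ι q = π₂ ≫ x ≫ φ' := by
      rw [← Category.assoc, ← hz, Category.assoc, kernel.lift_ι]
    have hw : biprod.lift (π₂ ≫ x) (-z) ≫ ψ = 0 := by
      simp only [ψ, biprod.lift_desc, Preadditive.neg_comp, Category.assoc]
      rw [hz']
      abel
    refine ⟨Y₂, π₂ ≫ π₁, epi_comp _ _, kernel.lift ψ _ hw, ?_⟩
    rw [← cancel_mono (kernel.ι α)]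
    simp [ν, hx]
  have hc : IsColimit (CokernelCofork.ofπ S.g S.zero) := hS.gIsCokernel
  have e1 : kernel α ≅ cokernel μ :=
    hc.coconePointUniqueUpToIso (colimit.isColimit (parallelPair μ 0))
  exact (hcoker μ hψ₂ hψ).of_iso e1.symm

end Groth.Agent.H92.FgFp
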