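import Groth.Agent.H92.FreeOnQc
import Groth.Agent.H92.FgFp

/-!
# Finitely presented modules relative to a basis of quasi-compact objects (helper92)
-/

set_option autoImplicit false

namespace Groth.Agent.H92.FreeOnFp

open CategoryTheory Limits Opposite
open Groth.Agent.H92.HZComp Groth.Agent.H92.SuppSect Groth.Agent.H92.FreeOnQc
open Groth.Agent.H92.FgFp Groth.Agent.H30.ModCech

universe u

variable {C : Type u} [SmallCategory C] {J : GrothendieckTopology C}

/-- a jointly surjective family of representable sheaves generates a covering sieve -/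
theorem ofArrows_mem_of_jointlySurjective {U : C} {I : Type u} (W : I → C) (f : ∀ i, W i ⟶ U)
    (hf : CohCx.JointlySurjective (fun i => epsMap J (f i))) : Sieve.ofArrows W f ∈ J U := by
  obtain ⟨S, hS, hS'⟩ := hf U (eU U)
  refine J.transitive hS _ (fun V g hg => ?_)
  obtain ⟨i, x, hx⟩ := hS' V g hg
  have hls : Presheaf.IsLocallySurjective J (toSheafify J (yoneda.obj (W i))) :=
    Presheaf.isLocallySurjective_toSheafify' J _
  have hS₁ : Presheaf.imageSieve (toSheafify J (yoneda.obj (W i))) x ∈ J V :=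
    hls.imageSieve_mem x
  refine J.transitive hS₁ _ (fun V' h hh => ?_)
  obtain ⟨l, hl⟩ := hh
  have heq : (toSheafify J (yoneda.obj U)).app (op V') (l ≫ f i) =
      (toSheafify J (yoneda.obj U)).app (op V') (h ≫ g) := by
    rw [← epsMap_toSheafify (f i) l]
    have n1 := NatTrans.naturality_apply (epsMap J (f i)).hom h.op x
    have n2 := NatTrans.naturality_apply (toSheafify J (yoneda.obj U)) h.op g
    have e1 : (epsMap J (f i)).hom.app (op V') ((toSheafify J (yoneda.obj (W i))).app (op V') l) =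
        (epsMap J (f i)).hom.app (op V') ((ToposFin.eps J (W i)).obj.map h.op x) :=
      congrArg _ hl
    refine e1.trans (n1.trans ?_)
    rw [hx, ← toSheafify_yoneda_app U g]
    exact n2.symm
  have hli : Presheaf.IsLocallyInjective J (toSheafify J (yoneda.obj U)) :=
    Presheaf.isLocallyInjective_toSheafify' J _
  have hS₂ := Presheaf.equalizerSieve_mem J (toSheafify J (yoneda.obj U)) _ _ heq
  refine J.superset_covering ?_ hS₂
  intro V'' j hj
  have hj' : j ≫ l ≫ f i = j ≫ h ≫ g := hj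
  show Sieve.ofArrows W f ((j ≫ h) ≫ g)
  rw [Category.assoc, ← hj', ← Category.assoc]
  exact (Sieve.ofArrows W f).downward_closed (Sieve.ofArrows_mk W f i) (j ≫ l)

section FreeOn

variable (O : Sheaf J CommRingCat.{u})

theorem freeOnMap_comp {W V U : C} (g : W ⟶ V) (f : V ⟶ U) :
    freeOnMap O (g ≫ f) = freeOnMap O g ≫ freeOnMap O f := by
  apply (Groth.Agent.H53.freeOnHomEquiv O W _).injective
  rw [freeOnHomEquiv_freeOnMap_comp]
  unfold freeOnMap
  rw [Equiv.apply_symm_apply, Equiv.apply_symm_apply]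
  exact PresheafOfModules.map_comp_apply _ f.op g.op _

variable [HasPullbacks C]

/-- gluing sections of a module along a covering family -/
theorem exists_glue {U : C} {I : Type} (W : I → C) (f : ∀ i, W i ⟶ U)
    (hcov : Sieve.ofArrows W f ∈ J U) (M : ModSite.Mod O) (x : ∀ i, M.val.obj (op (W i)))
    (hx : ∀ i j, M.val.map (pullback.fst (f i) (f j)).op (x i) =
      M.val.map (pullback.snd (f i) (f j)).op (x j)) :
    ∃ t : M.val.obj (op U), ∀ i, M.val.map (f i).op t = x i := by
  let N : Sheaf J (Type u) := (UU (ModSite.ringSh O) ⋙ W1).obj M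
  have h1 : Presieve.IsSheafFor N.obj (Sieve.ofArrows W f).arrows :=
    (isSheaf_iff_isSheaf_of_type J N.obj).1 N.2 _ hcov
  have h2 : Presieve.IsSheafFor N.obj (Presieve.ofArrows W f) :=
    (Presieve.isSheafFor_iff_generate _).2 h1
  rw [Presieve.isSheafFor_arrows_iff_pullbacks] at h2
  obtain ⟨t, ht, _⟩ := h2 x hx
  exact ⟨t, ht⟩

end FreeOn

section Lift

variable (O : Sheaf J CommRingCat.{u})

/-- version of `exists_finite_lift` which records that the finite family is covering -/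
theorem exists_finite_lift_cov (B : Set C)
    (hB₁ : ∀ X : C, ∃ (κ : Type u) (Y : κ → C) (g : ∀ k, Y k ⟶ X),
      Sieve.ofArrows Y g ∈ J X ∧ ∀ k, Y k ∈ B)
    {U : C} (hU : CohCx.IsQcObject (ToposFin.eps J U))
    {Q G : ModSite.Mod O} (q : Q ⟶ G) [Epi q] (a : ModSite.freeOn O U ⟶ G) :
    ∃ (n : ℕ) (W : Fin n → C) (f : ∀ k, W k ⟶ U) (β : ∀ k, ModSite.freeOn O (W k) ⟶ Q),
      (∀ k, W k ∈ B) ∧ (∀ k, β k ≫ q = freeOnMap O (f k) ≫ a) ∧
      (∀ {M : ModSite.Mod O} (x y : ModSite.freeOn O U ⟶ M),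
        (∀ k, freeOnMap O (f k) ≫ x = freeOnMap O (f k) ≫ y) → x = y) ∧
      Sieve.ofArrows W f ∈ J U := by
  choose κ Y y hy hyB using hB₁
  let g : G.val.obj (op U) := Groth.Agent.H53.freeOnHomEquiv O U G a
  have hepi : Epi ((SheafOfModules.toSheaf (ModSite.ringSh O)).map q) :=
    Groth.Agent.H53.toSheaf_map_epi _ q
  have hls : Presheaf.IsLocallySurjective J
      ((SheafOfModules.toSheaf (ModSite.ringSh O)).map q).hom :=
    (Sheaf.isLocallySurjective_iff_epi' _ _).2 hepi
  let g' : ((SheafOfModules.toSheaf (ModSite.ringSh O)).obj G).obj.obj (op U) := g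
  let S := Presheaf.imageSieve ((SheafOfModules.toSheaf (ModSite.ringSh O)).map q).hom g'
  have hS : S ∈ J U := hls.imageSieve_mem g'
  let I : Type u := Σ V : C, {i : V ⟶ U // S i} × κ V
  let W : I → C := fun idx => Y idx.1 idx.2.2
  let f : ∀ idx : I, W idx ⟶ U := fun idx => y idx.1 idx.2.2 ≫ idx.2.1.1
  have hcov : Sieve.ofArrows W f ∈ J U := by
    refine J.superset_covering ?_
      (J.bind_covering hS (fun V i _ => hy V) :
        Sieve.bind S (fun V _ _ => Sieve.ofArrows (Y V) (y V)) ∈ J U)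
    rintro V'' h ⟨V, k', i, hi, hk', rfl⟩
    rw [Sieve.mem_ofArrows_iff] at hk'
    obtain ⟨k, l, rfl⟩ := hk'
    rw [Category.assoc]
    exact (Sieve.ofArrows W f).downward_closed
      (Sieve.ofArrows_mk W f (⟨V, ⟨i, hi⟩, k⟩ : I)) l
  obtain ⟨t, ht⟩ := exists_finset_jointlySurjective hU W f hcov
  have hSf : ∀ idx : I, S (f idx) := fun idx => S.downward_closed idx.2.1.2 _
  choose τ hτ using hSf
  let e : Fin t.card ≃ t := t.equivFin.symm
  refine ⟨t.card, fun k => W (e k).1, fun k => f (e k).1,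
    fun k => (Groth.Agent.H53.freeOnHomEquiv O _ Q).symm (τ (e k).1), fun k => hyB _ _, ?_, ?_, ?_⟩
  · intro k
    rw [Groth.Agent.H53.freeOnHomEquiv_symm_comp]
    have h1 : a = (Groth.Agent.H53.freeOnHomEquiv O U G).symm g := by
      simp only [g, Equiv.symm_apply_apply]
    rw [h1, freeOnMap_comp_symm]
    congr 1
    exact hτ (e k).1
  · intro M x y hxy
    apply freeOn_hom_ext_of_jointlySurjective O (fun i : t => W i.1) (fun i : t => f i.1) ht
    intro i
    obtain ⟨k, rfl⟩ := e.surjective i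
    exact hxy k
  · have h1 := ofArrows_mem_of_jointlySurjective (fun i : t => W i.1) (fun i : t => f i.1) ht
    refine J.superset_covering ?_ h1
    intro V h hh
    rw [Sieve.mem_ofArrows_iff] at hh
    obtain ⟨i, l, rfl⟩ := hh
    obtain ⟨k, rfl⟩ := e.surjective i
    exact (Sieve.ofArrows (fun k => W (e k).1) (fun k => f (e k).1)).downward_closed
      (Sieve.ofArrows_mk (fun k => W (e k).1) (fun k => f (e k).1) k) l

/-- the generators: extensions by zero of the structure sheaf from members of `B` -/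
noncomputable abbrev gen (B : Set C) : {U : C // U ∈ B} → ModSite.Mod O :=
  fun u => ModSite.freeOn O u.1

section Cech

variable [HasPullbacks C]

/-- exactness of the Čech-type presentation of `freeOn O U` attached to a covering family -/
theorem epi_kernel_lift_cech {U : C} {n : ℕ} (W : Fin n → C) (f : ∀ k, W k ⟶ U)
    (hcov : Sieve.ofArrows W f ∈ J U)
    (e : (∐ fun k : Fin n => ModSite.freeOn O (W k)) ⟶ ModSite.freeOn O U)
    (hιe : ∀ k, Sigma.ι (fun k : Fin n => ModSite.freeOn O (W k)) k ≫ e = freeOnMap O (f k))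
    (he : Epi e)
    {R : ModSite.Mod O} (d : R ⟶ ∐ fun k : Fin n => ModSite.freeOn O (W k))
    (hd : d ≫ e = 0)
    (hR : ∀ {Z : ModSite.Mod O} (h : (∐ fun k : Fin n => ModSite.freeOn O (W k)) ⟶ Z),
      d ≫ h = 0 → ∀ k l,
        freeOnMap O (pullback.fst (f k) (f l)) ≫
            Sigma.ι (fun k : Fin n => ModSite.freeOn O (W k)) k ≫ h =
          freeOnMap O (pullback.snd (f k) (f l)) ≫
            Sigma.ι (fun k : Fin n => ModSite.freeOn O (W k)) l ≫ h) :
    Epi (kernel.lift e d hd) := by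
  have key : ∀ {Z : ModSite.Mod O} (h : (∐ fun k : Fin n => ModSite.freeOn O (W k)) ⟶ Z),
      d ≫ h = 0 → ∃ h' : ModSite.freeOn O U ⟶ Z, e ≫ h' = h := by
    intro Z h hh
    have hx : ∀ k l : Fin n, Z.val.map (pullback.fst (f k) (f l)).op
          (Groth.Agent.H53.freeOnHomEquiv O (W k) Z
            (Sigma.ι (fun k => ModSite.freeOn O (W k)) k ≫ h)) =
        Z.val.map (pullback.snd (f k) (f l)).op
          (Groth.Agent.H53.freeOnHomEquiv O (W l) Z
            (Sigma.ι (fun k => ModSite.freeOn O (W k)) l ≫ h)) := by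
      intro k l
      rw [← freeOnHomEquiv_freeOnMap_comp, ← freeOnHomEquiv_freeOnMap_comp]
      exact congrArg _ (hR h hh k l)
    obtain ⟨t, ht⟩ := exists_glue O W f hcov Z
      (fun k => Groth.Agent.H53.freeOnHomEquiv O (W k) Z
        (Sigma.ι (fun k => ModSite.freeOn O (W k)) k ≫ h)) hx
    refine ⟨(Groth.Agent.H53.freeOnHomEquiv O U Z).symm t, ?_⟩
    apply Sigma.hom_ext
    intro k
    rw [← Category.assoc, hιe, freeOnMap_comp_symm, ht k, Equiv.symm_apply_apply]
  have hc : IsColimit (CokernelCofork.ofπ e hd) := by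
    refine CokernelCofork.IsColimit.ofπ _ _ (fun {Z} h hh => (key h hh).choose) ?_ ?_
    · intro Z h hh
      exact (key h hh).choose_spec
    · intro Z h hh m hm
      rw [← cancel_epi e, hm]
      exact (key h hh).choose_spec.symm
  exact ((ShortComplex.mk d e hd).exact_of_g_is_cokernel hc).epi_kernelLift

end Cech

variable [HasPullbacks C]

theorem lift_gen (B : Set C)
    (hB₁ : ∀ X : C, ∃ (κ : Type u) (Y : κ → C) (g : ∀ k, Y k ⟶ X),
      Sieve.ofArrows Y g ∈ J X ∧ ∀ k, Y k ∈ B)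
    (hB₂ : ∀ U ∈ B, CohCx.IsQcObject ((presheafToSheaf J (Type u)).obj (yoneda.obj U)))
    (hB₃ : ∀ (U U₁ U₂ : C) (f₁ : U₁ ⟶ U) (f₂ : U₂ ⟶ U), U ∈ B → U₁ ∈ B → U₂ ∈ B →
      CohCx.IsQcObject ((presheafToSheaf J (Type u)).obj (yoneda.obj (pullback f₁ f₂))))
    (u : {U : C // U ∈ B}) : Lift (gen O B) (gen O B u) := by
  intro G H q _ a
  obtain ⟨n, W, f, β, hWB, hβ, hext, hcov⟩ :=
    exists_finite_lift_cov O B hB₁ (hB₂ u.1 u.2) q a
  have he : Epi (Sigma.desc (fun k => freeOnMap O (f k)) :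
      (∐ fun k : Fin n => ModSite.freeOn O (W k)) ⟶ ModSite.freeOn O u.1) :=
    ⟨fun x y h => hext x y (fun k => by
      have := Sigma.ι (fun k : Fin n => ModSite.freeOn O (W k)) k ≫= h
      simpa using this)⟩
  have hP' : Cl (gen O B) (∐ fun k : Fin n => ModSite.freeOn O (W k)) :=
    cl_sigma_fin n _ (fun k => Cl.gen (⟨W k, hWB k⟩ : {U : C // U ∈ B}))
  refine ⟨∐ fun k : Fin n => ModSite.freeOn O (W k), Sigma.desc (fun k => freeOnMap O (f k)),
    Sigma.desc β, hP', he, ?_, ?_⟩
  · -- the kernel is finitely generated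
    have hl := fun (k l : Fin n) => exists_finite_lift O B hB₁
      (hB₃ u.1 (W k) (W l) (f k) (f l) u.2 (hWB k) (hWB l))
      (𝟙 (ModSite.freeOn O (pullback (f k) (f l)))) (𝟙 _)
    choose m Y y β' hYB hβ' hYext using hl
    have hdd : ∀ k l : Fin n,
        (freeOnMap O (pullback.fst (f k) (f l)) ≫ Sigma.ι (fun k => ModSite.freeOn O (W k)) k -
          freeOnMap O (pullback.snd (f k) (f l)) ≫ Sigma.ι (fun k => ModSite.freeOn O (W k)) l) ≫
        (Sigma.desc (fun k => freeOnMap O (f k)) :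
          (∐ fun k : Fin n => ModSite.freeOn O (W k)) ⟶ ModSite.freeOn O u.1) = 0 := by
      intro k l
      rw [Preadditive.sub_comp, Category.assoc, Category.assoc, Sigma.ι_desc, Sigma.ι_desc,
        ← freeOnMap_comp, ← freeOnMap_comp, pullback.condition, sub_self]
    let T : Type := (k : Fin n) × (l : Fin n) × Fin (m k l)
    let X : T → ModSite.Mod O := fun t => ModSite.freeOn O (Y t.1 t.2.1 t.2.2)
    have hX : ∀ t, Cl (gen O B) (X t) := fun t =>
      Cl.gen (⟨Y t.1 t.2.1 t.2.2, hYB _ _ _⟩ : {U : C // U ∈ B})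
    let dt : ∀ t : T, X t ⟶ ∐ fun k : Fin n => ModSite.freeOn O (W k) := fun t =>
      freeOnMap O (y t.1 t.2.1 t.2.2) ≫
        (freeOnMap O (pullback.fst (f t.1) (f t.2.1)) ≫
            Sigma.ι (fun k => ModSite.freeOn O (W k)) t.1 -
          freeOnMap O (pullback.snd (f t.1) (f t.2.1)) ≫
            Sigma.ι (fun k => ModSite.freeOn O (W k)) t.2.1)
    have hd : Sigma.desc dt ≫ (Sigma.desc (fun k => freeOnMap O (f k)) :
        (∐ fun k : Fin n => ModSite.freeOn O (W k)) ⟶ ModSite.freeOn O u.1) = 0 := by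
      apply Sigma.hom_ext
      intro t
      rw [Sigma.ι_desc_assoc, comp_zero]
      show (freeOnMap O (y t.1 t.2.1 t.2.2) ≫ _) ≫ _ = 0
      rw [Category.assoc, hdd, comp_zero]
    have hepi := epi_kernel_lift_cech O W f hcov _ (fun k => Sigma.ι_desc _ _) he
      (Sigma.desc dt) hd (by
      intro Z h hh k l
      apply hYext k l
      intro j
      have h1 := Sigma.ι X (⟨k, l, j⟩ : T) ≫= hh
      rw [Sigma.ι_desc_assoc, comp_zero] at h1
      have h2 : freeOnMap O (y k l j) ≫
          (freeOnMap O (pullback.fst (f k) (f l)) ≫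
              Sigma.ι (fun k => ModSite.freeOn O (W k)) k -
            freeOnMap O (pullback.snd (f k) (f l)) ≫
              Sigma.ι (fun k => ModSite.freeOn O (W k)) l) ≫ h = 0 := by
        rw [← Category.assoc]
        exact h1
      rw [Preadditive.sub_comp, Preadditive.comp_sub, sub_eq_zero] at h2
      simpa only [Category.assoc] using h2)
    exact ⟨∐ X, _, cl_sigma T X hX, hepi⟩
  · apply Sigma.hom_ext
    intro k
    rw [Sigma.ι_desc_assoc, Sigma.ι_desc_assoc]
    exact hβ k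

omit [HasPullbacks C] in
/-- translation between the abstract notion and the explicit one -/
theorem fp_iff_exists (B : Set C) (X : ModSite.Mod O) : Fp (gen O B) X ↔
    (∃ (m' n' : ℕ) (V' : Fin m' → C) (U' : Fin n' → C)
        (ψ : (∐ fun j => ModSite.freeOn O (V' j)) ⟶ ∐ fun i => ModSite.freeOn O (U' i)),
        (∀ j, V' j ∈ B) ∧ (∀ i, U' i ∈ B) ∧ Nonempty (X ≅ cokernel ψ)) := by
  constructor
  · intro h
    obtain ⟨R, P, ψ₀, hR, hP, ⟨e⟩⟩ := h.exists_cokernel
    obtain ⟨m', v, ⟨eR⟩⟩ := exists_fin_of_cl hR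
    obtain ⟨n', w, ⟨eP⟩⟩ := exists_fin_of_cl hP
    refine ⟨m', n', fun j => (v j).1, fun i => (w i).1, eR.inv ≫ ψ₀ ≫ eP.hom,
      fun j => (v j).2, fun i => (w i).2, ⟨e ≪≫ cokernel.mapIso ψ₀ _ eR eP (by simp)⟩⟩
  · rintro ⟨m', n', V', U', ψ, hV, hU, ⟨e⟩⟩
    have hR : Cl (gen O B) (∐ fun j => ModSite.freeOn O (V' j)) :=
      cl_sigma_fin m' _ (fun j => Cl.gen (⟨V' j, hV j⟩ : {U : C // U ∈ B}))
    have hP : Cl (gen O B) (∐ fun i => ModSite.freeOn O (U' i)) :=
      cl_sigma_fin n' _ (fun i => Cl.gen (⟨U' i, hU i⟩ : {U : C // U ∈ B}))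
    exact (Fp.of_cokernel ψ hR hP).of_iso e.symm

end Lift

end Groth.Agent.H92.FreeOnFp
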