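import Groth.Prelude.Def_Pi1X
import Mathlib.CategoryTheory.Galois.Equivalence
import Mathlib.CategoryTheory.Galois.IsFundamentalgroup
import Mathlib.Topology.Algebra.ClopenNhdofOne

/-!
# Helper library for Galois categories (helper92)

* `exists_hom_of_stabilizer_le`: morphism out of a connected object from an inclusion of stabilizers.
* `isConnected_of_transitive`: an object with transitive `Aut F`-action on a non-empty fibre is connected.
* `exists_connected_stabilizer_eq`: every open subgroup of `Aut F` is the stabilizer of a point of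
  a connected object (any universe).
* `exists_open_of_closed`: closed subgroups of `Aut F` are separated from points by open subgroups.
* `continuous_autWhisker`, `isClosed_range_autWhisker`, `mem_ker_autWhisker_iff`.
* `trivial_action_iff_completely_decomposed`.
-/

set_option autoImplicit false
universe u v w

open CategoryTheory PreGaloisCategory Limits

namespace Groth.Agent.H92.GalCat

section Basic

variable {C : Type u} [Category.{v} C] [GaloisCategory C] (F : C ⥤ FintypeCat.{w}) [FiberFunctor F]

theorem fiber_terminal_unique : Nonempty (Unique (F.obj (⊤_ C))) :=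
  ⟨(Types.isTerminalEquivUnique _)
    ((terminalIsTerminal (C := C)).isTerminalObj (F ⋙ FintypeCat.incl) _)⟩

theorem fiber_terminal_eq (a b : F.obj (⊤_ C)) : a = b := by
  obtain ⟨h⟩ := fiber_terminal_unique F
  exact (h.uniq a).trans (h.uniq b).symm

/-- Galois correspondence, existence of a morphism: if the stabilizer of `y` is contained in the
stabilizer of `x` and `Y` is connected there is a morphism `Y ⟶ X` sending `y` to `x`. -/
theorem exists_hom_of_stabilizer_le (Y X : C) [IsConnected Y] (y : F.obj Y) (x : F.obj X)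
    (h : ∀ σ : Aut F, σ • y = y → σ • x = x) : ∃ f : Y ⟶ X, F.map f y = x := by
  let φ : F.obj Y → F.obj X := fun z =>
    (Classical.choose (MulAction.exists_smul_eq (Aut F) y z)) • x
  have hφ : ∀ σ : Aut F, φ (σ • y) = σ • x := by
    intro σ
    have hτ := Classical.choose_spec (MulAction.exists_smul_eq (Aut F) y (σ • y))
    have h1 : (σ⁻¹ * Classical.choose (MulAction.exists_smul_eq (Aut F) y (σ • y))) • y = y := by
      rw [mul_smul, hτ, inv_smul_smul]
    have h2 : (σ⁻¹ * Classical.choose (MulAction.exists_smul_eq (Aut F) y (σ • y))) • x = x :=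
      h _ h1
    show Classical.choose (MulAction.exists_smul_eq (Aut F) y (σ • y)) • x = σ • x
    rw [mul_smul, inv_smul_eq_iff] at h2
    exact h2
  have hequiv : ∀ (g : Aut F) (z : F.obj Y), φ (g • z) = g • φ z := by
    intro g z
    obtain ⟨σ, rfl⟩ := MulAction.exists_smul_eq (Aut F) y z
    rw [← mul_smul, hφ, hφ, mul_smul]
  let f : (functorToAction F).obj Y ⟶ (functorToAction F).obj X :=
    ⟨FintypeCat.homMk φ, fun g => FintypeCat.hom_ext _ _ (fun z => hequiv g z)⟩
  obtain ⟨q, hq⟩ := (functorToAction F).map_surjective f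
  refine ⟨q, ?_⟩
  have h3 : F.map q = FintypeCat.homMk φ := congrArg Action.Hom.hom hq
  rw [h3]
  have h4 := hφ 1
  rw [one_smul, one_smul] at h4
  exact h4

/-- An object with a point whose `Aut F`-orbit is the whole fibre is connected. -/
theorem isConnected_of_transitive (X : C) (x₀ : F.obj X)
    (h : ∀ x : F.obj X, ∃ σ : Aut F, σ • x₀ = x) : IsConnected X where
  notInitial := not_initial_of_inhabited F x₀
  noTrivialComponent Y i _ hY := by
    obtain ⟨y⟩ := (not_initial_iff_fiber_nonempty F Y).mp hY
    have hinj : Function.Injective (F.map i) :=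
      ConcreteCategory.injective_of_mono_of_preservesPullback (F.map i)
    have hsurj : Function.Surjective (F.map i) := by
      intro x
      obtain ⟨σ, hσ⟩ := h (F.map i y)
      obtain ⟨τ, hτ⟩ := h x
      refine ⟨(τ * σ⁻¹) • y, ?_⟩
      rw [← mulAction_naturality, mul_smul, ← hσ, inv_smul_smul, hτ]
    have : IsIso (F.map i) := (ConcreteCategory.isIso_iff_bijective (F.map i)).mpr ⟨hinj, hsurj⟩
    exact isIso_of_reflects_iso i F

/-- The connected component of a point has the same stabilizer. -/
theorem exists_connected_component_stabilizer (X : C) (x : F.obj X) :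
    ∃ (Y : C) (i : Y ⟶ X) (y : F.obj Y), F.map i y = x ∧ IsConnected Y ∧ Mono i ∧
      MulAction.stabilizer (Aut F) y = MulAction.stabilizer (Aut F) x := by
  obtain ⟨Y, i, y, hy, hconn, hmono⟩ := fiber_in_connected_component F X x
  refine ⟨Y, i, y, hy, hconn, hmono, ?_⟩
  have hinj : Function.Injective (F.map i) :=
    ConcreteCategory.injective_of_mono_of_preservesPullback (F.map i)
  ext σ
  rw [MulAction.mem_stabilizer_iff, MulAction.mem_stabilizer_iff]
  constructor
  · intro h
    rw [← hy, mulAction_naturality, h]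
  · intro h
    apply hinj
    rw [← mulAction_naturality, hy, h]

/-- A connected object whose fibre is fixed pointwise by `Aut F` is terminal. -/
theorem isIso_terminal_from_of_fixed (X : C) [IsConnected X]
    (h : ∀ (σ : Aut F) (x : F.obj X), σ • x = x) : IsIso (terminal.from X) := by
  obtain ⟨x₀⟩ := nonempty_fiber_of_isConnected F X
  have hone : ∀ x : F.obj X, x = x₀ := by
    intro x
    obtain ⟨σ, hσ⟩ := MulAction.exists_smul_eq (Aut F) x₀ x
    rw [← hσ, h]
  have h1 : IsIso (F.map (terminal.from X)) := by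
    apply (ConcreteCategory.isIso_iff_bijective (F.map (terminal.from X))).mpr
    constructor
    · intro y1 y2 _
      rw [hone y1, hone y2]
    · intro t
      exact ⟨x₀, fiber_terminal_eq F _ _⟩
  exact isIso_of_reflects_iso _ F

end Basic

section OpenSubgroup

variable {C : Type u} [Category.{v} C] [GaloisCategory C] (F : C ⥤ FintypeCat.{w}) [FiberFunctor F]

open scoped FintypeCatDiscrete in
/-- Every open subgroup of `Aut F` is the stabilizer of a point of some object. -/
theorem exists_stabilizer_eq (U : Subgroup (Aut F)) (hU : IsOpen (U : Set (Aut F))) :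
    ∃ (X : C) (x : F.obj X), MulAction.stabilizer (Aut F) x = U := by
  have hfin : Finite (Aut F ⧸ U) := U.quotient_finite_of_isOpen hU
  have hdisc : DiscreteTopology (Aut F ⧸ U) := QuotientGroup.discreteTopology hU
  let n := Nat.card (Aut F ⧸ U)
  let e : (Aut F ⧸ U) ≃ ULift.{w} (Fin n) := (Finite.equivFin _).trans Equiv.ulift.symm
  let _ : MulAction (Aut F) (ULift.{w} (Fin n)) := e.symm.mulAction (Aut F)
  have hsmul : ∀ (g : Aut F) (t : ULift.{w} (Fin n)), g • t = e (g • e.symm t) := fun _ _ => rfl
  let A : Action FintypeCat.{w} (Aut F) :=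
    Action.FintypeCat.ofMulAction (Aut F) (FintypeCat.of (ULift.{w} (Fin n)))
  have hA : A.IsContinuous := by
    rw [Action.isContinuous_def]
    have hd : DiscreteTopology ↑((forget₂ (Action FintypeCat (Aut F)) TopCat).obj A) := ⟨rfl⟩
    let f1 : Aut F ⧸ U → ((forget₂ FintypeCat TopCat).obj A.V) := fun q => e q
    let f3 : Aut F × ((forget₂ (Action FintypeCat (Aut F)) TopCat).obj A) →
        Aut F × (Aut F ⧸ U) := fun p => (p.1, e.symm p.2)
    have h1 : Continuous f1 := continuous_of_discreteTopology
    have h3 : Continuous f3 :=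
      continuous_fst.prodMk (continuous_of_discreteTopology.comp continuous_snd)
    exact h1.comp (continuous_smul.comp h3)
  let B : ContAction FintypeCat.{w} (Aut F) := ⟨A, hA⟩
  let X₀ : C := (functorToContAction F).objPreimage B
  let φ : (functorToContAction F).obj X₀ ≅ B := (functorToContAction F).objObjPreimageIso B
  let ψ : (functorToAction F).obj X₀ ≅ A := (ObjectProperty.ι _).mapIso φ
  let x₀ : F.obj X₀ := ψ.inv.hom (e (QuotientGroup.mk 1))
  refine ⟨X₀, x₀, ?_⟩
  have hinj : Function.Injective ψ.hom.hom := by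
    intro a b hab
    have h1 : ∀ c : F.obj X₀, ψ.inv.hom (ψ.hom.hom c) = c := fun c => by
      have := congrArg (fun f : (functorToAction F).obj X₀ ⟶ (functorToAction F).obj X₀ => f.hom c)
        ψ.hom_inv_id
      exact this
    rw [← h1 a, ← h1 b, hab]
  have hx₀ : ψ.hom.hom x₀ = e (QuotientGroup.mk 1) := by
    have := congrArg (fun f : A ⟶ A => f.hom (e (QuotientGroup.mk 1))) ψ.inv_hom_id
    exact this
  have hequiv : ∀ σ : Aut F, ψ.hom.hom (σ • x₀) = σ • ψ.hom.hom x₀ := by
    intro σ
    exact ConcreteCategory.congr_hom (ψ.hom.comm σ) x₀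
  ext σ
  rw [MulAction.mem_stabilizer_iff]
  constructor
  · intro h
    have h1 : σ • ψ.hom.hom x₀ = ψ.hom.hom x₀ := by rw [← hequiv, h]
    rw [hx₀] at h1
    have h1' : e (σ • e.symm (e (QuotientGroup.mk 1))) = e (QuotientGroup.mk 1) := h1
    rw [Equiv.symm_apply_apply] at h1'
    have h2 : (σ • (QuotientGroup.mk 1 : Aut F ⧸ U)) = QuotientGroup.mk 1 := e.injective h1'
    have h3 : (QuotientGroup.mk (σ * 1) : Aut F ⧸ U) = QuotientGroup.mk 1 := h2
    rw [mul_one, QuotientGroup.eq, mul_one] at h3
    exact inv_mem_iff.mp h3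
  · intro h
    apply hinj
    rw [hequiv, hx₀]
    show e (σ • e.symm (e (QuotientGroup.mk 1))) = e (QuotientGroup.mk 1)
    rw [Equiv.symm_apply_apply]
    congr 1
    show (QuotientGroup.mk (σ * 1) : Aut F ⧸ U) = QuotientGroup.mk 1
    rw [mul_one, QuotientGroup.eq, mul_one]
    exact inv_mem_iff.mpr h

/-- Every open subgroup of `Aut F` is the stabilizer of a point of a connected object. -/
theorem exists_connected_stabilizer_eq (U : Subgroup (Aut F)) (hU : IsOpen (U : Set (Aut F))) :
    ∃ (X : C) (x : F.obj X), IsConnected X ∧ MulAction.stabilizer (Aut F) x = U := by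
  obtain ⟨X₀, x₀, h₀⟩ := exists_stabilizer_eq F U hU
  obtain ⟨Y, i, y, hy, hconn, hmono, hstab⟩ := exists_connected_component_stabilizer F X₀ x₀
  exact ⟨Y, y, hconn, hstab.trans h₀⟩

omit [GaloisCategory C] [FiberFunctor F] in
/-- Closed subgroups of `Aut F` are separated from outside points by open subgroups. -/
theorem exists_open_of_closed (K : Subgroup (Aut F)) (hK : IsClosed (K : Set (Aut F)))
    (σ : Aut F) (hσ : σ ∉ K) :
    ∃ U : Subgroup (Aut F), IsOpen (U : Set (Aut F)) ∧ K ≤ U ∧ σ ∉ U := by
  have h := ProfiniteGrp.closedSubgroup_eq_sInf_open (⟨K, hK⟩ : ClosedSubgroup (Aut F))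
  by_contra hcon
  push Not at hcon
  apply hσ
  have h1 : σ ∈ sInf {N : Subgroup (Aut F) | IsOpen (N : Set (Aut F)) ∧
      ((⟨K, hK⟩ : ClosedSubgroup (Aut F)) : Subgroup (Aut F)) ≤ N} := by
    rw [Subgroup.mem_sInf]
    intro N hN
    exact hcon N hN.1 hN.2
  rw [← h] at h1
  exact h1

omit [GaloisCategory C] [FiberFunctor F] in
/-- Closed normal subgroups of `Aut F` are separated from outside points by open normal
subgroups. -/
theorem exists_open_normal_of_closed_normal (K : Subgroup (Aut F)) [K.Normal]
    (hK : IsClosed (K : Set (Aut F))) (σ : Aut F) (hσ : σ ∉ K) :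
    ∃ U : Subgroup (Aut F), IsOpen (U : Set (Aut F)) ∧ U.Normal ∧ K ≤ U ∧ σ ∉ U := by
  let W : Set (Aut F) := (fun g => σ * g) ⁻¹' (K : Set (Aut F))ᶜ
  have hW : IsOpen W := hK.isOpen_compl.preimage (continuous_const.mul continuous_id)
  have h1 : (1 : Aut F) ∈ W := by
    show σ * 1 ∈ (K : Set (Aut F))ᶜ
    rw [mul_one]
    exact hσ
  obtain ⟨N, hN⟩ := ProfiniteGrp.exist_openNormalSubgroup_sub_open_nhds_of_one hW h1
  have hNn : (N : Subgroup (Aut F)).Normal := N.isNormal'
  refine ⟨(N : Subgroup (Aut F)) ⊔ K, Subgroup.isOpen_mono le_sup_left N.isOpen', inferInstance,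
    le_sup_right, ?_⟩
  intro hmem
  rcases Subgroup.mem_sup_of_normal_left.mp hmem with ⟨y, hy, z, hz, hyz⟩
  have h2 : σ * y⁻¹ ∈ (K : Set (Aut F))ᶜ := hN (inv_mem hy)
  apply h2
  have h3 : σ * y⁻¹ = y * z * y⁻¹ := by rw [hyz]
  rw [h3]
  exact Subgroup.Normal.conj_mem inferInstance z hz y

end OpenSubgroup

section Whisker

variable {C C' : Type u} [Category.{v} C] [Category.{v} C'] (H : C ⥤ C') (F' : C' ⥤ FintypeCat.{w})

theorem autWhisker_smul (σ : Aut F') (X : C) (x : F'.obj (H.obj X)) :
    (Pi1X.autWhisker H F' σ) • (show (H ⋙ F').obj X from x) = σ • x := rfl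

theorem autWhisker_app (σ : Aut F') (X : C) (x : F'.obj (H.obj X)) :
    (Pi1X.autWhisker H F' σ).hom.app X x = σ.hom.app (H.obj X) x := rfl

theorem continuous_autWhisker : Continuous (Pi1X.autWhisker H F') := by
  rw [Topology.IsInducing.continuous_iff (autEmbedding_isClosedEmbedding _).isInducing,
    continuous_pi_iff]
  intro X
  have h1 : (fun a : Aut F' => (autEmbedding (H ⋙ F') ∘ (Pi1X.autWhisker H F')) a X) =
      fun a : Aut F' => autEmbedding F' a (H.obj X) := by
    funext a
    exact Iso.ext rfl
  rw [h1]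
  exact (continuous_apply (H.obj X)).comp (autEmbedding_isClosedEmbedding F').continuous

theorem isClosed_range_autWhisker : IsClosed (Set.range (Pi1X.autWhisker H F')) :=
  (isCompact_range (continuous_autWhisker H F')).isClosed

theorem isClosed_range_autWhisker' :
    IsClosed ((Pi1X.autWhisker H F').range : Set (Aut (H ⋙ F'))) := by
  rw [MonoidHom.coe_range]
  exact isClosed_range_autWhisker H F'

theorem mem_ker_autWhisker_iff (σ : Aut F') :
    σ ∈ (Pi1X.autWhisker H F').ker ↔
      ∀ (X : C) (x : F'.obj (H.obj X)), σ.hom.app (H.obj X) x = x := by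
  rw [MonoidHom.mem_ker]
  constructor
  · intro h X x
    exact congrArg (fun τ : Aut (H ⋙ F') => τ.hom.app X x) h
  · intro h
    apply Iso.ext
    apply NatTrans.ext
    funext X
    apply FintypeCat.hom_ext
    intro x
    exact h X x

theorem isClosed_ker_autWhisker :
    IsClosed ((Pi1X.autWhisker H F').ker : Set (Aut F')) := by
  have h : ((Pi1X.autWhisker H F').ker : Set (Aut F')) = (Pi1X.autWhisker H F') ⁻¹' {1} := by
    ext σ
    simp [MonoidHom.mem_ker]
  rw [h]
  exact isClosed_singleton.preimage (continuous_autWhisker H F')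

end Whisker

section Decomposed

variable {C : Type u} [Category.{v} C] [GaloisCategory C] (F : C ⥤ FintypeCat.{w}) [FiberFunctor F]

/-- An object on whose fibre `Aut F` acts trivially is a finite coproduct of copies of the
terminal object. -/
theorem completely_decomposed_of_trivial_action (Z : C)
    (h : ∀ (σ : Aut F) (z : F.obj Z), σ • z = z) :
    ∃ n : ℕ, Nonempty (Z ≅ ∐ fun _ : Fin n => ⊤_ C) := by
  obtain ⟨ι, hfin, f, e1, hc⟩ := has_decomp_connected_components' Z
  have hiso : ∀ i, IsIso (terminal.from (f i)) := by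
    intro i
    have := hc i
    have hmono : Mono (Sigma.ι f i ≫ e1.hom) := mono_comp _ _
    have hinj : Function.Injective (F.map (Sigma.ι f i ≫ e1.hom)) :=
      ConcreteCategory.injective_of_mono_of_preservesPullback (F.map (Sigma.ι f i ≫ e1.hom))
    apply isIso_terminal_from_of_fixed F
    intro σ x
    apply hinj
    rw [← mulAction_naturality, h]
  let e2 : ∐ f ≅ ∐ fun _ : ι => ⊤_ C := Sigma.mapIso (fun i => asIso (terminal.from (f i)))
  let ε : ι ≃ Fin (Nat.card ι) := Finite.equivFin ι
  let e3 : (∐ fun _ : ι => ⊤_ C) ≅ ∐ fun _ : Fin (Nat.card ι) => ⊤_ C :=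
    Sigma.whiskerEquiv (f := fun _ : ι => ⊤_ C) (g := fun _ : Fin (Nat.card ι) => ⊤_ C) ε
      (fun _ => Iso.refl _)
  exact ⟨Nat.card ι, ⟨e1.symm ≪≫ e2 ≪≫ e3⟩⟩

/-- `Aut F` acts trivially on the fibre of a finite coproduct of copies of the terminal object. -/
theorem trivial_action_of_completely_decomposed (Z : C) (n : ℕ)
    (e : Z ≅ ∐ fun _ : Fin n => ⊤_ C) (σ : Aut F) (z : F.obj Z) : σ • z = z := by
  have hcolim : IsColimit (F.mapCocone (colimit.cocone (Discrete.functor fun _ : Fin n => ⊤_ C))) :=
    isColimitOfPreserves F (colimit.isColimit _)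
  obtain ⟨⟨j⟩, (t : F.obj (⊤_ C)), ht⟩ :=
    Limits.FintypeCat.jointly_surjective _ _ hcolim (F.map e.hom z)
  have ht' : F.map (Sigma.ι (fun _ : Fin n => ⊤_ C) j) t = F.map e.hom z := ht
  have h1 : σ • t = t := fiber_terminal_eq F _ _
  have h2 : σ • F.map e.hom z = F.map e.hom z := by
    rw [← ht', mulAction_naturality, h1]
  have h3 : F.map e.inv (F.map e.hom z) = z := by
    rw [← FintypeCat.comp_apply, ← F.map_comp, e.hom_inv_id, F.map_id]
    rfl
  rw [← h3, mulAction_naturality, h2]

theorem trivial_action_iff_completely_decomposed (Z : C) :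
    (∀ (σ : Aut F) (z : F.obj Z), σ • z = z) ↔
      ∃ n : ℕ, Nonempty (Z ≅ ∐ fun _ : Fin n => ⊤_ C) :=
  ⟨completely_decomposed_of_trivial_action F Z,
    fun ⟨n, ⟨e⟩⟩ σ z => trivial_action_of_completely_decomposed F Z n e σ z⟩

end Decomposed

end Groth.Agent.H92.GalCat
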