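import Groth.Agent.H92.GalCat

/-!
# Exact functors between Galois categories (helper92)

* `isInitial_of_isEmpty_fiber_comp`: an exact functor between Galois categories reflects initial
  objects.
* `reflectsIsomorphisms_of_exact`: an exact functor between Galois categories is conservative.
* `nonempty_fiberFunctor_comp`: the composite of an exact functor with a fibre functor is a fibre
  functor.
-/

set_option autoImplicit false
universe u v w

open CategoryTheory PreGaloisCategory Limits

namespace Groth.Agent.H92.GalCat

section Exact

variable {C D : Type u} [Category.{v} C] [Category.{v} D] [GaloisCategory C] [GaloisCategory D]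
  (H : C ⥤ D) [PreservesFiniteLimits H] [PreservesFiniteColimits H]
  (F' : D ⥤ FintypeCat.{w}) [FiberFunctor F']

/-- Exact functors between Galois categories reflect initial objects. -/
theorem isInitial_of_isEmpty_fiber_comp (Z : C) (h : IsEmpty (F'.obj (H.obj Z))) :
    Nonempty (IsInitial Z) := by
  let F := GaloisCategory.getFiberFunctor C
  rw [initial_iff_fiber_empty F Z]
  by_contra hne
  rw [not_isEmpty_iff] at hne
  obtain ⟨z⟩ := hne
  have hsurj : Function.Surjective (F.map (terminal.from Z)) :=
    fun t => ⟨z, fiber_terminal_eq F _ _⟩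
  have hepi1 : Epi (F.map (terminal.from Z)) := ConcreteCategory.epi_of_surjective _ hsurj
  have hepi : Epi (terminal.from Z) := F.epi_of_epi_map hepi1
  have hepi2 : Epi (H.map (terminal.from Z)) := inferInstance
  have hs := surjective_on_fiber_of_epi F' (H.map (terminal.from Z))
  obtain ⟨hu⟩ := fiber_terminal_unique F'
  obtain ⟨y, _⟩ := hs (F'.map (PreservesTerminal.iso H).inv hu.default)
  exact h.false y

/-- A monomorphism in `C` inducing fibres of equal cardinality after applying an exact functor is
an isomorphism. -/
theorem isIso_of_mono_of_card_eq {A B : C} (g : A ⟶ B) [Mono g]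
    (hcard : Nat.card (F'.obj (H.obj A)) = Nat.card (F'.obj (H.obj B))) : IsIso g := by
  obtain ⟨Z, u, ⟨hcol⟩⟩ := PreGaloisCategory.monoInducesIsoOnDirectSummand g
  have hc' : IsColimit (BinaryCofan.mk (H.map g) (H.map u)) :=
    mapIsColimitOfPreservesOfIsColimit H g u hcol
  let e : H.obj B ≅ H.obj A ⨿ H.obj Z := hc'.coconePointUniqueUpToIso (colimit.isColimit _)
  have h1 : Nat.card (F'.obj (H.obj B)) =
      Nat.card (F'.obj (H.obj A)) + Nat.card (F'.obj (H.obj Z)) := by
    rw [card_fiber_eq_of_iso F' e, card_fiber_coprod_eq_sum]
  have h2 : Nat.card (F'.obj (H.obj Z)) = 0 := by omega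
  have h3 : IsEmpty (F'.obj (H.obj Z)) := Finite.card_eq_zero_iff.mp h2
  obtain ⟨hZ⟩ := isInitial_of_isEmpty_fiber_comp H F' Z h3
  let F := GaloisCategory.getFiberFunctor C
  apply isIso_of_mono_of_eq_card_fiber F g
  let e0 : B ≅ A ⨿ Z := hcol.coconePointUniqueUpToIso (colimit.isColimit _)
  rw [card_fiber_eq_of_iso F e0, card_fiber_coprod_eq_sum]
  have h4 : IsEmpty (F.obj Z) := (initial_iff_fiber_empty F Z).mp ⟨hZ⟩
  rw [Finite.card_eq_zero_iff.mpr h4, add_zero]

/-- Exact functors between Galois categories reflect isomorphisms. -/
theorem reflectsIsomorphisms_of_exact : H.ReflectsIsomorphisms where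
  reflects {X Y} f hf := by
    let F₀ := GaloisCategory.getFiberFunctor D
    have h1 : IsIso (pullback.fst (H.map f) (H.map f)) := isIso_fst_of_mono (H.map f)
    have h2 : IsIso (H.map (pullback.fst f f)) := by
      rw [← PreservesPullback.iso_hom_fst]
      exact IsIso.comp_isIso
    have hd : pullback.diagonal f ≫ pullback.fst f f = 𝟙 X := pullback.diagonal_fst f
    have hcard : Nat.card (F₀.obj (H.obj X)) = Nat.card (F₀.obj (H.obj (pullback f f))) :=
      (card_fiber_eq_of_iso F₀ (asIso (H.map (pullback.fst f f)))).symm
    have hdiso : IsIso (pullback.diagonal f) :=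
      isIso_of_mono_of_card_eq H F₀ (pullback.diagonal f) hcard
    have hfst : IsIso (pullback.fst f f) := by
      have h3 : pullback.fst f f = inv (pullback.diagonal f) := by
        rw [← cancel_epi (pullback.diagonal f), hd, IsIso.hom_inv_id]
      rw [h3]
      infer_instance
    have hmono : Mono f := (pullback.diagonal_isKernelPair f).mono_of_isIso_fst
    exact isIso_of_mono_of_card_eq H F₀ f (card_fiber_eq_of_iso F₀ (asIso (H.map f)))

/-- The composite of an exact functor between Galois categories and a fibre functor is a fibre
functor. -/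
theorem nonempty_fiberFunctor_comp : Nonempty (FiberFunctor (H ⋙ F')) := by
  have := reflectsIsomorphisms_of_exact H
  exact ⟨{
    preservesTerminalObjects := inferInstance
    preservesPullbacks := inferInstance
    preservesFiniteCoproducts := inferInstance
    preservesEpis := inferInstance
    preservesQuotientsByFiniteGroups := fun G _ _ => by
      obtain ⟨G', hg, hf, ⟨e⟩⟩ := Finite.exists_type_univ_nonempty_mulEquiv.{v, 0} G
      have h1 : PreservesColimitsOfShape (SingleObj G') H := inferInstance
      have h2 : PreservesColimitsOfShape (SingleObj G) H :=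
        preservesColimitsOfShape_of_equiv e.toSingleObjEquiv.symm H
      infer_instance
    reflectsIsos := inferInstance }⟩

end Exact

end Groth.Agent.H92.GalCat
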