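import Groth.Agent.H92.GalCatExact

/-!
# Further Galois-category lemmas for the exact-sequence criterion (helper92)

* `exists_iso_of_stabilizer_eq`: pointed connected objects with equal stabilizers are isomorphic.
* `fiberKer`: the pointwise stabilizer of a fibre, a closed normal subgroup.
* `smul_eq_of_mem_normal_stabilizer`.
* `exists_iso_obj_of_ker_le`: if `u = autWhisker H F'` is surjective, a connected pointed object of
  `C'` whose stabilizer contains `ker u` is in the essential image of `H`.
-/

set_option autoImplicit false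
universe u v w

open CategoryTheory PreGaloisCategory Limits

namespace Groth.Agent.H92.GalCat

section Basic2

variable {C : Type u} [Category.{v} C] [GaloisCategory C] (F : C ⥤ FintypeCat.{w}) [FiberFunctor F]

theorem isOpen_stabilizer {X : C} (x : F.obj X) :
    IsOpen (MulAction.stabilizer (Aut F) x : Set (Aut F)) :=
  stabilizer_isOpen (Aut F) x

theorem isClosed_stabilizer {X : C} (x : F.obj X) :
    IsClosed (MulAction.stabilizer (Aut F) x : Set (Aut F)) :=
  Subgroup.isClosed_of_isOpen _ (isOpen_stabilizer F x)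

/-- Two pointed connected objects with equal stabilizers are isomorphic. -/
theorem exists_iso_of_stabilizer_eq (X Y : C) [IsConnected X] [IsConnected Y] (x : F.obj X)
    (y : F.obj Y)
    (h : MulAction.stabilizer (Aut F) x = MulAction.stabilizer (Aut F) y) :
    ∃ e : X ≅ Y, F.map e.hom x = y := by
  obtain ⟨f, hf⟩ := exists_hom_of_stabilizer_le F X Y x y (fun σ hσ => by
    have h1 : σ ∈ MulAction.stabilizer (Aut F) x := hσ
    rw [h] at h1
    exact h1)
  obtain ⟨g, hg⟩ := exists_hom_of_stabilizer_le F Y X y x (fun σ hσ => by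
    have h1 : σ ∈ MulAction.stabilizer (Aut F) y := hσ
    rw [← h] at h1
    exact h1)
  refine ⟨⟨f, g, ?_, ?_⟩, hf⟩
  · apply evaluation_injective_of_isConnected F X X x
    show F.map (f ≫ g) x = F.map (𝟙 X) x
    rw [F.map_comp, FintypeCat.comp_apply, hf, hg, F.map_id]
    rfl
  · apply evaluation_injective_of_isConnected F Y Y y
    show F.map (g ≫ f) y = F.map (𝟙 Y) y
    rw [F.map_comp, FintypeCat.comp_apply, hg, hf, F.map_id]
    rfl

/-- The pointwise stabilizer of the fibre of `X`. -/
def fiberKer (X : C) : Subgroup (Aut F) := (MulAction.toPermHom (Aut F) (F.obj X)).ker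

theorem mem_fiberKer_iff {X : C} (σ : Aut F) :
    σ ∈ fiberKer F X ↔ ∀ x : F.obj X, σ • x = x := by
  rw [fiberKer, MonoidHom.mem_ker]
  constructor
  · intro h x
    have := congrArg (fun p : Equiv.Perm (F.obj X) => p x) h
    exact this
  · intro h
    ext x
    exact h x

instance (X : C) : (fiberKer F X).Normal := MonoidHom.normal_ker _

theorem isClosed_fiberKer (X : C) : IsClosed (fiberKer F X : Set (Aut F)) := by
  have h : (fiberKer F X : Set (Aut F)) =
      ⋂ x : F.obj X, (MulAction.stabilizer (Aut F) x : Set (Aut F)) := by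
    ext σ
    rw [SetLike.mem_coe, mem_fiberKer_iff, Set.mem_iInter]
    rfl
  rw [h]
  exact isClosed_iInter fun x => isClosed_stabilizer F x

/-- If the stabilizer of a point of a connected object is normal it fixes the whole fibre. -/
theorem smul_eq_of_mem_normal_stabilizer (X : C) [IsConnected X] (a : F.obj X)
    (hn : (MulAction.stabilizer (Aut F) a).Normal) (τ : Aut F)
    (hτ : τ ∈ MulAction.stabilizer (Aut F) a) (z : F.obj X) : τ • z = z := by
  obtain ⟨g, rfl⟩ := MulAction.exists_smul_eq (Aut F) a z
  have h1 : g⁻¹ * τ * g⁻¹⁻¹ ∈ MulAction.stabilizer (Aut F) a := hn.conj_mem τ hτ g⁻¹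
  rw [inv_inv, MulAction.mem_stabilizer_iff, mul_smul, mul_smul, inv_smul_eq_iff] at h1
  exact h1

end Basic2

section Ess

variable {C C' : Type u} [Category.{v} C] [Category.{v} C'] [GaloisCategory C] [GaloisCategory C']
  (H : C ⥤ C') (F' : C' ⥤ FintypeCat.{w}) [FiberFunctor F'] [FiberFunctor (H ⋙ F')]

/-- If `u = autWhisker H F'` is surjective, `H` preserves connected objects. -/
theorem isConnected_obj_of_surjective (hsurj : Function.Surjective (Pi1X.autWhisker H F'))
    (X : C) [IsConnected X] : IsConnected (H.obj X) := by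
  obtain ⟨x⟩ := nonempty_fiber_of_isConnected (H ⋙ F') X
  apply isConnected_of_transitive F' (H.obj X) x
  intro z
  obtain ⟨τ, hτ⟩ := MulAction.exists_smul_eq (Aut (H ⋙ F')) x (show (H ⋙ F').obj X from z)
  obtain ⟨σ, rfl⟩ := hsurj τ
  exact ⟨σ, hτ⟩

/-- If `u = autWhisker H F'` is surjective, a connected pointed object of `C'` whose stabilizer
contains `ker u` is in the essential image of `H`. -/
theorem exists_iso_obj_of_ker_le (hsurj : Function.Surjective (Pi1X.autWhisker H F'))
    (Y' : C') [IsConnected Y'] (a' : F'.obj Y')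
    (hker : (Pi1X.autWhisker H F').ker ≤ MulAction.stabilizer (Aut F') a') :
    ∃ X : C, Nonempty (H.obj X ≅ Y') := by
  have hU'o : IsOpen (MulAction.stabilizer (Aut F') a' : Set (Aut F')) := isOpen_stabilizer F' a'
  have hVc : IsClosed (((MulAction.stabilizer (Aut F') a').map (Pi1X.autWhisker H F') :
      Subgroup (Aut (H ⋙ F'))) : Set (Aut (H ⋙ F'))) := by
    have h1 : IsCompact (MulAction.stabilizer (Aut F') a' : Set (Aut F')) :=
      (isClosed_stabilizer F' a').isCompact
    rw [Subgroup.coe_map]
    exact (h1.image (continuous_autWhisker H F')).isClosed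
  have hfin : Finite (Aut F' ⧸ MulAction.stabilizer (Aut F') a') :=
    (MulAction.stabilizer (Aut F') a').quotient_finite_of_isOpen hU'o
  have hfi : (MulAction.stabilizer (Aut F') a').FiniteIndex :=
    Subgroup.finiteIndex_of_finite_quotient
  have hVfi : ((MulAction.stabilizer (Aut F') a').map (Pi1X.autWhisker H F')).FiniteIndex :=
    ⟨fun h0 => hfi.index_ne_zero (Nat.eq_zero_of_zero_dvd
      (h0 ▸ Subgroup.index_map_dvd (MulAction.stabilizer (Aut F') a') hsurj))⟩
  have hVo := Subgroup.isOpen_of_isClosed_of_finiteIndex _ hVc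
  obtain ⟨X, x, hXc, hstab⟩ := exists_connected_stabilizer_eq (H ⋙ F') _ hVo
  have hst : MulAction.stabilizer (Aut F') (show F'.obj (H.obj X) from x) =
      MulAction.stabilizer (Aut F') a' := by
    ext σ
    constructor
    · intro h
      have h1 : Pi1X.autWhisker H F' σ ∈ MulAction.stabilizer (Aut (H ⋙ F')) x := h
      rw [hstab] at h1
      obtain ⟨τ, hτ, hτσ⟩ := h1
      have h2 : τ⁻¹ * σ ∈ (Pi1X.autWhisker H F').ker := by
        rw [MonoidHom.mem_ker, map_mul, map_inv, hτσ, inv_mul_cancel]
      have h3 := hker h2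
      have h4 : σ = τ * (τ⁻¹ * σ) := by group
      rw [h4]
      exact Subgroup.mul_mem _ hτ h3
    · intro h
      have h1 : Pi1X.autWhisker H F' σ ∈
          (MulAction.stabilizer (Aut F') a').map (Pi1X.autWhisker H F') :=
        Subgroup.mem_map_of_mem _ h
      rw [← hstab] at h1
      exact h1
  have hHX : IsConnected (H.obj X) := isConnected_obj_of_surjective H F' hsurj X
  obtain ⟨e, _⟩ := exists_iso_of_stabilizer_eq F' (H.obj X) Y' x a' hst
  exact ⟨X, ⟨e⟩⟩

end Ess

end Groth.Agent.H92.GalCat
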