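import Groth.Agent.H92.GalCatSeq

/-!
# Uniqueness of fibre functors (helper92)

`nonempty_iso_of_preserves`: a functor `F' : C ⥤ FintypeCat` on a Galois category preserving finite
limits and binary coproducts and sending only initial objects to the empty set is isomorphic to any
fibre functor `F`.
-/

set_option autoImplicit false
universe u v w

open CategoryTheory PreGaloisCategory Limits

namespace Groth.Agent.H92.GalCat

section Points

variable {C : Type u} [Category.{v} C] [HasFiniteLimits C] (G : C ⥤ FintypeCat.{w})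
  [PreservesFiniteLimits G]

theorem exists_equalizer_point {X Y : C} (f g : X ⟶ Y) (x : G.obj X)
    (h : G.map f x = G.map g x) :
    ∃ e : G.obj (equalizer f g), G.map (equalizer.ι f g) e = x := by
  let φ : G.obj (equalizer f g) ≃ { x : G.obj X // G.map f x = G.map g x } :=
    (PreservesEqualizer.iso (G ⋙ FintypeCat.incl) f g ≪≫
      Types.equalizerIso (G.map f).hom (G.map g).hom).toEquiv
  refine ⟨φ.symm ⟨x, h⟩, ?_⟩
  simp only [φ, Functor.comp_map]
  change ((Types.equalizerIso _ _).inv ≫ _ ≫ (G ⋙ FintypeCat.incl).map (equalizer.ι f g)) _ = _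
  erw [PreservesEqualizer.iso_inv_ι, Types.equalizerIso_inv_comp_ι]
  rfl

theorem exists_prod_point (A B : C) (a : G.obj A) (b : G.obj B) :
    ∃ p : G.obj (A ⨯ B), G.map prod.fst p = a ∧ G.map prod.snd p = b := by
  let φ : G.obj (A ⨯ B) ≃ G.obj A × G.obj B :=
    (PreservesLimitPair.iso (G ⋙ FintypeCat.incl) A B ≪≫
      Types.binaryProductIso (G.obj A) (G.obj B)).toEquiv
  refine ⟨φ.symm (a, b), ?_, ?_⟩
  · simp only [φ]
    change ((Types.binaryProductIso _ _).inv ≫ _ ≫ (G ⋙ FintypeCat.incl).map prod.fst) _ = _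
    erw [PreservesLimitPair.iso_inv_fst, Types.binaryProductIso_inv_comp_fst]
    rfl
  · simp only [φ]
    change ((Types.binaryProductIso _ _).inv ≫ _ ≫ (G ⋙ FintypeCat.incl).map prod.snd) _ = _
    erw [PreservesLimitPair.iso_inv_snd, Types.binaryProductIso_inv_comp_snd]
    rfl

end Points

section Unique

variable {C : Type u} [Category.{v} C] [GaloisCategory C] (F : C ⥤ FintypeCat.{w}) [FiberFunctor F]

/-- Points of the fibre of a product are determined by their coordinates. -/
theorem prod_point_ext (A B : C) (p q : F.obj (A ⨯ B)) (h1 : F.map prod.fst p = F.map prod.fst q)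
    (h2 : F.map prod.snd p = F.map prod.snd q) : p = q := by
  have key : ∀ r : F.obj (A ⨯ B),
      fiberBinaryProductEquiv F A B r = (F.map prod.fst r, F.map prod.snd r) := by
    intro r
    obtain ⟨⟨a, b⟩, hab⟩ := (fiberBinaryProductEquiv F A B).symm.surjective r
    rw [← hab, Equiv.apply_symm_apply, fiberBinaryProductEquiv_symm_fst_apply,
      fiberBinaryProductEquiv_symm_snd_apply]
  apply (fiberBinaryProductEquiv F A B).injective
  rw [key, key, h1, h2]

/-- The category of pointed Galois objects is cofiltered (any universe). -/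
theorem isCofilteredOrEmpty_pointedGaloisObject : IsCofilteredOrEmpty (PointedGaloisObject F) where
  cone_objs := fun ⟨A, a, _⟩ ⟨B, b, _⟩ ↦ by
    obtain ⟨Z, f, z, hgal, hfz⟩ := exists_hom_from_galois_of_fiber F (A ⨯ B)
      <| (fiberBinaryProductEquiv F A B).symm (a, b)
    refine ⟨⟨Z, z, hgal⟩, ⟨f ≫ prod.fst, ?_⟩, ⟨f ≫ prod.snd, ?_⟩, trivial⟩
    · simp only [F.map_comp, hfz, FintypeCat.comp_apply, fiberBinaryProductEquiv_symm_fst_apply]
    · simp only [F.map_comp, hfz, FintypeCat.comp_apply, fiberBinaryProductEquiv_symm_snd_apply]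
  cone_maps := fun ⟨A, a, _⟩ ⟨B, b, _⟩ ⟨f, hf⟩ ⟨g, hg⟩ ↦ by
    obtain ⟨Z, h, z, hgal, hhz⟩ := exists_hom_from_galois_of_fiber F A a
    refine ⟨⟨Z, z, hgal⟩, ⟨h, hhz⟩, PointedGaloisObject.hom_ext ?_⟩
    apply evaluation_injective_of_isConnected F Z B z
    simp [hhz, hf, hg]

end Unique

section Main

variable {C : Type u} [Category.{v} C] [GaloisCategory C] (F : C ⥤ FintypeCat.{w}) [FiberFunctor F]
  (F' : C ⥤ FintypeCat.{w}) [PreservesFiniteLimits F']
  [PreservesColimitsOfShape (Discrete WalkingPair) F']

omit [GaloisCategory C] in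
/-- A functor to finite sets preserving binary coproducts sends initial objects to the empty
set. -/
theorem isEmpty_obj_of_isInitial (Z : C) (hZ : IsInitial Z) : IsEmpty (F'.obj Z) := by
  have hcol : IsColimit (BinaryCofan.mk (𝟙 Z) (𝟙 Z)) :=
    BinaryCofan.isColimitMk (fun s => s.inl) (fun s => Category.id_comp _)
      (fun s => by rw [Category.id_comp]; exact hZ.hom_ext _ _)
      (fun s m h1 _ => by rw [← h1, Category.id_comp])
  have hcol' := mapIsColimitOfPreservesOfIsColimit (F' ⋙ FintypeCat.incl) (𝟙 Z) (𝟙 Z) hcol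
  have h := (Types.binaryCofan_isColimit_iff _).1 ⟨hcol'⟩
  constructor
  intro z
  have hd := h.2.2.disjoint
  have hz : z ∈ Set.range ((F' ⋙ FintypeCat.incl).map (𝟙 Z)) := ⟨z, by
    rw [(F' ⋙ FintypeCat.incl).map_id]; rfl⟩
  exact (Set.disjoint_left.1 hd hz hz)

/-- Such a functor preserves finite coproducts. -/
theorem preservesColimitsOfShape_discrete_of_binary (J : Type) [Finite J] :
    PreservesColimitsOfShape (Discrete J) F' := by
  have h0 : PreservesColimit (Functor.empty.{0} C) F' := by
    apply preservesColimit_of_preserves_colimit_cocone initialIsInitial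
    apply (isColimitMapCoconeEmptyCoconeEquiv _ _).symm _
    have hempty : IsEmpty (F'.obj (⊥_ C)) := isEmpty_obj_of_isInitial F' _ initialIsInitial
    exact ((Concrete.initial_iff_empty_of_preserves_of_reflects (F'.obj (⊥_ C))).2 hempty).some
  have h1 : PreservesColimitsOfShape (Discrete PEmpty.{1}) F' :=
    preservesColimitsOfShape_pempty_of_preservesInitial F'
  exact PreservesFiniteCoproducts.of_preserves_binary_and_initial F' J

include F in
/-- Key step for surjectivity: for a connected object `X`, a pointed Galois object `(A, a)` mapping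
to `X` and points `t : F' A`, `x' : F' X` there is a morphism `f : A ⟶ X` with `F' f t = x'`. -/
theorem exists_hom_map_eq_of_isConnected (X : C) [IsConnected X] (A : C) [IsGalois A]
    (f₀ : A ⟶ X) (t : F'.obj A) (x' : F'.obj X) : ∃ f : A ⟶ X, F'.map f t = x' := by
  obtain ⟨pt, hpt1, hpt2⟩ := exists_prod_point F' A X t x'
  obtain ⟨ι, fc, g, hl, hconn, hfin⟩ := has_decomp_connected_components (A ⨯ X)
  have : Fintype ι := Fintype.ofFinite ι
  have : PreservesColimitsOfShape (Discrete ι) F' := preservesColimitsOfShape_discrete_of_binary F' ι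
  have hl' : IsColimit (F'.mapCocone (Cofan.mk (A ⨯ X) g)) := isColimitOfPreserves F' hl
  obtain ⟨⟨k⟩, z', hz'⟩ := Limits.FintypeCat.jointly_surjective _ _ hl' pt
  have hz'' : F'.map (g k) z' = pt := hz'
  have hk := hconn k
  have hmono : Mono (g k) := MonoCoprod.mono_inj _ (Cofan.mk (A ⨯ X) g) hl k
  have hjinj : Function.Injective (F.map (g k)) :=
    ConcreteCategory.injective_of_mono_of_preservesPullback (F.map (g k))
  have hpinj : Function.Injective (F.map (g k ≫ prod.fst)) := by
    intro z₁ z₂ h12
    obtain ⟨σ, hσ⟩ := MulAction.exists_smul_eq (Aut F) z₁ z₂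
    have h1 : σ • F.map (g k ≫ prod.fst) z₁ = F.map (g k ≫ prod.fst) z₁ := by
      rw [mulAction_naturality, hσ, h12]
    have hn : (MulAction.stabilizer (Aut F) (F.map (g k ≫ prod.fst) z₁)).Normal :=
      stabilizer_normal_of_isGalois F A _
    have hA : ∀ a : F.obj A, σ • a = a := fun a =>
      smul_eq_of_mem_normal_stabilizer F A _ hn σ (MulAction.mem_stabilizer_iff.2 h1) a
    have hX : ∀ x : F.obj X, σ • x = x := by
      intro x
      obtain ⟨a, rfl⟩ := surjective_of_nonempty_fiber_of_isConnected F f₀ x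
      rw [mulAction_naturality, hA]
    rw [← hσ]
    symm
    apply hjinj
    rw [← mulAction_naturality]
    apply prod_point_ext F
    · rw [← mulAction_naturality, hA]
    · rw [← mulAction_naturality, hX]
  have hpsurj : Function.Surjective (F.map (g k ≫ prod.fst)) :=
    surjective_of_nonempty_fiber_of_isConnected F (g k ≫ prod.fst)
  have hiso1 : IsIso (F.map (g k ≫ prod.fst)) :=
    (ConcreteCategory.isIso_iff_bijective (F.map (g k ≫ prod.fst))).mpr ⟨hpinj, hpsurj⟩
  have hiso : IsIso (g k ≫ prod.fst) := isIso_of_reflects_iso _ F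
  refine ⟨inv (g k ≫ prod.fst) ≫ g k ≫ prod.snd, ?_⟩
  have h2 : F'.map (g k ≫ prod.fst) z' = t := by
    rw [F'.map_comp, FintypeCat.comp_apply, hz'', hpt1]
  have h3 : F'.map (inv (g k ≫ prod.fst)) t = z' := by
    rw [← h2, ← FintypeCat.comp_apply, ← F'.map_comp, IsIso.hom_inv_id, F'.map_id]
    rfl
  rw [F'.map_comp, FintypeCat.comp_apply, h3, F'.map_comp, FintypeCat.comp_apply, hz'', hpt2]

/-- Uniqueness of fibre functors: a functor to finite sets preserving finite limits and binary
coproducts which sends only initial objects to the empty set is isomorphic to `F`. -/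
theorem nonempty_iso_of_preserves
    (h : ∀ X : C, IsEmpty (F'.obj X) → Nonempty (IsInitial X)) : Nonempty (F' ≅ F) := by
  classical
  have hcof := isCofilteredOrEmpty_pointedGaloisObject F
  let Φ : PointedGaloisObject F ⥤ Type w := PointedGaloisObject.incl F ⋙ F' ⋙ FintypeCat.incl
  have hfin : ∀ j : PointedGaloisObject F, Finite (Φ.obj j) :=
    fun j => inferInstanceAs (Finite (F'.obj j.obj))
  have hne : ∀ j : PointedGaloisObject F, Nonempty (Φ.obj j) := by
    intro j
    by_contra hcon
    rw [not_nonempty_iff] at hcon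
    obtain ⟨hi⟩ := h j.obj hcon
    exact IsConnected.notInitial hi
  obtain ⟨s, hs⟩ := nonempty_sections_of_finite_cofiltered_system Φ
  have hs' : ∀ {A B : PointedGaloisObject F} (f : A ⟶ B),
      F'.map f.val (show F'.obj A.obj from s A) = s B := fun f => hs f
  -- representatives
  have hrep : ∀ (X : C) (x : F.obj X), ∃ (A : PointedGaloisObject F) (f : A.obj ⟶ X),
      F.map f A.pt = x := by
    intro X x
    obtain ⟨A, f, a, hgal, hfa⟩ := exists_hom_from_galois_of_fiber F X x
    exact ⟨⟨A, a, hgal⟩, f, hfa⟩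
  have hindep : ∀ (X : C) (A B : PointedGaloisObject F) (f : A.obj ⟶ X) (g : B.obj ⟶ X),
      F.map f A.pt = F.map g B.pt →
      F'.map f (show F'.obj A.obj from s A) = F'.map g (show F'.obj B.obj from s B) := by
    intro X A B f g hfg
    obtain ⟨D, p, q, -⟩ := IsCofilteredOrEmpty.cone_objs A B
    have heq : p.val ≫ f = q.val ≫ g := by
      apply evaluation_injective_of_isConnected F D.obj X D.pt
      show F.map (p.val ≫ f) D.pt = F.map (q.val ≫ g) D.pt
      rw [F.map_comp, F.map_comp, FintypeCat.comp_apply, FintypeCat.comp_apply, p.comp, q.comp,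
        hfg]
    rw [← hs' p, ← hs' q, ← FintypeCat.comp_apply, ← FintypeCat.comp_apply, ← F'.map_comp,
      ← F'.map_comp, heq]
  choose rA rf hr using hrep
  let η : F ⟶ F' :=
    { app := fun X => FintypeCat.homMk
        (fun x => F'.map (rf X x) (show F'.obj (rA X x).obj from s (rA X x)))
      naturality := by
        intro X Y φ
        apply FintypeCat.hom_ext
        intro x
        show F'.map (rf Y (F.map φ x)) (show F'.obj (rA Y (F.map φ x)).obj from s _) =
          F'.map φ (F'.map (rf X x) (show F'.obj (rA X x).obj from s _))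
        rw [← FintypeCat.comp_apply, ← F'.map_comp]
        apply hindep
        rw [hr, F.map_comp, FintypeCat.comp_apply, hr] }
  have hη : ∀ (X : C) (A : PointedGaloisObject F) (f : A.obj ⟶ X),
      η.app X (F.map f A.pt) = F'.map f (show F'.obj A.obj from s A) := by
    intro X A f
    show F'.map (rf X (F.map f A.pt)) (show F'.obj (rA X (F.map f A.pt)).obj from s _) = _
    apply hindep
    rw [hr]
  -- injectivity
  have hinj : ∀ X : C, Function.Injective (η.app X) := by
    intro X x₁ x₂ h12
    obtain ⟨D, p, q, -⟩ := IsCofilteredOrEmpty.cone_objs (rA X x₁) (rA X x₂)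
    have h1 : F.map (p.val ≫ rf X x₁) D.pt = x₁ := by
      rw [F.map_comp, FintypeCat.comp_apply, p.comp, hr]
    have h2 : F.map (q.val ≫ rf X x₂) D.pt = x₂ := by
      rw [F.map_comp, FintypeCat.comp_apply, q.comp, hr]
    have e1 : F'.map (p.val ≫ rf X x₁) (show F'.obj D.obj from s D) =
        F'.map (q.val ≫ rf X x₂) (show F'.obj D.obj from s D) := by
      rw [← hη X D, ← hη X D, h1, h2, h12]
    obtain ⟨e, -⟩ := exists_equalizer_point F' _ _ _ e1
    have hni : IsInitial (equalizer (p.val ≫ rf X x₁) (q.val ≫ rf X x₂)) → False :=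
      fun hi => (isEmpty_obj_of_isInitial F' _ hi).false e
    have hiso : IsIso (equalizer.ι (p.val ≫ rf X x₁) (q.val ≫ rf X x₂)) :=
      IsConnected.noTrivialComponent _ _ hni
    have heq : p.val ≫ rf X x₁ = q.val ≫ rf X x₂ := eq_of_epi_equalizer
    rw [← h1, ← h2, heq]
  -- surjectivity
  have hsurjc : ∀ (X : C) [IsConnected X], Function.Surjective (η.app X) := by
    intro X _ x'
    obtain ⟨x₀⟩ := nonempty_fiber_of_isConnected F X
    obtain ⟨f, hf⟩ := exists_hom_map_eq_of_isConnected F F' X (rA X x₀).obj (rf X x₀)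
      (show F'.obj (rA X x₀).obj from s (rA X x₀)) x'
    exact ⟨F.map f (rA X x₀).pt, (hη X _ f).trans hf⟩
  have hsurj : ∀ X : C, Function.Surjective (η.app X) := by
    intro X x'
    obtain ⟨ι, fc, g, hl, hconn, hfin⟩ := has_decomp_connected_components X
    have : Fintype ι := Fintype.ofFinite ι
    have : PreservesColimitsOfShape (Discrete ι) F' :=
      preservesColimitsOfShape_discrete_of_binary F' ι
    have hl' : IsColimit (F'.mapCocone (Cofan.mk X g)) := isColimitOfPreserves F' hl
    obtain ⟨⟨k⟩, z', hz'⟩ := Limits.FintypeCat.jointly_surjective _ _ hl' x'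
    have hz'' : F'.map (g k) z' = x' := hz'
    have hk := hconn k
    obtain ⟨z, hz⟩ := hsurjc (fc k) z'
    refine ⟨F.map (g k) z, ?_⟩
    have hnat := congrArg (fun φ : F.obj (fc k) ⟶ F'.obj X => φ z) (η.naturality (g k))
    simp only [FintypeCat.comp_apply] at hnat
    rw [hnat, hz, hz'']
  have hiso : ∀ X : C, IsIso (η.app X) := fun X =>
    (ConcreteCategory.isIso_iff_bijective (η.app X)).mpr ⟨hinj X, hsurj X⟩
  have : IsIso η := NatIso.isIso_of_isIso_app η
  exact ⟨(asIso η).symm⟩

end Main

end Groth.Agent.H92.GalCat
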