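import Groth.Agent.H30.ModCech3
import Groth.Agent.H31.TensorSite2
import Groth.Prelude.Def_ModSite2

/-!
# `ℋom_O(F, G)` is totally acyclic for `G` injective (helper92)

Uses helper30's free Čech resolution machinery (`H30/ModCech`, criterion `HE` of helper67) and
helper31's tensor library (`tensorShfIso`).
-/

set_option autoImplicit false

namespace Groth.Agent.H92.SheafHomAcyc

open CategoryTheory Limits Opposite Simplicial AlgebraicTopology MonoidalCategory
open Groth.Agent.H30.CechRes Groth.Agent.H30.ModCech Groth.Agent.H67.CechTopos Groth.Agent.H31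

universe u

variable {C : Type u} [SmallCategory C] {J : GrothendieckTopology C} (O : Sheaf J CommRingCat.{u})

/-- the sectionwise functor `S ↦ O(U)[S] ⊗ F₀(U)` -/
noncomputable abbrev GT (F₀ : PM O) (U : C) : Type u ⥤ AddCommGrpCat.{u} :=
  ModuleCat.free ((R₀ O).obj (op U)) ⋙ tensorRight (F₀.obj (op U)) ⋙
    forget₂ (ModuleCat.{u} ((R₀ O).obj (op U))) AddCommGrpCat.{u}

/-- free presheaf of modules on a sheaf of sets, tensored with `F₀` -/
noncomputable abbrev FPT (F₀ : PM O) : Sheaf J (Type u) ⥤ PM O :=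
  (FP (ModSite.ringSh O) : Sheaf J (Type u) ⥤ PM O) ⋙ (tensorRight F₀ : PM O ⥤ PM O)

set_option maxHeartbeats 400000 in
lemma FPT_toPresheaf_map_app (F₀ : PM O) {T T' : Sheaf J (Type u)} (ψ : T ⟶ T') (U : C) :
    ((FPT O F₀ ⋙ PresheafOfModules.toPresheaf (R₀ O)).map ψ).app (op U) =
      (GT O F₀ U).map (ψ.hom.app (op U)) := rfl

set_option maxHeartbeats 400000 in
/-- sections of the tensored free presheaf of modules -/
noncomputable def evIsoT (F₀ : PM O) (U : C) :
    (FPT O F₀ ⋙ PresheafOfModules.toPresheaf (R₀ O)) ⋙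
        (evaluation Cᵒᵖ AddCommGrpCat.{u}).obj (op U) ≅
      coyoneda.obj (op (hh J U)) ⋙ GT O F₀ U :=
  NatIso.ofComponents (fun T => (GT O F₀ U).mapIso ((secIso J U).app T).symm) (by
    intro T T' ψ
    have h := congrArg (GT O F₀ U).map ((secIso J U).inv.naturality ψ)
    rw [Functor.map_comp, Functor.map_comp] at h
    exact h)

set_option maxHeartbeats 400000 in
/-- sectionwise exactness -/
theorem exactAt_succ_sections (F₀ : PM O) (g : Arrow (Sheaf J (Type u))) (n : ℕ) (U : C) :
    (AlternatingFaceMapComplex.obj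
      ((g.cechNerve ⋙ FPT O F₀ ⋙ PresheafOfModules.toPresheaf (R₀ O)) ⋙
        (evaluation Cᵒᵖ AddCommGrpCat.{u}).obj (op U))).ExactAt (n + 1) := by
  have h1 := exactAt_G_hom g (hh J U) (GT O F₀ U) n
  let e : (g.cechNerve ⋙ coyoneda.obj (op (hh J U))) ⋙ GT O F₀ U ≅
      (g.cechNerve ⋙ FPT O F₀ ⋙ PresheafOfModules.toPresheaf (R₀ O)) ⋙
        (evaluation Cᵒᵖ AddCommGrpCat.{u}).obj (op U) :=
    Functor.associator _ _ _ ≪≫ Functor.isoWhiskerLeft g.cechNerve (evIsoT O F₀ U).symm ≪≫
      (Functor.associator _ _ _).symm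
  exact h1.of_iso ((alternatingFaceMapComplex AddCommGrpCat.{u}).mapIso e)

set_option maxHeartbeats 400000 in
/-- exactness of the underlying complex of presheaves of abelian groups -/
theorem exactAt_succ_presheafAb (F₀ : PM O) (g : Arrow (Sheaf J (Type u))) (n : ℕ) :
    (AlternatingFaceMapComplex.obj
      (g.cechNerve ⋙ FPT O F₀ ⋙ PresheafOfModules.toPresheaf (R₀ O))).ExactAt (n + 1) := by
  apply exactAt_of_evaluation
  intro U'
  exact exactAt_succ_sections O F₀ g n U'.unop

set_option maxHeartbeats 400000 in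
/-- exactness of the complex of tensored free presheaves of modules -/
theorem exactAt_succ_presheafMod (F₀ : PM O) (g : Arrow (Sheaf J (Type u))) (n : ℕ) :
    (AlternatingFaceMapComplex.obj (g.cechNerve ⋙ FPT O F₀)).ExactAt (n + 1) := by
  apply exactAt_of_whiskering_faithful (PresheafOfModules.toPresheaf (R₀ O))
  exact (exactAt_succ_presheafAb O F₀ g n).of_iso
    ((alternatingFaceMapComplex _).mapIso (Functor.associator _ _ _).symm)

set_option maxHeartbeats 400000 in
/-- exactness after sheafification -/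
theorem exactAt_succ_shf (F₀ : PM O) (g : Arrow (Sheaf J (Type u))) (n : ℕ) :
    (AlternatingFaceMapComplex.obj (g.cechNerve ⋙
      (FPT O F₀ : Sheaf J (Type u) ⥤ PresheafOfModules.{u} (ModSite.ringSh O).obj) ⋙
      ModSite.sheafify O)).ExactAt (n + 1) := by
  have : (ModSite.sheafify O).Additive :=
    (PresheafOfModules.sheafificationAdjunction.{u} (𝟙 (ModSite.ringSh O).obj)).left_adjoint_additive
  have h1 := exactAt_whiskering (ModSite.sheafify O)
    _ (n + 1) (exactAt_succ_presheafMod O F₀ g n)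
  exact h1.of_iso ((alternatingFaceMapComplex _).mapIso (Functor.associator _ _ _))

set_option maxHeartbeats 400000 in
/-- `O[K] ⊗ F` is the sheafification of the presheaf tensor product `O_pre[K] ⊗ F₀` -/
noncomputable def frTensorIso (F : ModSite.Mod O) :
    FR (ModSite.ringSh O) ⋙ (ModSite.tensorBi O).flip.obj F ≅
      (FPT O ((toPM O).obj F) : Sheaf J (Type u) ⥤ PresheafOfModules.{u} (ModSite.ringSh O).obj) ⋙
        ModSite.sheafify O :=
  (Functor.isoWhiskerLeft (FP (ModSite.ringSh O) : Sheaf J (Type u) ⥤ PM O)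
    (tensorShfIso ((toPM O).obj F))).symm

set_option maxHeartbeats 400000 in
/-- exactness of `O[K_•] ⊗ F` in positive degrees -/
theorem exactAt_succ_FR_tensor (F : ModSite.Mod O) (g : Arrow (Sheaf J (Type u))) (n : ℕ) :
    (AlternatingFaceMapComplex.obj ((g.cechNerve ⋙ FR (ModSite.ringSh O)) ⋙
      (ModSite.tensorBi O).flip.obj F)).ExactAt (n + 1) := by
  have h1 := exactAt_succ_shf O ((toPM O).obj F) g n
  exact h1.of_iso ((alternatingFaceMapComplex _).mapIso
    (Functor.isoWhiskerLeft g.cechNerve (frTensorIso O F).symm ≪≫ (Functor.associator _ _ _).symm))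

set_option maxHeartbeats 800000 in
/-- the `Hom`-exactness criterion for `ℋom_O(F, G)`, `G` injective -/
theorem he_sheafHom (F G : ModSite.Mod O) [ModSite.HasSheafHom F] [Injective G] :
    HE ((UU (ModSite.ringSh O)).obj ((ModSite.sheafHom F).obj G)) := by
  intro K' K f _ n φ hφ
  let T : ModSite.Mod O ⥤ ModSite.Mod O := (ModSite.tensorBi O).flip.obj F
  let adj : T ⊣ ModSite.sheafHom F := ModSite.sheafHomAdj F
  have hTadd : T.Additive := adj.left_adjoint_additive
  obtain ⟨h, rfl⟩ := (θ (ModSite.ringSh O) ((Arrow.mk f).cechNerve.obj (op ⦋n + 1⦌))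
    ((ModSite.sheafHom F).obj G)).surjective φ
  have h0 : (PR (ModSite.ringSh O) f).d (n + 2) (n + 1) ≫ h = 0 := by
    apply (θ (ModSite.ringSh O) ((Arrow.mk f).cechNerve.obj (op ⦋n + 2⦌))
      ((ModSite.sheafHom F).obj G)).injective
    rw [θ_eq, θ_eq, Functor.map_comp, ← Category.assoc, d_comm, Category.assoc, ← θ_eq, hφ,
      Functor.map_zero, comp_zero]
  let h' : T.obj ((PR (ModSite.ringSh O) f).X (n + 1)) ⟶ G := (adj.homEquiv _ _).symm h
  have h0' : T.map ((PR (ModSite.ringSh O) f).d (n + 2) (n + 1)) ≫ h' = 0 := by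
    rw [← adj.homEquiv_naturality_left_symm, h0, adj.homEquiv_counit, Functor.map_zero, zero_comp]
  have hE := exactAt_succ_FR_tensor O F (Arrow.mk f) n
  have h1 := Functor.congr_obj (map_alternatingFaceMapComplex T)
    ((Arrow.mk f).cechNerve ⋙ FR (ModSite.ringSh O))
  have h2 : ((T.mapHomologicalComplex _).obj (PR (ModSite.ringSh O) f)).ExactAt (n + 1) :=
    hE.of_iso (eqToIso h1.symm)
  have hex : (ShortComplex.mk (T.map ((PR (ModSite.ringSh O) f).d (n + 2) (n + 1)))
      (T.map ((PR (ModSite.ringSh O) f).d (n + 1) n))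
      (by rw [← T.map_comp, (PR (ModSite.ringSh O) f).d_comp_d, T.map_zero])).Exact :=
    (HomologicalComplex.exactAt_iff' _ (n + 2) (n + 1) n (ChainComplex.prev ℕ (n + 1))
      (ChainComplex.next_nat_succ n)).1 h2
  let k' : T.obj ((PR (ModSite.ringSh O) f).X n) ⟶ G := hex.descToInjective h' h0'
  have hk' : T.map ((PR (ModSite.ringSh O) f).d (n + 1) n) ≫ k' = h' :=
    hex.comp_descToInjective h' h0'
  have key : ∃ k : (FR (ModSite.ringSh O)).obj ((Arrow.mk f).cechNerve.obj (op ⦋n⦌)) ⟶
      (ModSite.sheafHom F).obj G, (PR (ModSite.ringSh O) f).d (n + 1) n ≫ k = h :=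
    ⟨adj.homEquiv _ _ k', (adj.homEquiv_naturality_left _ _).symm.trans
      ((congrArg (adj.homEquiv _ _) hk').trans (Equiv.apply_symm_apply _ _))⟩
  obtain ⟨k, hk⟩ := key
  refine ⟨θ (ModSite.ringSh O) ((Arrow.mk f).cechNerve.obj (op ⦋n⦌)) _ k, ?_⟩
  rw [θ_eq, ← Category.assoc, ← d_comm, Category.assoc, ← Functor.map_comp, hk, ← θ_eq]

/-- **`ℋom_O(F, G)` is totally acyclic for `G` injective.** -/
theorem isTotallyAcyclic_sheafHom (F G : ModSite.Mod O) [ModSite.HasSheafHom F] [Injective G] :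
    CohCx.IsTotallyAcyclic (ModSite.toAb ((ModSite.sheafHom F).obj G)) :=
  isTotallyAcyclic_of_he _ (he_sheafHom O F G)

end Groth.Agent.H92.SheafHomAcyc
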