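import Groth.Agent.H92.HZComp
import Groth.Agent.H92.SheafHomAcyc

/-!
# `ℋom_O(M, I)` has no higher cohomology with supports (helper92)
-/

set_option autoImplicit false

namespace Groth.Agent.H92.HZAcyc

open CategoryTheory Limits Opposite Abelian MonoidalCategory
open Groth.Agent.H30.ModCech Groth.Agent.H67.CechTopos Groth.Agent.H31
open Groth.Agent.H92.HZComp Groth.Agent.H92.SheafHomAcyc

universe u

variable {C : Type u} [SmallCategory C] {J : GrothendieckTopology C}

set_option maxHeartbeats 800000 in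
/-- `Ext^{q+1}(ℤ[K']/ℤ[K], A) = 0` for a totally acyclic abelian sheaf `A` which is flasque with
respect to the image of `K ⟶ K'` -/
theorem ext_cokernel_eq_zero' (A : Sheaf J AddCommGrpCat.{u}) (hacy : CohCx.IsTotallyAcyclic A)
    {K K' : Sheaf J (Type u)} (f : K ⟶ K')
    (hext : ∀ y : (Φ J).obj (Sheaf.image f) ⟶ A,
      ∃ y' : (Φ J).obj K' ⟶ A, (Φ J).map (Sheaf.imageι f) ≫ y' = y)
    (q : ℕ) (e : Ext (cokernel ((Φ J).map f)) A (q + 1)) : e = 0 := by
  have hS := sc_shortExact f
  have h0 : (Ext.mk₀ (sc f).g).comp e (zero_add (q + 1)) = 0 :=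
    @Subsingleton.elim _ (hacy K' q) _ _
  obtain ⟨x₁, hx₁⟩ := Ext.contravariant_sequence_exact₃ hS _ e h0 (n₀ := q) (by omega)
  rcases q with _ | q
  · obtain ⟨y, rfl⟩ := Ext.addEquiv₀.symm.surjective x₁
    obtain ⟨y', hy'⟩ := hext (Ext.addEquiv₀ (Ext.addEquiv₀.symm y))
    rw [← hx₁]
    have h1 : Ext.addEquiv₀.symm y = (Ext.mk₀ (sc f).f).comp (Ext.mk₀ y') (zero_add 0) := by
      rw [Ext.mk₀_comp_mk₀]
      show _ = Ext.mk₀ ((Φ J).map (Sheaf.imageι f) ≫ y')
      rw [hy', AddEquiv.apply_symm_apply]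
      rfl
    rw [h1, ← Ext.comp_assoc_of_third_deg_zero, hS.extClass_comp, Ext.zero_comp]
    rfl
  · have : x₁ = 0 := @Subsingleton.elim _ (hacy (Sheaf.image f) q) _ _
    rw [← hx₁, this, Ext.comp_zero]
    rfl

variable (O : Sheaf J CommRingCat.{u})

theorem FPT_map_mono (M₀ : PM O) {K K' : Sheaf J (Type u)} (m : K ⟶ K') [Mono m] :
    Mono ((FPT O M₀).map m) := by
  apply (PresheafOfModules.toPresheaf (R₀ O)).mono_of_mono_map
  have : Mono m.hom := (sheafToPresheaf J (Type u)).map_mono m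
  have hm : ∀ V, Mono (m.hom.app V) := fun V => inferInstance
  have : ∀ V : Cᵒᵖ, Mono (((PresheafOfModules.toPresheaf (R₀ O)).map ((FPT O M₀).map m)).app V) := by
    intro V
    show Mono ((GT O M₀ V.unop).map (m.hom.app V))
    rw [AddCommGrpCat.mono_iff_injective]
    have hinj : Function.Injective (m.hom.app V) := (mono_iff_injective _).1 (hm V)
    exact free_map_whiskerRight_injective (R := O.obj.obj V) (m.hom.app V) hinj (M₀.obj V)
  exact NatTrans.mono_of_mono_app _

theorem FR_tensor_map_mono (M : ModSite.Mod O) {K K' : Sheaf J (Type u)} (m : K ⟶ K') [Mono m] :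
    Mono (((ModSite.tensorBi O).flip.obj M).map ((FR (ModSite.ringSh O)).map m)) := by
  have h1 : Mono ((FPT O ((toPM O).obj M)).map m) := FPT_map_mono O _ m
  have hpl : PreservesFiniteLimits (ModSite.sheafify O) :=
    inferInstanceAs (PreservesFiniteLimits
      (PresheafOfModules.sheafification.{u} (𝟙 (ModSite.ringSh O).obj)))
  have hpm : (ModSite.sheafify O).PreservesMonomorphisms := inferInstance
  have h2 : Mono ((ModSite.sheafify O).map ((FPT O ((toPM O).obj M)).map m)) :=
    @Functor.PreservesMonomorphisms.preserves _ _ _ _ _ hpm _ _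
      ((FPT O ((toPM O).obj M)).map m) h1
  have h3 := (frTensorIso O M).hom.naturality m
  have h4 : ((ModSite.tensorBi O).flip.obj M).map ((FR (ModSite.ringSh O)).map m) =
      (frTensorIso O M).hom.app K ≫
        (ModSite.sheafify O).map ((FPT O ((toPM O).obj M)).map m) ≫
          (frTensorIso O M).inv.app K' := by
    rw [← Category.assoc]
    refine Eq.trans ?_ (congrArg (fun t => t ≫ (frTensorIso O M).inv.app K') h3)
    rw [Category.assoc, Iso.hom_inv_id_app]
    exact (Category.comp_id _).symm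
  rw [h4]
  infer_instance

/-- `ℋom_O(M, Q)`, `Q` injective, is flasque with respect to monomorphisms of sheaves of sets -/
theorem exists_extension_sheafHom (M Q : ModSite.Mod O) [ModSite.HasSheafHom M] [Injective Q]
    {K K' : Sheaf J (Type u)} (m : K ⟶ K') [Mono m]
    (y : (Φ J).obj K ⟶ (UU (ModSite.ringSh O)).obj ((ModSite.sheafHom M).obj Q)) :
    ∃ y' : (Φ J).obj K' ⟶ (UU (ModSite.ringSh O)).obj ((ModSite.sheafHom M).obj Q),
      (Φ J).map m ≫ y' = y := by
  have := FR_tensor_map_mono O M m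
  let adj := ModSite.sheafHomAdj M
  let h := (θ (ModSite.ringSh O) K ((ModSite.sheafHom M).obj Q)).symm y
  let h' := (adj.homEquiv _ _).symm h
  let k' := Injective.factorThru h' (((ModSite.tensorBi O).flip.obj M).map
    ((FR (ModSite.ringSh O)).map m))
  have hk' : ((ModSite.tensorBi O).flip.obj M).map ((FR (ModSite.ringSh O)).map m) ≫ k' = h' :=
    Injective.comp_factorThru _ _
  refine ⟨θ (ModSite.ringSh O) K' _ (adj.homEquiv _ _ k'), ?_⟩
  rw [← θ_nat, ← adj.homEquiv_naturality_left, hk', Equiv.apply_symm_apply]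
  exact (θ (ModSite.ringSh O) K ((ModSite.sheafHom M).obj Q)).apply_symm_apply y

/-- `Ext^{q+1}_ℤ(ℤ/ℤ_U, ℋom_O(M, Q)) = 0` for `Q` injective -/
theorem ext_qZ_sheafHom_eq_zero (U : C) (M Q : ModSite.Mod O) [ModSite.HasSheafHom M] [Injective Q]
    (q : ℕ)
    (e : Ext (qZ (J := J) U) ((UU (ModSite.ringSh O)).obj ((ModSite.sheafHom M).obj Q)) (q + 1)) :
    e = 0 :=
  ext_cokernel_eq_zero' _ (isTotallyAcyclic_sheafHom O M Q) (t₀ (J := J) U)
    (fun y => exists_extension_sheafHom O M Q (Sheaf.imageι (t₀ (J := J) U)) y) q e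

/-- `H^{q+1}_Z(ℋom_O(M, Q)) = 0` for `Q` injective -/
theorem hz_sheafHom_subsingleton (U : C) (M Q : ModSite.Mod O) [ModSite.HasSheafHom M] [Injective Q]
    (q : ℕ) : Subsingleton (ModSite.HZ U ((ModSite.sheafHom M).obj Q) (q + 1)) := by
  constructor
  intro a b
  have key : ∀ e : Ext (ToposFin.quotZ (ToposFin.eps J U))
      (ModSite.toAb ((ModSite.sheafHom M).obj Q)) (q + 1), e = 0 := by
    intro e
    have h0 : (Ext.mk₀ (quotZIso (J := J) U).inv).comp e (zero_add _) = 0 :=
      ext_qZ_sheafHom_eq_zero O U M Q q _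
    have h1 : e = (Ext.mk₀ (quotZIso (J := J) U).hom).comp
        ((Ext.mk₀ (quotZIso (J := J) U).inv).comp e (zero_add _)) (zero_add _) := by
      rw [Ext.mk₀_comp_mk₀_assoc, Iso.hom_inv_id, Ext.mk₀_id_comp]
    rw [h1, h0, Ext.comp_zero]
  exact (key a).trans (key b).symm

end Groth.Agent.H92.HZAcyc
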