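import Mathlib
import Groth.Agent.H92.CoskHomotopy

/-!
# A generic construction of combinatorial simplicial homotopies

Given a family of morphisms `H ψ a : W _k ⟶ W' _k'` indexed by `ψ : k' ⟶ k` and a "colouring"
`a : k' ⟶ ⦋1⦌`, compatible with the simplicial operators on both sides, and restricting to
`cf` (resp. `cg`) for constant colourings `0` (resp. `1`), we get a `SimplicialObject.Homotopy cf cg`.
-/

set_option autoImplicit false
open CategoryTheory CategoryTheory.Limits Opposite Simplicial SimplexCategory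

universe v u

namespace Groth.Agent.H92.HomotopyOfH

open Groth.Agent.H92.CoskHomotopy

variable {E : Type u} [Category.{v} E] {W W' : SimplicialObject E}

/-- The homotopy. -/
noncomputable def homotopy (cf cg : W ⟶ W')
    (H : ∀ {k k' : SimplexCategory} (_ : k' ⟶ k) (_ : k' ⟶ ⦋1⦌), (W.obj (op k) ⟶ W'.obj (op k')))
    (H_comp_map : ∀ {k k' k'' : SimplexCategory} (ψ : k' ⟶ k) (a : k' ⟶ ⦋1⦌) (χ : k'' ⟶ k'),
      H ψ a ≫ W'.map χ.op = H (χ ≫ ψ) (χ ≫ a))
    (map_comp_H : ∀ {k k' k₀ : SimplexCategory} (ψ : k' ⟶ k) (a : k' ⟶ ⦋1⦌) (ρ : k ⟶ k₀),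
      W.map ρ.op ≫ H ψ a = H (ψ ≫ ρ) a)
    (H_of_isZ : ∀ {k k' : SimplexCategory} (ψ : k' ⟶ k) (a : k' ⟶ ⦋1⦌), IsZ a →
      H ψ a = W.map ψ.op ≫ cf.app (op k'))
    (H_of_one : ∀ {k k' : SimplexCategory} (ψ : k' ⟶ k) (a : k' ⟶ ⦋1⦌),
      (∀ x, a.toOrderHom x = 1) → H ψ a = W.map ψ.op ≫ cg.app (op k')) :
    SimplicialObject.Homotopy cf cg where
  h {m} i := H (SimplexCategory.σ i) (cut (m + 1) i)
  h_zero_comp_δ_zero m := by
    show H (SimplexCategory.σ 0) (cut (m + 1) ((0 : Fin (m + 1)) : ℕ)) ≫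
      W'.map (SimplexCategory.δ 0).op = _
    rw [H_comp_map, H_of_one]
    · have : SimplexCategory.δ (0 : Fin (m + 2)) ≫ SimplexCategory.σ 0 = 𝟙 _ :=
        SimplexCategory.δ_comp_σ_self (i := (0 : Fin (m + 1)))
      rw [this, op_id, W.map_id, Category.id_comp]
    · intro x
      have h2 : ∀ u : Fin 2, ¬ u = 0 → u = 1 := by decide
      apply h2
      rw [δ_cut_apply]
      simp
  h_last_comp_δ_last m := by
    show H (SimplexCategory.σ (Fin.last m)) (cut (m + 1) ((Fin.last m : Fin (m + 1)) : ℕ)) ≫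
      W'.map (SimplexCategory.δ (Fin.last (m + 1))).op = _
    rw [H_comp_map, H_of_isZ]
    · have : SimplexCategory.δ (Fin.last (m + 1)) ≫ SimplexCategory.σ (Fin.last m) = 𝟙 _ :=
        SimplexCategory.δ_comp_σ_succ (i := Fin.last m)
      rw [this, op_id, W.map_id, Category.id_comp]
    · intro x
      rw [δ_cut_apply]
      have : (x : ℕ) < m + 1 := x.isLt
      simp only [Fin.val_last]
      split_ifs <;> omega
  h_succ_comp_δ_castSucc_of_lt {m} i j hij := by
    show H (SimplexCategory.σ j.succ) (cut (m + 1 + 1) (j.succ : ℕ)) ≫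
      W'.map (SimplexCategory.δ i.castSucc).op =
      W.map (SimplexCategory.δ i).op ≫ H (SimplexCategory.σ j) (cut (m + 1) (j : ℕ))
    rw [H_comp_map, map_comp_H]
    congr 1
    · exact SimplexCategory.δ_comp_σ_of_le hij
    · apply hom_ext_one
      intro x
      rw [δ_cut_apply, cut_apply]
      have hij' : (i : ℕ) ≤ j := hij
      simp only [Fin.val_castSucc, Fin.val_succ]
      split_ifs <;> omega
  h_succ_comp_δ_castSucc_succ {m} j := by
    show H (SimplexCategory.σ j.succ) (cut (m + 1 + 1) (j.succ : ℕ)) ≫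
      W'.map (SimplexCategory.δ j.castSucc.succ).op =
      H (SimplexCategory.σ j.castSucc) (cut (m + 1 + 1) (j.castSucc : ℕ)) ≫
      W'.map (SimplexCategory.δ j.castSucc.succ).op
    rw [H_comp_map, H_comp_map]
    congr 1
    · have h1 : SimplexCategory.δ j.castSucc.succ ≫ SimplexCategory.σ j.succ = 𝟙 _ :=
        SimplexCategory.δ_comp_σ_self' (Fin.succ_castSucc j)
      have h2 : SimplexCategory.δ j.castSucc.succ ≫ SimplexCategory.σ j.castSucc = 𝟙 _ :=
        SimplexCategory.δ_comp_σ_succ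
      rw [h1, h2]
    · apply hom_ext_one
      intro x
      rw [δ_cut_apply, δ_cut_apply]
      simp only [Fin.val_castSucc, Fin.val_succ]
      split_ifs <;> omega
  h_castSucc_comp_δ_succ_of_lt {m} i j hji := by
    show H (SimplexCategory.σ j.castSucc) (cut (m + 1 + 1) (j.castSucc : ℕ)) ≫
      W'.map (SimplexCategory.δ i.succ).op =
      W.map (SimplexCategory.δ i).op ≫ H (SimplexCategory.σ j) (cut (m + 1) (j : ℕ))
    rw [H_comp_map, map_comp_H]
    congr 1
    · exact SimplexCategory.δ_comp_σ_of_gt hji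
    · apply hom_ext_one
      intro x
      rw [δ_cut_apply, cut_apply]
      have hji' : (j : ℕ) < i := hji
      simp only [Fin.val_castSucc, Fin.val_succ]
      split_ifs <;> omega
  h_comp_σ_castSucc_of_le {m} i j hij := by
    show H (SimplexCategory.σ j) (cut (m + 1) (j : ℕ)) ≫
      W'.map (SimplexCategory.σ i.castSucc).op =
      W.map (SimplexCategory.σ i).op ≫
        H (SimplexCategory.σ j.succ) (cut (m + 1 + 1) (j.succ : ℕ))
    rw [H_comp_map, map_comp_H]
    congr 1
    · exact SimplexCategory.σ_comp_σ hij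
    · apply hom_ext_one
      intro x
      rw [σ_cut_apply, cut_apply]
      have hij' : (i : ℕ) ≤ j := hij
      simp only [Fin.val_castSucc, Fin.val_succ]
      split_ifs <;> omega
  h_comp_σ_succ_of_lt {m} i j hji := by
    show H (SimplexCategory.σ j) (cut (m + 1) (j : ℕ)) ≫
      W'.map (SimplexCategory.σ i.succ).op =
      W.map (SimplexCategory.σ i).op ≫
        H (SimplexCategory.σ j.castSucc) (cut (m + 1 + 1) (j.castSucc : ℕ))
    rw [H_comp_map, map_comp_H]
    congr 1
    · exact (SimplexCategory.σ_comp_σ hji).symm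
    · apply hom_ext_one
      intro x
      rw [σ_cut_apply, cut_apply]
      have hji' : (j : ℕ) ≤ i := hji
      simp only [Fin.val_castSucc, Fin.val_succ]
      split_ifs <;> omega

end Groth.Agent.H92.HomotopyOfH
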