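import Mathlib.RingTheory.LocalRing.Module
import Mathlib.LinearAlgebra.Matrix.Basis
import Mathlib.LinearAlgebra.Matrix.ToLin
import Mathlib.LinearAlgebra.Projection
import Mathlib.Algebra.Module.Projective
import Mathlib.LinearAlgebra.StdBasis
import Mathlib.LinearAlgebra.FreeModule.Finite.Basic

/-!
# Idempotent matrices over a local ring (helper92)

An idempotent matrix over a local ring becomes `diag(1, …, 1, 0, …, 0)` in a suitable basis.
-/

set_option autoImplicit false

namespace Groth.Agent.H92.IdemLocal

open Module Matrix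

theorem exists_adapted_basis {R : Type*} [CommRing R] [IsLocalRing R] {ι : Type*} [Fintype ι]
    [DecidableEq ι] (M : Matrix ι ι R) (hM : M * M = M) :
    ∃ (r s : ℕ) (S : Matrix (Fin r ⊕ Fin s) ι R) (S' : Matrix ι (Fin r ⊕ Fin s) R),
      S * S' = 1 ∧ S' * S = 1 ∧ (∀ u j, (S * M) (Sum.inl u) j = S (Sum.inl u) j) ∧
      (∀ v j, (S * M) (Sum.inr v) j = 0) := by
  classical
  let L : (ι → R) →ₗ[R] (ι → R) := Matrix.vecMulLinear M
  have hL : IsIdempotentElem L := by
    apply LinearMap.ext
    intro v
    show (v ᵥ* M) ᵥ* M = v ᵥ* M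
    rw [Matrix.vecMul_vecMul, hM]
  have hc : IsCompl (LinearMap.range L) (LinearMap.ker L) := LinearMap.IsIdempotentElem.isCompl hL
  let P := LinearMap.range L
  let Q := LinearMap.ker L
  -- projectivity and finiteness of the two summands
  have hprojP : Module.Projective R P :=
    Module.Projective.of_split P.subtype (Submodule.projectionOnto P Q hc)
      (Submodule.projectionOnto_comp_subtype hc)
  have hprojQ : Module.Projective R Q :=
    Module.Projective.of_split Q.subtype (Submodule.projectionOnto Q P hc.symm)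
      (Submodule.projectionOnto_comp_subtype hc.symm)
  have hfinP : Module.Finite R P :=
    Module.Finite.of_surjective (Submodule.projectionOnto P Q hc)
      (Submodule.projectionOnto_surjective hc)
  have hfinQ : Module.Finite R Q :=
    Module.Finite.of_surjective (Submodule.projectionOnto Q P hc.symm)
      (Submodule.projectionOnto_surjective hc.symm)
  have hfreeP : Module.Free R P := Module.free_of_flat_of_isLocalRing
  have hfreeQ : Module.Free R Q := Module.free_of_flat_of_isLocalRing
  let bP := Module.finBasis R P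
  let bQ := Module.finBasis R Q
  let B : Basis (Fin (finrank R P) ⊕ Fin (finrank R Q)) R (ι → R) :=
    (bP.prod bQ).map (Submodule.prodEquivOfIsCompl P Q hc)
  let e := Pi.basisFun R ι
  have hBl : ∀ u, B (Sum.inl u) = (bP u : ι → R) := by
    intro u
    show Submodule.prodEquivOfIsCompl P Q hc ((bP.prod bQ) (Sum.inl u)) = _
    rw [Submodule.coe_prodEquivOfIsCompl']
    simp
  have hBr : ∀ v, B (Sum.inr v) = (bQ v : ι → R) := by
    intro v
    show Submodule.prodEquivOfIsCompl P Q hc ((bP.prod bQ) (Sum.inr v)) = _
    rw [Submodule.coe_prodEquivOfIsCompl']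
    simp
  refine ⟨finrank R P, finrank R Q, (e.toMatrix B).transpose, (B.toMatrix e).transpose, ?_, ?_,
    ?_, ?_⟩
  · rw [← Matrix.transpose_mul, Basis.toMatrix_mul_toMatrix_flip, Matrix.transpose_one]
  · rw [← Matrix.transpose_mul, Basis.toMatrix_mul_toMatrix_flip, Matrix.transpose_one]
  · intro u j
    have h1 : ((e.toMatrix B).transpose * M) (Sum.inl u) j = (L (B (Sum.inl u))) j := by
      show _ = (B (Sum.inl u) ᵥ* M) j
      rw [Matrix.mul_apply]
      rfl
    rw [h1, hBl u, (LinearMap.IsIdempotentElem.mem_range_iff hL).1 (bP u).2]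
    show _ = e.repr (B (Sum.inl u)) j
    rw [hBl u]
    rfl
  · intro v j
    have h1 : ((e.toMatrix B).transpose * M) (Sum.inr v) j = (L (B (Sum.inr v))) j := by
      show _ = (B (Sum.inr v) ᵥ* M) j
      rw [Matrix.mul_apply]
      rfl
    rw [h1, hBr v, LinearMap.mem_ker.1 (bQ v).2]
    rfl

end Groth.Agent.H92.IdemLocal
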