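import Groth.Agent.H92.RSLocalA

/-!
# The pairing of a trivialised tensor product of modules on a ringed site (helper92)

For sheaves of modules `L`, `N` and a morphism `μ : L ⊗ N ⟶ O`, the pairing
`pr μ V l n = μ (l ⊗ n)` on sections, its bilinearity, its compatibility with restriction, the
local decomposition of `1` when `μ` is an isomorphism, and the vanishing criterion
`eq_zero_of_pr_eq_zero` when `μ` is a monomorphism.
-/

set_option autoImplicit false
set_option backward.isDefEq.respectTransparency false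
universe u
open CategoryTheory CategoryTheory.Limits Opposite MonoidalCategory TensorProduct

namespace Groth.Agent.H92.InvPair

open Groth.Agent.H31 Groth.Agent.H92.EqCrit Groth.Agent.H92.EqCritConv Groth.Agent.H92.RSLocal

variable {C : Type u} [SmallCategory C] {J : GrothendieckTopology C} {O : Sheaf J CommRingCat.{u}}
  {L N : ModSite.Mod O}
  (μ : (shf O).obj ((toPM O).obj L ⊗ (toPM O).obj N) ⟶ SheafOfModules.unit (ModSite.ringSh O))

/-- pure tensors as sections of the tensor product presheaf of modules -/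
noncomputable def tp (V : Cᵒᵖ) (l : ((toPM O).obj L).obj V) (n : ((toPM O).obj N).obj V) :
    ((toPM O).obj L ⊗ (toPM O).obj N).obj V :=
  l ⊗ₜ n

lemma tp_eq_tm (V : Cᵒᵖ) (l : ((toPM O).obj L).obj V) (n : ((toPM O).obj N).obj V) :
    tp V l n = tm ((toPM O).obj L) ((toPM O).obj N) V l n := rfl

/-- the pairing `(l, n) ↦ μ (l ⊗ n)` on sections -/
noncomputable def pr (V : Cᵒᵖ) (l : ((toPM O).obj L).obj V) (n : ((toPM O).obj N).obj V) :
    O.obj.obj V :=
  sec ((toPM O).map μ) V (sec (η ((toPM O).obj L ⊗ (toPM O).obj N)) V (tp V l n))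

lemma tp_add_left (V : Cᵒᵖ) (l l' : ((toPM O).obj L).obj V) (n : ((toPM O).obj N).obj V) :
    tp V (l + l') n = tp V l n + tp V l' n :=
  TensorProduct.add_tmul l l' n

lemma tp_add_right (V : Cᵒᵖ) (l : ((toPM O).obj L).obj V) (n n' : ((toPM O).obj N).obj V) :
    tp V l (n + n') = tp V l n + tp V l n' :=
  TensorProduct.tmul_add l n n'

lemma tp_smul_left (V : Cᵒᵖ) (a : (O.obj ⋙ forget₂ CommRingCat RingCat).obj V)
    (l : ((toPM O).obj L).obj V) (n : ((toPM O).obj N).obj V) :
    tp V (a • l) n = a • tp V l n :=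
  TensorProduct.smul_tmul' a l n

lemma tp_smul_right (V : Cᵒᵖ) (a : (O.obj ⋙ forget₂ CommRingCat RingCat).obj V)
    (l : ((toPM O).obj L).obj V) (n : ((toPM O).obj N).obj V) :
    tp V l (a • n) = a • tp V l n :=
  TensorProduct.tmul_smul a l n

lemma pr_add_left (V : Cᵒᵖ) (l l' : ((toPM O).obj L).obj V) (n : ((toPM O).obj N).obj V) :
    pr μ V (l + l') n = pr μ V l n + pr μ V l' n := by
  unfold pr
  rw [tp_add_left, map_add, map_add]

lemma pr_add_right (V : Cᵒᵖ) (l : ((toPM O).obj L).obj V) (n n' : ((toPM O).obj N).obj V) :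
    pr μ V l (n + n') = pr μ V l n + pr μ V l n' := by
  unfold pr
  rw [tp_add_right, map_add, map_add]

lemma pr_smul_left (V : Cᵒᵖ) (a : O.obj.obj V) (l : ((toPM O).obj L).obj V)
    (n : ((toPM O).obj N).obj V) : pr μ V (a • l) n = a * pr μ V l n := by
  unfold pr
  have h := tp_smul_left (L := L) (N := N) V a l n
  refine (congrArg (fun w => sec ((toPM O).map μ) V
    (sec (η ((toPM O).obj L ⊗ (toPM O).obj N)) V w)) h).trans ?_
  show sec ((toPM O).map μ) V (sec (η ((toPM O).obj L ⊗ (toPM O).obj N)) V (a • tp V l n)) = _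
  rw [sec_smul, sec_smul]
  rfl

lemma pr_smul_right (V : Cᵒᵖ) (a : O.obj.obj V) (l : ((toPM O).obj L).obj V)
    (n : ((toPM O).obj N).obj V) : pr μ V l (a • n) = a * pr μ V l n := by
  unfold pr
  have h := tp_smul_right (L := L) (N := N) V a l n
  refine (congrArg (fun w => sec ((toPM O).map μ) V
    (sec (η ((toPM O).obj L ⊗ (toPM O).obj N)) V w)) h).trans ?_
  show sec ((toPM O).map μ) V (sec (η ((toPM O).obj L ⊗ (toPM O).obj N)) V (a • tp V l n)) = _
  rw [sec_smul, sec_smul]
  rfl

lemma pr_zero_left (V : Cᵒᵖ) (n : ((toPM O).obj N).obj V) : pr μ V 0 n = 0 := by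
  have h := pr_add_left μ V 0 0 n
  rw [add_zero] at h
  exact left_eq_add.1 h

lemma pr_neg_left (V : Cᵒᵖ) (l : ((toPM O).obj L).obj V) (n : ((toPM O).obj N).obj V) :
    pr μ V (-l) n = -pr μ V l n := by
  have h := pr_add_left μ V (-l) l n
  rw [neg_add_cancel, pr_zero_left] at h
  exact eq_neg_of_add_eq_zero_left h.symm

lemma pr_sub_left (V : Cᵒᵖ) (l l' : ((toPM O).obj L).obj V) (n : ((toPM O).obj N).obj V) :
    pr μ V (l - l') n = pr μ V l n - pr μ V l' n := by
  rw [sub_eq_add_neg, pr_add_left, pr_neg_left, ← sub_eq_add_neg]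

lemma rM_tp {V W : C} (g : W ⟶ V) (l : ((toPM O).obj L).obj (op V))
    (n : ((toPM O).obj N).obj (op V)) :
    rM ((toPM O).obj L ⊗ (toPM O).obj N) g (tp (op V) l n) =
      tp (op W) (rM ((toPM O).obj L) g l) (rM ((toPM O).obj N) g n) := rfl

lemma pr_res {V W : C} (g : W ⟶ V) (l : ((toPM O).obj L).obj (op V))
    (n : ((toPM O).obj N).obj (op V)) :
    rO g (pr μ (op V) l n) =
      pr μ (op W) (rM ((toPM O).obj L) g l) (rM ((toPM O).obj N) g n) := by
  unfold pr
  rw [← rM_tp, sec_rM, sec_rM]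
  rfl

/-- locally, `1` is a finite sum of values of the pairing -/
theorem exists_local_one [IsIso μ] (V : C) :
    ∃ S ∈ J V, ∀ ⦃W : C⦄ (g : W ⟶ V), S g →
      ∃ (ι : Type u) (_ : Fintype ι) (l : ι → ((toPM O).obj L).obj (op W))
        (n : ι → ((toPM O).obj N).obj (op W)), ∑ i, pr μ (op W) (l i) (n i) = 1 := by
  let z : ((toPM O).obj ((shf O).obj ((toPM O).obj L ⊗ (toPM O).obj N))).obj (op V) :=
    sec ((toPM O).map (inv μ)) (op V) (1 : O.obj.obj (op V))
  have hz : sec ((toPM O).map μ) (op V) z = (1 : O.obj.obj (op V)) := by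
    show sec ((toPM O).map μ) (op V) (sec ((toPM O).map (inv μ)) (op V) _) = _
    rw [← sec_comp, ← Functor.map_comp, IsIso.inv_hom_id, CategoryTheory.Functor.map_id]
    rfl
  obtain ⟨S, hS, hS'⟩ := exists_local_tensor ((toPM O).obj L) ((toPM O).obj N) V z
  refine ⟨S, hS, fun W g hg => ?_⟩
  obtain ⟨ι, hι, l, n, h⟩ := hS' g hg
  refine ⟨ι, hι, l, n, ?_⟩
  have h1 := congrArg (fun w => sec ((toPM O).map μ) (op W) w) h
  simp only [map_sum] at h1
  refine h1.symm.trans ?_
  have h2 := sec_rM ((toPM O).map μ) g z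
  refine h2.trans ?_
  rw [hz]
  exact (rO (O := O) g).map_one

/-- `η` is locally injective -/
theorem exists_cover_eq_zero_of_sec_η (P : PM O) (V : C) (w : P.obj (op V))
    (hw : sec (η P) (op V) w = 0) :
    ∃ S ∈ J V, ∀ ⦃W : C⦄ (g : W ⟶ V), S g → rM P g w = 0 := by
  have hli : Presheaf.IsLocallyInjective J ((PresheafOfModules.toPresheaf _).map (η P)) :=
    (Presheaf.isLocallyInjective_toSheafify' J P.presheaf :
      Presheaf.IsLocallyInjective J (toSheafify J P.presheaf))
  have h0 : sec (η P) (op V) w = sec (η P) (op V) 0 := by rw [hw, map_zero]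
  refine ⟨Presheaf.equalizerSieve (F := P.presheaf) w 0,
    Presheaf.equalizerSieve_mem J ((PresheafOfModules.toPresheaf _).map (η P)) w 0 h0, ?_⟩
  intro W g hg
  have h1 : rM P g w = rM P g 0 := hg
  rw [h1, map_zero]

/-- if `μ` is a monomorphism and `μ (l ⊗ n) = 1`, then `μ (k ⊗ n) = 0` implies `k = 0` -/
theorem eq_zero_of_pr_eq_zero [Mono μ] (V : C) (l : ((toPM O).obj L).obj (op V))
    (n : ((toPM O).obj N).obj (op V)) (h1 : pr μ (op V) l n = 1)
    (k : ((toPM O).obj L).obj (op V)) (hk : pr μ (op V) k n = 0) : k = 0 := by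
  have h2 : sec (η ((toPM O).obj L ⊗ (toPM O).obj N)) (op V)
      (tp (op V) k n) = 0 := by
    apply injective_of_mono μ V
    rw [map_zero]
    exact hk
  obtain ⟨S, hS, hS'⟩ := exists_cover_eq_zero_of_sec_η _ V _ h2
  refine eq_zero_of_cover L k S hS (fun W g hg => ?_)
  have h3 := hS' g hg
  rw [rM_tp] at h3
  let lW := rM ((toPM O).obj L) g l
  let nW := rM ((toPM O).obj N) g n
  let kW := rM ((toPM O).obj L) g k
  have h4 : pr μ (op W) lW nW = 1 := by
    rw [← pr_res, h1]
    exact (rO (O := O) g).map_one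
  let φ : ((toPM O).obj L).obj (op W) ⊗ ((toPM O).obj N).obj (op W) ⟶
      ((toPM O).obj L).obj (op W) :=
    ModuleCat.MonoidalCategory.tensorLift
      (fun (a : ((toPM O).obj L).obj (op W)) (b : ((toPM O).obj N).obj (op W)) =>
        (pr μ (op W) lW b : (O.obj ⋙ forget₂ CommRingCat RingCat).obj (op W)) • a)
      (fun a a' b => smul_add _ a a')
      (fun c a b => by
        show (pr μ (op W) lW b : (O.obj ⋙ forget₂ CommRingCat RingCat).obj (op W)) • (c • a) =
          c • ((pr μ (op W) lW b : (O.obj ⋙ forget₂ CommRingCat RingCat).obj (op W)) • a)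
        rw [← mul_smul, ← mul_smul, mul_comm])
      (fun a b b' => by
        show (pr μ (op W) lW (b + b') : (O.obj ⋙ forget₂ CommRingCat RingCat).obj (op W)) • a =
          _
        rw [pr_add_right]
        exact add_smul _ _ a)
      (fun c a b => by
        show (pr μ (op W) lW (c • b) : (O.obj ⋙ forget₂ CommRingCat RingCat).obj (op W)) • a =
          _
        rw [pr_smul_right]
        exact mul_smul c _ a)
  have h5 : φ.hom (tp (op W) kW nW) = 0 := by
    rw [h3, map_zero]
  have h6 : φ.hom (tp (op W) kW nW) =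
      (pr μ (op W) lW nW : O.obj.obj (op W)) • kW := rfl
  rw [h6, h4, one_smul] at h5
  exact h5

end Groth.Agent.H92.InvPair
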