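import Groth.Agent.H92.RSLocalT

/-!
# Germs of sections of modules on a ringed space at the points of the site of opens (helper92)
-/

set_option autoImplicit false
set_option backward.isDefEq.respectTransparency false
universe u
open CategoryTheory CategoryTheory.Limits Opposite TopologicalSpace

namespace Groth.Agent.H92.RSLocal

open Groth.Agent.H31 Groth.Agent.H92.EqCrit Groth.Agent.H92.EqCritConv Groth.Agent.H92.StalkFlat

variable {X : TopCat.{u}} {O : Sheaf (Opens.grothendieckTopology X) CommRingCat.{u}} (x : X)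

/-- an open neighbourhood of `x` as a neighbourhood of the point of the site -/
def nb (U : Opens X) (hx : x ∈ U) : (Opens.pointGrothendieckTopology x).fiber.Elements :=
  ⟨U, ⟨⟨hx⟩⟩⟩

/-- the inclusion of neighbourhoods -/
def nbHom {U W : Opens X} (h : W ≤ U) (hx : x ∈ W) : nb x W hx ⟶ nb x U (h hx) :=
  ⟨homOfLE h, rfl⟩

/-- germ of a section of a module -/
noncomputable def gmF (F : ModSite.Mod O) (U : Opens X) (hx : x ∈ U) :
    ((toPM O).obj F).obj (op U) →+ ModSite.stalkAb (Opens.pointGrothendieckTopology x) F :=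
  gF (Opens.pointGrothendieckTopology x) F (nb x U hx)

/-- germ of a section of the structure sheaf -/
noncomputable def gmR (U : Opens X) (hx : x ∈ U) :
    O.obj.obj (op U) →+* ModSite.stalkRing (Opens.pointGrothendieckTopology x) O :=
  gO (Opens.pointGrothendieckTopology x) (nb x U hx)

lemma gmF_res (F : ModSite.Mod O) {U W : Opens X} (h : W ≤ U) (hx : x ∈ W)
    (m : ((toPM O).obj F).obj (op U)) : gmF x F W hx (rF F h m) = gmF x F U (h hx) m :=
  gF_res (Opens.pointGrothendieckTopology x) F (nbHom x h hx) m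

lemma gmR_res {U W : Opens X} (h : W ≤ U) (hx : x ∈ W) (a : O.obj.obj (op U)) :
    gmR x W hx (rR h a) = gmR x U (h hx) a :=
  gO_res (Opens.pointGrothendieckTopology x) (nbHom x h hx) a

lemma gmF_smul (F : ModSite.Mod O) (U : Opens X) (hx : x ∈ U) (a : O.obj.obj (op U))
    (m : ((toPM O).obj F).obj (op U)) : gmF x F U hx (a • m) = gmR x U hx a • gmF x F U hx m :=
  gF_smul (Opens.pointGrothendieckTopology x) F (nb x U hx) a m

lemma gmF_surj (F : ModSite.Mod O)
    (τ : ModSite.stalkAb (Opens.pointGrothendieckTopology x) F) :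
    ∃ (U : Opens X) (hx : x ∈ U) (m : ((toPM O).obj F).obj (op U)), gmF x F U hx m = τ := by
  obtain ⟨E, m, hm⟩ := gF_surj (Opens.pointGrothendieckTopology x) F τ
  exact ⟨E.1, E.2.down.down, m, hm⟩

lemma gmR_surj (τ : ModSite.stalkRing (Opens.pointGrothendieckTopology x) O) :
    ∃ (U : Opens X) (hx : x ∈ U) (a : O.obj.obj (op U)), gmR x U hx a = τ := by
  obtain ⟨E, a, ha⟩ := gO_surj (Opens.pointGrothendieckTopology x) (O := O) τ
  exact ⟨E.1, E.2.down.down, a, ha⟩

lemma gmF_eq (F : ModSite.Mod O) (U : Opens X) (hx : x ∈ U)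
    (m m' : ((toPM O).obj F).obj (op U)) (h : gmF x F U hx m = gmF x F U hx m') :
    ∃ (W : Opens X) (hW : W ≤ U), x ∈ W ∧ rF F hW m = rF F hW m' := by
  obtain ⟨E', e, he⟩ := gF_inj (Opens.pointGrothendieckTopology x) F (nb x U hx) m m' h
  exact ⟨E'.1, e.1.le, E'.2.down.down, he⟩

lemma gmR_eq (U : Opens X) (hx : x ∈ U) (a a' : O.obj.obj (op U))
    (h : gmR x U hx a = gmR x U hx a') :
    ∃ (W : Opens X) (hW : W ≤ U), x ∈ W ∧ rR hW a = rR hW a' := by
  obtain ⟨E', e, he⟩ := gO_inj (Opens.pointGrothendieckTopology x) (nb x U hx) a a' h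
  exact ⟨E'.1, e.1.le, E'.2.down.down, he⟩

lemma stalkMap_gmF {F G : ModSite.Mod O} (φ : F ⟶ G) (U : Opens X) (hx : x ∈ U)
    (m : ((toPM O).obj F).obj (op U)) :
    (ModSite.stalkMap (Opens.pointGrothendieckTopology x) φ).hom (gmF x F U hx m) =
      gmF x G U hx (sF φ U m) :=
  (Opens.pointGrothendieckTopology x).toPresheafFiber_naturality_apply
    ((SheafOfModules.toSheaf (ModSite.ringSh O)).map φ).hom U ⟨⟨hx⟩⟩ m

/-- finitely many germs at `x` are germs of sections over a common neighbourhood -/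
lemma gmF_surj_fin (F : ModSite.Mod O) {ι : Type*} [Finite ι]
    (τ : ι → ModSite.stalkAb (Opens.pointGrothendieckTopology x) F) (U₀ : Opens X) (hx₀ : x ∈ U₀) :
    ∃ (U : Opens X) (_ : U ≤ U₀) (hx : x ∈ U) (m : ι → ((toPM O).obj F).obj (op U)),
      ∀ i, gmF x F U hx (m i) = τ i := by
  classical
  choose V hV m hm using fun i => gmF_surj x F (τ i)
  haveI := Fintype.ofFinite ι
  refine ⟨U₀ ⊓ ⨅ i, V i, inf_le_left, ⟨hx₀, ?_⟩,
    fun i => rF F (inf_le_right.trans (iInf_le V i)) (m i), fun i => ?_⟩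
  · rw [Opens.coe_iInf]
    exact Set.mem_iInter.2 hV
  · rw [gmF_res]
    exact hm i

lemma gmR_surj_fin {ι : Type*} [Finite ι]
    (τ : ι → ModSite.stalkRing (Opens.pointGrothendieckTopology x) O) (U₀ : Opens X)
    (hx₀ : x ∈ U₀) :
    ∃ (U : Opens X) (_ : U ≤ U₀) (hx : x ∈ U) (a : ι → O.obj.obj (op U)),
      ∀ i, gmR x U hx (a i) = τ i := by
  classical
  choose V hV m hm using fun i => gmR_surj x (O := O) (τ i)
  haveI := Fintype.ofFinite ι
  refine ⟨U₀ ⊓ ⨅ i, V i, inf_le_left, ⟨hx₀, ?_⟩,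
    fun i => rR (inf_le_right.trans (iInf_le V i)) (m i), fun i => ?_⟩
  · rw [Opens.coe_iInf]
    exact Set.mem_iInter.2 hV
  · rw [gmR_res]
    exact hm i

/-- finitely many equalities of germs hold over a common neighbourhood -/
lemma gmF_eq_fin (F : ModSite.Mod O) {ι : Type*} [Finite ι] (U : Opens X) (hx : x ∈ U)
    (m m' : ι → ((toPM O).obj F).obj (op U)) (h : ∀ i, gmF x F U hx (m i) = gmF x F U hx (m' i)) :
    ∃ (W : Opens X) (hW : W ≤ U), x ∈ W ∧ ∀ i, rF F hW (m i) = rF F hW (m' i) := by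
  classical
  choose V hV hxV hm using fun i => gmF_eq x F U hx (m i) (m' i) (h i)
  haveI := Fintype.ofFinite ι
  refine ⟨U ⊓ ⨅ i, V i, inf_le_left, ⟨hx, ?_⟩, fun i => ?_⟩
  · rw [Opens.coe_iInf]
    exact Set.mem_iInter.2 hxV
  · have h1 : (U ⊓ ⨅ i, V i) ≤ V i := inf_le_right.trans (iInf_le V i)
    rw [← rF_rF F (hV i) h1, ← rF_rF F (hV i) h1, hm i]

lemma gmR_eq_fin {ι : Type*} [Finite ι] (U : Opens X) (hx : x ∈ U)
    (a a' : ι → O.obj.obj (op U)) (h : ∀ i, gmR x U hx (a i) = gmR x U hx (a' i)) :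
    ∃ (W : Opens X) (hW : W ≤ U), x ∈ W ∧ ∀ i, rR hW (a i) = rR hW (a' i) := by
  classical
  choose V hV hxV hm using fun i => gmR_eq x U hx (a i) (a' i) (h i)
  haveI := Fintype.ofFinite ι
  refine ⟨U ⊓ ⨅ i, V i, inf_le_left, ⟨hx, ?_⟩, fun i => ?_⟩
  · rw [Opens.coe_iInf]
    exact Set.mem_iInter.2 hxV
  · have h1 : (U ⊓ ⨅ i, V i) ≤ V i := inf_le_right.trans (iInf_le V i)
    rw [← rR_rR (hV i) h1, ← rR_rR (hV i) h1, hm i]

end Groth.Agent.H92.RSLocal
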