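import Groth.Agent.H92.InvPair
import Groth.Agent.H92.RSGerm

/-!
# Invertible modules on a locally ringed space: local generators and their stalks (helper92)

For sheaves of modules `L`, `N` on a ringed space with an isomorphism `μ : L ⊗ N ≅ O`:
local sections `l`, `n` with `μ (l ⊗ n) = 1` exist around every point whose stalk is local;
such an `l` generates `L` freely on its domain, and its germs are bases of the stalks.
-/

set_option autoImplicit false
set_option backward.isDefEq.respectTransparency false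
universe u
open CategoryTheory CategoryTheory.Limits Opposite TopologicalSpace MonoidalCategory

namespace Groth.Agent.H92.InvPair

open Groth.Agent.H31 Groth.Agent.H92.EqCrit Groth.Agent.H92.EqCritConv Groth.Agent.H92.RSLocal

section Alg

variable {R M : Type*} [CommRing R] [IsLocalRing R] [AddCommGroup M] [Module R M] (g : M)
  (hg : Function.Bijective (fun c : R => c • g))

include hg

omit hg in
lemma isUnit_of_smul_notMem (β : R)
    (h : β • g ∉ IsLocalRing.maximalIdeal R • (⊤ : Submodule R M)) : IsUnit β := by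
  by_contra hβ
  exact h (Submodule.smul_mem_smul ((IsLocalRing.mem_maximalIdeal β).2 hβ) Submodule.mem_top)

lemma smul_notMem_of_isUnit (β : R) (hβ : IsUnit β) :
    β • g ∉ IsLocalRing.maximalIdeal R • (⊤ : Submodule R M) := by
  intro h
  have key : ∃ a ∈ IsLocalRing.maximalIdeal R, β • g = a • g := by
    refine Submodule.smul_induction_on (p := fun z => ∃ a ∈ IsLocalRing.maximalIdeal R, z = a • g)
      h ?_ ?_
    · intro r hr n _
      obtain ⟨c, rfl⟩ := hg.2 n
      exact ⟨r * c, Ideal.mul_mem_right c _ hr, (mul_smul r c g).symm⟩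
    · rintro z z' ⟨a, ha, rfl⟩ ⟨a', ha', rfl⟩
      exact ⟨a + a', Ideal.add_mem _ ha ha', (add_smul a a' g).symm⟩
  obtain ⟨a, ha, hag⟩ := key
  have : β = a := hg.1 hag
  rw [this] at hβ
  exact (IsLocalRing.mem_maximalIdeal a).1 ha hβ

omit [IsLocalRing R] in
lemma bijective_smul_of_isUnit (β : R) (hβ : IsUnit β) :
    Function.Bijective (fun a : R => a • (β • g)) := by
  obtain ⟨u, rfl⟩ := hβ
  have h1 : (fun a : R => a • ((u : R) • g)) = (fun c : R => c • g) ∘ (fun a : R => a * u) := by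
    funext a
    exact (mul_smul a (u : R) g).symm
  rw [h1]
  refine hg.comp ⟨fun a b hab => ?_, fun b => ⟨b * (u⁻¹ : Rˣ), ?_⟩⟩
  · have := congrArg (fun t => t * ((u⁻¹ : Rˣ) : R)) hab
    simpa [mul_assoc] using this
  · simp [mul_assoc]

end Alg

variable {X : TopCat.{u}} {O : Sheaf (Opens.grothendieckTopology X) CommRingCat.{u}}
  {L N : ModSite.Mod O}
  (μ : (shf O).obj ((toPM O).obj L ⊗ (toPM O).obj N) ⟶ SheafOfModules.unit (ModSite.ringSh O))

lemma pr_rF {W W' : Opens X} (hW : W' ≤ W) (l : ((toPM O).obj L).obj (op W))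
    (n : ((toPM O).obj N).obj (op W)) :
    rR hW (pr μ (op W) l n) = pr μ (op W') (rF L hW l) (rF N hW n) :=
  pr_res μ (homOfLE hW) l n

lemma pr_rF_eq_one {W W' : Opens X} (hW : W' ≤ W) (l : ((toPM O).obj L).obj (op W))
    (n : ((toPM O).obj N).obj (op W)) (h1 : pr μ (op W) l n = 1) :
    pr μ (op W') (rF L hW l) (rF N hW n) = 1 := by
  rw [← pr_rF, h1]
  exact (rR (O := O) hW).map_one

/-- every local section of `L` is a multiple of the local generator `l` -/
theorem eq_pr_smul [Mono μ] {W : Opens X} (l : ((toPM O).obj L).obj (op W))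
    (n : ((toPM O).obj N).obj (op W)) (h1 : pr μ (op W) l n = 1) {W' : Opens X} (hW : W' ≤ W)
    (l' : ((toPM O).obj L).obj (op W')) :
    l' = (pr μ (op W') l' (rF N hW n)) • rF L hW l := by
  have h1' := pr_rF_eq_one μ hW l n h1
  have h2 : pr μ (op W') (l' - (pr μ (op W') l' (rF N hW n)) • rF L hW l) (rF N hW n) = 0 := by
    rw [pr_sub_left, pr_smul_left, h1', mul_one, sub_self]
  exact sub_eq_zero.1 (eq_zero_of_pr_eq_zero μ W' (rF L hW l) (rF N hW n) h1' _ h2)

/-- the local generator `l` is free -/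
theorem eq_zero_of_smul_rF {W : Opens X} (l : ((toPM O).obj L).obj (op W))
    (n : ((toPM O).obj N).obj (op W)) (h1 : pr μ (op W) l n = 1) {W' : Opens X} (hW : W' ≤ W)
    (a : O.obj.obj (op W')) (ha : a • rF L hW l = 0) : a = 0 := by
  have h1' := pr_rF_eq_one μ hW l n h1
  have h2 := pr_smul_left μ (op W') a (rF L hW l) (rF N hW n)
  rw [ha, pr_zero_left, h1', mul_one] at h2
  exact h2.symm

/-- the germ of the local generator is a basis of the stalk -/
theorem bijective_smul_germ [Mono μ] {W : Opens X} (l : ((toPM O).obj L).obj (op W))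
    (n : ((toPM O).obj N).obj (op W)) (h1 : pr μ (op W) l n = 1) (y : X) (hy : y ∈ W) :
    Function.Bijective (fun c : ModSite.stalkRing (Opens.pointGrothendieckTopology y) O =>
      c • gmF y L W hy l) := by
  have hzero : ∀ c : ModSite.stalkRing (Opens.pointGrothendieckTopology y) O,
      c • gmF y L W hy l = 0 → c = 0 := by
    intro c hc
    obtain ⟨W1, hy1, c0, rfl⟩ := gmR_surj y (O := O) c
    have hy2 : y ∈ W1 ⊓ W := ⟨hy1, hy⟩
    let a : O.obj.obj (op (W1 ⊓ W)) := rR inf_le_left c0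
    have h2 : gmF y L (W1 ⊓ W) hy2 (a • rF L inf_le_right l) =
        gmF y L (W1 ⊓ W) hy2 0 := by
      rw [gmF_smul, gmF_res, gmR_res, map_zero]
      exact hc
    obtain ⟨W3, hW3, hy3, h3⟩ := gmF_eq y L (W1 ⊓ W) hy2 _ _ h2
    rw [rF_smul, map_zero, rF_rF] at h3
    have h4 := eq_zero_of_smul_rF μ l n h1 (hW3.trans inf_le_right) _ h3
    rw [rR_rR] at h4
    rw [← gmR_res y (hW3.trans inf_le_left) hy3 c0, h4, map_zero]
  constructor
  · intro c c' hcc
    have : (c - c') • gmF y L W hy l = 0 := by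
      rw [sub_smul]
      exact sub_eq_zero.2 hcc
    exact sub_eq_zero.1 (hzero _ this)
  · intro τ
    obtain ⟨W1, hy1, l', rfl⟩ := gmF_surj y L τ
    have hy2 : y ∈ W1 ⊓ W := ⟨hy1, hy⟩
    have h2 := eq_pr_smul μ l n h1 (inf_le_right : W1 ⊓ W ≤ W) (rF L inf_le_left l')
    refine ⟨gmR y (W1 ⊓ W) hy2 (pr μ (op (W1 ⊓ W)) (rF L inf_le_left l') (rF N inf_le_right n)),
      ?_⟩
    show gmR y (W1 ⊓ W) hy2 _ • gmF y L W hy l = gmF y L W1 hy1 l'
    rw [← gmF_res y L (inf_le_right : W1 ⊓ W ≤ W) hy2 l, ← gmF_smul, ← h2, gmF_res]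

/-- a section whose germ is a unit is invertible on a neighbourhood -/
theorem exists_local_inverse (x : X) {W : Opens X} (hx : x ∈ W) (u : O.obj.obj (op W))
    (hu : IsUnit (gmR x W hx u)) :
    ∃ (W' : Opens X) (hW : W' ≤ W), x ∈ W' ∧ ∃ v : O.obj.obj (op W'), v * rR hW u = 1 := by
  obtain ⟨β, hβ⟩ := hu.exists_left_inv
  obtain ⟨W1, hx1, v0, rfl⟩ := gmR_surj x (O := O) β
  have hx2 : x ∈ W1 ⊓ W := ⟨hx1, hx⟩
  have h2 : gmR x (W1 ⊓ W) hx2 (rR inf_le_left v0 * rR inf_le_right u) =
      gmR x (W1 ⊓ W) hx2 1 := by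
    rw [map_mul, gmR_res, gmR_res, map_one]
    exact hβ
  obtain ⟨W3, hW3, hx3, h3⟩ := gmR_eq x (W1 ⊓ W) hx2 _ _ h2
  refine ⟨W3, hW3.trans inf_le_right, hx3, rR (hW3.trans inf_le_left) v0, ?_⟩
  rw [map_mul, map_one, rR_rR, rR_rR] at h3
  exact h3

/-- around a point with local stalk there are local sections with `μ (l ⊗ n) = 1` -/
theorem exists_local_generator [IsIso μ] (x : X)
    (hx : IsLocalRing (ModSite.stalkRing (Opens.pointGrothendieckTopology x) O))
    (U : Opens X) (hxU : x ∈ U) :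
    ∃ (W : Opens X) (_ : W ≤ U) (_ : x ∈ W) (l : ((toPM O).obj L).obj (op W))
      (n : ((toPM O).obj N).obj (op W)), pr μ (op W) l n = 1 := by
  classical
  obtain ⟨S, hS, hS'⟩ := exists_local_one μ U
  obtain ⟨W, g, hg, hxW⟩ := hS x hxU
  obtain ⟨ι, hι, l, n, h⟩ := hS' g hg
  have hsum : ∑ i, gmR x W hxW (pr μ (op W) (l i) (n i)) = 1 := by
    rw [← map_sum, h, map_one]
  have hex : ∃ i, IsUnit (gmR x W hxW (pr μ (op W) (l i) (n i))) := by
    by_contra hne
    simp only [not_exists] at hne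
    have hmem : ∑ i, gmR x W hxW (pr μ (op W) (l i) (n i)) ∈
        IsLocalRing.maximalIdeal (ModSite.stalkRing (Opens.pointGrothendieckTopology x) O) :=
      Ideal.sum_mem _ (fun i _ => (IsLocalRing.mem_maximalIdeal _).2 (hne i))
    rw [hsum] at hmem
    exact (IsLocalRing.maximalIdeal _).ne_top_iff_one.1 (IsLocalRing.maximalIdeal.isMaximal _).ne_top
      hmem
  obtain ⟨i, hi⟩ := hex
  obtain ⟨W', hW', hxW', v, hv⟩ := exists_local_inverse x hxW _ hi
  refine ⟨W', hW'.trans g.le, hxW', rF L hW' (l i), v • rF N hW' (n i), ?_⟩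
  rw [pr_smul_right, ← pr_rF]
  exact hv

end Groth.Agent.H92.InvPair
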