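import Mathlib
import Groth.Agent.S6786
import Groth.Agent.S6787

/-!
# Homology of a limit of complexes of abelian groups under Mittag-Leffler hypotheses (for S6807)
-/

set_option autoImplicit false
open CategoryTheory CategoryTheory.Limits Opposite

universe u

namespace Groth.Agent.H92.LimHomology

section elements

variable (L : HomologicalComplex AddCommGrpCat.{u} (ComplexShape.up ℤ))

theorem iCycles_injective (n : ℤ) : Function.Injective (L.iCycles n).hom :=
  (AddCommGrpCat.mono_iff_injective (L.iCycles n)).mp inferInstance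

theorem d_iCycles (n n' : ℤ) (z : L.cycles n) : (L.d n n').hom ((L.iCycles n).hom z) = 0 :=
  ConcreteCategory.congr_hom (L.iCycles_d n n') z

theorem exists_cycle (n n' : ℤ) (h : n + 1 = n') (x : L.X n) (hx : (L.d n n').hom x = 0) :
    ∃ z : L.cycles n, (L.iCycles n).hom z = x := by
  let k : AddCommGrpCat.of (L.d n n').hom.ker ⟶ L.X n :=
    AddCommGrpCat.ofHom (L.d n n').hom.ker.subtype
  have hk : k ≫ L.d n n' = 0 := by
    ext ⟨y, hy⟩
    exact hy
  have hn : (ComplexShape.up ℤ).next n = n' := by rw [CochainComplex.next]; exact h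
  refine ⟨(L.liftCycles k n' hn hk).hom ⟨x, hx⟩, ?_⟩
  exact ConcreteCategory.congr_hom (L.liftCycles_i k n' hn hk) ⟨x, hx⟩

theorem homologyπ_surjective (n : ℤ) : Function.Surjective (L.homologyπ n).hom :=
  (AddCommGrpCat.epi_iff_surjective (L.homologyπ n)).mp inferInstance

theorem iCycles_toCycles (m n : ℤ) (y : L.X m) :
    (L.iCycles n).hom ((L.toCycles m n).hom y) = (L.d m n).hom y :=
  ConcreteCategory.congr_hom (L.toCycles_i m n) y

theorem homologyπ_toCycles (m n : ℤ) (y : L.X m) :
    (L.homologyπ n).hom ((L.toCycles m n).hom y) = 0 :=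
  ConcreteCategory.congr_hom (L.toCycles_comp_homologyπ m n) y

theorem exists_of_homologyπ_eq_zero (m n : ℤ) (h : m + 1 = n) (z : L.cycles n)
    (hz : (L.homologyπ n).hom z = 0) :
    ∃ y : L.X m, (L.toCycles m n).hom y = z := by
  have hp : (ComplexShape.up ℤ).prev n = m := by rw [CochainComplex.prev]; omega
  have hex : (ShortComplex.mk (L.toCycles m n) (L.homologyπ n)
      (L.toCycles_comp_homologyπ m n)).Exact :=
    ShortComplex.exact_of_g_is_cokernel _ (L.homologyIsCokernel m n hp)
  exact (ShortComplex.ab_exact_iff _).mp hex z hz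

end elements

section systems

variable {J : Type} [Category.{0} J]

/-- the levelwise image of a morphism of systems of abelian groups -/
def imgSys {F G : J ⥤ AddCommGrpCat.{u}} (φ : F ⟶ G) : J ⥤ AddCommGrpCat.{u} where
  obj i := AddCommGrpCat.of (φ.app i).hom.range
  map {i j} f := AddCommGrpCat.ofHom
    (((G.map f).hom.comp (φ.app i).hom.range.subtype).codRestrict (φ.app j).hom.range (by
      rintro ⟨_, ⟨x, rfl⟩⟩
      exact ⟨(F.map f).hom x, (ConcreteCategory.congr_hom (φ.naturality f) x)⟩))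
  map_id i := by
    ext ⟨x, hx⟩
    show (G.map (𝟙 i)).hom x = x
    rw [G.map_id]; rfl
  map_comp f g := by
    ext ⟨x, hx⟩
    show (G.map (f ≫ g)).hom x = (G.map g).hom ((G.map f).hom x)
    rw [G.map_comp]; rfl

/-- the corestriction -/
def imgπ {F G : J ⥤ AddCommGrpCat.{u}} (φ : F ⟶ G) : F ⟶ imgSys φ where
  app i := AddCommGrpCat.ofHom (φ.app i).hom.rangeRestrict
  naturality i j f := by
    ext x
    apply Subtype.ext
    exact ConcreteCategory.congr_hom (φ.naturality f) x

/-- the inclusion -/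
def imgι {F G : J ⥤ AddCommGrpCat.{u}} (φ : F ⟶ G) : imgSys φ ⟶ G where
  app i := AddCommGrpCat.ofHom (φ.app i).hom.range.subtype
  naturality i j f := by
    ext x
    rfl

theorem imgπ_surjective {F G : J ⥤ AddCommGrpCat.{u}} (φ : F ⟶ G) (i : J) :
    Function.Surjective ((imgπ φ).app i).hom := by
  rintro ⟨_, ⟨x, rfl⟩⟩
  exact ⟨x, rfl⟩

theorem imgι_injective {F G : J ⥤ AddCommGrpCat.{u}} (φ : F ⟶ G) (i : J) :
    Function.Injective ((imgι φ).app i).hom := by
  intro x y h
  exact Subtype.ext h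

theorem imgι_range {F G : J ⥤ AddCommGrpCat.{u}} (φ : F ⟶ G) (i : J) :
    ((imgι φ).app i).hom.range = (φ.app i).hom.range := by
  ext y
  constructor
  · rintro ⟨⟨_, hx⟩, rfl⟩
    exact hx
  · intro hy
    exact ⟨⟨y, hy⟩, rfl⟩

theorem imgπ_ι_apply {F G : J ⥤ AddCommGrpCat.{u}} (φ : F ⟶ G) (i : J) (x : F.obj i) :
    ((imgι φ).app i).hom (((imgπ φ).app i).hom x) = (φ.app i).hom x := rfl

theorem isMittagLeffler_of_surjective {F B : J ⥤ AddCommGrpCat.{u}} (p : F ⟶ B)
    (hp : ∀ i, Function.Surjective (p.app i).hom)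
    (hF : (F ⋙ forget AddCommGrpCat).IsMittagLeffler) :
    (B ⋙ forget AddCommGrpCat).IsMittagLeffler := by
  intro j
  obtain ⟨i, f, hf⟩ := hF j
  refine ⟨i, f, ?_⟩
  intro k g
  rintro _ ⟨b, rfl⟩
  obtain ⟨a, rfl⟩ := hp i b
  have hmem : (F.map f).hom a ∈ Set.range ((F ⋙ forget AddCommGrpCat).map g) := hf g ⟨a, rfl⟩
  obtain ⟨a', ha'⟩ := hmem
  have ha'' : (F.map g).hom a' = (F.map f).hom a := ha'
  refine ⟨(p.app k).hom a', ?_⟩
  show (B.map g).hom ((p.app k).hom a') = (B.map f).hom ((p.app i).hom a)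
  have e1 : (B.map g).hom ((p.app k).hom a') = (p.app j).hom ((F.map g).hom a') :=
    (ConcreteCategory.congr_hom (p.naturality g) a').symm
  have e2 : (B.map f).hom ((p.app i).hom a) = (p.app j).hom ((F.map f).hom a) :=
    (ConcreteCategory.congr_hom (p.naturality f) a).symm
  rw [e1, e2, ha'']

end systems

section natlim

theorem limMap_surjective {A B C : ℕᵒᵖ ⥤ AddCommGrpCat.{u}} (a : A ⟶ B) (b : B ⟶ C)
    (hB : ∀ i, (b.app i).hom.ker = (a.app i).hom.range)
    (hb : ∀ i, Function.Surjective (b.app i).hom)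
    (hA : (A ⋙ forget AddCommGrpCat).IsMittagLeffler) :
    Function.Surjective (limMap b).hom := by
  have hC : ∀ i, ((0 : C ⟶ C).app i).hom.ker = (b.app i).hom.range := by
    intro i
    ext y
    constructor
    · intro _
      exact hb i y
    · intro _
      rfl
  have key := Groth.Agent.S6786.result a b (0 : C ⟶ C) hB hC hA
  intro y
  have hy : y ∈ (limMap (0 : C ⟶ C)).hom.ker := by
    have h0 : limMap (0 : C ⟶ C) = 0 := by
      apply limit.hom_ext
      intro i
      rw [limMap_π]
      simp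
    rw [h0]
    rfl
  rw [key] at hy
  exact hy

theorem lim_exists (F : ℕᵒᵖ ⥤ AddCommGrpCat.{u}) (x : ∀ i, F.obj i)
    (hx : ∀ {i j : ℕᵒᵖ} (f : i ⟶ j), (F.map f).hom (x i) = x j) :
    ∃ y : (limit F : AddCommGrpCat.{u}), ∀ i, (limit.π F i).hom y = x i := by
  let hl : IsLimit ((forget AddCommGrpCat).mapCone (limit.cone F)) :=
    isLimitOfPreserves (forget AddCommGrpCat) (limit.isLimit F)
  let sec : (F ⋙ forget AddCommGrpCat).sections := ⟨fun i => x i, fun {i j} f => hx f⟩
  refine ⟨(Types.isLimitEquivSections hl).symm sec, fun i => ?_⟩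
  exact Types.isLimitEquivSections_symm_apply hl sec i

end natlim

section complexes

variable (K : ℕᵒᵖ ⥤ HomologicalComplex AddCommGrpCat.{u} (ComplexShape.up ℤ))

/-- degree `m` terms -/
abbrev XS (m : ℤ) : ℕᵒᵖ ⥤ AddCommGrpCat.{u} := K ⋙ HomologicalComplex.eval _ _ m
/-- degree `m` cycles -/
noncomputable abbrev ZS (m : ℤ) : ℕᵒᵖ ⥤ AddCommGrpCat.{u} :=
  K ⋙ HomologicalComplex.cyclesFunctor _ _ m
/-- degree `m` homology -/
noncomputable abbrev HS (m : ℤ) : ℕᵒᵖ ⥤ AddCommGrpCat.{u} :=
  K ⋙ HomologicalComplex.homologyFunctor _ _ m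

/-- projection to homology -/
noncomputable def πS (m : ℤ) : ZS K m ⟶ HS K m :=
  Functor.whiskerLeft K (HomologicalComplex.natTransHomologyπ _ _ m)

/-- inclusion of cycles -/
noncomputable def iS (m : ℤ) : ZS K m ⟶ XS K m where
  app i := (K.obj i).iCycles m
  naturality _ _ f := HomologicalComplex.cyclesMap_i (K.map f) m

/-- the differential into cycles -/
noncomputable def tS (m m' : ℤ) : XS K m ⟶ ZS K m' where
  app i := (K.obj i).toCycles m m'
  naturality i j f := by
    show (K.map f).f m ≫ (K.obj j).toCycles m m' =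
      (K.obj i).toCycles m m' ≫ HomologicalComplex.cyclesMap (K.map f) m'
    rw [← cancel_mono ((K.obj j).iCycles m'),
      Category.assoc, Category.assoc, HomologicalComplex.toCycles_i,
      HomologicalComplex.cyclesMap_i, HomologicalComplex.toCycles_i_assoc,
      HomologicalComplex.Hom.comm]

/-- the differential -/
def dS (m m' : ℤ) : XS K m ⟶ XS K m' where
  app i := (K.obj i).d m m'
  naturality _ _ f := ((K.map f).comm m m')

theorem X_ext (m : ℤ) (x y : (limit K).X m)
    (h : ∀ i, ((limit.π K i).f m).hom x = ((limit.π K i).f m).hom y) : x = y := by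
  let hl : IsLimit ((forget AddCommGrpCat).mapCone
      ((HomologicalComplex.eval _ _ m).mapCone (limit.cone K))) :=
    isLimitOfPreserves (forget AddCommGrpCat)
      (isLimitOfPreserves (HomologicalComplex.eval _ _ m) (limit.isLimit K))
  apply (Types.isLimitEquivSections hl).injective
  apply Subtype.ext
  funext i
  rw [Types.isLimitEquivSections_apply, Types.isLimitEquivSections_apply]
  exact h i

theorem X_exists (m : ℤ) (x : ∀ i, (K.obj i).X m)
    (hx : ∀ {i j : ℕᵒᵖ} (f : i ⟶ j), ((K.map f).f m).hom (x i) = x j) :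
    ∃ y : (limit K).X m, ∀ i, ((limit.π K i).f m).hom y = x i := by
  let hl : IsLimit ((forget AddCommGrpCat).mapCone
      ((HomologicalComplex.eval _ _ m).mapCone (limit.cone K))) :=
    isLimitOfPreserves (forget AddCommGrpCat)
      (isLimitOfPreserves (HomologicalComplex.eval _ _ m) (limit.isLimit K))
  let sec : ((K ⋙ HomologicalComplex.eval _ _ m) ⋙ forget AddCommGrpCat).sections :=
    ⟨fun i => x i, fun {i j} f => hx f⟩
  refine ⟨(Types.isLimitEquivSections hl).symm sec, fun i => ?_⟩
  exact Types.isLimitEquivSections_symm_apply hl sec i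

end complexes

section nat

variable {L M : HomologicalComplex AddCommGrpCat.{u} (ComplexShape.up ℤ)} (φ : L ⟶ M)

theorem π_nat (n : ℤ) (z : L.cycles n) :
    (HomologicalComplex.homologyMap φ n).hom ((L.homologyπ n).hom z) =
      (M.homologyπ n).hom ((HomologicalComplex.cyclesMap φ n).hom z) :=
  ConcreteCategory.congr_hom (HomologicalComplex.homologyπ_naturality φ n) z

theorem i_nat (n : ℤ) (z : L.cycles n) :
    (M.iCycles n).hom ((HomologicalComplex.cyclesMap φ n).hom z) =
      (φ.f n).hom ((L.iCycles n).hom z) :=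
  ConcreteCategory.congr_hom (HomologicalComplex.cyclesMap_i φ n) z

theorem d_nat (m m' : ℤ) (x : L.X m) :
    (φ.f m').hom ((L.d m m').hom x) = (M.d m m').hom ((φ.f m).hom x) :=
  (ConcreteCategory.congr_hom (φ.comm m m') x).symm

end nat

section main

variable (K : ℕᵒᵖ ⥤ HomologicalComplex AddCommGrpCat.{u} (ComplexShape.up ℤ)) (n : ℤ)

/-- The comparison map -/
noncomputable abbrev G : (limit K).homology n ⟶ limit (HS K n) :=
  limit.post K (HomologicalComplex.homologyFunctor AddCommGrpCat.{u} (ComplexShape.up ℤ) n)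

theorem G_π (i : ℕᵒᵖ) (w : (limit K).homology n) :
    (limit.π (HS K n) i).hom ((G K n).hom w) =
      (HomologicalComplex.homologyMap (limit.π K i) n).hom w :=
  ConcreteCategory.congr_hom
    (limit.post_π K (HomologicalComplex.homologyFunctor _ _ n) i) w

theorem G_surjective
    (h1 : ((K ⋙ HomologicalComplex.eval _ _ (n - 1)) ⋙ forget AddCommGrpCat).IsMittagLeffler) :
    Function.Surjective (G K n).hom := by
  intro h
  have hB : ∀ i, ((πS K n).app i).hom.ker = ((tS K (n - 1) n).app i).hom.range := by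
    intro i
    ext z
    constructor
    · intro hz
      exact exists_of_homologyπ_eq_zero (K.obj i) (n - 1) n (by omega) z hz
    · rintro ⟨y, rfl⟩
      exact homologyπ_toCycles (K.obj i) (n - 1) n y
  have hb : ∀ i, Function.Surjective ((πS K n).app i).hom :=
    fun i => homologyπ_surjective (K.obj i) n
  obtain ⟨ζ, hζ⟩ := limMap_surjective (tS K (n - 1) n) (πS K n) hB hb h1 h
  let ζc : ∀ i, (K.obj i).cycles n := fun i => (limit.π (ZS K n) i).hom ζ
  have hζcomp : ∀ {i j : ℕᵒᵖ} (f : i ⟶ j),
      (HomologicalComplex.cyclesMap (K.map f) n).hom (ζc i) = ζc j := by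
    intro i j f
    exact ConcreteCategory.congr_hom (limit.w (ZS K n) f) ζ
  obtain ⟨x, hx⟩ := X_exists K n (fun i => ((K.obj i).iCycles n).hom (ζc i)) (by
    intro i j f
    rw [← i_nat, hζcomp])
  have hdx : ((limit K).d n (n + 1)).hom x = 0 := by
    apply X_ext K (n + 1)
    intro i
    rw [d_nat, hx, d_iCycles, map_zero]
  obtain ⟨z, hz⟩ := exists_cycle (limit K) n (n + 1) rfl x hdx
  refine ⟨((limit K).homologyπ n).hom z, ?_⟩
  apply Concrete.limit_ext (HS K n)
  intro i
  have hzi : (HomologicalComplex.cyclesMap (limit.π K i) n).hom z = ζc i := by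
    apply iCycles_injective (K.obj i) n
    rw [i_nat, hz, hx]
  have e1 : (limit.π (HS K n) i).hom ((G K n).hom (((limit K).homologyπ n).hom z)) =
      ((K.obj i).homologyπ n).hom (ζc i) := by
    rw [G_π, π_nat, hzi]
  have e2 : (limit.π (HS K n) i).hom h = ((K.obj i).homologyπ n).hom (ζc i) := by
    rw [← hζ]
    exact ConcreteCategory.congr_hom (limMap_π (πS K n) i) ζ
  exact e1.trans e2.symm

theorem G_injective
    (h2 : ((K ⋙ HomologicalComplex.eval _ _ (n - 2)) ⋙ forget AddCommGrpCat).IsMittagLeffler)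
    (hH : ∃ (C₀ : AddCommGrpCat.{u})
      (c : (Functor.const ℕᵒᵖ).obj C₀ ⟶ K ⋙ HomologicalComplex.homologyFunctor _ _ (n - 1)),
      DerCA.IsEssConstant (K ⋙ HomologicalComplex.homologyFunctor _ _ (n - 1)) C₀ c) :
    Function.Injective (G K n).hom := by
  rw [injective_iff_map_eq_zero]
  intro w hw
  obtain ⟨z, rfl⟩ := homologyπ_surjective (limit K) n w
  -- ML for cycles in degree n-1
  have hZML : ((ZS K (n - 1)) ⋙ forget AddCommGrpCat).IsMittagLeffler := by
    have hImg : ((imgSys (tS K (n - 2) (n - 1))) ⋙ forget AddCommGrpCat).IsMittagLeffler :=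
      isMittagLeffler_of_surjective (imgπ (tS K (n - 2) (n - 1)))
        (imgπ_surjective (tS K (n - 2) (n - 1))) h2
    refine (Groth.Agent.S6787.result (imgι (tS K (n - 2) (n - 1))) (πS K (n - 1))
      (imgι_injective (tS K (n - 2) (n - 1)))
      (fun i => homologyπ_surjective (K.obj i) (n - 1)) ?_ hH).mp hImg
    intro i
    rw [imgι_range]
    ext z
    constructor
    · intro hz
      exact exists_of_homologyπ_eq_zero (K.obj i) (n - 2) (n - 1) (by omega) z hz
    · rintro ⟨y, rfl⟩
      exact homologyπ_toCycles (K.obj i) (n - 2) (n - 1) y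
  -- the image system of d : X^{n-1} → X^n
  have hB : ∀ i, ((imgπ (dS K (n - 1) n)).app i).hom.ker =
      ((iS K (n - 1)).app i).hom.range := by
    intro i
    ext y
    constructor
    · intro hy
      have hy' : ((K.obj i).d (n - 1) n).hom y = 0 := congrArg Subtype.val hy
      exact exists_cycle (K.obj i) (n - 1) n (by omega) y hy'
    · rintro ⟨z', rfl⟩
      apply Subtype.ext
      exact d_iCycles (K.obj i) (n - 1) n z'
  have hsurj := limMap_surjective (iS K (n - 1)) (imgπ (dS K (n - 1) n)) hB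
    (imgπ_surjective (dS K (n - 1) n)) hZML
  -- x_i in the image
  have hxi : ∀ i, ((limit.π K i).f n).hom (((limit K).iCycles n).hom z) ∈
      ((K.obj i).d (n - 1) n).hom.range := by
    intro i
    have h0 : ((K.obj i).homologyπ n).hom
        ((HomologicalComplex.cyclesMap (limit.π K i) n).hom z) = 0 := by
      rw [← π_nat, ← G_π, hw]
      exact map_zero _
    obtain ⟨y, hy⟩ := exists_of_homologyπ_eq_zero (K.obj i) (n - 1) n (by omega) _ h0
    refine ⟨y, ?_⟩
    rw [← iCycles_toCycles, hy, i_nat]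
  obtain ⟨β, hβ⟩ := lim_exists (imgSys (dS K (n - 1) n))
    (fun i => ⟨((limit.π K i).f n).hom (((limit K).iCycles n).hom z), hxi i⟩) (by
    intro i j f
    apply Subtype.ext
    show ((K.map f).f n).hom (((limit.π K i).f n).hom (((limit K).iCycles n).hom z)) =
      ((limit.π K j).f n).hom (((limit K).iCycles n).hom z)
    exact ConcreteCategory.congr_hom (congrArg (fun φ => φ.f n) (limit.w K f))
      (((limit K).iCycles n).hom z))
  obtain ⟨η, hη⟩ := hsurj β
  let yc : ∀ i, (K.obj i).X (n - 1) := fun i => (limit.π (XS K (n - 1)) i).hom η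
  have hycomp : ∀ {i j : ℕᵒᵖ} (f : i ⟶ j), ((K.map f).f (n - 1)).hom (yc i) = yc j :=
    fun f => ConcreteCategory.congr_hom (limit.w (XS K (n - 1)) f) η
  have hdy : ∀ i, ((K.obj i).d (n - 1) n).hom (yc i) =
      ((limit.π K i).f n).hom (((limit K).iCycles n).hom z) := by
    intro i
    have e := ConcreteCategory.congr_hom (limMap_π (imgπ (dS K (n - 1) n)) i) η
    have e' : (limit.π (imgSys (dS K (n - 1) n)) i).hom β =
        ((imgπ (dS K (n - 1) n)).app i).hom (yc i) := by
      rw [← hη]; exact e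
    rw [hβ] at e'
    exact (congrArg Subtype.val e').symm
  obtain ⟨y, hy⟩ := X_exists K (n - 1) yc hycomp
  have hdyx : ((limit K).d (n - 1) n).hom y = ((limit K).iCycles n).hom z := by
    apply X_ext K n
    intro i
    rw [d_nat, hy, hdy]
  have hz : ((limit K).toCycles (n - 1) n).hom y = z := by
    apply iCycles_injective (limit K) n
    rw [iCycles_toCycles, hdyx]
  rw [← hz]
  exact homologyπ_toCycles (limit K) (n - 1) n y

theorem main
    (h2 : ((K ⋙ HomologicalComplex.eval _ _ (n - 2)) ⋙ forget AddCommGrpCat).IsMittagLeffler)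
    (h1 : ((K ⋙ HomologicalComplex.eval _ _ (n - 1)) ⋙ forget AddCommGrpCat).IsMittagLeffler)
    (hH : ∃ (C₀ : AddCommGrpCat.{u})
      (c : (Functor.const ℕᵒᵖ).obj C₀ ⟶ K ⋙ HomologicalComplex.homologyFunctor _ _ (n - 1)),
      DerCA.IsEssConstant (K ⋙ HomologicalComplex.homologyFunctor _ _ (n - 1)) C₀ c) :
    IsIso (limit.post K (HomologicalComplex.homologyFunctor AddCommGrpCat.{u}
      (ComplexShape.up ℤ) n)) :=
  (ConcreteCategory.isIso_iff_bijective _).mpr ⟨G_injective K n h2 hH, G_surjective K n h1⟩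

end main

end Groth.Agent.H92.LimHomology
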