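import Mathlib.Topology.Algebra.LinearTopology
import Mathlib.Topology.Algebra.Module.ContinuousLinearMap.Basic
import Mathlib.LinearAlgebra.Basis.VectorSpace
import Mathlib.LinearAlgebra.LinearPMap

set_option autoImplicit false

namespace Groth.Agent.H92

universe u v

/-- A linear map killing an open submodule is continuous (it is locally constant). -/
theorem continuous_of_open_le_ker {k : Type u} {M : Type v} [Field k] [TopologicalSpace k]
    [AddCommGroup M] [Module k M] [TopologicalSpace M] [IsTopologicalAddGroup M]
    (f : M →ₗ[k] k) (U : Submodule k M) (hU : IsOpen (U : Set M)) (hUf : U ≤ LinearMap.ker f) :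
    Continuous f := by
  rw [continuous_def]
  intro s _
  rw [isOpen_iff_mem_nhds]
  intro m hm
  have hopen : IsOpen {y : M | y - m ∈ U} :=
    hU.preimage (continuous_id.sub continuous_const)
  have hmem : m ∈ {y : M | y - m ∈ U} := by simp
  refine Filter.mem_of_superset (hopen.mem_nhds hmem) ?_
  intro y hy
  have h0 : f (y - m) = 0 := hUf hy
  have : f y = f m := by
    rw [map_sub, sub_eq_zero] at h0
    exact h0
  change f y ∈ s
  rw [this]
  exact hm

/-- In a linearly topologized module, every neighbourhood of zero contains an open submodule. -/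
theorem exists_open_submodule_subset {k : Type u} {M : Type v} [Field k]
    [AddCommGroup M] [Module k M] [TopologicalSpace M] [IsTopologicalAddGroup M]
    [IsLinearTopology k M] {s : Set M} (hs : s ∈ nhds (0 : M)) :
    ∃ U : Submodule k M, IsOpen (U : Set M) ∧ (U : Set M) ⊆ s := by
  obtain ⟨U, hU, hUs⟩ := (IsLinearTopology.hasBasis_open_submodule k).mem_iff.mp hs
  exact ⟨U, hU, hUs⟩

end Groth.Agent.H92
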