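import Groth.Agent.H92.MatPres
import Groth.Agent.H92.RestrExact

/-!
# Local factorisation of morphisms `F ⟶ H` (`F` finitely presented, `H` flat) through finite free
modules (helper92)

* `G O v = overMap`: restriction from `C/X` to `C/V`; it is exact and additive.
* `exists_local_factorisation_chart`: the factorisation on a chart with a matrix presentation.
* `exists_matrix_presentation`: Mathlib's finite `Presentation` gives a matrix presentation.
* `exists_local_factorisation`: the theorem.
-/

set_option autoImplicit false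
set_option backward.isDefEq.respectTransparency false
universe u
open CategoryTheory CategoryTheory.Limits Opposite

namespace Groth.Agent.H92.LocalFact

open Groth.Agent.H31 Groth.Agent.H92.EqCrit Groth.Agent.H92.MatPres

variable {C : Type u} [SmallCategory C] {J : GrothendieckTopology C} (O : Sheaf J CommRingCat.{u})

section OverMap

variable {X V : C} (v : V ⟶ X)

/-- restriction from `C/X` to `C/V` along `v : V ⟶ X` -/
noncomputable abbrev G : ModSite.Mod (O.over X) ⥤ ModSite.Mod (O.over V) :=
  SheafOfModules.overMap (ModSite.ringSh O) v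

/-- `overMap` commutes with the underlying abelian sheaf -/
noncomputable def cmpIso :
    G O v ⋙ SheafOfModules.toSheaf (ModSite.ringSh (O.over V)) ≅
      SheafOfModules.toSheaf (ModSite.ringSh (O.over X)) ⋙
        (Over.map v).sheafPushforwardContinuous AddCommGrpCat.{u} (J.over V) (J.over X) :=
  NatIso.ofComponents (fun M => Iso.refl _) (by intro M N f; rfl)

instance G_preservesFiniteColimits :
    PreservesFiniteColimits (G O v) := by
  have h0 : PreservesFiniteColimits
      ((Over.map v).sheafPushforwardContinuous AddCommGrpCat.{u} (J.over V) (J.over X)) := by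
    have := ((Over.map v).sheafAdjunctionCocontinuous AddCommGrpCat.{u}
      (J.over V) (J.over X)).leftAdjoint_preservesColimits
    infer_instance
  have h1 : PreservesFiniteColimits
      (SheafOfModules.toSheaf (ModSite.ringSh (O.over X)) ⋙
        (Over.map v).sheafPushforwardContinuous AddCommGrpCat.{u} (J.over V) (J.over X)) := by
    have := Groth.Agent.H45.toSheaf_preservesFiniteColimits (ModSite.ringSh (O.over X))
    infer_instance
  have h2 : PreservesFiniteColimits
      (G O v ⋙ SheafOfModules.toSheaf (ModSite.ringSh (O.over V))) :=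
    preservesFiniteColimits_of_natIso (cmpIso O v).symm
  have h3 : (SheafOfModules.toSheaf (ModSite.ringSh (O.over V))).ReflectsIsomorphisms :=
    inferInstance
  have h4 := Groth.Agent.H45.toSheaf_preservesFiniteColimits (ModSite.ringSh (O.over V))
  constructor
  intro K _ _
  have : ReflectsColimitsOfShape K (SheafOfModules.toSheaf (ModSite.ringSh (O.over V))) :=
    reflectsColimitsOfShape_of_reflectsIsomorphisms
  exact ⟨fun {F} => preservesColimit_of_reflects_of_preserves
    (G O v)
    (SheafOfModules.toSheaf (ModSite.ringSh (O.over V)))⟩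

instance G_additive : (G O v).Additive where
  map_add := rfl

/-- the terminal object of `C/X` -/
abbrev TX (X : C) : Over X := Over.mk (𝟙 X)

/-- the terminal object of `C/X` is terminal -/
noncomputable def hTX (X : C) : IsTerminal (TX X) := Over.mkIdTerminal

/-- `v` as an object of `C/X` -/
abbrev Vv : Over X := (Over.map v).obj (TX V)

/-- the morphism from `v` to the terminal object -/
noncomputable def tv : Vv v ⟶ TX X := (hTX X).from _

/-- `overMap` preserves the unit -/
noncomputable def ε : (G O v).obj (SheafOfModules.unit (ModSite.ringSh (O.over X))) ≅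
    SheafOfModules.unit (ModSite.ringSh (O.over V)) := Iso.refl _

theorem K1 (M : ModSite.Mod (O.over X))
    (f : SheafOfModules.unit (ModSite.ringSh (O.over X)) ⟶ M) :
    ExtZero.unitHomAddEquiv ((G O v).obj M) (hTX V) ((ε O v).inv ≫ (G O v).map f) =
      ((toPM (O.over X)).obj M).map (tv v).op (ExtZero.unitHomAddEquiv M (hTX X) f) := by
  have h1 : ExtZero.unitHomAddEquiv ((G O v).obj M) (hTX V) ((ε O v).inv ≫ (G O v).map f) =
      sec ((toPM (O.over X)).map f) (op (Vv v)) (1 : (O.over X).obj.obj (op (Vv v))) := rfl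
  rw [h1]
  exact sec_one_eq_map (hTX X) M f (tv v)

/-- local factorisation on a chart with a finite presentation -/
theorem exists_local_factorisation_chart (F H : ModSite.Mod O) (hH : ModSite.IsFlat H)
    (φ : F ⟶ H) (X : C) {n m : ℕ}
    (ρ : (⨁ fun _ : Fin m => SheafOfModules.unit (ModSite.ringSh (O.over X))) ⟶
      (⨁ fun _ : Fin n => SheafOfModules.unit (ModSite.ringSh (O.over X))))
    (π : (⨁ fun _ : Fin n => SheafOfModules.unit (ModSite.ringSh (O.over X))) ⟶
      (ModSite.restr O X).obj F) (w : ρ ≫ π = 0) (hπ : Epi π)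
    (hex : (ShortComplex.mk ρ π w).Exact) :
    ∃ S ∈ J X, ∀ ⦃V : C⦄ (v : V ⟶ X), S v →
      ∃ (l : ℕ) (a : (ModSite.restr O V).obj F ⟶
          ⨁ fun _ : Fin l => SheafOfModules.unit (ModSite.ringSh (O.over V)))
        (b : (⨁ fun _ : Fin l => SheafOfModules.unit (ModSite.ringSh (O.over V))) ⟶
          (ModSite.restr O V).obj H), a ≫ b = (ModSite.restr O V).map φ := by
  obtain ⟨S', hS', hS''⟩ := exists_local_data (hTX X) ((ModSite.restr O X).obj F)
    ((ModSite.restr O X).obj H) (ExtZero.isFlat_restr H hH X) ρ π w ((ModSite.restr O X).map φ)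
  refine ⟨Sieve.overEquiv (TX X) S', (J.mem_over_iff S').mp hS', fun V v hv => ?_⟩
  have hv' : S' (tv v) := by
    rw [Sieve.overEquiv_iff] at hv
    have h3 := S'.downward_closed hv
      (Over.homMk (𝟙 V) (by simp) : Vv v ⟶ Over.mk (v ≫ (TX X).hom))
    have h4 : (Over.homMk (𝟙 V) (by simp) : Vv v ⟶ Over.mk (v ≫ (TX X).hom)) ≫
        (Over.homMk v : Over.mk (v ≫ (TX X).hom) ⟶ TX X) = tv v := (hTX X).hom_ext _ _
    rw [h4] at h3
    exact h3
  obtain ⟨l, t, b, h1, h2⟩ := hS'' (tv v) hv'
  have hepi : Epi ((G O v).map π) := inferInstance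
  have hexG : (ShortComplex.mk ((G O v).map ρ) ((G O v).map π)
      (by rw [← (G O v).map_comp, w, (G O v).map_zero])).Exact :=
    hex.map_of_epi_of_preservesCokernel (G O v) hπ inferInstance
  obtain ⟨a, β, hab⟩ := exists_factorisation (hTX V) (G O v) (ε O v) ρ π w hepi hexG
    ((ModSite.restr O X).map φ) (l := l)
    (fun k => (t k : ((toPM (O.over V)).obj ((G O v).obj ((ModSite.restr O X).obj H))).obj
      (op (TX V))))
    (fun j k => (b j k : (O.over V).obj.obj (op (TX V))))
    (by
      intro j
      rw [K1]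
      exact h1 j)
    (by
      intro i k
      have e1 : ∀ j, asO (op (TX V)) (ExtZero.unitHomAddEquiv
          (SheafOfModules.unit (ModSite.ringSh (O.over V))) (hTX V)
          ((ε O v).inv ≫ (G O v).map (biproduct.ι
            (fun _ : Fin m => SheafOfModules.unit (ModSite.ringSh (O.over X))) i ≫ ρ ≫
            biproduct.π (fun _ : Fin n => SheafOfModules.unit (ModSite.ringSh (O.over X))) j) ≫
            (ε O v).hom)) =
          (O.over X).obj.map (tv v).op
            (ExtZero.unitHomAddEquiv (SheafOfModules.unit (ModSite.ringSh (O.over X))) (hTX X)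
              (biproduct.ι (fun _ : Fin m => SheafOfModules.unit (ModSite.ringSh (O.over X))) i ≫
                ρ ≫ biproduct.π
                  (fun _ : Fin n => SheafOfModules.unit (ModSite.ringSh (O.over X))) j) :
              (O.over X).obj.obj (op (TX X))) := by
        intro j
        have e0 : (ε O v).inv ≫ (G O v).map (biproduct.ι
            (fun _ : Fin m => SheafOfModules.unit (ModSite.ringSh (O.over X))) i ≫ ρ ≫
            biproduct.π (fun _ : Fin n => SheafOfModules.unit (ModSite.ringSh (O.over X))) j) ≫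
            (ε O v).hom = (ε O v).inv ≫ (G O v).map (biproduct.ι
            (fun _ : Fin m => SheafOfModules.unit (ModSite.ringSh (O.over X))) i ≫ ρ ≫
            biproduct.π (fun _ : Fin n => SheafOfModules.unit (ModSite.ringSh (O.over X))) j) := by
          have : (ε O v).hom = 𝟙 _ := rfl
          rw [this, Category.comp_id]
        rw [e0]
        exact K1 O v (SheafOfModules.unit (ModSite.ringSh (O.over X))) _
      refine Eq.trans (Finset.sum_congr rfl (fun j _ => ?_)) (h2 i k)
      rw [e1 j])
  refine ⟨l, (SheafOfModules.overFunctorMap (ModSite.ringSh O) v).inv.app F ≫ a,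
    β ≫ (SheafOfModules.overFunctorMap (ModSite.ringSh O) v).hom.app H, ?_⟩
  have nat := (SheafOfModules.overFunctorMap (ModSite.ringSh O) v).hom.naturality φ
  rw [Category.assoc, reassoc_of% hab]
  have nat' : (G O v).map ((ModSite.restr O X).map φ) ≫
      (SheafOfModules.overFunctorMap (ModSite.ringSh O) v).hom.app H =
      (SheafOfModules.overFunctorMap (ModSite.ringSh O) v).hom.app F ≫
        (ModSite.restr O V).map φ := nat
  rw [nat', Iso.inv_hom_id_app_assoc]

end OverMap

section Main

variable {O}

/-- a finite biproduct of copies of the unit is a free module -/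
noncomputable def freeIso {I : Type u} {n : ℕ} (e : Fin n ≃ I) :
    (⨁ fun _ : Fin n => SheafOfModules.unit (ModSite.ringSh O)) ≅
      SheafOfModules.free (R := ModSite.ringSh O) I :=
  biproduct.isoCoproduct _ ≪≫
    (Sigma.whiskerEquiv (f := fun _ : Fin n => SheafOfModules.unit (ModSite.ringSh O))
      (g := fun _ : I => SheafOfModules.unit (ModSite.ringSh O)) e (fun _ => Iso.refl _) :
      (∐ fun _ : Fin n => SheafOfModules.unit (ModSite.ringSh O)) ≅
        ∐ fun _ : I => SheafOfModules.unit (ModSite.ringSh O))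

/-- a finite presentation in the sense of Mathlib gives a matrix presentation -/
theorem exists_matrix_presentation {M : ModSite.Mod O} (P : M.Presentation) [P.IsFinite] :
    ∃ (n m : ℕ) (ρ : (⨁ fun _ : Fin m => SheafOfModules.unit (ModSite.ringSh O)) ⟶
        (⨁ fun _ : Fin n => SheafOfModules.unit (ModSite.ringSh O)))
      (π : (⨁ fun _ : Fin n => SheafOfModules.unit (ModSite.ringSh O)) ⟶ M) (w : ρ ≫ π = 0),
      Epi π ∧ (ShortComplex.mk ρ π w).Exact := by
  let eI : Fin (Nat.card P.generators.I) ≃ P.generators.I := (Finite.equivFin _).symm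
  let eK : Fin (Nat.card P.relations.I) ≃ P.relations.I := (Finite.equivFin _).symm
  let ρ₀ : SheafOfModules.free P.relations.I ⟶ SheafOfModules.free P.generators.I :=
    (SheafOfModules.freeHomEquiv _).symm P.relations.s ≫ kernel.ι _
  have w₀ : ρ₀ ≫ P.generators.π = 0 := by
    show ((SheafOfModules.freeHomEquiv _).symm P.relations.s ≫ kernel.ι _) ≫ P.generators.π = 0
    rw [Category.assoc, kernel.condition, comp_zero]
  have hS₀ : (ShortComplex.mk ρ₀ P.generators.π w₀).Exact :=
    ShortComplex.exact_of_g_is_cokernel _ P.isColimit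
  have w : ((freeIso eK).hom ≫ ρ₀ ≫ (freeIso eI).inv) ≫ ((freeIso eI).hom ≫ P.generators.π) =
      0 := by
    simp only [Category.assoc, Iso.inv_hom_id_assoc, w₀, comp_zero]
  refine ⟨_, _, (freeIso eK).hom ≫ ρ₀ ≫ (freeIso eI).inv, (freeIso eI).hom ≫ P.generators.π, w,
    epi_comp _ _, ?_⟩
  have iso : ShortComplex.mk ((freeIso eK).hom ≫ ρ₀ ≫ (freeIso eI).inv)
      ((freeIso eI).hom ≫ P.generators.π) w ≅ ShortComplex.mk ρ₀ P.generators.π w₀ :=
    ShortComplex.isoMk (freeIso eK) (freeIso eI) (Iso.refl _)
      (by simp only [Category.assoc, Iso.inv_hom_id, Category.comp_id])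
      (by simp only [Iso.refl_hom, Category.comp_id])
  exact ShortComplex.exact_of_iso iso.symm hS₀

/-- **Local factorisation through finite free modules** of a morphism from a finitely presented
module to a flat module. -/
theorem exists_local_factorisation (F H : ModSite.Mod O) [F.IsFinitePresentation]
    (hH : ModSite.IsFlat H) (φ : F ⟶ H) (X : C) :
    ∃ (ι : Type u) (Y : ι → C) (g : ∀ i, Y i ⟶ X), Sieve.ofArrows Y g ∈ J X ∧
      ∀ i, ∃ (n : ℕ) (a : (ModSite.restr O (Y i)).obj F ⟶
          SheafOfModules.free (ULift.{u} (Fin n)))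
        (b : SheafOfModules.free (ULift.{u} (Fin n)) ⟶ (ModSite.restr O (Y i)).obj H),
        a ≫ b = (ModSite.restr O (Y i)).map φ := by
  obtain ⟨σ, hσ⟩ := SheafOfModules.IsFinitePresentation.exists_quasicoherentData F
  let Q : C → Prop := fun V => ∃ (n : ℕ) (a : (ModSite.restr O V).obj F ⟶
      SheafOfModules.free (ULift.{u} (Fin n)))
    (b : SheafOfModules.free (ULift.{u} (Fin n)) ⟶ (ModSite.restr O V).obj H),
    a ≫ b = (ModSite.restr O V).map φ
  refine ⟨{p : (Σ V : C, V ⟶ X) // Q p.1}, fun p => p.1.1, fun p => p.1.2, ?_, fun p => p.2⟩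
  apply J.transitive (σ.coversTop X)
  intro W w hw
  obtain ⟨i, ⟨u⟩⟩ := (Sieve.mem_ofObjects_iff _ _).mp hw
  obtain ⟨n, m, ρ, π, w', hπ, hex⟩ := exists_matrix_presentation (O := O.over (σ.X i))
    (M := (ModSite.restr O (σ.X i)).obj F) (σ.presentation i)
  obtain ⟨S, hS, hS'⟩ := exists_local_factorisation_chart O F H hH φ (σ.X i) ρ π w' hπ hex
  refine J.superset_covering ?_ (J.pullback_stable u hS)
  intro V g' hg'
  obtain ⟨l, a, b, hab⟩ := hS' (g' ≫ u) hg'
  have hQ : Q V := ⟨l, a ≫ (freeIso Equiv.ulift.symm).hom, (freeIso Equiv.ulift.symm).inv ≫ b, by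
    rw [Category.assoc, Iso.hom_inv_id_assoc, hab]⟩
  exact ⟨V, 𝟙 V, g' ≫ w,
    Presieve.ofArrows.mk (⟨⟨V, g' ≫ w⟩, hQ⟩ : {p : (Σ V : C, V ⟶ X) // Q p.1}),
    Category.id_comp _⟩

end Main

end Groth.Agent.H92.LocalFact
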