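import Groth.Agent.H92.EqCrit
import Groth.Agent.H92.RestrExact

/-!
# Matrix presentations and local factorisation through free modules (helper92)

* `exists_local_data`: on a ringed site with a terminal object, for a morphism `φ : F ⟶ H` to a
  flat module and a presentation `O^m → O^n → F → 0`, the equational criterion gives local data.
* `exists_factorisation`: the local data give a factorisation of the image of `φ` under an exact
  functor through a finite free module.
-/

set_option autoImplicit false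
set_option backward.isDefEq.respectTransparency false
universe u
open CategoryTheory CategoryTheory.Limits Opposite

namespace Groth.Agent.H92.MatPres

open Groth.Agent.H31 Groth.Agent.H92.EqCrit

variable {C : Type u} [SmallCategory C] {J : GrothendieckTopology C} {O : Sheaf J CommRingCat.{u}}

section Terminal

variable {T : C} (hT : IsTerminal T)

/-- view a section of the unit module as a section of `O` -/
def asO (V : Cᵒᵖ) (x : (SheafOfModules.unit (ModSite.ringSh O)).val.obj V) : O.obj.obj V := x

/-- composition of morphisms out of the unit is multiplication of the global sections -/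
theorem uE_comp (N : ModSite.Mod O)
    (f : SheafOfModules.unit (ModSite.ringSh O) ⟶ SheafOfModules.unit (ModSite.ringSh O))
    (g : SheafOfModules.unit (ModSite.ringSh O) ⟶ N) :
    ExtZero.unitHomAddEquiv N hT (f ≫ g) =
      (ExtZero.unitHomAddEquiv (SheafOfModules.unit (ModSite.ringSh O)) hT f :
        O.obj.obj (op T)) • ExtZero.unitHomAddEquiv N hT g := by
  have h1 : ExtZero.unitHomAddEquiv N hT (f ≫ g) =
      sec ((toPM O).map g) (op T)
        (ExtZero.unitHomAddEquiv (SheafOfModules.unit (ModSite.ringSh O)) hT f) := rfl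
  rw [h1]
  refine (sec_unitHom hT N g (op T) _).trans ?_
  rw [res_self]

theorem uE_uHom (a : O.obj.obj (op T)) :
    ExtZero.unitHomAddEquiv (SheafOfModules.unit (ModSite.ringSh O)) hT (uHom hT a) = a :=
  unitHomAddEquiv_sHom hT (SheafOfModules.unit (ModSite.ringSh O)) a

theorem uE_uHom_comp_sHom (N : ModSite.Mod O) (a : O.obj.obj (op T))
    (x : ((toPM O).obj N).obj (op T)) :
    ExtZero.unitHomAddEquiv N hT (uHom hT a ≫ sHom hT N x) = a • x := by
  rw [uE_comp, uE_uHom, unitHomAddEquiv_sHom]

include hT in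
/-- the local data given by the equational criterion for a presented module -/
theorem exists_local_data (F H : ModSite.Mod O) (hH : ModSite.IsFlat H) {n m : ℕ}
    (ρ : (⨁ fun _ : Fin m => SheafOfModules.unit (ModSite.ringSh O)) ⟶
      (⨁ fun _ : Fin n => SheafOfModules.unit (ModSite.ringSh O)))
    (π : (⨁ fun _ : Fin n => SheafOfModules.unit (ModSite.ringSh O)) ⟶ F) (w : ρ ≫ π = 0)
    (φ : F ⟶ H) :
    ∃ S ∈ J T, ∀ ⦃V : C⦄ (g : V ⟶ T), S g →
      ∃ (l : ℕ) (t : Fin l → ((toPM O).obj H).obj (op V)) (b : Fin n → Fin l → O.obj.obj (op V)),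
        (∀ j, ((toPM O).obj H).map g.op (ExtZero.unitHomAddEquiv H hT
          (biproduct.ι (fun _ : Fin n => SheafOfModules.unit (ModSite.ringSh O)) j ≫ π ≫ φ)) =
            ∑ k, b j k • t k) ∧
        (∀ i k, ∑ j, b j k * O.obj.map g.op
          (ExtZero.unitHomAddEquiv (SheafOfModules.unit (ModSite.ringSh O)) hT
            (biproduct.ι (fun _ : Fin m => SheafOfModules.unit (ModSite.ringSh O)) i ≫ ρ ≫
              biproduct.π (fun _ : Fin n => SheafOfModules.unit (ModSite.ringSh O)) j) :
            O.obj.obj (op T)) = 0) := by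
  classical
  obtain ⟨S, hS, hS'⟩ := exists_local_trivialisation hT H hH
    (fun i j => (ExtZero.unitHomAddEquiv (SheafOfModules.unit (ModSite.ringSh O)) hT
      (biproduct.ι (fun _ : Fin m => SheafOfModules.unit (ModSite.ringSh O)) i ≫ ρ ≫
        biproduct.π (fun _ : Fin n => SheafOfModules.unit (ModSite.ringSh O)) j) :
      O.obj.obj (op T)))
    (fun j => ExtZero.unitHomAddEquiv H hT
      (biproduct.ι (fun _ : Fin n => SheafOfModules.unit (ModSite.ringSh O)) j ≫ π ≫ φ))
    (by
      intro i
      have e1 : ∑ j, (biproduct.ι (fun _ : Fin m => SheafOfModules.unit (ModSite.ringSh O)) i ≫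
          ρ ≫ biproduct.π (fun _ : Fin n => SheafOfModules.unit (ModSite.ringSh O)) j) ≫
          (biproduct.ι (fun _ : Fin n => SheafOfModules.unit (ModSite.ringSh O)) j ≫ π ≫ φ) =
          0 := by
        have e2 : ∀ j, (biproduct.ι (fun _ : Fin m => SheafOfModules.unit (ModSite.ringSh O)) i ≫
          ρ ≫ biproduct.π (fun _ : Fin n => SheafOfModules.unit (ModSite.ringSh O)) j) ≫
          (biproduct.ι (fun _ : Fin n => SheafOfModules.unit (ModSite.ringSh O)) j ≫ π ≫ φ) =
          (biproduct.ι (fun _ : Fin m => SheafOfModules.unit (ModSite.ringSh O)) i ≫ ρ) ≫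
          (biproduct.π (fun _ : Fin n => SheafOfModules.unit (ModSite.ringSh O)) j ≫
            biproduct.ι (fun _ : Fin n => SheafOfModules.unit (ModSite.ringSh O)) j) ≫
          (π ≫ φ) := by
          intro j
          simp only [Category.assoc]
        rw [Finset.sum_congr rfl (fun j _ => e2 j), ← Preadditive.comp_sum,
          ← Preadditive.sum_comp, biproduct.total, Category.id_comp, Category.assoc,
          reassoc_of% w, zero_comp, comp_zero]
      have e3 := congrArg (ExtZero.unitHomAddEquiv H hT) e1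
      rw [map_sum, map_zero] at e3
      refine Eq.trans (Finset.sum_congr rfl (fun j _ => ?_)) e3
      exact (uE_comp hT H _ _).symm)
  refine ⟨S, hS, fun V g hg => ?_⟩
  obtain ⟨ι, hι, t, b, h1, h2⟩ := hS' g hg
  let e : ι ≃ Fin (Fintype.card ι) := Fintype.equivFin ι
  refine ⟨Fintype.card ι, fun k => t (e.symm k), fun j k => b j (e.symm k), ?_, ?_⟩
  · intro j
    rw [h1 j]
    exact (Equiv.sum_comp e.symm (fun k => b j k • t k)).symm
  · intro i k
    exact h2 i (e.symm k)

/-- the local data give a factorisation through a finite free module -/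
theorem exists_factorisation {𝒜 : Type*} [Category 𝒜] [Preadditive 𝒜] [HasFiniteBiproducts 𝒜]
    (G : 𝒜 ⥤ ModSite.Mod O)
    [G.Additive] {U₁ : 𝒜} (ε : G.obj U₁ ≅ SheafOfModules.unit (ModSite.ringSh O)) {F H : 𝒜}
    {n m : ℕ} (ρ : (⨁ fun _ : Fin m => U₁) ⟶ (⨁ fun _ : Fin n => U₁))
    (π : (⨁ fun _ : Fin n => U₁) ⟶ F) (w : ρ ≫ π = 0) (hepi : Epi (G.map π))
    (hex : (ShortComplex.mk (G.map ρ) (G.map π)
      (by rw [← G.map_comp, w, G.map_zero])).Exact)
    (φ : F ⟶ H) {l : ℕ} (t : Fin l → ((toPM O).obj (G.obj H)).obj (op T))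
    (b : Fin n → Fin l → O.obj.obj (op T))
    (h1 : ∀ j, ExtZero.unitHomAddEquiv (G.obj H) hT
      (ε.inv ≫ G.map (biproduct.ι (fun _ : Fin n => U₁) j ≫ π ≫ φ)) = ∑ k, b j k • t k)
    (h2 : ∀ i k, ∑ j, b j k *
      asO (op T) (ExtZero.unitHomAddEquiv (SheafOfModules.unit (ModSite.ringSh O)) hT
        (ε.inv ≫ G.map (biproduct.ι (fun _ : Fin m => U₁) i ≫ ρ ≫
          biproduct.π (fun _ : Fin n => U₁) j) ≫ ε.hom)) = 0) :
    ∃ (a : G.obj F ⟶ ⨁ fun _ : Fin l => SheafOfModules.unit (ModSite.ringSh O))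
      (β : (⨁ fun _ : Fin l => SheafOfModules.unit (ModSite.ringSh O)) ⟶ G.obj H),
      a ≫ β = G.map φ := by
  classical
  let c : Fin n → (SheafOfModules.unit (ModSite.ringSh O) ⟶
      ⨁ fun _ : Fin l => SheafOfModules.unit (ModSite.ringSh O)) :=
    fun j => biproduct.lift (fun k => uHom hT (b j k))
  let α' : G.obj (⨁ fun _ : Fin n => U₁) ⟶
      ⨁ fun _ : Fin l => SheafOfModules.unit (ModSite.ringSh O) :=
    ∑ j, G.map (biproduct.π (fun _ : Fin n => U₁) j) ≫ ε.hom ≫ c j
  let β : (⨁ fun _ : Fin l => SheafOfModules.unit (ModSite.ringSh O)) ⟶ G.obj H :=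
    biproduct.desc (fun k => sHom hT (G.obj H) (t k))
  have total : ∀ (p : ℕ), ∑ i, G.map (biproduct.π (fun _ : Fin p => U₁) i) ≫
      G.map (biproduct.ι (fun _ : Fin p => U₁) i) = 𝟙 (G.obj (⨁ fun _ : Fin p => U₁)) := by
    intro p
    rw [← G.map_id, ← biproduct.total, G.map_sum]
    exact Finset.sum_congr rfl (fun i _ => (G.map_comp _ _).symm)
  have F1 : G.map ρ ≫ α' = 0 := by
    have key : ∀ i, G.map (biproduct.ι (fun _ : Fin m => U₁) i) ≫ G.map ρ ≫ α' = 0 := by
      intro i
      rw [← cancel_epi ε.inv, comp_zero]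
      refine biproduct.hom_ext _ _ (fun k => ?_)
      rw [zero_comp]
      apply (ExtZero.unitHomAddEquiv (SheafOfModules.unit (ModSite.ringSh O)) hT).injective
      rw [map_zero]
      have e1 : (ε.inv ≫ G.map (biproduct.ι (fun _ : Fin m => U₁) i) ≫ G.map ρ ≫ α') ≫
          biproduct.π (fun _ : Fin l => SheafOfModules.unit (ModSite.ringSh O)) k =
          ∑ j, (ε.inv ≫ G.map (biproduct.ι (fun _ : Fin m => U₁) i ≫ ρ ≫
            biproduct.π (fun _ : Fin n => U₁) j) ≫ ε.hom) ≫ uHom hT (b j k) := by
        show (ε.inv ≫ G.map (biproduct.ι (fun _ : Fin m => U₁) i) ≫ G.map ρ ≫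
          ∑ j, G.map (biproduct.π (fun _ : Fin n => U₁) j) ≫ ε.hom ≫ c j) ≫
          biproduct.π (fun _ : Fin l => SheafOfModules.unit (ModSite.ringSh O)) k = _
        simp only [Preadditive.comp_sum, Preadditive.sum_comp, Category.assoc, G.map_comp]
        refine Finset.sum_congr rfl (fun j _ => ?_)
        have : c j ≫ biproduct.π (fun _ : Fin l => SheafOfModules.unit (ModSite.ringSh O)) k =
            uHom hT (b j k) := biproduct.lift_π _ _
        rw [this]
      rw [e1, map_sum]
      refine Eq.trans (Finset.sum_congr rfl (fun j _ => ?_)) (h2 i k)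
      rw [uE_comp, uE_uHom]
      exact mul_comm (G := O.obj.obj (op T)) _ _
    calc G.map ρ ≫ α' = (∑ i, G.map (biproduct.π (fun _ : Fin m => U₁) i) ≫
          G.map (biproduct.ι (fun _ : Fin m => U₁) i)) ≫ G.map ρ ≫ α' := by
            rw [total m, Category.id_comp]
      _ = ∑ i, G.map (biproduct.π (fun _ : Fin m => U₁) i) ≫
          (G.map (biproduct.ι (fun _ : Fin m => U₁) i) ≫ G.map ρ ≫ α') := by
            rw [Preadditive.sum_comp]
            exact Finset.sum_congr rfl (fun i _ => Category.assoc _ _ _)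
      _ = 0 := Finset.sum_eq_zero (fun i _ => by rw [key i, comp_zero])
  have F2 : α' ≫ β = G.map (π ≫ φ) := by
    have key : ∀ j, ε.hom ≫ c j ≫ β =
        G.map (biproduct.ι (fun _ : Fin n => U₁) j ≫ π ≫ φ) := by
      intro j
      rw [← cancel_epi ε.inv, Iso.inv_hom_id_assoc]
      apply (ExtZero.unitHomAddEquiv (G.obj H) hT).injective
      rw [h1 j]
      have e1 : c j ≫ β = ∑ k, uHom hT (b j k) ≫ sHom hT (G.obj H) (t k) :=
        biproduct.lift_desc
      rw [e1, map_sum]
      exact Finset.sum_congr rfl (fun k _ => uE_uHom_comp_sHom hT (G.obj H) (b j k) (t k))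
    calc α' ≫ β = ∑ j, G.map (biproduct.π (fun _ : Fin n => U₁) j) ≫ ε.hom ≫ c j ≫ β := by
            show (∑ j, G.map (biproduct.π (fun _ : Fin n => U₁) j) ≫ ε.hom ≫ c j) ≫ β = _
            rw [Preadditive.sum_comp]
            exact Finset.sum_congr rfl (fun j _ => by simp only [Category.assoc])
      _ = ∑ j, G.map (biproduct.π (fun _ : Fin n => U₁) j) ≫
          G.map (biproduct.ι (fun _ : Fin n => U₁) j ≫ π ≫ φ) :=
            Finset.sum_congr rfl (fun j _ => by rw [key j])
      _ = (∑ j, G.map (biproduct.π (fun _ : Fin n => U₁) j) ≫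
          G.map (biproduct.ι (fun _ : Fin n => U₁) j)) ≫ G.map (π ≫ φ) := by
            rw [Preadditive.sum_comp]
            exact Finset.sum_congr rfl (fun j _ => by
              simp only [G.map_comp, Category.assoc])
      _ = G.map (π ≫ φ) := by rw [total n, Category.id_comp]
  have : Epi (ShortComplex.mk (G.map ρ) (G.map π)
      (by rw [← G.map_comp, w, G.map_zero])).g := hepi
  obtain ⟨a, ha⟩ := hex.desc' α' F1
  refine ⟨a, β, ?_⟩
  rw [← cancel_epi (G.map π)]
  have ha' : G.map π ≫ a = α' := ha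
  rw [reassoc_of% ha', F2, G.map_comp]

end Terminal

end Groth.Agent.H92.MatPres
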