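import Groth.Prelude.Def_W4c5suslinpi1abAdj

/-!
Helper lemmas on the projection morphisms / exterior products of
`Groth.Prelude.Def_W4c5suslinpi1abAdj` (naturality, adjoint forms).
-/

set_option autoImplicit false
universe v u

open CategoryTheory MonoidalCategory Functor.LaxMonoidal Functor.OplaxMonoidal
open W4c5suslinpi1ab

namespace Groth.Agent.H92.MonAdj

variable {C : Type u} [Category.{v} C] [MonoidalCategory C]
variable {D : Type u} [Category.{v} D] [MonoidalCategory D]

section Nat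

variable {L : C ⥤ D} {R : D ⥤ C} (adj : L ⊣ R) [R.LaxMonoidal]

@[reassoc]
lemma projR_natural_right (A : D) {B B' : C} (φ : B ⟶ B') :
    (R.obj A ◁ φ) ≫ projR adj A B' = projR adj A B ≫ R.map (A ◁ L.map φ) := by
  unfold projR
  rw [← MonoidalCategory.whiskerLeft_comp_assoc, ← adj.unit_naturality,
    MonoidalCategory.whiskerLeft_comp_assoc, Category.assoc, μ_natural_right]

@[reassoc]
lemma projR_natural_left {A A' : D} (a : A ⟶ A') (B : C) :
    (R.map a ▷ B) ≫ projR adj A' B = projR adj A B ≫ R.map (a ▷ L.obj B) := by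
  unfold projR
  dsimp only [Functor.comp_obj, Functor.id_obj]
  rw [← whisker_exchange_assoc, Category.assoc, μ_natural_left]

@[reassoc]
lemma projL_natural_right (A : C) {B B' : D} (b : B ⟶ B') :
    (A ◁ R.map b) ≫ projL adj A B' = projL adj A B ≫ R.map (L.obj A ◁ b) := by
  unfold projL
  dsimp only [Functor.comp_obj, Functor.id_obj]
  rw [whisker_exchange_assoc, Category.assoc, μ_natural_right]

@[reassoc]
lemma projL_natural_left {A A' : C} (a : A ⟶ A') (B : D) :
    (a ▷ R.obj B) ≫ projL adj A' B = projL adj A B ≫ R.map (L.map a ▷ B) := by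
  unfold projL
  rw [← MonoidalCategory.comp_whiskerRight_assoc, ← adj.unit_naturality,
    MonoidalCategory.comp_whiskerRight_assoc, Category.assoc, μ_natural_left]

end Nat

section Adj

variable {L : C ⥤ D} {R : D ⥤ C} (adj : L ⊣ R) [L.OplaxMonoidal] [R.LaxMonoidal] [adj.IsMonoidal]

@[reassoc]
lemma map_projR_counit (A : D) (B : C) :
    L.map (projR adj A B) ≫ adj.counit.app (A ⊗ L.obj B) =
      δ L (R.obj A) B ≫ (adj.counit.app A ▷ L.obj B) := by
  unfold projR
  dsimp only [Functor.comp_obj, Functor.id_obj]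
  rw [Functor.map_comp, Category.assoc, adj.map_μ_comp_counit_app_tensor,
    ← δ_natural_right_assoc, tensorHom_def', ← MonoidalCategory.whiskerLeft_comp_assoc,
    adj.left_triangle_components, MonoidalCategory.whiskerLeft_id, Category.id_comp]
  rfl

@[reassoc]
lemma map_projL_counit (A : C) (B : D) :
    L.map (projL adj A B) ≫ adj.counit.app (L.obj A ⊗ B) =
      δ L A (R.obj B) ≫ (L.obj A ◁ adj.counit.app B) := by
  unfold projL
  dsimp only [Functor.comp_obj, Functor.id_obj]
  rw [Functor.map_comp, Category.assoc, adj.map_μ_comp_counit_app_tensor,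
    ← δ_natural_left_assoc, tensorHom_def, ← MonoidalCategory.comp_whiskerRight_assoc,
    adj.left_triangle_components, MonoidalCategory.id_whiskerRight, Category.id_comp]
  rfl

end Adj

section Shriek

variable {L : C ⥤ D} {R : D ⥤ C} {S : C ⥤ D} (adj : L ⊣ R) (adj' : R ⊣ S) [R.LaxMonoidal]
  [∀ (A : D) (B : C), IsIso (projR adj A B)]

lemma map_cupShriek_counit (A B : C) :
    R.map (cupShriek adj adj' A B) ≫ adj'.counit.app (A ⊗ B) =
      inv (projR adj (S.obj A) B) ≫ (adj'.counit.app A ▷ B) := by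
  unfold cupShriek
  have h := (adj'.homEquiv (S.obj A ⊗ L.obj B) (A ⊗ B)).symm_apply_apply
    (inv (projR adj (S.obj A) B) ≫ (adj'.counit.app A ▷ B))
  rw [Adjunction.homEquiv_counit] at h
  exact h

@[reassoc]
lemma cupShriek_natural_right (A : C) {B B' : C} (φ : B ⟶ B') :
    cupShriek adj adj' A B ≫ S.map (A ◁ φ) = (S.obj A ◁ L.map φ) ≫ cupShriek adj adj' A B' := by
  unfold cupShriek
  rw [← Adjunction.homEquiv_naturality_right, ← Adjunction.homEquiv_naturality_left]
  congr 1
  have h := projR_natural_right adj (S.obj A) φ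
  dsimp only [Functor.comp_obj, Functor.id_obj]
  rw [Category.assoc, ← whisker_exchange, ← Category.assoc, ← Category.assoc]
  congr 1
  rw [IsIso.inv_comp_eq, ← Category.assoc, IsIso.eq_comp_inv]
  exact h

end Shriek

section Square

variable {S₀ : Type u} [Category.{v} S₀] [MonoidalCategory S₀]
variable {Y₁ : Type u} [Category.{v} Y₁] [MonoidalCategory Y₁]
variable {Y₂ : Type u} [Category.{v} Y₂] [MonoidalCategory Y₂]
variable {X : Type u} [Category.{v} X] [MonoidalCategory X]
variable {fL : S₀ ⥤ Y₁} {fR : Y₁ ⥤ S₀} {gR : Y₂ ⥤ S₀}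
variable {pL : Y₁ ⥤ X} {pR : X ⥤ Y₁} {qL : Y₂ ⥤ X} {qR : X ⥤ Y₂}
variable (adjf : fL ⊣ fR) (adjp : pL ⊣ pR) (adjq : qL ⊣ qR) [fR.LaxMonoidal] [pR.LaxMonoidal]
  (ν : qR ⋙ gR ⟶ pR ⋙ fR)

@[reassoc]
lemma extProd_natural_right (A : Y₁) {B B' : Y₂} (b : B ⟶ B') :
    (fR.obj A ◁ gR.map b) ≫ extProd adjf adjp adjq ν A B' =
      extProd adjf adjp adjq ν A B ≫ fR.map (pR.map (pL.obj A ◁ qL.map b)) := by
  unfold extProd
  have hbc := (bcMor adjf adjq ν).naturality b
  dsimp only [Functor.comp_obj, Functor.comp_map] at hbc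
  rw [projR_natural_right_assoc, Category.assoc, Category.assoc, ← fR.map_comp, ← fR.map_comp,
    ← fR.map_comp, ← fR.map_comp, ← projL_natural_right, ← MonoidalCategory.whiskerLeft_comp_assoc,
    ← MonoidalCategory.whiskerLeft_comp_assoc, hbc]

@[reassoc]
lemma extProd_natural_left {A A' : Y₁} (a : A ⟶ A') (B : Y₂) :
    (fR.map a ▷ gR.obj B) ≫ extProd adjf adjp adjq ν A' B =
      extProd adjf adjp adjq ν A B ≫ fR.map (pR.map (pL.map a ▷ qL.obj B)) := by
  unfold extProd
  dsimp only [Functor.comp_obj]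
  rw [projR_natural_left_assoc, Category.assoc, Category.assoc, ← fR.map_comp, ← fR.map_comp,
    ← fR.map_comp, ← fR.map_comp, ← projL_natural_left, ← whisker_exchange_assoc]

@[reassoc]
lemma extProd_natural {A A' : Y₁} (a : A ⟶ A') {B B' : Y₂} (b : B ⟶ B') :
    (fR.map a ⊗ₘ gR.map b) ≫ extProd adjf adjp adjq ν A' B' =
      extProd adjf adjp adjq ν A B ≫ fR.map (pR.map (pL.map a ⊗ₘ qL.map b)) := by
  rw [tensorHom_def, Category.assoc, extProd_natural_right, extProd_natural_left_assoc,
    ← fR.map_comp, ← pR.map_comp, ← tensorHom_def]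

instance isIso_extProd [∀ (A : Y₁) (B : S₀), IsIso (projR adjf A B)]
    [∀ (A : Y₁) (B : X), IsIso (projL adjp A B)]
    [∀ B : Y₂, IsIso ((bcMor adjf adjq ν).app B)] (A : Y₁) (B : Y₂) :
    IsIso (extProd adjf adjp adjq ν A B) := by
  unfold extProd
  infer_instance

end Square

end Groth.Agent.H92.MonAdj
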