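import Mathlib

/-!
# Moore's lemma: horn filling in simplicial groups (algebraic core)

We prove, in a purely algebraic form (groups `A = X_{n+2}`, `B = X_{n+1}`, `C = X_n` with face and
degeneracy homomorphisms satisfying the simplicial identities), that a compatible family of
`(n+1)`-simplices indexed by `j ≠ i` is the family of faces of an `(n+2)`-simplex, relatively to a
homomorphism `f` (a lift `w₀` of the prescribed image `y` being given).
-/

set_option autoImplicit false

namespace Groth.Agent.H92.Moore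

section core

variable {A B C A' B' : Type*} [Group A] [Group B] [Group C] [Group A'] [Group B'] {n : ℕ}
  (d : Fin (n+3) → A →* B) (s : Fin (n+2) → B →* A)
  (d' : Fin (n+2) → B →* C) (s' : Fin (n+1) → C →* B)
  (e : Fin (n+3) → A' →* B') (t : Fin (n+2) → B' →* A')
  (fA : A →* A') (fB : B →* B')
  (i : Fin (n+3)) (x : Fin (n+3) → B) (y : A')

@[to_additive kill1_add]
theorem kill1
    (I1 : ∀ (i j : Fin (n+2)), i ≤ j → ∀ a, d' i (d j.succ a) = d' j (d i.castSucc a))
    (hx : ∀ (j0 k0 : Fin (n+2)), j0.castSucc ≠ i → k0.succ ≠ i → j0 ≤ k0 →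
      d' k0 (x j0.castSucc) = d' j0 (x k0.succ))
    (j0 k0 : Fin (n+2)) (hj : j0.castSucc ≠ i) (hk : k0.succ ≠ i) (h : j0 ≤ k0) (w : A)
    (hw : d j0.castSucc w = x j0.castSucc) :
    d' j0 ((d k0.succ w)⁻¹ * x k0.succ) = 1 := by
  rw [map_mul, map_inv, I1 j0 k0 h, hw, hx j0 k0 hj hk h, inv_mul_cancel]

@[to_additive kill2_add]
theorem kill2
    (I1 : ∀ (i j : Fin (n+2)), i ≤ j → ∀ a, d' i (d j.succ a) = d' j (d i.castSucc a))
    (hx : ∀ (j0 k0 : Fin (n+2)), j0.castSucc ≠ i → k0.succ ≠ i → j0 ≤ k0 →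
      d' k0 (x j0.castSucc) = d' j0 (x k0.succ))
    (j0 k0 : Fin (n+2)) (hj : j0.castSucc ≠ i) (hk : k0.succ ≠ i) (h : j0 ≤ k0) (w : A)
    (hw : d k0.succ w = x k0.succ) :
    d' k0 ((d j0.castSucc w)⁻¹ * x j0.castSucc) = 1 := by
  rw [map_mul, map_inv, ← I1 j0 k0 h, hw, ← hx j0 k0 hj hk h, inv_mul_cancel]

@[to_additive exists_filler_add]
theorem exists_filler
    (I1 : ∀ (i j : Fin (n+2)), i ≤ j → ∀ a, d' i (d j.succ a) = d' j (d i.castSucc a))
    (I2 : ∀ (i : Fin (n+2)) (j : Fin (n+1)), i ≤ j.castSucc →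
      ∀ b, d i.castSucc (s j.succ b) = s' j (d' i b))
    (I3 : ∀ (i : Fin (n+2)) b, d i.castSucc (s i b) = b)
    (I4 : ∀ (i : Fin (n+2)) b, d i.succ (s i b) = b)
    (I5 : ∀ (i : Fin (n+2)) (j : Fin (n+1)), j.castSucc < i →
      ∀ b, d i.succ (s j.castSucc b) = s' j (d' i b))
    (hd : ∀ j a, fB (d j a) = e j (fA a)) (hs : ∀ j b, fA (s j b) = t j (fB b))
    (hx : ∀ (j0 k0 : Fin (n+2)), j0.castSucc ≠ i → k0.succ ≠ i → j0 ≤ k0 →
      d' k0 (x j0.castSucc) = d' j0 (x k0.succ))
    (hy : ∀ j, j ≠ i → e j y = fB (x j)) (w₀ : A) (hw₀ : fA w₀ = y) :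
    ∃ w : A, fA w = y ∧ ∀ j, j ≠ i → d j w = x j := by
  -- invariance of the image under the elementary step
  have hf : ∀ (r : Fin (n+3)) (r1 : Fin (n+2)) (w : A), r ≠ i → fA w = y →
      fA (w * s r1 ((d r w)⁻¹ * x r)) = y := by
    intro r r1 w hr hw
    rw [map_mul, hs, map_mul, map_inv, hd, hw, hy r hr, inv_mul_cancel, map_one, mul_one]
  -- Step 1: fill the faces `j < i`, from the bottom.
  have hA : ∀ r : ℕ, r ≤ i.val →
      ∃ w : A, fA w = y ∧ ∀ j : Fin (n+3), j.val < r → d j w = x j := by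
    intro r
    induction r with
    | zero => intro _; exact ⟨w₀, hw₀, fun j hj => absurd hj (Nat.not_lt_zero _)⟩
    | succ r ih =>
      intro hr
      obtain ⟨w, hw, hwj⟩ := ih (by omega)
      have hrn : r < n + 2 := by have := i.isLt; omega
      obtain ⟨r1, hr1⟩ : ∃ r1 : Fin (n+2), r1.val = r := ⟨⟨r, hrn⟩, rfl⟩
      have hri : r1.castSucc ≠ i := by
        intro h
        have := congrArg Fin.val h
        simp only [Fin.val_castSucc] at this
        omega
      refine ⟨w * s r1 ((d r1.castSucc w)⁻¹ * x r1.castSucc), hf _ _ _ hri hw, ?_⟩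
      intro j hj
      rcases Nat.lt_succ_iff_lt_or_eq.mp hj with hlt | heq
      · have hjl : j ≠ Fin.last (n+2) := by
          intro h
          have := congrArg Fin.val h
          simp only [Fin.val_last] at this
          omega
        obtain ⟨j0, rfl⟩ := Fin.eq_castSucc_of_ne_last hjl
        have hr0 : r1 ≠ 0 := by
          intro h
          have := congrArg Fin.val h
          simp only [Fin.val_zero] at this
          omega
        obtain ⟨r0, rfl⟩ := Fin.eq_succ_of_ne_zero hr0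
        have hj0r0 : j0 ≤ r0.castSucc := by
          rw [Fin.le_iff_val_le_val]
          simp only [Fin.val_castSucc, Fin.val_succ] at hlt hr1 ⊢
          omega
        have hj0i : j0.castSucc ≠ i := by
          intro h
          have := congrArg Fin.val h
          simp only [Fin.val_castSucc, Fin.val_succ] at this hlt hr1
          omega
        have e1 : r0.succ.castSucc = r0.castSucc.succ := (Fin.succ_castSucc r0).symm
        have hk : d' j0 ((d r0.succ.castSucc w)⁻¹ * x r0.succ.castSucc) = 1 := by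
          rw [e1]
          exact kill1 d d' i x I1 hx j0 r0.castSucc hj0i (by rw [← e1]; exact hri) hj0r0 w
            (hwj _ hlt)
        rw [map_mul, hwj _ hlt, I2 j0 r0 hj0r0, hk, map_one, mul_one]
      · have hjr : j = r1.castSucc := Fin.ext (by simp only [Fin.val_castSucc]; omega)
        subst hjr
        rw [map_mul, I3, mul_inv_cancel_left]
  -- Step 2: fill the faces `j > i`, from the top.
  have hB : ∀ (c r : ℕ), r + c = n + 3 → i.val < r →
      ∃ w : A, fA w = y ∧ (∀ j : Fin (n+3), j.val < i.val → d j w = x j) ∧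
        ∀ j : Fin (n+3), r ≤ j.val → d j w = x j := by
    intro c
    induction c with
    | zero =>
      intro r hr _
      obtain ⟨w, hw, hwj⟩ := hA i.val le_rfl
      exact ⟨w, hw, hwj, fun j hj => by have := j.isLt; omega⟩
    | succ c ih =>
      intro r hr hir
      obtain ⟨w, hw, hwlow, hwhigh⟩ := ih (r + 1) (by omega) (by omega)
      have hr0 : 0 < r := by omega
      obtain ⟨r1, hr1⟩ : ∃ r1 : Fin (n+2), r1.val + 1 = r := ⟨⟨r - 1, by omega⟩, by simp; omega⟩
      have hri : r1.succ ≠ i := by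
        intro h
        have := congrArg Fin.val h
        simp only [Fin.val_succ] at this
        omega
      refine ⟨w * s r1 ((d r1.succ w)⁻¹ * x r1.succ), hf _ _ _ hri hw, ?_, ?_⟩
      · -- faces below `i`
        intro j hj
        have hjl : j ≠ Fin.last (n+2) := by
          intro h
          have := congrArg Fin.val h
          simp only [Fin.val_last] at this
          have := i.isLt
          omega
        obtain ⟨j0, rfl⟩ := Fin.eq_castSucc_of_ne_last hjl
        simp only [Fin.val_castSucc] at hj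
        have hr10 : r1 ≠ 0 := by
          intro h
          have := congrArg Fin.val h
          simp only [Fin.val_zero] at this
          omega
        obtain ⟨r0, rfl⟩ := Fin.eq_succ_of_ne_zero hr10
        simp only [Fin.val_succ] at hr1
        have hj0r0 : j0 ≤ r0.castSucc := by
          rw [Fin.le_iff_val_le_val]
          simp only [Fin.val_castSucc]
          omega
        have hj0i : j0.castSucc ≠ i := by
          intro h
          have := congrArg Fin.val h
          simp only [Fin.val_castSucc] at this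
          omega
        have hj0r : j0 ≤ r0.succ := by
          rw [Fin.le_iff_val_le_val]
          simp only [Fin.val_succ]
          omega
        have hk : d' j0 ((d r0.succ.succ w)⁻¹ * x r0.succ.succ) = 1 :=
          kill1 d d' i x I1 hx j0 r0.succ hj0i hri hj0r w (hwlow _ (by simpa using hj))
        rw [map_mul, hwlow _ (by simpa using hj), I2 j0 r0 hj0r0, hk, map_one, mul_one]
      · -- faces `≥ r`
        intro j hj
        rcases Nat.eq_or_lt_of_le hj with heq | hlt
        · have hjr : j = r1.succ := Fin.ext (by simp only [Fin.val_succ]; omega)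
          subst hjr
          rw [map_mul, I4, mul_inv_cancel_left]
        · have hj0 : j ≠ 0 := by
            intro h
            have := congrArg Fin.val h
            simp only [Fin.val_zero] at this
            omega
          obtain ⟨j0, rfl⟩ := Fin.eq_succ_of_ne_zero hj0
          simp only [Fin.val_succ] at hlt hj
          have hr1l : r1 ≠ Fin.last (n+1) := by
            intro h
            have := congrArg Fin.val h
            simp only [Fin.val_last] at this
            have := j0.isLt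
            omega
          obtain ⟨r0, rfl⟩ := Fin.eq_castSucc_of_ne_last hr1l
          simp only [Fin.val_castSucc] at hr1
          have hr0j0 : r0.castSucc < j0 := by
            rw [Fin.lt_def]
            simp only [Fin.val_castSucc]
            omega
          have hj0i : j0.succ ≠ i := by
            intro h
            have := congrArg Fin.val h
            simp only [Fin.val_succ] at this
            omega
          have e1 : r0.castSucc.succ = r0.succ.castSucc := Fin.succ_castSucc r0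
          have hle : r0.succ ≤ j0 := by
            rw [Fin.le_iff_val_le_val]
            simp only [Fin.val_succ]
            omega
          have hwj : d j0.succ w = x j0.succ := hwhigh _ (by simp only [Fin.val_succ]; omega)
          have hk : d' j0 ((d r0.castSucc.succ w)⁻¹ * x r0.castSucc.succ) = 1 := by
            rw [e1]
            exact kill2 d d' i x I1 hx r0.succ j0 (by rw [← e1]; exact hri) hj0i hle w hwj
          rw [map_mul, hwj, I5 j0 r0 hr0j0, hk, map_one, mul_one]
  obtain ⟨w, hw, hwlow, hwhigh⟩ := hB (n + 2 - i.val) (i.val + 1) (by have := i.isLt; omega)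
    (by omega)
  refine ⟨w, hw, fun j hj => ?_⟩
  rcases lt_or_gt_of_ne (fun h => hj (Fin.ext h) : j.val ≠ i.val) with h | h
  · exact hwlow j h
  · exact hwhigh j h

@[to_additive exists_filler_zero_add]
theorem exists_filler_zero {A B A' B' : Type*} [Group A] [Group B] [Group A'] [Group B']
    (d : Fin 2 → A →* B) (s : B →* A) (e : Fin 2 → A' →* B') (t : B' →* A')
    (fA : A →* A') (fB : B →* B')
    (I : ∀ j b, d j (s b) = b)
    (hd : ∀ j a, fB (d j a) = e j (fA a)) (hs : ∀ b, fA (s b) = t (fB b))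
    (i : Fin 2) (x : Fin 2 → B) (y : A') (hy : ∀ j, j ≠ i → e j y = fB (x j))
    (w₀ : A) (hw₀ : fA w₀ = y) :
    ∃ w : A, fA w = y ∧ ∀ j, j ≠ i → d j w = x j := by
  obtain ⟨j₁, hj₁, hj₁'⟩ : ∃ j₁ : Fin 2, j₁ ≠ i ∧ ∀ j, j ≠ i → j = j₁ := by
    fin_cases i
    · exact ⟨1, by decide, by decide⟩
    · exact ⟨0, by decide, by decide⟩
  refine ⟨w₀ * s ((d j₁ w₀)⁻¹ * x j₁), ?_, ?_⟩
  · rw [map_mul, hs, map_mul, map_inv, hd, hw₀, hy j₁ hj₁, inv_mul_cancel, map_one, mul_one]
  · intro j hj
    obtain rfl := hj₁' j hj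
    rw [map_mul, I, mul_inv_cancel_left]

end core

section glue

open CategoryTheory Simplicial SSet Opposite

universe u

/-- A morphism of simplicial sets is a Kan fibration as soon as it has the elementwise
horn filling property (horns being given as total families of faces, of which only the values at
`j ≠ i` matter). -/
theorem rlp_J_of_fill {E S : SSet.{u}} (p : E ⟶ S)
    (h0 : ∀ (i : Fin 2) (x : Fin 2 → E _⦋0⦌) (y : S _⦋1⦌),
      (∀ j, j ≠ i → S.δ j y = p.app _ (x j)) →
      ∃ w : E _⦋1⦌, p.app _ w = y ∧ ∀ j, j ≠ i → E.δ j w = x j)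
    (h : ∀ (n : ℕ) (i : Fin (n+3)) (x : Fin (n+3) → E _⦋n+1⦌) (y : S _⦋n+2⦌),
      (∀ (j0 k0 : Fin (n+2)), j0.castSucc ≠ i → k0.succ ≠ i → j0 ≤ k0 →
        E.δ k0 (x j0.castSucc) = E.δ j0 (x k0.succ)) →
      (∀ j, j ≠ i → S.δ j y = p.app _ (x j)) →
      ∃ w : E _⦋n+2⦌, p.app _ w = y ∧ ∀ j, j ≠ i → E.δ j w = x j) :
    modelCategoryQuillen.J.rlp p := by
  intro _ _ _ hf
  simp only [modelCategoryQuillen.J, MorphismProperty.iSup_iff] at hf
  obtain ⟨n, ⟨i⟩⟩ := hf
  refine ⟨fun {t b} sq ↦ ?_⟩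
  suffices hex : ∃ w : E _⦋n+1⦌, p.app _ w = yonedaEquiv b ∧
      ∀ j (hj : j ≠ i), E.δ j w = yonedaEquiv (horn.ι i j hj ≫ t) by
    obtain ⟨w, hw, hwj⟩ := hex
    refine ⟨⟨{ l := yonedaEquiv.symm w, fac_left := ?_, fac_right := ?_ }⟩⟩
    · refine horn.hom_ext' (fun j hj => ?_)
      rw [horn.ι_ι_assoc, stdSimplex.δ_comp_yonedaEquiv_symm, hwj j hj, Equiv.symm_apply_apply]
    · rw [yonedaEquiv_symm_comp, hw, Equiv.symm_apply_apply]
  -- the faces of `b`
  have hb : ∀ j (hj : j ≠ i), S.δ j (yonedaEquiv b) = p.app _ (yonedaEquiv (horn.ι i j hj ≫ t)) := by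
    intro j hj
    rw [← stdSimplex.yonedaEquiv_δ_comp, ← yonedaEquiv_comp, Category.assoc, sq.w,
      horn.ι_ι_assoc]
  obtain ⟨j', hj'⟩ : ∃ j' : Fin (n+2), j' ≠ i := by
    by_cases hi : i = 0
    · exact ⟨1, by rw [hi]; exact one_ne_zero⟩
    · exact ⟨0, fun h => hi h.symm⟩
  let x : Fin (n+2) → E _⦋n⦌ := fun j =>
    if hj : j ≠ i then yonedaEquiv (horn.ι i j hj ≫ t) else yonedaEquiv (horn.ι i j' hj' ≫ t)
  have hx : ∀ j (hj : j ≠ i), x j = yonedaEquiv (horn.ι i j hj ≫ t) := fun j hj => dif_pos hj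
  have hbx : ∀ j, j ≠ i → S.δ j (yonedaEquiv b) = p.app _ (x j) := by
    intro j hj
    rw [hx j hj]
    exact hb j hj
  obtain _ | n := n
  · obtain ⟨w, hw, hwj⟩ := h0 i x (yonedaEquiv b) hbx
    exact ⟨w, hw, fun j hj => (hwj j hj).trans (hx j hj)⟩
  · have hcomp := horn.IsCompatible.of_hom t
    rw [horn.isCompatible_iff] at hcomp
    obtain ⟨w, hw, hwj⟩ := h n i x (yonedaEquiv b) (by
      intro j0 k0 hj hk hjk
      have hlt : j0.castSucc < k0.succ := by
        rw [Fin.lt_def]
        simp only [Fin.val_castSucc, Fin.val_succ]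
        exact Nat.lt_succ_of_le hjk
      have := hcomp j0.castSucc k0.succ hj hk hlt
      simp only [Fin.pred_succ, Fin.castPred_castSucc] at this
      rw [hx _ hj, hx _ hk, ← stdSimplex.yonedaEquiv_δ_comp, ← stdSimplex.yonedaEquiv_δ_comp, this]) hbx
    exact ⟨w, hw, fun j hj => (hwj j hj).trans (hx j hj)⟩

/-- A simplicial set is a Kan complex as soon as it has the elementwise horn filling property. -/
theorem kanComplex_of_fill {Z : SSet.{u}}
    (h0 : ∀ (i : Fin 2) (x : Fin 2 → Z _⦋0⦌), ∃ w : Z _⦋1⦌, ∀ j, j ≠ i → Z.δ j w = x j)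
    (h : ∀ (n : ℕ) (i : Fin (n+3)) (x : Fin (n+3) → Z _⦋n+1⦌),
      (∀ (j0 k0 : Fin (n+2)), j0.castSucc ≠ i → k0.succ ≠ i → j0 ≤ k0 →
        Z.δ k0 (x j0.castSucc) = Z.δ j0 (x k0.succ)) →
      ∃ w : Z _⦋n+2⦌, ∀ j, j ≠ i → Z.δ j w = x j) :
    KanComplex Z := by
  rw [KanComplex.iff]
  intro n i f hf
  suffices hex : ∃ w : Z _⦋n+1⦌, ∀ j (hj : j ≠ i), Z.δ j w = yonedaEquiv (f j hj) by
    obtain ⟨w, hwj⟩ := hex
    refine ⟨yonedaEquiv.symm w, fun j hj => ?_⟩
    rw [stdSimplex.δ_comp_yonedaEquiv_symm, hwj j hj, Equiv.symm_apply_apply]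
  obtain ⟨j', hj'⟩ : ∃ j' : Fin (n+2), j' ≠ i := by
    by_cases hi : i = 0
    · exact ⟨1, by rw [hi]; exact one_ne_zero⟩
    · exact ⟨0, fun h => hi h.symm⟩
  let x : Fin (n+2) → Z _⦋n⦌ := fun j =>
    if hj : j ≠ i then yonedaEquiv (f j hj) else yonedaEquiv (f j' hj')
  have hx : ∀ j (hj : j ≠ i), x j = yonedaEquiv (f j hj) := fun j hj => dif_pos hj
  obtain _ | n := n
  · obtain ⟨w, hwj⟩ := h0 i x
    exact ⟨w, fun j hj => (hwj j hj).trans (hx j hj)⟩
  · rw [horn.isCompatible_iff] at hf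
    obtain ⟨w, hwj⟩ := h n i x (by
      intro j0 k0 hj hk hjk
      have hlt : j0.castSucc < k0.succ := by
        rw [Fin.lt_def]
        simp only [Fin.val_castSucc, Fin.val_succ]
        exact Nat.lt_succ_of_le hjk
      have := hf j0.castSucc k0.succ hj hk hlt
      simp only [Fin.pred_succ, Fin.castPred_castSucc] at this
      rw [hx _ hj, hx _ hk, ← stdSimplex.yonedaEquiv_δ_comp, ← stdSimplex.yonedaEquiv_δ_comp, this])
    exact ⟨w, fun j hj => (hwj j hj).trans (hx j hj)⟩

/-- A morphism of simplicial sets is a trivial Kan fibration (right lifting property with respect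
to boundary inclusions) as soon as it has the elementwise sphere filling property. -/
theorem rlp_I_of_fill {E S : SSet.{u}} (p : E ⟶ S)
    (hs : ∀ y : S _⦋0⦌, ∃ w : E _⦋0⦌, p.app _ w = y)
    (h0 : ∀ (x : Fin 2 → E _⦋0⦌) (y : S _⦋1⦌),
      (∀ j, S.δ j y = p.app _ (x j)) →
      ∃ w : E _⦋1⦌, p.app _ w = y ∧ ∀ j, E.δ j w = x j)
    (h : ∀ (n : ℕ) (x : Fin (n+3) → E _⦋n+1⦌) (y : S _⦋n+2⦌),
      (∀ (j0 k0 : Fin (n+2)), j0 ≤ k0 → E.δ k0 (x j0.castSucc) = E.δ j0 (x k0.succ)) →
      (∀ j, S.δ j y = p.app _ (x j)) →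
      ∃ w : E _⦋n+2⦌, p.app _ w = y ∧ ∀ j, E.δ j w = x j) :
    modelCategoryQuillen.I.rlp p := by
  intro _ _ _ hf
  obtain ⟨n⟩ := hf
  refine ⟨fun {t b} sq ↦ ?_⟩
  obtain _ | n := n
  · obtain ⟨w, hw⟩ := hs (yonedaEquiv b)
    refine ⟨⟨{ l := yonedaEquiv.symm w, fac_left := boundary.hom_ext₀, fac_right := ?_ }⟩⟩
    rw [yonedaEquiv_symm_comp, hw, Equiv.symm_apply_apply]
  suffices hex : ∃ w : E _⦋n+1⦌, p.app _ w = yonedaEquiv b ∧
      ∀ j, E.δ j w = yonedaEquiv (boundary.ι j ≫ t) by
    obtain ⟨w, hw, hwj⟩ := hex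
    refine ⟨⟨{ l := yonedaEquiv.symm w, fac_left := ?_, fac_right := ?_ }⟩⟩
    · refine boundary.hom_ext (fun j => ?_)
      rw [boundary.ι_ι_assoc, stdSimplex.δ_comp_yonedaEquiv_symm, hwj j, Equiv.symm_apply_apply]
    · rw [yonedaEquiv_symm_comp, hw, Equiv.symm_apply_apply]
  have hb : ∀ j, S.δ j (yonedaEquiv b) = p.app _ (yonedaEquiv (boundary.ι j ≫ t)) := by
    intro j
    rw [← stdSimplex.yonedaEquiv_δ_comp, ← yonedaEquiv_comp, Category.assoc, sq.w,
      boundary.ι_ι_assoc]
  obtain _ | n := n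
  · exact h0 _ _ hb
  · refine h n _ _ ?_ hb
    intro j0 k0 hjk
    rw [← stdSimplex.yonedaEquiv_δ_comp, ← stdSimplex.yonedaEquiv_δ_comp, ← Category.assoc,
      ← Category.assoc]
    congr 2
    rw [← cancel_mono (Subcomplex.ι _), Category.assoc, Category.assoc, boundary.ι_ι,
      boundary.ι_ι, stdSimplex.δ_comp_δ hjk]

end glue

end Groth.Agent.H92.Moore
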