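import Mathlib
import Groth.Agent.H92.Moore

/-!
# Surjective quasi-isomorphisms of simplicial abelian groups are trivial Kan fibrations
-/

set_option autoImplicit false

namespace Groth.Agent.H92.Moore

open CategoryTheory CategoryTheory.Limits Simplicial Opposite AlgebraicTopology

universe u

section

variable {X Y : SimplicialObject AddCommGrpCat.{u}} (f : X ⟶ Y)

/-- Elementwise acyclicity of the kernel of a surjective quasi-isomorphism of simplicial abelian
groups (in terms of the alternating face map complex). -/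
theorem exists_kernel_bounding
    (hf : ∀ n : SimplexCategoryᵒᵖ, Function.Surjective (f.app n))
    (hq : QuasiIso ((alternatingFaceMapComplex AddCommGrpCat.{u}).map f))
    (n : ℕ) (z : X _⦋n⦌) (hfz : f.app (op ⦋n⦌) z = 0)
    (hz : ∀ m, ((alternatingFaceMapComplex AddCommGrpCat.{u}).obj X).d n m z = 0) :
    ∃ u : X _⦋n+1⦌, f.app (op ⦋n+1⦌) u = 0 ∧
      ((alternatingFaceMapComplex AddCommGrpCat.{u}).obj X).d (n+1) n u = z := by
  set f' := (alternatingFaceMapComplex AddCommGrpCat.{u}).map f with hf'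
  let S : ShortComplex (ChainComplex AddCommGrpCat.{u} ℕ) :=
    ShortComplex.mk (kernel.ι f') f' (kernel.condition f')
  have hepi : Epi f' := by
    apply HomologicalComplex.epi_of_epi_f
    intro i
    rw [AddCommGrpCat.epi_iff_surjective]
    exact hf (op ⦋i⦌)
  have hS : S.ShortExact :=
    { exact := ShortComplex.exact_of_f_is_kernel _ (kernelIsKernel f')
      mono_f := by dsimp [S]; infer_instance
      epi_g := hepi }
  have hacyc : (kernel f').Acyclic := hS.acyclic_X₁ hq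
  -- degreewise exactness
  have hdeg : ∀ i, (S.map (HomologicalComplex.eval _ _ i)).ShortExact := fun i =>
    (HomologicalComplex.shortExact_iff_degreewise_shortExact S).1 hS i
  have hinj : ∀ i, Function.Injective ((kernel.ι f').f i) := by
    intro i
    have := (hdeg i).mono_f
    exact (AddCommGrpCat.mono_iff_injective ((kernel.ι f').f i)).1 this
  have hex : ∀ i (x : X _⦋i⦌), f.app (op ⦋i⦌) x = 0 → ∃ k, (kernel.ι f').f i k = x := by
    intro i x hx
    have := (ShortComplex.ab_exact_iff _).1 (hdeg i).exact x hx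
    exact this
  obtain ⟨k, hk⟩ := hex n z hfz
  have hdk : ∀ m, (kernel f').d n m k = 0 := by
    intro m
    apply hinj m
    rw [map_zero, ← ConcreteCategory.comp_apply, ← (kernel.ι f').comm, ConcreteCategory.comp_apply, hk]
    exact hz m
  have hexact := hacyc n
  rw [HomologicalComplex.exactAt_iff' _ (n+1) n ((ComplexShape.down ℕ).next n) (by simp) rfl,
    ShortComplex.ab_exact_iff] at hexact
  obtain ⟨k', hk'⟩ := hexact k (hdk _)
  refine ⟨(kernel.ι f').f (n+1) k', ?_, ?_⟩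
  · have := congrArg (fun φ => φ.f (n+1)) (kernel.condition f')
    exact ConcreteCategory.congr_hom this k'
  · rw [← ConcreteCategory.comp_apply, (kernel.ι f').comm, ConcreteCategory.comp_apply]
    have hk'' : (kernel f').d (n+1) n k' = k := hk'
    rw [hk'', hk]

/-- Evaluation at an element, as an additive map on morphisms of `AddCommGrpCat`. -/
def evalHom {M N : AddCommGrpCat.{u}} (v : M) : (M ⟶ N) →+ N :=
  (AddMonoidHom.eval v).comp AddCommGrpCat.homAddEquiv.toAddMonoidHom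

theorem evalHom_apply {M N : AddCommGrpCat.{u}} (v : M) (φ : M ⟶ N) : evalHom v φ = φ v := rfl

/-- The alternating face map differential of an element all of whose positive faces vanish. -/
theorem d_apply_of_higher_faces_zero (n : ℕ) (v : X _⦋n+1⦌)
    (hv : ∀ j : Fin (n+1), X.δ j.succ v = 0) :
    ((alternatingFaceMapComplex AddCommGrpCat.{u}).obj X).d (n+1) n v = X.δ 0 v := by
  have h1 : ((alternatingFaceMapComplex AddCommGrpCat.{u}).obj X).d (n+1) n =
      ∑ i : Fin (n + 2), (-1 : ℤ) ^ (i : ℕ) • X.δ i := AlternatingFaceMapComplex.obj_d_eq X n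
  rw [h1, ← evalHom_apply, map_sum, Fin.sum_univ_succ]
  have h2 : ∀ j : Fin (n+1), evalHom v ((-1 : ℤ) ^ (j.succ : ℕ) • X.δ j.succ) = 0 := by
    intro j
    rw [map_zsmul, evalHom_apply, hv j, smul_zero]
  rw [Finset.sum_eq_zero (fun j _ => h2 j), add_zero, map_zsmul, evalHom_apply]
  simp

theorem exists_normalized_bounding
    (hf : ∀ n : SimplexCategoryᵒᵖ, Function.Surjective (f.app n))
    (hq : QuasiIso ((alternatingFaceMapComplex AddCommGrpCat.{u}).map f))
    (n : ℕ) (z : X _⦋n⦌) (hfz : f.app (op ⦋n⦌) z = 0)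
    (hz : ∀ m, ((alternatingFaceMapComplex AddCommGrpCat.{u}).obj X).d n m z = 0)
    (hP : ((DoldKan.P (n+1) : (alternatingFaceMapComplex AddCommGrpCat.{u}).obj X ⟶ _).f n) z = z) :
    ∃ v : X _⦋n+1⦌, f.app (op ⦋n+1⦌) v = 0 ∧ X.δ 0 v = z ∧ ∀ j : Fin (n+1), X.δ j.succ v = 0 := by
  obtain ⟨u, hfu, hdu⟩ := exists_kernel_bounding f hf hq n z hfz hz
  have hfaces : ∀ j : Fin (n+1),
      X.δ j.succ (((DoldKan.P (n+1) : (alternatingFaceMapComplex AddCommGrpCat.{u}).obj X ⟶ _).f (n+1)) u)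
        = 0 := by
    intro j
    have := ConcreteCategory.congr_hom
      ((DoldKan.HigherFacesVanish.of_P (X := X) (n+1) n) j (by omega)) u
    exact this
  refine ⟨((DoldKan.P (n+1) : (alternatingFaceMapComplex AddCommGrpCat.{u}).obj X ⟶ _).f (n+1)) u,
    ?_, ?_, hfaces⟩
  · have := ConcreteCategory.congr_hom (DoldKan.P_f_naturality (n+1) (n+1) f) u
    simp only [ConcreteCategory.comp_apply] at this
    rw [← this, hfu, map_zero]
  · have hcomm : (DoldKan.P (n+1) : (alternatingFaceMapComplex AddCommGrpCat.{u}).obj X ⟶ _).f (n+1) ≫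
        ((alternatingFaceMapComplex AddCommGrpCat.{u}).obj X).d (n+1) n =
        ((alternatingFaceMapComplex AddCommGrpCat.{u}).obj X).d (n+1) n ≫
          (DoldKan.P (n+1) : (alternatingFaceMapComplex AddCommGrpCat.{u}).obj X ⟶ _).f n :=
      (DoldKan.P (n+1) : (alternatingFaceMapComplex AddCommGrpCat.{u}).obj X ⟶ _).comm _ _
    rw [← d_apply_of_higher_faces_zero n _ hfaces, ← ConcreteCategory.comp_apply, hcomm,
      ConcreteCategory.comp_apply, hdu, hP]

theorem P_apply_eq_self (m q : ℕ) (z : X _⦋m+1⦌) (hz : ∀ j : Fin (m+1), X.δ j.succ z = 0) :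
    ((DoldKan.P q : (alternatingFaceMapComplex AddCommGrpCat.{u}).obj X ⟶ _).f (m+1)) z = z := by
  let N : AddSubgroup (X _⦋m+1⦌) := ⨅ j : Fin (m+1), (X.δ j.succ).hom.ker
  let φ : AddCommGrpCat.of N ⟶ X _⦋m+1⦌ := AddCommGrpCat.ofHom N.subtype
  have hφ : DoldKan.HigherFacesVanish q φ := by
    intro j _
    ext ⟨x, hx⟩
    exact (AddSubgroup.mem_iInf.1 hx j)
  have := ConcreteCategory.congr_hom hφ.comp_P_eq_self
    (⟨z, AddSubgroup.mem_iInf.2 (fun j => hz j)⟩ : N)
  exact this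

theorem d_apply_eq_zero_of_faces_zero (n : ℕ) (z : X _⦋n+1⦌) (hz : ∀ j : Fin (n+2), X.δ j z = 0)
    (m : ℕ) : ((alternatingFaceMapComplex AddCommGrpCat.{u}).obj X).d (n+1) m z = 0 := by
  by_cases h : (ComplexShape.down ℕ).Rel (n+1) m
  · have hm : m = n := by
      simp only [ComplexShape.down_Rel] at h
      omega
    subst hm
    rw [d_apply_of_higher_faces_zero m z (fun j => hz j.succ), hz 0]
  · rw [HomologicalComplex.shape _ _ _ h]
    rfl

theorem d_zero_apply (z : X _⦋0⦌) (m : ℕ) :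
    ((alternatingFaceMapComplex AddCommGrpCat.{u}).obj X).d 0 m z = 0 := by
  rw [HomologicalComplex.shape _ _ _ (by simp)]
  rfl

/-- Sphere filling in dimension `1`. -/
theorem sphere_fill_zero
    (hf : ∀ n : SimplexCategoryᵒᵖ, Function.Surjective (f.app n))
    (hq : QuasiIso ((alternatingFaceMapComplex AddCommGrpCat.{u}).map f))
    (x : Fin 2 → X _⦋0⦌) (y : Y _⦋1⦌) (hy : ∀ j, Y.δ j y = f.app (op ⦋0⦌) (x j)) :
    ∃ w : X _⦋1⦌, f.app (op ⦋1⦌) w = y ∧ ∀ j, X.δ j w = x j := by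
  obtain ⟨w₀, hw₀⟩ := hf (op ⦋1⦌) y
  have hnatδ : ∀ (j : Fin 2) (a : X _⦋1⦌), f.app (op ⦋0⦌) (X.δ j a) = Y.δ j (f.app (op ⦋1⦌) a) :=
    fun j a => ConcreteCategory.congr_hom (f.naturality (SimplexCategory.δ j).op) a
  obtain ⟨w', hw', hw'j⟩ := exists_filler_zero_add
    (A := X _⦋1⦌) (B := X _⦋0⦌) (A' := Y _⦋1⦌) (B' := Y _⦋0⦌)
    (fun j => (X.δ j).hom) (X.σ 0).hom (fun j => (Y.δ j).hom) (Y.σ 0).hom
    (f.app _).hom (f.app _).hom
    (by
      intro j b
      fin_cases j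
      · exact ConcreteCategory.congr_hom (X.δ_comp_σ_self (i := 0)) b
      · exact ConcreteCategory.congr_hom (X.δ_comp_σ_succ (i := 0)) b)
    hnatδ
    (fun b => ConcreteCategory.congr_hom (f.naturality (SimplexCategory.σ 0).op) b)
    0 x y (fun j _ => hy j) w₀ hw₀
  have hw'' : f.app (op ⦋1⦌) w' = y := hw'
  have hfz : f.app (op ⦋0⦌) (x 0 - X.δ 0 w') = 0 := by
    rw [map_sub, hnatδ, hw'', hy 0, sub_self]
  obtain ⟨v, hfv, hv0, hvj⟩ := exists_normalized_bounding f hf hq 0 (x 0 - X.δ 0 w') hfz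
    (d_zero_apply _)
    (by
      have := DoldKan.P_f_0_eq (X := X) (0 + 1)
      exact ConcreteCategory.congr_hom this _)
  refine ⟨w' + v, ?_, ?_⟩
  · rw [map_add, hfv, hw'', add_zero]
  · intro j
    fin_cases j
    · show X.δ 0 (w' + v) = x 0
      rw [map_add, hv0]
      abel
    · show X.δ (Fin.succ 0) (w' + v) = x 1
      rw [map_add, hvj 0, add_zero]
      exact hw'j 1 (by decide)

/-- Sphere filling in dimension `n + 2`. -/
theorem sphere_fill_succ
    (hf : ∀ n : SimplexCategoryᵒᵖ, Function.Surjective (f.app n))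
    (hq : QuasiIso ((alternatingFaceMapComplex AddCommGrpCat.{u}).map f))
    (n : ℕ) (x : Fin (n+3) → X _⦋n+1⦌) (y : Y _⦋n+2⦌)
    (hx : ∀ (j0 k0 : Fin (n+2)), j0 ≤ k0 → X.δ k0 (x j0.castSucc) = X.δ j0 (x k0.succ))
    (hy : ∀ j, Y.δ j y = f.app (op ⦋n+1⦌) (x j)) :
    ∃ w : X _⦋n+2⦌, f.app (op ⦋n+2⦌) w = y ∧ ∀ j, X.δ j w = x j := by
  obtain ⟨w₀, hw₀⟩ := hf (op ⦋n+2⦌) y
  have hnatδ : ∀ (j : Fin (n+3)) (a : X _⦋n+2⦌),
      f.app (op ⦋n+1⦌) (X.δ j a) = Y.δ j (f.app (op ⦋n+2⦌) a) :=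
    fun j a => ConcreteCategory.congr_hom (f.naturality (SimplexCategory.δ j).op) a
  have hdd : ∀ (i j : Fin (n+2)), i ≤ j → ∀ a : X _⦋n+2⦌,
      X.δ i (X.δ j.succ a) = X.δ j (X.δ i.castSucc a) :=
    fun i j H a => ConcreteCategory.congr_hom (X.δ_comp_δ H) a
  obtain ⟨w', hw', hw'j⟩ := exists_filler_add
    (A := X _⦋n+2⦌) (B := X _⦋n+1⦌) (C := X _⦋n⦌) (A' := Y _⦋n+2⦌) (B' := Y _⦋n+1⦌)
    (fun j => (X.δ j).hom) (fun j => (X.σ j).hom) (fun j => (X.δ j).hom) (fun j => (X.σ j).hom)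
    (fun j => (Y.δ j).hom) (fun j => (Y.σ j).hom)
    (f.app _).hom (f.app _).hom 0 x y
    hdd
    (fun i j H b => ConcreteCategory.congr_hom (X.δ_comp_σ_of_le H) b)
    (fun i b => ConcreteCategory.congr_hom (X.δ_comp_σ_self (i := i)) b)
    (fun i b => ConcreteCategory.congr_hom (X.δ_comp_σ_succ (i := i)) b)
    (fun i j H b => ConcreteCategory.congr_hom (X.δ_comp_σ_of_gt H) b)
    hnatδ
    (fun j b => ConcreteCategory.congr_hom (f.naturality (SimplexCategory.σ j).op) b)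
    (fun j0 k0 _ _ h => hx j0 k0 h) (fun j _ => hy j) w₀ hw₀
  have hw'' : f.app (op ⦋n+2⦌) w' = y := hw'
  have hw'j' : ∀ j : Fin (n+2), X.δ j.succ w' = x j.succ := fun j => hw'j j.succ (Fin.succ_ne_zero j)
  have hfz : f.app (op ⦋n+1⦌) (x 0 - X.δ 0 w') = 0 := by
    rw [map_sub, hnatδ, hw'', hy 0, sub_self]
  have hfaces : ∀ j : Fin (n+2), X.δ j (x 0 - X.δ 0 w') = 0 := by
    intro j
    have h1 := hx 0 j (Fin.zero_le j)
    have h2 := hdd 0 j (Fin.zero_le j) w'
    rw [hw'j' j] at h2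
    rw [map_sub, sub_eq_zero]
    exact h1.trans h2
  obtain ⟨v, hfv, hv0, hvj⟩ := exists_normalized_bounding f hf hq (n+1) (x 0 - X.δ 0 w') hfz
    (d_apply_eq_zero_of_faces_zero n _ hfaces)
    (P_apply_eq_self n _ _ (fun j => hfaces j.succ))
  refine ⟨w' + v, ?_, ?_⟩
  · rw [map_add, hfv, hw'', add_zero]
  · intro j
    rcases Fin.eq_zero_or_eq_succ j with rfl | ⟨j, rfl⟩
    · rw [map_add, hv0]
      abel
    · rw [map_add, hvj j, add_zero]
      exact hw'j' j

end

end Groth.Agent.H92.Moore
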