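import Mathlib.CategoryTheory.Abelian.RightDerived
import Mathlib.Algebra.Homology.HomologicalComplexAbelian
import Mathlib.Algebra.Homology.ShortComplex.ExactFunctor

/-!
# Right derived functors commute with post-composition by an exact functor, naturally (helper92)

`F.rightDerived n ⋙ E ≅ (F ⋙ E).rightDerived n` for `E` exact.  Also: an isomorphism of functors
induces an isomorphism of right derived functors.
-/

set_option autoImplicit false
open CategoryTheory CategoryTheory.Limits

namespace Groth.Agent.H92.NatDer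

universe v₁ v₂ v₃ u₁ u₂ u₃

variable {A : Type u₁} [Category.{v₁} A] [Abelian A] [HasInjectiveResolutions A]
  {B : Type u₂} [Category.{v₂} B] [Abelian B]
  {B' : Type u₃} [Category.{v₃} B'] [Abelian B']

section IsoDerived

variable {F G : A ⥤ B} [F.Additive] [G.Additive]

/-- isomorphic functors have isomorphic right derived functors -/
noncomputable def rightDerivedMapIso (e : F ≅ G) (n : ℕ) : F.rightDerived n ≅ G.rightDerived n where
  hom := NatTrans.rightDerived e.hom n
  inv := NatTrans.rightDerived e.inv n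
  hom_inv_id := by
    rw [← NatTrans.rightDerived_comp, e.hom_inv_id, NatTrans.rightDerived_id]
  inv_hom_id := by
    rw [← NatTrans.rightDerived_comp, e.inv_hom_id, NatTrans.rightDerived_id]

end IsoDerived

theorem nat_comp {𝒞 : Type*} [Category 𝒞] {X₀ X₁ X₂ X₃ X₄ Y₀ Y₁ Y₂ Y₃ Y₄ : 𝒞}
    {a₁ : X₀ ⟶ X₁} {a₂ : X₁ ⟶ X₂} {a₃ : X₂ ⟶ X₃} {a₄ : X₃ ⟶ X₄}
    {b₁ : Y₀ ⟶ Y₁} {b₂ : Y₁ ⟶ Y₂} {b₃ : Y₂ ⟶ Y₃} {b₄ : Y₃ ⟶ Y₄}
    {f₀ : X₀ ⟶ Y₀} {f₁ : X₁ ⟶ Y₁} {f₂ : X₂ ⟶ Y₂} {f₃ : X₃ ⟶ Y₃} {f₄ : X₄ ⟶ Y₄}
    (h₁ : f₀ ≫ b₁ = a₁ ≫ f₁) (h₂ : f₁ ≫ b₂ = a₂ ≫ f₂) (h₃ : f₂ ≫ b₃ = a₃ ≫ f₃)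
    (h₄ : f₃ ≫ b₄ = a₄ ≫ f₄) :
    f₀ ≫ (b₁ ≫ b₂ ≫ b₃ ≫ b₄) = (a₁ ≫ a₂ ≫ a₃ ≫ a₄) ≫ f₄ := by
  simp only [Category.assoc]
  rw [reassoc_of% h₁, reassoc_of% h₂, reassoc_of% h₃, h₄]

section Post

variable (F : A ⥤ B) [F.Additive] (E : B ⥤ B') [E.Additive] [PreservesFiniteLimits E]
  [PreservesFiniteColimits E]

/-- A chosen injective resolution. -/
noncomputable def chosenRes (X : A) : InjectiveResolution X :=
  (HasInjectiveResolutions.out X).out.some

/-- `E(F K) ≅ (F ⋙ E) K` on complexes -/
noncomputable def mid (K : CochainComplex A ℕ) :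
    (E.mapHomologicalComplex _).obj ((F.mapHomologicalComplex _).obj K) ≅
      ((F ⋙ E).mapHomologicalComplex _).obj K :=
  HomologicalComplex.Hom.isoOfComponents (fun i => Iso.refl _)
    (fun i j _ => (Category.id_comp _).trans (Category.comp_id _).symm)

lemma mid_naturality {K L : CochainComplex A ℕ} (φ : K ⟶ L) :
    (E.mapHomologicalComplex _).map ((F.mapHomologicalComplex _).map φ) ≫ (mid F E L).hom =
      (mid F E K).hom ≫ ((F ⋙ E).mapHomologicalComplex _).map φ := by
  ext i
  exact (Category.comp_id _).trans (Category.id_comp _).symm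

/-- `E(Hⁿ K) ≅ Hⁿ(E K)` -/
noncomputable def homologyIso (K : CochainComplex B ℕ) (n : ℕ) :
    E.obj (K.homology n) ≅ ((E.mapHomologicalComplex _).obj K).homology n :=
  ((K.sc n).mapHomologyIso E).symm

lemma homologyIso_naturality {K L : CochainComplex B ℕ} (φ : K ⟶ L) (n : ℕ) :
    E.map (HomologicalComplex.homologyMap φ n) ≫ (homologyIso E L n).hom =
      (homologyIso E K n).hom ≫
        HomologicalComplex.homologyMap ((E.mapHomologicalComplex _).map φ) n :=
  ShortComplex.mapHomologyIso_inv_naturality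
    ((HomologicalComplex.shortComplexFunctor B (ComplexShape.up ℕ) n).map φ) E

/-- the objectwise isomorphism -/
noncomputable def postIsoApp (n : ℕ) (X : A) :
    E.obj ((F.rightDerived n).obj X) ≅ ((F ⋙ E).rightDerived n).obj X :=
  E.mapIso ((chosenRes X).isoRightDerivedObj F n) ≪≫
    homologyIso E ((F.mapHomologicalComplex _).obj (chosenRes X).cocomplex) n ≪≫
    (HomologicalComplex.homologyFunctor _ _ n).mapIso (mid F E (chosenRes X).cocomplex) ≪≫
    ((chosenRes X).isoRightDerivedObj (F ⋙ E) n).symm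

/-- `F.rightDerived n ⋙ E ≅ (F ⋙ E).rightDerived n` for `E` exact -/
noncomputable def postIso (n : ℕ) : F.rightDerived n ⋙ E ≅ (F ⋙ E).rightDerived n :=
  NatIso.ofComponents (fun X => postIsoApp F E n X) (fun {X Y} f => by
    let φ := InjectiveResolution.desc f (chosenRes Y) (chosenRes X)
    have comm : (chosenRes X).ι.f 0 ≫ φ.f 0 = f ≫ (chosenRes Y).ι.f 0 :=
      InjectiveResolution.desc_commutes_zero f _ _
    have h1 := InjectiveResolution.isoRightDerivedObj_hom_naturality f _ _ φ comm F n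
    have h1' : E.map ((F.rightDerived n).map f) ≫
        E.map ((chosenRes Y).isoRightDerivedObj F n).hom =
        E.map ((chosenRes X).isoRightDerivedObj F n).hom ≫
          E.map (HomologicalComplex.homologyMap ((F.mapHomologicalComplex _).map φ) n) := by
      rw [← E.map_comp, ← E.map_comp]
      exact congrArg E.map h1
    have h2 := homologyIso_naturality E ((F.mapHomologicalComplex _).map φ) n
    have h3 : HomologicalComplex.homologyMap
          ((E.mapHomologicalComplex _).map ((F.mapHomologicalComplex _).map φ)) n ≫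
        (HomologicalComplex.homologyFunctor B' (ComplexShape.up ℕ) n).map
          (mid F E (chosenRes Y).cocomplex).hom =
        (HomologicalComplex.homologyFunctor B' (ComplexShape.up ℕ) n).map
          (mid F E (chosenRes X).cocomplex).hom ≫
          ((F ⋙ E).mapHomologicalComplex (ComplexShape.up ℕ) ⋙
            HomologicalComplex.homologyFunctor B' (ComplexShape.up ℕ) n).map φ := by
      show HomologicalComplex.homologyMap _ n ≫ HomologicalComplex.homologyMap _ n =
        HomologicalComplex.homologyMap _ n ≫ HomologicalComplex.homologyMap _ n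
      rw [← HomologicalComplex.homologyMap_comp, ← HomologicalComplex.homologyMap_comp,
        mid_naturality]
    have h4 := InjectiveResolution.isoRightDerivedObj_inv_naturality f _ _ φ comm (F ⋙ E) n
    exact nat_comp h1' h2 h3 h4.symm)

end Post

end Groth.Agent.H92.NatDer
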