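import Mathlib

/-!
# Spreading out finitely many matrices from a stalk to an affine open neighbourhood (helper92)

* `exists_sections_of_germs` : a finite family of elements of the stalk `O_{X,x}` consists of germs
  of sections over a common open neighbourhood.
* `exists_le_res_eq_zero` : finitely many sections with zero germs at `x` vanish on a common smaller
  neighbourhood.
* `exists_affine_matrices` : a family of matrices `D n` over `O_{X,x}`, of sizes `m (n+1) × m n`
  with `m` supported in `[a,b]` and `D (n+1) * D n = 0`, comes from matrices over `Γ(X,U)` with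
  the same property, for an affine open neighbourhood `U` of `x`.
-/

set_option autoImplicit false
universe u
open CategoryTheory AlgebraicGeometry Opposite TopologicalSpace

namespace Groth.Agent.H92.PerfSpread

variable {X : Scheme.{u}}

theorem mem_finset_inf {ι : Type*} (s : Finset ι) (f : ι → X.Opens) (x : X) :
    x ∈ s.inf f ↔ ∀ i ∈ s, x ∈ f i := by
  classical
  induction s using Finset.induction_on with
  | empty => simp
  | insert a s ha ih =>
    rw [Finset.inf_insert]
    constructor
    · rintro ⟨h1, h2⟩ i hi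
      rcases Finset.mem_insert.mp hi with rfl | hi
      · exact h1
      · exact (ih.mp h2) i hi
    · intro h
      exact ⟨h a (Finset.mem_insert_self a s),
        ih.mpr (fun i hi => h i (Finset.mem_insert_of_mem hi))⟩

theorem exists_sections_of_germs (x : X) {I : Type*} [Finite I] (r : I → X.presheaf.stalk x) :
    ∃ (W : X.Opens) (hx : x ∈ W) (s : I → Γ(X, W)), ∀ i, X.presheaf.germ W x hx (s i) = r i := by
  classical
  cases nonempty_fintype I
  have h := fun i => X.presheaf.exists_germ_eq (r i)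
  choose Wi hxi si hsi using h
  refine ⟨Finset.univ.inf Wi, (mem_finset_inf _ _ _).mpr (fun i _ => hxi i),
    fun i => X.presheaf.map (homOfLE (Finset.inf_le (Finset.mem_univ i))).op (si i), fun i => ?_⟩
  rw [TopCat.Presheaf.germ_res_apply]
  exact hsi i

theorem exists_le_res_eq_zero (x : X) {J : Type*} [Finite J] (W : X.Opens) (hx : x ∈ W)
    (t : J → Γ(X, W)) (ht : ∀ j, X.presheaf.germ W x hx (t j) = 0) :
    ∃ (W' : X.Opens) (h : W' ≤ W), x ∈ W' ∧ ∀ j, X.presheaf.map (homOfLE h).op (t j) = 0 := by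
  classical
  cases nonempty_fintype J
  have h := fun j => X.presheaf.germ_eq x hx hx (t j) 0 (by rw [ht j, map_zero])
  choose Wj hxj iU iV hj using h
  refine ⟨Finset.univ.inf Wj ⊓ W, inf_le_right, ⟨(mem_finset_inf _ _ _).mpr (fun j _ => hxj j), hx⟩,
    fun j => ?_⟩
  have hle : Finset.univ.inf Wj ⊓ W ≤ Wj j := inf_le_left.trans (Finset.inf_le (Finset.mem_univ j))
  have h1 : X.presheaf.map (homOfLE (inf_le_right : Finset.univ.inf Wj ⊓ W ≤ W)).op (t j) =
      X.presheaf.map (homOfLE hle).op (X.presheaf.map (iU j).op (t j)) := by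
    rw [← ConcreteCategory.comp_apply, ← X.presheaf.map_comp]
    rfl
  rw [h1, hj j, map_zero, map_zero]

/-- matrices with vanishing support outside `[a,b]` have no entries outside `[a,b]` -/
theorem entry_elim (m : ℤ → ℕ) (a b : ℤ) (hm : ∀ i : ℤ, i < a ∨ b < i → m i = 0)
    (n : ℤ) (hn : n ∉ Finset.Icc a b) (k : Fin (m (n + 1))) (l : Fin (m n)) : False := by
  rw [Finset.mem_Icc, not_and_or, not_le, not_le] at hn
  rcases hn with hn | hn
  · have h0 := hm n (Or.inl hn)
    exact (Fin.cast h0 l).elim0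
  · have h0 := hm (n + 1) (Or.inr (by omega))
    exact (Fin.cast h0 k).elim0

theorem exists_affine_matrices (x : X) (m : ℤ → ℕ) (a b : ℤ)
    (hm : ∀ i : ℤ, i < a ∨ b < i → m i = 0)
    (D : ∀ n : ℤ, Matrix (Fin (m (n + 1))) (Fin (m n)) (X.presheaf.stalk x))
    (hD : ∀ n, D (n + 1) * D n = 0) :
    ∃ (U : X.Opens) (_ : IsAffineOpen U) (hxU : x ∈ U)
      (DU : ∀ n : ℤ, Matrix (Fin (m (n + 1))) (Fin (m n)) Γ(X, U)),
      (∀ n, DU (n + 1) * DU n = 0) ∧
      ∀ n k l, X.presheaf.germ U x hxU (DU n k l) = D n k l := by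
  classical
  -- step 1: lift all entries to sections over a common open
  let I := Σ n : ↥(Finset.Icc a b), Fin (m ((n : ℤ) + 1)) × Fin (m (n : ℤ))
  obtain ⟨W, hxW, s, hs⟩ := exists_sections_of_germs x (I := I)
    (fun i => D (i.1 : ℤ) i.2.1 i.2.2)
  let DW : ∀ n : ℤ, Matrix (Fin (m (n + 1))) (Fin (m n)) Γ(X, W) := fun n k l =>
    if h : n ∈ Finset.Icc a b then s ⟨⟨n, h⟩, (k, l)⟩ else 0
  have hDW : ∀ n k l, X.presheaf.germ W x hxW (DW n k l) = D n k l := by
    intro n k l
    by_cases h : n ∈ Finset.Icc a b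
    · simp only [DW, dif_pos h]
      exact hs ⟨⟨n, h⟩, (k, l)⟩
    · exact (entry_elim m a b hm n h k l).elim
  -- step 2: the products vanish near `x`
  let J := Σ n : ↥(Finset.Icc a b), Fin (m ((n : ℤ) + 1 + 1)) × Fin (m (n : ℤ))
  have hgermprod : ∀ (n : ℤ) (k : Fin (m (n + 1 + 1))) (l : Fin (m n)),
      X.presheaf.germ W x hxW ((DW (n + 1) * DW n) k l) = 0 := by
    intro n k l
    rw [Matrix.mul_apply, map_sum]
    have : (D (n + 1) * D n) k l = 0 := by rw [hD n]; rfl
    rw [Matrix.mul_apply] at this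
    rw [← this]
    refine Finset.sum_congr rfl (fun q _ => ?_)
    rw [map_mul, hDW, hDW]
  obtain ⟨W', hW', hxW', hz⟩ := exists_le_res_eq_zero x (J := J) W hxW
    (fun j => (DW ((j.1 : ℤ) + 1) * DW (j.1 : ℤ)) j.2.1 j.2.2)
    (fun j => hgermprod (j.1 : ℤ) j.2.1 j.2.2)
  -- step 3: shrink to an affine open
  obtain ⟨_, ⟨U, hU, rfl⟩, hxU, hUW'⟩ :=
    X.isBasis_affineOpens.exists_subset_of_mem_open hxW' W'.isOpen
  have hUW : U ≤ W := fun y hy => hW' (hUW' hy)
  let ρ : Γ(X, W) →+* Γ(X, U) := (X.presheaf.map (homOfLE hUW).op).hom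
  refine ⟨U, hU, hxU, fun n => (DW n).map ρ, ?_, ?_⟩
  · intro n
    rw [← Matrix.map_mul]
    ext k l
    rw [Matrix.map_apply, Matrix.zero_apply]
    by_cases h : n ∈ Finset.Icc a b
    · have h1 := hz ⟨⟨n, h⟩, (k, l)⟩
      have h2 : ρ ((DW (n + 1) * DW n) k l) =
          X.presheaf.map (homOfLE (show U ≤ W' from hUW')).op
            (X.presheaf.map (homOfLE hW').op ((DW (n + 1) * DW n) k l)) := by
        rw [← ConcreteCategory.comp_apply, ← X.presheaf.map_comp]
        rfl
      rw [h2, h1, map_zero]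
    · exfalso
      rw [Finset.mem_Icc, not_and_or, not_le, not_le] at h
      rcases h with h | h
      · exact (Fin.cast (hm n (Or.inl h)) l).elim0
      · exact (Fin.cast (hm (n + 1 + 1) (Or.inr (by omega))) k).elim0
  · intro n k l
    have : X.presheaf.germ U x hxU (ρ (DW n k l)) = X.presheaf.germ W x hxW (DW n k l) :=
      TopCat.Presheaf.germ_res_apply X.presheaf (homOfLE hUW) x hxU _
    exact this.trans (hDW n k l)

end Groth.Agent.H92.PerfSpread
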