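import Groth.Prelude.Def_W4c5quivmodgenus0Quiv
import Mathlib.LinearAlgebra.FiniteDimensional.Basic
import Mathlib.LinearAlgebra.FiniteDimensional.Lemmas
import Mathlib.LinearAlgebra.Dimension.FreeAndStrongRankCondition
import Mathlib.LinearAlgebra.Dimension.Constructions
import Mathlib.LinearAlgebra.LinearIndependent.Lemmas
import Mathlib.Algebra.Order.BigOperators.Group.Finset
import Mathlib.Algebra.BigOperators.Group.Finset.Piecewise
import Mathlib.Algebra.Order.Field.Basic
import Mathlib.RingTheory.Ideal.Lattice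
import Mathlib.Tactic.Linarith
import Mathlib.Tactic.FieldSimp
import Mathlib.Tactic.Positivity

set_option autoImplicit false
set_option linter.unusedSectionVars false

namespace Groth.Agent.H92.PtQ

universe u v

variable {K : Type u} [Field K]

theorem span_symm {v w : Fin 2 → K} (hv : v ≠ 0) (h : v ∈ K ∙ w) :
    w ∈ K ∙ v := by
  obtain ⟨c, rfl⟩ := Submodule.mem_span_singleton.mp h
  have hc : c ≠ 0 := by
    rintro rfl
    exact hv (zero_smul _ _)
  rw [Submodule.mem_span_singleton]
  exact ⟨c⁻¹, by rw [smul_smul, inv_mul_cancel₀ hc, one_smul]⟩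

theorem span_eq_of_mem {v w : Fin 2 → K} (hv : v ≠ 0) (h : v ∈ K ∙ w) :
    (K ∙ w) = (K ∙ v) := by
  apply le_antisymm
  · rw [Submodule.span_singleton_le_iff_mem]; exact span_symm hv h
  · rw [Submodule.span_singleton_le_iff_mem]; exact h

theorem finrank_cases (L : Submodule K (Fin 2 → K)) :
    L = ⊥ ∨ (∃ v : Fin 2 → K, v ≠ 0 ∧ L = K ∙ v) ∨ L = ⊤ := by
  have hle : Module.finrank K L ≤ 2 := by
    have := Submodule.finrank_le L
    rwa [Module.finrank_fin_fun] at this
  have hcases : Module.finrank K L = 0 ∨ Module.finrank K L = 1 ∨ Module.finrank K L = 2 := by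
    omega
  rcases hcases with hfr | hfr | hfr
  · exact Or.inl (Submodule.finrank_eq_zero.mp hfr)
  · right; left
    obtain ⟨v, hv0, hv⟩ := finrank_eq_one_iff'.mp hfr
    refine ⟨(v : Fin 2 → K), fun h => hv0 (Subtype.ext h), ?_⟩
    apply le_antisymm
    · intro w hw
      obtain ⟨c, hc⟩ := hv ⟨w, hw⟩
      rw [Submodule.mem_span_singleton]
      exact ⟨c, by simpa using congrArg Subtype.val hc⟩
    · rw [Submodule.span_singleton_le_iff_mem]
      exact v.2
  · right; right
    apply Submodule.eq_top_of_finrank_eq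
    rw [hfr, Module.finrank_fin_fun]

theorem span_ne_bot {v : Fin 2 → K} (hv : v ≠ 0) : (K ∙ v) ≠ ⊥ := by
  intro h
  have : v ∈ K ∙ v := Submodule.mem_span_singleton_self v
  rw [h, Submodule.mem_bot] at this
  exact hv this

theorem span_ne_top {v : Fin 2 → K} (hv : v ≠ 0) : (K ∙ v) ≠ ⊤ := by
  intro h
  have h1 : Module.finrank K (K ∙ v) = 1 := finrank_span_singleton hv
  rw [h, finrank_top, Module.finrank_fin_fun] at h1
  omega

theorem finrank_top' : Module.finrank K (⊤ : Submodule K (Fin 2 → K)) = 2 := by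
  rw [finrank_top, Module.finrank_fin_fun]

/-- Subspaces of the field itself. -/
theorem sub_field_cases (U : Submodule K K) :
    (U = ⊥ ∧ Module.finrank K U = 0) ∨ (U = ⊤ ∧ Module.finrank K U = 1) := by
  rcases Ideal.eq_bot_or_top (I := (U : Ideal K)) with h | h
  · left; refine ⟨h, ?_⟩; rw [h]; exact finrank_bot K K
  · right; refine ⟨h, ?_⟩; rw [h, finrank_top]; exact Module.finrank_self K

theorem bot_ne_top_field : (⊥ : Submodule K K) ≠ ⊤ := by
  intro h
  have : (1 : K) ∈ (⊤ : Submodule K K) := Submodule.mem_top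
  rw [← h, Submodule.mem_bot] at this
  exact one_ne_zero this

/-- Dependent vectors lie on a common line. -/
theorem line_of_dep {x y : Fin 2 → K} (h : ¬ LinearIndependent K ![x, y]) :
    ∃ v : Fin 2 → K, v ≠ 0 ∧ x ∈ K ∙ v ∧ y ∈ K ∙ v := by
  rw [LinearIndependent.pair_iff] at h
  push Not at h
  obtain ⟨c, d, hcd, hne⟩ := h
  by_cases hx : x = 0
  · by_cases hy : y = 0
    · refine ⟨![1, 0], ?_, ?_, ?_⟩
      · intro h0
        have := congrFun h0 0
        simp at this
      · rw [hx]; exact Submodule.zero_mem _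
      · rw [hy]; exact Submodule.zero_mem _
    · exact ⟨y, hy, by rw [hx]; exact Submodule.zero_mem _, Submodule.mem_span_singleton_self y⟩
  · refine ⟨x, hx, Submodule.mem_span_singleton_self x, ?_⟩
    have hd : d ≠ 0 := by
      intro hd0
      rw [hd0, zero_smul, add_zero] at hcd
      rcases smul_eq_zero.mp hcd with hc0 | hx0
      · exact hne hc0 hd0
      · exact hx hx0
    rw [Submodule.mem_span_singleton]
    refine ⟨-(d⁻¹ * c), ?_⟩
    have : d • y = -(c • x) := eq_neg_of_add_eq_zero_right hcd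
    calc -(d⁻¹ * c) • x = d⁻¹ • (-(c • x)) := by rw [neg_smul, mul_smul, smul_neg]
      _ = d⁻¹ • (d • y) := by rw [this]
      _ = y := by rw [smul_smul, inv_mul_cancel₀ hd, one_smul]

theorem coords {x y : Fin 2 → K} (h : LinearIndependent K ![x, y]) (w : Fin 2 → K) :
    ∃ c d : K, w = c • x + d • y := by
  have hspan : Submodule.span K (Set.range ![x, y]) = ⊤ :=
    h.span_eq_top_of_card_eq_finrank' (by simp)
  have hw : w ∈ Submodule.span K (Set.range ![x, y]) := by rw [hspan]; trivial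
  have hr : Set.range ![x, y] = {x, y} := by
    ext z
    simp only [Set.mem_range, Set.mem_insert_iff, Set.mem_singleton_iff]
    constructor
    · rintro ⟨i, rfl⟩
      fin_cases i
      · left; rfl
      · right; rfl
    · rintro (rfl | rfl)
      · exact ⟨0, rfl⟩
      · exact ⟨1, rfl⟩
  rw [hr, Submodule.mem_span_pair] at hw
  obtain ⟨c, d, hcd⟩ := hw
  exact ⟨c, d, hcd.symm⟩

theorem ne_zero_of_indep {x y : Fin 2 → K} (h : LinearIndependent K ![x, y]) : x ≠ 0 ∧ y ≠ 0 := by
  rw [LinearIndependent.pair_iff] at h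
  constructor
  · rintro rfl
    have := h 1 0 (by simp)
    exact one_ne_zero this.1
  · rintro rfl
    have := h 0 1 (by simp)
    exact one_ne_zero this.2

theorem mem_span_left_iff {x y : Fin 2 → K} (h : LinearIndependent K ![x, y]) (c d : K) :
    c • x + d • y ∈ K ∙ x ↔ d = 0 := by
  rw [LinearIndependent.pair_iff] at h
  constructor
  · intro hm
    obtain ⟨e, he⟩ := Submodule.mem_span_singleton.mp hm
    have : (c - e) • x + d • y = 0 := by
      rw [sub_smul, he]; abel
    exact (h _ _ this).2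
  · rintro rfl
    rw [zero_smul, add_zero]
    exact Submodule.smul_mem _ _ (Submodule.mem_span_singleton_self x)

theorem mem_span_right_iff {x y : Fin 2 → K} (h : LinearIndependent K ![x, y]) (c d : K) :
    c • x + d • y ∈ K ∙ y ↔ c = 0 := by
  rw [LinearIndependent.pair_iff] at h
  constructor
  · intro hm
    obtain ⟨e, he⟩ := Submodule.mem_span_singleton.mp hm
    have : c • x + (d - e) • y = 0 := by
      rw [sub_smul, he]; abel
    exact (h _ _ this).1
  · rintro rfl
    rw [zero_smul, zero_add]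
    exact Submodule.smul_mem _ _ (Submodule.mem_span_singleton_self y)

theorem eq_zero_iff {x y : Fin 2 → K} (h : LinearIndependent K ![x, y]) (c d : K) :
    c • x + d • y = 0 ↔ c = 0 ∧ d = 0 := by
  rw [LinearIndependent.pair_iff] at h
  constructor
  · exact h c d
  · rintro ⟨rfl, rfl⟩; simp

theorem not_both_mem {x y v : Fin 2 → K} (h : LinearIndependent K ![x, y])
    (hx : x ∈ K ∙ v) (hy : y ∈ K ∙ v) : False := by
  obtain ⟨hx0, hy0⟩ := ne_zero_of_indep h
  have hyx : y ∈ K ∙ x := by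
    rw [← span_eq_of_mem hx0 hx]; exact hy
  have := (mem_span_left_iff h 0 1).mp (by simpa using hyx)
  exact one_ne_zero this


section Main

variable {κ : Type v} [Fintype κ] [DecidableEq κ]

/-- Splitting a sum over `κ` into the two special indices and the others. -/
theorem sum_split (a b : κ) (hab : a ≠ b) (f : κ → ℚ) :
    ∑ i, f i = f a + f b + ∑ i : {i : κ // i ≠ a ∧ i ≠ b}, f i.1 := by
  rw [← Finset.sum_erase_add Finset.univ f (Finset.mem_univ a),
    ← Finset.sum_erase_add (Finset.univ.erase a) f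
      (Finset.mem_erase.mpr ⟨hab.symm, Finset.mem_univ b⟩)]
  rw [Finset.sum_subtype ((Finset.univ.erase a).erase b) (p := fun i => i ≠ a ∧ i ≠ b)
    (by intro x; simp [Finset.mem_erase, and_comm]) f]
  ring

/-- The part of a finset of `κ` lying in the subtype of other indices. -/
def dn (a b : κ) (I : Finset κ) : Finset {i : κ // i ≠ a ∧ i ≠ b} :=
  Finset.univ.filter (fun i => i.1 ∈ I)

/-- The image in `κ` of a finset of other indices. -/
def up (a b : κ) (J : Finset {i : κ // i ≠ a ∧ i ≠ b}) : Finset κ :=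
  J.map (Function.Embedding.subtype _)

theorem mem_dn {a b : κ} {I : Finset κ} {i : {i : κ // i ≠ a ∧ i ≠ b}} :
    i ∈ dn a b I ↔ i.1 ∈ I := by simp [dn]

theorem mem_up {a b : κ} {J : Finset {i : κ // i ≠ a ∧ i ≠ b}} {x : κ} :
    x ∈ up a b J ↔ ∃ h : x ≠ a ∧ x ≠ b, (⟨x, h⟩ : {i : κ // i ≠ a ∧ i ≠ b}) ∈ J := by
  simp [up]

theorem a_notMem_up {a b : κ} {J : Finset {i : κ // i ≠ a ∧ i ≠ b}} : a ∉ up a b J := by
  rw [mem_up]; rintro ⟨h, -⟩; exact h.1 rfl

theorem b_notMem_up {a b : κ} {J : Finset {i : κ // i ≠ a ∧ i ≠ b}} : b ∉ up a b J := by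
  rw [mem_up]; rintro ⟨h, -⟩; exact h.2 rfl

theorem dn_up {a b : κ} (J : Finset {i : κ // i ≠ a ∧ i ≠ b}) : dn a b (up a b J) = J := by
  ext i
  rw [mem_dn, mem_up]
  constructor
  · rintro ⟨_, h⟩; exact h
  · intro h; exact ⟨i.2, h⟩

theorem dn_insert_a {a b : κ} (I : Finset κ) : dn a b (insert a I) = dn a b I := by
  ext i
  rw [mem_dn, mem_dn, Finset.mem_insert]
  constructor
  · rintro (h | h)
    · exact absurd h i.2.1
    · exact h
  · intro h; exact Or.inr h

theorem dn_insert_b {a b : κ} (I : Finset κ) : dn a b (insert b I) = dn a b I := by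
  ext i
  rw [mem_dn, mem_dn, Finset.mem_insert]
  constructor
  · rintro (h | h)
    · exact absurd h i.2.2
    · exact h
  · intro h; exact Or.inr h

theorem dn_univ {a b : κ} : dn a b (Finset.univ : Finset κ) = Finset.univ := by
  ext i; simp [mem_dn]

/-- The sum over a finset of `κ`, split. -/
theorem sum_finset_split (a b : κ) (hab : a ≠ b) (θ : κ → ℚ) (I : Finset κ) :
    ∑ i ∈ I, θ i = (if a ∈ I then θ a else 0) + (if b ∈ I then θ b else 0) +
      ∑ i ∈ dn a b I, θ i.1 := by
  have h1 : ∑ i ∈ I, θ i = ∑ i, (if i ∈ I then θ i else 0) := by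
    rw [← Finset.sum_filter]
    congr 1
    ext x; simp
  rw [h1, sum_split a b hab, dn, Finset.sum_filter]

theorem sum_dn_le (a b : κ) (hab : a ≠ b) (θ : κ → ℚ) (h0 : ∀ i, 0 ≤ θ i) (h2 : ∑ i, θ i = 2)
    (I : Finset κ) : ∑ i ∈ dn a b I, θ i.1 ≤ 2 - θ a - θ b := by
  have h := sum_split a b hab θ
  rw [h2] at h
  have : ∑ i ∈ dn a b I, θ i.1 ≤ ∑ i : {i : κ // i ≠ a ∧ i ≠ b}, θ i.1 :=
    Finset.sum_le_univ_sum_of_nonneg (fun i => h0 i.1)
  linarith

theorem sum_le_of_nonneg (θ : κ → ℚ) (h0 : ∀ i, 0 ≤ θ i) (I : Finset κ) :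
    ∑ i ∈ I, θ i ≤ ∑ i, θ i := Finset.sum_le_univ_sum_of_nonneg h0

end Main


section Trans

open PtQuiv

variable {κ : Type v} [Fintype κ] [DecidableEq κ]

theorem PWt_eq (a b : κ) (θ : κ → ℚ) (U : Fin 2 → Submodule K K)
    (J : Finset {i : κ // i ≠ a ∧ i ≠ b}) :
    PWt K ![(2 - θ a - θ b)⁻¹ * (θ a - 1), (2 - θ a - θ b)⁻¹ * (θ b - 1)]
      (fun i : {i : κ // i ≠ a ∧ i ≠ b} => (2 - θ a - θ b)⁻¹ * θ i.1) U J =
    (2 - θ a - θ b)⁻¹ * ((θ a - 1) * (Module.finrank K (U 0) : ℚ) +
      (θ b - 1) * (Module.finrank K (U 1) : ℚ) + ∑ i ∈ J, θ i.1) := by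
  unfold PWt
  rw [Fin.sum_univ_two, ← Finset.mul_sum]
  simp only [Matrix.cons_val_zero, Matrix.cons_val_one]
  ring

theorem QWt_eq (a b : κ) (hab : a ≠ b) (θ : κ → ℚ) (L : Submodule K (Fin 2 → K)) (I : Finset κ) :
    QWt K (-1) θ L I = -(Module.finrank K L : ℚ) + ((if a ∈ I then θ a else 0) +
      (if b ∈ I then θ b else 0) + ∑ i ∈ dn a b I, θ i.1) := by
  unfold QWt
  rw [sum_finset_split a b hab θ I]
  ring

theorem pi_ne_bot_of_top {U : Fin 2 → Submodule K K} (j : Fin 2) (h : U j = ⊤) : U ≠ ⊥ := by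
  intro hU
  have : U j = ⊥ := by rw [hU]; rfl
  rw [h] at this
  exact bot_ne_top_field this.symm

theorem pi_ne_top_of_bot {U : Fin 2 → Submodule K K} (j : Fin 2) (h : U j = ⊥) : U ≠ ⊤ := by
  intro hU
  have : U j = ⊤ := by rw [hU]; rfl
  rw [h] at this
  exact bot_ne_top_field this

theorem pi_eq_top {U : Fin 2 → Submodule K K} (h0 : U 0 = ⊤) (h1 : U 1 = ⊤) : U = ⊤ := by
  funext j
  fin_cases j
  · exact h0
  · exact h1

theorem pi_eq_bot {U : Fin 2 → Submodule K K} (h0 : U 0 = ⊥) (h1 : U 1 = ⊥) : U = ⊥ := by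
  funext j
  fin_cases j
  · exact h0
  · exact h1

/-- From a subrepresentation of the `P`-quiver to one of the `Q`-quiver. -/
theorem PQ (a b : κ) (hab : a ≠ b) (s : κ → Fin 2 → K) (θ : κ → ℚ)
    (hind : LinearIndependent K ![s a, s b])
    (t : {i : κ // i ≠ a ∧ i ≠ b} → (Fin 2 → K))
    (hts : ∀ i, s i.1 = t i 0 • s a + t i 1 • s b)
    (U : Fin 2 → Submodule K K) (J : Finset {i : κ // i ≠ a ∧ i ≠ b})
    (hUJ : PSubrep t U J) :
    ∃ (L : Submodule K (Fin 2 → K)) (I : Finset κ), QSubrep s L I ∧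
      PWt K ![(2 - θ a - θ b)⁻¹ * (θ a - 1), (2 - θ a - θ b)⁻¹ * (θ b - 1)]
        (fun i : {i : κ // i ≠ a ∧ i ≠ b} => (2 - θ a - θ b)⁻¹ * θ i.1) U J =
        (2 - θ a - θ b)⁻¹ * QWt K (-1) θ L I ∧
      (((L = ⊥ ∧ I = ∅) ∨ (L = ⊤ ∧ I = Finset.univ)) →
        ((U = ⊥ ∧ J = ∅) ∨ (U = ⊤ ∧ J = Finset.univ))) := by
  obtain ⟨ha0, hb0⟩ := ne_zero_of_indep hind
  rw [PWt_eq]
  rcases sub_field_cases (U 0) with ⟨hU0, hr0⟩ | ⟨hU0, hr0⟩ <;>
    rcases sub_field_cases (U 1) with ⟨hU1, hr1⟩ | ⟨hU1, hr1⟩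
  · -- both zero
    refine ⟨⊥, up a b J, ?_, ?_, ?_⟩
    · intro x hx
      obtain ⟨hp, hxJ⟩ := mem_up.mp hx
      have h0 := hUJ _ hxJ 0
      have h1 := hUJ _ hxJ 1
      rw [hU0, Submodule.mem_bot] at h0
      rw [hU1, Submodule.mem_bot] at h1
      have := hts ⟨x, hp⟩
      rw [h0, h1, zero_smul, zero_smul, add_zero] at this
      rw [Submodule.mem_bot]
      exact this
    · rw [QWt_eq a b hab, if_neg a_notMem_up, if_neg b_notMem_up, dn_up, hr0, hr1, finrank_bot]
      push_cast
      ring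
    · rintro (⟨-, hI⟩ | ⟨hL, -⟩)
      · left
        refine ⟨pi_eq_bot hU0 hU1, ?_⟩
        rw [← dn_up (a := a) (b := b) J, hI]
        ext i; simp [mem_dn]
      · exfalso
        have : Module.finrank K (⊥ : Submodule K (Fin 2 → K)) = 2 := by rw [hL]; exact finrank_top'
        rw [finrank_bot] at this
        omega
  · -- U 0 = ⊥, U 1 = ⊤ : the line through s b
    refine ⟨K ∙ s b, insert b (up a b J), ?_, ?_, ?_⟩
    · intro x hx
      rcases Finset.mem_insert.mp hx with rfl | hx
      · exact Submodule.mem_span_singleton_self _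
      · obtain ⟨hp, hxJ⟩ := mem_up.mp hx
        have h0 := hUJ _ hxJ 0
        rw [hU0, Submodule.mem_bot] at h0
        have := hts ⟨x, hp⟩
        rw [this]
        exact (mem_span_right_iff hind _ _).mpr h0
    · have hbI : b ∈ insert b (up a b J) := Finset.mem_insert_self _ _
      have haI : a ∉ insert b (up a b J) := by
        rw [Finset.mem_insert]; rintro (h | h)
        · exact hab h
        · exact a_notMem_up h
      rw [QWt_eq a b hab, if_pos hbI, if_neg haI, dn_insert_b, dn_up, hr0, hr1,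
        finrank_span_singleton hb0]
      push_cast
      ring
    · rintro (⟨hL, -⟩ | ⟨hL, -⟩)
      · exact absurd hL (span_ne_bot hb0)
      · exact absurd hL (span_ne_top hb0)
  · -- U 0 = ⊤, U 1 = ⊥ : the line through s a
    refine ⟨K ∙ s a, insert a (up a b J), ?_, ?_, ?_⟩
    · intro x hx
      rcases Finset.mem_insert.mp hx with rfl | hx
      · exact Submodule.mem_span_singleton_self _
      · obtain ⟨hp, hxJ⟩ := mem_up.mp hx
        have h1 := hUJ _ hxJ 1
        rw [hU1, Submodule.mem_bot] at h1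
        have := hts ⟨x, hp⟩
        rw [this]
        exact (mem_span_left_iff hind _ _).mpr h1
    · have haI : a ∈ insert a (up a b J) := Finset.mem_insert_self _ _
      have hbI : b ∉ insert a (up a b J) := by
        rw [Finset.mem_insert]; rintro (h | h)
        · exact hab h.symm
        · exact b_notMem_up h
      rw [QWt_eq a b hab, if_pos haI, if_neg hbI, dn_insert_a, dn_up, hr0, hr1,
        finrank_span_singleton ha0]
      push_cast
      ring
    · rintro (⟨hL, -⟩ | ⟨hL, -⟩)
      · exact absurd hL (span_ne_bot ha0)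
      · exact absurd hL (span_ne_top ha0)
  · -- both everything
    refine ⟨⊤, insert a (insert b (up a b J)), ?_, ?_, ?_⟩
    · intro x _
      exact Submodule.mem_top
    · have haI : a ∈ insert a (insert b (up a b J)) := Finset.mem_insert_self _ _
      have hbI : b ∈ insert a (insert b (up a b J)) :=
        Finset.mem_insert_of_mem (Finset.mem_insert_self _ _)
      rw [QWt_eq a b hab, if_pos haI, if_pos hbI, dn_insert_a, dn_insert_b, dn_up, hr0, hr1,
        finrank_top']
      push_cast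
      ring
    · rintro (⟨hL, -⟩ | ⟨-, hI⟩)
      · exfalso
        have : Module.finrank K (⊤ : Submodule K (Fin 2 → K)) = 0 := by rw [hL]; exact finrank_bot _ _
        rw [finrank_top'] at this
        omega
      · right
        refine ⟨pi_eq_top hU0 hU1, ?_⟩
        have := congrArg (dn a b) hI
        rw [dn_insert_a, dn_insert_b, dn_up, dn_univ] at this
        exact this


theorem finrank_bot_field : Module.finrank K (⊥ : Submodule K K) = 0 := finrank_bot K K

theorem finrank_top_field : Module.finrank K (⊤ : Submodule K K) = 1 := by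
  rw [finrank_top]; exact Module.finrank_self K

/-- From a subrepresentation of the `Q`-quiver to one of the `P`-quiver. -/
theorem QP (a b : κ) (hab : a ≠ b) (s : κ → Fin 2 → K) (θ : κ → ℚ)
    (h0 : ∀ i, 0 ≤ θ i) (h1 : ∀ i, θ i ≤ 1) (h2 : ∑ i, θ i = 2)
    (hθ : 1 < θ a + θ b) (hθ' : θ a + θ b < 2)
    (hind : LinearIndependent K ![s a, s b])
    (t : {i : κ // i ≠ a ∧ i ≠ b} → (Fin 2 → K))
    (hts : ∀ i, s i.1 = t i 0 • s a + t i 1 • s b)
    (L : Submodule K (Fin 2 → K)) (I : Finset κ) (hLI : QSubrep s L I) :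
    QWt K (-1) θ L I < 0 ∨
    ∃ (U : Fin 2 → Submodule K K) (J : Finset {i : κ // i ≠ a ∧ i ≠ b}), PSubrep t U J ∧
      (2 - θ a - θ b)⁻¹ * QWt K (-1) θ L I ≤
        PWt K ![(2 - θ a - θ b)⁻¹ * (θ a - 1), (2 - θ a - θ b)⁻¹ * (θ b - 1)]
          (fun i : {i : κ // i ≠ a ∧ i ≠ b} => (2 - θ a - θ b)⁻¹ * θ i.1) U J ∧
      (QWt K (-1) θ L I = 0 → ((U = ⊥ ∧ J = ∅) ∨ (U = ⊤ ∧ J = Finset.univ)) →
        ((L = ⊥ ∧ I = ∅) ∨ (L = ⊤ ∧ I = Finset.univ))) := by
  obtain ⟨ha0, hb0⟩ := ne_zero_of_indep hind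
  have hc : 0 < (2 - θ a - θ b)⁻¹ := inv_pos.mpr (by linarith)
  have hJle := sum_dn_le a b hab θ h0 h2 I
  have hθa : 0 < θ a := by have := h1 b; linarith
  have hθb : 0 < θ b := by have := h1 a; linarith
  have hita : (if a ∈ I then θ a else 0) ≤ θ a := by split_ifs <;> linarith
  have hitb : (if b ∈ I then θ b else 0) ≤ θ b := by split_ifs <;> linarith
  rcases finrank_cases L with rfl | ⟨v, hv, rfl⟩ | rfl
  · -- L = ⊥
    right
    have haI : a ∉ I := fun h => ha0 ((Submodule.mem_bot K).mp (hLI a h))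
    have hbI : b ∉ I := fun h => hb0 ((Submodule.mem_bot K).mp (hLI b h))
    refine ⟨⊥, dn a b I, ?_, ?_, ?_⟩
    · intro i hi j
      have hs0 : s i.1 = 0 := (Submodule.mem_bot K).mp (hLI i.1 (mem_dn.mp hi))
      rw [hts i] at hs0
      obtain ⟨e0, e1⟩ := (eq_zero_iff hind _ _).mp hs0
      change t i j ∈ (⊥ : Submodule K K)
      rw [Submodule.mem_bot]
      fin_cases j
      · exact e0
      · exact e1
    · rw [PWt_eq, QWt_eq a b hab, if_neg haI, if_neg hbI]
      change _ ≤ (2 - θ a - θ b)⁻¹ * ((θ a - 1) * (Module.finrank K (⊥ : Submodule K K) : ℚ) +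
        (θ b - 1) * (Module.finrank K (⊥ : Submodule K K) : ℚ) + ∑ i ∈ dn a b I, θ i.1)
      rw [finrank_bot_field, finrank_bot]
      push_cast
      apply le_of_eq
      ring
    · intro _ hUJ
      rcases hUJ with ⟨-, hJ⟩ | ⟨hU, -⟩
      · left
        refine ⟨rfl, ?_⟩
        rw [Finset.eq_empty_iff_forall_notMem]
        intro x hx
        have hp : x ≠ a ∧ x ≠ b := ⟨fun h => haI (h ▸ hx), fun h => hbI (h ▸ hx)⟩
        have : (⟨x, hp⟩ : {i : κ // i ≠ a ∧ i ≠ b}) ∈ dn a b I := mem_dn.mpr hx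
        rw [hJ] at this
        exact absurd this (Finset.notMem_empty _)
      · exact absurd hU (pi_ne_top_of_bot 0 rfl)
  · -- L a line
    by_cases hsa : s a ∈ K ∙ v
    · right
      have hL : (K ∙ v) = (K ∙ s a) := span_eq_of_mem ha0 hsa
      have hbI : b ∉ I := fun h => not_both_mem hind hsa (hLI b h)
      refine ⟨![⊤, ⊥], dn a b I, ?_, ?_, ?_⟩
      · intro i hi j
        have hm : s i.1 ∈ K ∙ s a := by rw [← hL]; exact hLI i.1 (mem_dn.mp hi)
        rw [hts i] at hm
        have e1 := (mem_span_left_iff hind _ _).mp hm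
        fin_cases j
        · exact Submodule.mem_top
        · change t i 1 ∈ (⊥ : Submodule K K)
          rw [Submodule.mem_bot]; exact e1
      · rw [PWt_eq, QWt_eq a b hab, if_neg hbI]
        change _ ≤ (2 - θ a - θ b)⁻¹ * ((θ a - 1) * (Module.finrank K (⊤ : Submodule K K) : ℚ) +
          (θ b - 1) * (Module.finrank K (⊥ : Submodule K K) : ℚ) + ∑ i ∈ dn a b I, θ i.1)
        rw [finrank_bot_field, finrank_top_field, finrank_span_singleton hv]
        push_cast
        apply mul_le_mul_of_nonneg_left _ hc.le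
        linarith
      · intro _ hUJ
        rcases hUJ with ⟨hU, -⟩ | ⟨hU, -⟩
        · exact absurd hU (pi_ne_bot_of_top 0 rfl)
        · exact absurd hU (pi_ne_top_of_bot 1 rfl)
    · by_cases hsb : s b ∈ K ∙ v
      · right
        have hL : (K ∙ v) = (K ∙ s b) := span_eq_of_mem hb0 hsb
        have haI : a ∉ I := fun h => hsa (hLI a h)
        refine ⟨![⊥, ⊤], dn a b I, ?_, ?_, ?_⟩
        · intro i hi j
          have hm : s i.1 ∈ K ∙ s b := by rw [← hL]; exact hLI i.1 (mem_dn.mp hi)
          rw [hts i] at hm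
          have e0 := (mem_span_right_iff hind _ _).mp hm
          fin_cases j
          · change t i 0 ∈ (⊥ : Submodule K K)
            rw [Submodule.mem_bot]; exact e0
          · exact Submodule.mem_top
        · rw [PWt_eq, QWt_eq a b hab, if_neg haI]
          change _ ≤ (2 - θ a - θ b)⁻¹ * ((θ a - 1) * (Module.finrank K (⊥ : Submodule K K) : ℚ) +
            (θ b - 1) * (Module.finrank K (⊤ : Submodule K K) : ℚ) + ∑ i ∈ dn a b I, θ i.1)
          rw [finrank_bot_field, finrank_top_field, finrank_span_singleton hv]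
          push_cast
          apply mul_le_mul_of_nonneg_left _ hc.le
          linarith
        · intro _ hUJ
          rcases hUJ with ⟨hU, -⟩ | ⟨hU, -⟩
          · exact absurd hU (pi_ne_bot_of_top 1 rfl)
          · exact absurd hU (pi_ne_top_of_bot 0 rfl)
      · left
        have haI : a ∉ I := fun h => hsa (hLI a h)
        have hbI : b ∉ I := fun h => hsb (hLI b h)
        rw [QWt_eq a b hab, if_neg haI, if_neg hbI, finrank_span_singleton hv]
        push_cast
        linarith
  · -- L = ⊤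
    right
    refine ⟨⊤, dn a b I, ?_, ?_, ?_⟩
    · intro i _ j
      exact Submodule.mem_top
    · rw [PWt_eq, QWt_eq a b hab]
      change _ ≤ (2 - θ a - θ b)⁻¹ * ((θ a - 1) * (Module.finrank K (⊤ : Submodule K K) : ℚ) +
        (θ b - 1) * (Module.finrank K (⊤ : Submodule K K) : ℚ) + ∑ i ∈ dn a b I, θ i.1)
      rw [finrank_top_field, finrank_top']
      push_cast
      apply mul_le_mul_of_nonneg_left _ hc.le
      linarith
    · intro hw hUJ
      rcases hUJ with ⟨hU, -⟩ | ⟨-, hJ⟩
      · exact absurd hU (pi_ne_bot_of_top 0 rfl)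
      · right
        refine ⟨rfl, ?_⟩
        rw [QWt_eq a b hab, finrank_top', hJ] at hw
        have hsplit := sum_split a b hab θ
        rw [h2] at hsplit
        push_cast at hw
        have haI : a ∈ I := by
          by_contra h
          rw [if_neg h] at hw
          linarith
        have hbI : b ∈ I := by
          by_contra h
          rw [if_neg h] at hw
          linarith
        rw [Finset.eq_univ_iff_forall]
        intro x
        by_cases hxa : x = a
        · rw [hxa]; exact haI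
        · by_cases hxb : x = b
          · rw [hxb]; exact hbI
          · have : (⟨x, hxa, hxb⟩ : {i : κ // i ≠ a ∧ i ≠ b}) ∈ dn a b I := by
              rw [hJ]; exact Finset.mem_univ _
            exact mem_dn.mp this

end Trans

end Groth.Agent.H92.PtQ
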