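import Groth.Prelude.Def_ExtSupp

/-!
# The adjunction `M ↦ M/M_U ⊣ Γ_Z` on sheaves of modules on a ringed site (helper92)
-/

set_option autoImplicit false

namespace Groth.Agent.H92.QuotSect

open CategoryTheory Limits Opposite

universe u

variable {C : Type u} [SmallCategory C] {J : GrothendieckTopology C} (O : Sheaf J CommRingCat.{u})
  (U : C)

/-- the counit `j_!j^*M ⟶ M` -/
noncomputable abbrev ε (M : ModSite.Mod O) :
    (ModSite.extZero O U).obj ((ModSite.restr O U).obj M) ⟶ M :=
  (ModSite.extZeroAdj O U).counit.app M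

/-- the projection `M ⟶ M/M_U` -/
noncomputable abbrev π (M : ModSite.Mod O) : M ⟶ (ModSite.quotOn O U).obj M :=
  (ModSite.quotOnπ O U).app M

theorem ε_π (M : ModSite.Mod O) : ε O U M ≫ π O U M = 0 := cokernel.condition _

instance epi_π (M : ModSite.Mod O) : Epi (π O U M) := by
  change Epi (coequalizer.π _ _); infer_instance

theorem π_natural {M M' : ModSite.Mod O} (f : M' ⟶ M) :
    π O U M' ≫ (ModSite.quotOn O U).map f = f ≫ π O U M :=
  ((ModSite.quotOnπ O U).naturality f).symm

theorem ε_comp_eq_zero_iff {M N : ModSite.Mod O} (φ : M ⟶ N) :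
    ε O U M ≫ φ = 0 ↔ (ModSite.restr O U).map φ = 0 :=
  (ExtSupp.mem_homZ_iff U φ).symm

variable [ModSite.HasPushOver O U]

/-- the unit `N ⟶ j_*j^*N` -/
noncomputable abbrev η (N : ModSite.Mod O) :
    N ⟶ (ModSite.pushOver O U).obj ((ModSite.restr O U).obj N) :=
  (ModSite.restrPushOverAdj O U).unit.app N

/-- the inclusion `Γ_Z N ⟶ N` -/
noncomputable abbrev ι (N : ModSite.Mod O) : (ModSite.sectOn O U).obj N ⟶ N :=
  (ModSite.sectOnι O U).app N

theorem ι_η (N : ModSite.Mod O) : ι O U N ≫ η O U N = 0 := kernel.condition _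

instance mono_ι (N : ModSite.Mod O) : Mono (ι O U N) := by
  change Mono (equalizer.ι _ _); infer_instance

theorem ι_natural {N N' : ModSite.Mod O} (g : N ⟶ N') :
    (ModSite.sectOn O U).map g ≫ ι O U N' = ι O U N ≫ g :=
  (ModSite.sectOnι O U).naturality g

instance : (ModSite.pushOver O U).Additive :=
  (ModSite.restrPushOverAdj O U).right_adjoint_additive

theorem comp_η_eq_zero_iff {M N : ModSite.Mod O} (φ : M ⟶ N) :
    φ ≫ η O U N = 0 ↔ (ModSite.restr O U).map φ = 0 := by
  have h : φ ≫ η O U N =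
      (ModSite.restrPushOverAdj O U).homEquiv M _ ((ModSite.restr O U).map φ) := by
    rw [Adjunction.homEquiv_unit]
    exact ((ModSite.restrPushOverAdj O U).unit.naturality φ)
  have h0 : (ModSite.restrPushOverAdj O U).homEquiv M ((ModSite.restr O U).obj N) 0 = 0 := by
    rw [Adjunction.homEquiv_unit, Functor.map_zero, comp_zero]
  constructor
  · intro h1
    apply ((ModSite.restrPushOverAdj O U).homEquiv M _).injective
    rw [← h, h1, h0]
  · intro h1
    rw [h, h1, h0]

theorem comp_η_eq_zero_iff' {M N : ModSite.Mod O} (φ : M ⟶ N) :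
    φ ≫ η O U N = 0 ↔ ε O U M ≫ φ = 0 :=
  (comp_η_eq_zero_iff O U φ).trans (ε_comp_eq_zero_iff O U φ).symm

/-- `Hom(M/M_U, N) ≃ Hom(M, Γ_Z N)` -/
noncomputable def homEquiv (M N : ModSite.Mod O) :
    ((ModSite.quotOn O U).obj M ⟶ N) ≃ (M ⟶ (ModSite.sectOn O U).obj N) where
  toFun ψ := kernel.lift (η O U N) (π O U M ≫ ψ)
    ((comp_η_eq_zero_iff' O U _).2 (by rw [← Category.assoc, ε_π, zero_comp]))
  invFun χ := cokernel.desc (ε O U M) (χ ≫ ι O U N)
    ((comp_η_eq_zero_iff' O U _).1 (by rw [Category.assoc, ι_η, comp_zero]))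
  left_inv ψ := by
    apply coequalizer.hom_ext
    erw [cokernel.π_desc, kernel.lift_ι]
    rfl
  right_inv χ := by
    apply equalizer.hom_ext
    erw [kernel.lift_ι, cokernel.π_desc]
    rfl

theorem homEquiv_ι {M N : ModSite.Mod O} (ψ : (ModSite.quotOn O U).obj M ⟶ N) :
    homEquiv O U M N ψ ≫ ι O U N = π O U M ≫ ψ := kernel.lift_ι _ _ _

theorem π_homEquiv_symm {M N : ModSite.Mod O} (χ : M ⟶ (ModSite.sectOn O U).obj N) :
    π O U M ≫ (homEquiv O U M N).symm χ = χ ≫ ι O U N := cokernel.π_desc _ _ _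

/-- the adjunction `M ↦ M/M_U ⊣ Γ_Z` -/
noncomputable def adj : ModSite.quotOn O U ⊣ ModSite.sectOn O U :=
  Adjunction.mkOfHomEquiv
    { homEquiv := homEquiv O U
      homEquiv_naturality_left_symm := fun {M' M N} f g => by
        rw [← cancel_epi (π O U M'), π_homEquiv_symm]
        calc (f ≫ g) ≫ ι O U N = f ≫ (π O U M ≫ (homEquiv O U M N).symm g) := by
              rw [π_homEquiv_symm, Category.assoc]
          _ = (π O U M' ≫ (ModSite.quotOn O U).map f) ≫ (homEquiv O U M N).symm g := by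
              rw [π_natural, Category.assoc]
          _ = _ := Category.assoc _ _ _
      homEquiv_naturality_right := fun {M N N'} f g => by
        rw [← cancel_mono (ι O U N'), homEquiv_ι]
        calc π O U M ≫ f ≫ g = (homEquiv O U M N f ≫ ι O U N) ≫ g := by
              rw [homEquiv_ι, Category.assoc]
          _ = homEquiv O U M N f ≫ ((ModSite.sectOn O U).map g ≫ ι O U N') := by
              rw [ι_natural, Category.assoc]
          _ = _ := (Category.assoc _ _ _).symm }

end Groth.Agent.H92.QuotSect
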