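import Groth.Agent.H92.QuotOnExact
import Groth.Agent.H31.ExtZeroFlat

/-!
# `M ↦ M/M_U` and tensor products (helper92)

For sheaves of modules `P`, `M` on a ringed site and an object `U`, the maps
`ε_P ⊗ M : j_!j^*P ⊗ M ⟶ P ⊗ M` and `ε_{P ⊗ M} : j_!j^*(P ⊗ M) ⟶ P ⊗ M` have the same image:
a map out of `P ⊗ M` kills one iff it kills the other.
-/

set_option autoImplicit false

namespace Groth.Agent.H92.QuotTensor

open CategoryTheory Limits Opposite MonoidalCategory
open Groth.Agent.H31 Groth.Agent.H31.ExtZero Groth.Agent.H92.SheafLocal Groth.Agent.H92.QuotSect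

universe u

variable {C : Type u} [SmallCategory C] {J : GrothendieckTopology C} (O : Sheaf J CommRingCat.{u})
  (U : C)

/-- `- ⊗ M` -/
noncomputable abbrev TM (M : ModSite.Mod O) : ModSite.Mod O ⥤ ModSite.Mod O :=
  (ModSite.tensorBi O).flip.obj M

section PartA

theorem epi_ε_extZero (B : ModSite.Mod (O.over U)) :
    Epi (ε O U ((ModSite.extZero O U).obj B)) := by
  have h := (ModSite.extZeroAdj O U).left_triangle_components B
  exact (IsSplitEpi.mk' ⟨_, h⟩).epi

theorem epi_ε_of_iso {A : ModSite.Mod O} {B : ModSite.Mod (O.over U)}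
    (c : A ≅ (ModSite.extZero O U).obj B) : Epi (ε O U A) := by
  have := epi_ε_extZero O U B
  have h : ε O U A = (ModSite.restr O U ⋙ ModSite.extZero O U).map c.hom ≫
      ε O U ((ModSite.extZero O U).obj B) ≫ c.inv := by
    have h1 := (ModSite.extZeroAdj O U).counit.naturality c.hom
    rw [← Category.assoc, h1, Category.assoc]
    simp
  rw [h]
  infer_instance

theorem comp_eq_zero_of_epi_ε {A X N : ModSite.Mod O} (hA : Epi (ε O U A)) (g : A ⟶ X)
    (χ : X ⟶ N) (h : ε O U X ≫ χ = 0) : g ≫ χ = 0 := by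
  rw [← cancel_epi (ε O U A), comp_zero, ← Category.assoc]
  have h1 : ε O U A ≫ g = (ModSite.restr O U ⋙ ModSite.extZero O U).map g ≫ ε O U X :=
    ((ModSite.extZeroAdj O U).counit.naturality g).symm
  rw [h1, Category.assoc, h, comp_zero]

/-- projection formula, objectwise: `j_!B ⊗ M ≅ j_!(B ⊗ M|_U)` -/
noncomputable def extZeroTensorIso (B : ModSite.Mod (O.over U)) (M : ModSite.Mod O) :
    (TM O M).obj ((ModSite.extZero O U).obj B) ≅
      (ModSite.extZero O U).obj
        (((ModSite.tensorBi (O.over U)).obj B).obj ((ModSite.restr O U).obj M)) :=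
  ((ModSite.tensorBi O).mapIso ((extZeroIso O U).app B)).app M ≪≫
    ((projIsoRight B).app M).symm ≪≫ ((extZeroIso O U).app _).symm

theorem tensor_ε_comp_eq_zero_of (P M N : ModSite.Mod O) (χ : (TM O M).obj P ⟶ N)
    (h : ε O U ((TM O M).obj P) ≫ χ = 0) : (TM O M).map (ε O U P) ≫ χ = 0 :=
  comp_eq_zero_of_epi_ε O U (epi_ε_of_iso O U (extZeroTensorIso O U _ M)) _ χ h

end PartA

section PartB

variable (P M N : ModSite.Mod O)

/-- the presheaf tensor product whose sheafification is `P ⊗ M` -/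
noncomputable abbrev pre : PM O := (toPM O).obj P ⊗ (toPM O).obj M

/-- the presheaf-level adjunct of a map out of `P ⊗ M` -/
noncomputable def χ₀ (χ : (TM O M).obj P ⟶ N) : pre O P M ⟶ (toPM O).obj N :=
  η (pre O P M) ≫ (toPM O).map χ

theorem whisker_comp_χ₀ {P' : ModSite.Mod O} (f : P' ⟶ P) (χ : (TM O M).obj P ⟶ N) :
    ((toPM O).map f ▷ (toPM O).obj M) ≫ χ₀ O P M N χ = χ₀ O P' M N ((TM O M).map f ≫ χ) := by
  have h1 : ((toPM O).map f ▷ (toPM O).obj M) ≫ η (pre O P M) =
      η (pre O P' M) ≫ (toPM O).map ((TM O M).map f) :=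
    (shfAdj O).unit.naturality ((toPM O).map f ▷ (toPM O).obj M)
  have h2 : (toPM O).map ((TM O M).map f) ≫ (toPM O).map χ =
      (toPM O).map ((TM O M).map f ≫ χ) := ((toPM O).map_comp _ _).symm
  exact (Category.assoc _ _ _).symm.trans
    ((congrArg (fun t => t ≫ (toPM O).map χ) h1).trans
      ((Category.assoc _ _ _).trans (congrArg (fun t => η (pre O P' M) ≫ t) h2)))

theorem χ₀_zero : χ₀ O P M N 0 = 0 := by
  exact (congrArg (fun t => η (pre O P M) ≫ t) ((toPM O).map_zero _ _)).trans comp_zero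

set_option maxHeartbeats 800000 in
theorem χ₀_app_eq_zero (χ : (TM O M).obj P ⟶ N) (h : (TM O M).map (ε O U P) ≫ χ = 0)
    {W : C} (g : W ⟶ U) (t : (pre O P M).obj (op W)) :
    (χ₀ O P M N χ).app (op W) t = 0 := by
  have hcomp := whisker_comp_χ₀ O P M N (ε O U P) χ
  rw [h, χ₀_zero] at hcomp
  induction t using TensorProduct.induction_on with
  | zero => exact map_zero _
  | add a b ha hb => exact (map_add _ a b).trans ((congrArg₂ (· + ·) ha hb).trans (add_zero 0))
  | tmul p m =>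
    obtain ⟨x, hx⟩ := ε_app_surjective O U P g p
    have h1 : (((toPM O).map (ε O U P) ▷ (toPM O).obj M).app (op W)) (x ⊗ₜ m) = p ⊗ₜ m := by
      rw [← hx]
      rfl
    rw [← h1]
    have h2 := congrArg (fun φ : pre O _ M ⟶ (toPM O).obj N => φ.app (op W) (x ⊗ₜ m)) hcomp
    exact h2

set_option maxHeartbeats 800000 in
theorem restr_map_eq_zero (χ : (TM O M).obj P ⟶ N) (h : (TM O M).map (ε O U P) ≫ χ = 0) :
    (ModSite.restr O U).map χ = 0 := by
  apply SheafOfModules.hom_ext
  apply PresheafOfModules.hom_ext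
  intro a
  apply ModuleCat.hom_ext
  apply LinearMap.ext
  intro z
  let V : C := a.unop.left
  let z' : ((ab O).obj ((TM O M).obj P)).obj.obj (op V) := z
  show ((ab O).map χ).hom.app (op V) z' = 0
  have hW : J.W ((PresheafOfModules.toPresheaf (R₀ O)).map (η (pre O P M))) :=
    (isIso_shf_map_iff (η (pre O P M))).1 inferInstance
  have hls : Presheaf.IsLocallySurjective J
      ((PresheafOfModules.toPresheaf (R₀ O)).map (η (pre O P M))) :=
    ((J.W_iff_isLocallyBijective _).1 hW).2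
  apply eq_zero_of_cover ((ab O).obj N) _
    (Presheaf.imageSieve ((PresheafOfModules.toPresheaf (R₀ O)).map (η (pre O P M))) z')
    (hls.imageSieve_mem z')
  rintro W k ⟨t, ht⟩
  have h1 : ((ab O).obj N).obj.map k.op (((ab O).map χ).hom.app (op V) z') =
      ((ab O).map χ).hom.app (op W) (((ab O).obj ((TM O M).obj P)).obj.map k.op z') :=
    (ap_res ((ab O).map χ) k.op z').symm
  rw [h1]
  have h2 := χ₀_app_eq_zero O U P M N χ h (k ≫ a.unop.hom) t
  refine Eq.trans ?_ h2
  exact congrArg (((ab O).map χ).hom.app (op W)) ht.symm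

/-- a map out of `P ⊗ M` kills `j_!j^*P ⊗ M` iff it kills `j_!j^*(P ⊗ M)` -/
theorem tensor_ε_comp_eq_zero_iff (χ : (TM O M).obj P ⟶ N) :
    (TM O M).map (ε O U P) ≫ χ = 0 ↔ ε O U ((TM O M).obj P) ≫ χ = 0 :=
  ⟨fun h => (ε_comp_eq_zero_iff O U χ).2 (restr_map_eq_zero O U P M N χ h),
    tensor_ε_comp_eq_zero_of O U P M N χ⟩

end PartB

end Groth.Agent.H92.QuotTensor
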