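import Groth.Agent.H92.RSStalkFree

/-!
# Finite type and direct image along a closed immersion of ringed spaces (helper92)
-/

set_option autoImplicit false
set_option backward.isDefEq.respectTransparency false
set_option linter.style.haveILetI false
set_option linter.unusedSectionVars false
universe u
open CategoryTheory CategoryTheory.Limits Opposite TopologicalSpace

namespace Groth.Agent.H92.RSLocal

open Groth.Agent.H31 Groth.Agent.H92.EqCrit Groth.Agent.H92.EqCritConv

variable {Z X : TopCat.{u}} (i : Z ⟶ X)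
  {O_Z : Sheaf (Opens.grothendieckTopology Z) CommRingCat.{u}}
  {O_X : Sheaf (Opens.grothendieckTopology X) CommRingCat.{u}}
  (c : O_X ⟶ ((Opens.map i).sheafPushforwardContinuous CommRingCat.{u}
      (Opens.grothendieckTopology X) (Opens.grothendieckTopology Z)).obj O_Z)

/-- the direct image of a module -/
noncomputable abbrev PF (F : ModSite.Mod O_Z) : ModSite.Mod O_X :=
  (ModSite.RMor.ofFlat (Opens.map i) c).push.obj F

/-- the comorphism on sections -/
noncomputable def cV (V : Opens X) :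
    O_X.obj.obj (op V) →+* O_Z.obj.obj (op ((Opens.map i).obj V)) :=
  (c.hom.app (op V)).hom

lemma map_le' {W' W : Opens X} (h : W' ≤ W) : (Opens.map i).obj W' ≤ (Opens.map i).obj W :=
  ((Opens.map i).map (homOfLE h)).le

/-- sections of the direct image are sections over the preimage -/
noncomputable def toF (F : ModSite.Mod O_Z) (V : Opens X) :
    ((toPM O_X).obj (PF i c F)).obj (op V) →+
      ((toPM O_Z).obj F).obj (op ((Opens.map i).obj V)) :=
  AddMonoidHom.id _

/-- sections over the preimage are sections of the direct image -/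
noncomputable def ofF (F : ModSite.Mod O_Z) (V : Opens X) :
    ((toPM O_Z).obj F).obj (op ((Opens.map i).obj V)) →+
      ((toPM O_X).obj (PF i c F)).obj (op V) :=
  AddMonoidHom.id _

lemma toF_ofF (F : ModSite.Mod O_Z) (V : Opens X)
    (m : ((toPM O_Z).obj F).obj (op ((Opens.map i).obj V))) : toF i c F V (ofF i c F V m) = m :=
  rfl

lemma ofF_toF (F : ModSite.Mod O_Z) (V : Opens X)
    (m : ((toPM O_X).obj (PF i c F)).obj (op V)) : ofF i c F V (toF i c F V m) = m := rfl

lemma toF_rF (F : ModSite.Mod O_Z) {V W : Opens X} (h : W ≤ V)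
    (m : ((toPM O_X).obj (PF i c F)).obj (op V)) :
    toF i c F W (rF (PF i c F) h m) = rF F (map_le' i h) (toF i c F V m) := rfl

lemma toF_smul (F : ModSite.Mod O_Z) (V : Opens X) (b : O_X.obj.obj (op V))
    (m : ((toPM O_X).obj (PF i c F)).obj (op V)) :
    toF i c F V (b • m) = cV i c V b • toF i c F V m := rfl

lemma toF_injective (F : ModSite.Mod O_Z) (V : Opens X) : Function.Injective (toF i c F V) :=
  fun _ _ h => h

lemma cV_rR {V W : Opens X} (h : W ≤ V) (b : O_X.obj.obj (op V)) :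
    cV i c W (rR h b) = rR (map_le' i h) (cV i c V b) :=
  congrArg (fun f => f.hom b) (c.hom.naturality (homOfLE h).op)

lemma exists_opens_preimage (hi : Topology.IsInducing i) (U : Opens Z) :
    ∃ V : Opens X, (Opens.map i).obj V = U := by
  obtain ⟨t, ht, hts⟩ := hi.isOpen_iff.1 U.2
  exact ⟨⟨t, ht⟩, Opens.ext hts⟩

/-- sections over the empty open vanish -/
lemma eq_zero_of_empty (F : ModSite.Mod O_Z) (U : Opens Z) (hU : (U : Set Z) = ∅)
    (m : ((toPM O_Z).obj F).obj (op U)) : m = 0 := by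
  refine eq_zero_of_locally F m (fun y hy => ?_)
  have : y ∈ (U : Set Z) := hy
  rw [hU] at this
  exact absurd this (Set.notMem_empty y)

lemma exists_lift_c (hc : Sheaf.IsLocallySurjective c) (V : Opens X)
    (a : O_Z.obj.obj (op ((Opens.map i).obj V))) (y : X) (hy : y ∈ V) :
    ∃ (W : Opens X) (hW : W ≤ V), y ∈ W ∧ ∃ b : O_X.obj.obj (op W),
      cV i c W b = rR (map_le' i hW) a := by
  have h1 := Presheaf.imageSieve_mem (Opens.grothendieckTopology X) c.hom
    (show ToType ((((Opens.map i).sheafPushforwardContinuous CommRingCat.{u}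
      (Opens.grothendieckTopology X) (Opens.grothendieckTopology Z)).obj O_Z).obj.obj (op V))
      from a)
  obtain ⟨W, f, ⟨b, hb⟩, hyW⟩ := h1 y hy
  exact ⟨W, f.le, hyW, b, hb⟩

lemma exists_lift_c_fin (hc : Sheaf.IsLocallySurjective c) {κ : Type*} [Finite κ] (V : Opens X)
    (a : κ → O_Z.obj.obj (op ((Opens.map i).obj V))) (y : X) (hy : y ∈ V) :
    ∃ (W : Opens X) (hW : W ≤ V), y ∈ W ∧ ∃ b : κ → O_X.obj.obj (op W),
      ∀ k, cV i c W (b k) = rR (map_le' i hW) (a k) := by
  obtain ⟨W, hW, hyW, hP⟩ := exists_common_nbhd V y hy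
    (fun (k : κ) W hW => ∃ b : O_X.obj.obj (op W), cV i c W b = rR (map_le' i hW) (a k))
    (by
      rintro k W W' h h' ⟨b, hb⟩
      refine ⟨rR h' b, ?_⟩
      rw [cV_rR, hb, rR_rR])
    (fun k => exists_lift_c i c hc V (a k) y hy)
  choose b hb using hP
  exact ⟨W, hW, hyW, b, hb⟩

theorem isFiniteType_push_of_isFiniteType (hi : Topology.IsClosedEmbedding i)
    (hc : Sheaf.IsLocallySurjective c) (F : ModSite.Mod O_Z)
    [SheafOfModules.IsFiniteType (R := ModSite.ringSh O_Z) F] :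
    SheafOfModules.IsFiniteType (R := ModSite.ringSh O_X) (PF i c F) := by
  classical
  have hopen : IsOpen ((Set.range i)ᶜ : Set X) := hi.isClosed_range.isOpen_compl
  -- outside the image everything vanishes
  have hout : ∀ (V : Opens X), (V : Set X) ⊆ (Set.range i)ᶜ →
      ∀ m : ((toPM O_X).obj (PF i c F)).obj (op V), m = 0 := by
    intro V hV m
    apply toF_injective i c F V
    rw [map_zero]
    refine eq_zero_of_empty F _ ?_ _
    rw [Set.eq_empty_iff_forall_notMem]
    intro z hz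
    exact hV hz ⟨z, rfl⟩
  refine isFiniteType_of_genOn _ (fun x => ?_)
  by_cases hx : x ∈ Set.range i
  · obtain ⟨z, rfl⟩ := hx
    obtain ⟨U, hzU, ι, hι, s, hs⟩ := exists_genOn_of_isFiniteType F z
    obtain ⟨V₀, rfl⟩ := exists_opens_preimage i hi.isInducing U
    refine ⟨V₀, hzU, ι, hι, fun k => ofF i c F V₀ (s k), ?_⟩
    intro V hV m y hy
    by_cases hy' : y ∈ Set.range i
    · obtain ⟨z', rfl⟩ := hy'
      obtain ⟨W', hW', hzW', a, ha⟩ := hs _ (map_le' i hV) (toF i c F V m) z' hy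
      obtain ⟨W₁, rfl⟩ := exists_opens_preimage i hi.isInducing W'
      obtain ⟨W₂, hW₂⟩ : ∃ W₂ : Opens X, W₂ = W₁ ⊓ V := ⟨_, rfl⟩
      have h21 : W₂ ≤ W₁ := hW₂ ▸ inf_le_left
      have h2V : W₂ ≤ V := hW₂ ▸ inf_le_right
      have hy₂ : i z' ∈ W₂ := hW₂ ▸ ⟨hzW', hy⟩
      obtain ⟨W, hW, hyW, b, hb⟩ := exists_lift_c_fin i c hc W₂
        (fun k => rR (map_le' i h21) (a k)) (i z') hy₂
      refine ⟨W, hW.trans h2V, hyW, b, ?_⟩
      apply toF_injective i c F W
      rw [toF_rF, map_sum]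
      have h3 : rF F (map_le' i (hW.trans h2V)) (toF i c F V m) =
          rF F (map_le' i (hW.trans h21)) (rF F hW' (toF i c F V m)) := by
        rw [rF_rF]
      rw [h3, ha, rF_sum_smul]
      refine Finset.sum_congr rfl (fun k _ => ?_)
      rw [toF_smul, hb k, rR_rR, toF_rF, toF_ofF, rF_rF]
    · refine ⟨V ⊓ ⟨(Set.range i)ᶜ, hopen⟩, inf_le_left, ⟨hy, hy'⟩, fun _ => 0, ?_⟩
      refine (hout (V ⊓ ⟨(Set.range i)ᶜ, hopen⟩) (fun w hw => hw.2) _).trans ?_
      simp
  · refine ⟨⟨(Set.range i)ᶜ, hopen⟩, hx, PEmpty.{u + 1}, inferInstance, fun k => k.elim, ?_⟩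
    intro V hV m y hy
    refine ⟨V, le_rfl, hy, fun k => k.elim, ?_⟩
    rw [hout V hV m, map_zero]
    simp

theorem isFiniteType_of_isFiniteType_push (hi : Topology.IsClosedEmbedding i)
    (F : ModSite.Mod O_Z)
    [SheafOfModules.IsFiniteType (R := ModSite.ringSh O_X) (PF i c F)] :
    SheafOfModules.IsFiniteType (R := ModSite.ringSh O_Z) F := by
  classical
  refine isFiniteType_of_genOn _ (fun z => ?_)
  obtain ⟨V₀, hxV₀, ι, hι, s, hs⟩ := exists_genOn_of_isFiniteType (PF i c F) (i z)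
  refine ⟨(Opens.map i).obj V₀, hxV₀, ι, hι, fun k => toF i c F V₀ (s k), ?_⟩
  intro U' hU' m z' hz'
  obtain ⟨V₁, rfl⟩ := exists_opens_preimage i hi.isInducing U'
  obtain ⟨V, hV⟩ : ∃ V : Opens X, V = V₁ ⊓ V₀ := ⟨_, rfl⟩
  have hV1 : V ≤ V₁ := hV ▸ inf_le_left
  have hV0 : V ≤ V₀ := hV ▸ inf_le_right
  have hyV : i z' ∈ V := hV ▸ ⟨hz', hU' hz'⟩
  obtain ⟨W, hW, hyW, b, hb⟩ := hs V hV0 (ofF i c F V (rF F (map_le' i hV1) m)) (i z') hyV
  refine ⟨(Opens.map i).obj W, map_le' i (hW.trans hV1), hyW, fun k => cV i c W (b k), ?_⟩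
  have h1 := congrArg (toF i c F W) hb
  rw [toF_rF, toF_ofF, rF_rF, map_sum] at h1
  refine h1.trans (Finset.sum_congr rfl (fun k _ => ?_))
  rw [toF_smul, toF_rF]

end Groth.Agent.H92.RSLocal
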