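import Groth.Agent.H92.RSStalkFree

/-!
# Cokernels and kernels of modules of finite type / finite presentation on a ringed space
(helper92)
-/

set_option autoImplicit false
set_option backward.isDefEq.respectTransparency false
set_option linter.style.haveILetI false
set_option linter.unusedSectionVars false
universe u
open CategoryTheory CategoryTheory.Limits Opposite TopologicalSpace

namespace Groth.Agent.H92.RSLocal

open Groth.Agent.H31 Groth.Agent.H92.EqCrit Groth.Agent.H92.EqCritConv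

section Site

variable {C : Type u} [SmallCategory C] {J : GrothendieckTopology C} {O : Sheaf J CommRingCat.{u}}

/-- a section killed by the projection to the cokernel is locally in the image -/
theorem exists_cover_lift_of_cokernel {G F : ModSite.Mod O} (φ : G ⟶ F) {V : C}
    (m : ((toPM O).obj F).obj (op V))
    (hm : sec ((toPM O).map (cokernel.π φ)) (op V) m = 0) :
    ∃ S ∈ J V, ∀ ⦃W : C⦄ (g : W ⟶ V), S g → ∃ a : ((toPM O).obj G).obj (op W),
      sec ((toPM O).map φ) (op W) a = rM ((toPM O).obj F) g m := by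
  obtain ⟨w, hw⟩ := exists_kernel_section (cokernel.π φ) m hm
  obtain ⟨S, hS, hS'⟩ := exists_cover_lift_of_epi (Abelian.factorThruImage φ) w
  refine ⟨S, hS, fun W g hg => ?_⟩
  obtain ⟨a, ha⟩ := hS' g hg
  refine ⟨a, ?_⟩
  have h1 : sec ((toPM O).map (Abelian.factorThruImage φ ≫ Abelian.image.ι φ)) (op W) a =
      rM ((toPM O).obj F) g m := by
    rw [Functor.map_comp, sec_comp, ha]
    show sec ((toPM O).map (kernel.ι (cokernel.π φ))) (op W) _ = _
    rw [sec_rM, hw]
  rw [Abelian.image.fac] at h1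
  exact h1

end Site

variable {X : TopCat.{u}} {O : Sheaf (Opens.grothendieckTopology X) CommRingCat.{u}}

theorem exists_lift_of_cokernel {G F : ModSite.Mod O} (φ : G ⟶ F) {V : Opens X}
    (m : ((toPM O).obj F).obj (op V)) (hm : sF (cokernel.π φ) V m = 0) (y : X) (hy : y ∈ V) :
    ∃ (W : Opens X) (hW : W ≤ V), y ∈ W ∧ ∃ a : ((toPM O).obj G).obj (op W),
      sF φ W a = rF F hW m := by
  obtain ⟨S, hS, hS'⟩ := exists_cover_lift_of_cokernel φ m hm
  obtain ⟨W, f, hf, hyW⟩ := hS y hy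
  obtain ⟨a, ha⟩ := hS' f hf
  exact ⟨W, f.le, hyW, a, ha⟩

/-- the cokernel of a morphism from a module of finite type to a finitely presented module is
finitely presented -/
theorem isFinitePresentation_cokernel {G F : ModSite.Mod O} (φ : G ⟶ F)
    [SheafOfModules.IsFiniteType (R := ModSite.ringSh O) G]
    [SheafOfModules.IsFinitePresentation (R := ModSite.ringSh O) F] :
    SheafOfModules.IsFinitePresentation (R := ModSite.ringSh O) (cokernel φ) := by
  classical
  refine isFinitePresentation_of_relOn _ (fun x => ?_)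
  obtain ⟨U₀, hx₀, ι, κ, hι, hκ, s₀, rel₀, hgen₀, hrel₀⟩ :=
    exists_relOn_of_isFinitePresentation F x
  obtain ⟨U₀', hx₀', lam, hlam, g₀, hg₀⟩ := exists_genOn_of_isFiniteType G x
  obtain ⟨U₁, hU₁⟩ : ∃ U₁ : Opens X, U₁ = U₀ ⊓ U₀' := ⟨_, rfl⟩
  have h10 : U₁ ≤ U₀ := hU₁ ▸ inf_le_left
  have h10' : U₁ ≤ U₀' := hU₁ ▸ inf_le_right
  have hx₁ : x ∈ U₁ := hU₁ ▸ ⟨hx₀, hx₀'⟩
  obtain ⟨U, hU, hxU, B, hB⟩ := hgen₀.exists_matrix U₁ h10
    (fun l => sF φ U₁ (rF G h10' (g₀ l))) x hx₁
  have hU0 : U ≤ U₀ := hU.trans h10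
  have hU0' : U ≤ U₀' := hU.trans h10'
  -- data over `U`
  obtain ⟨s, hs⟩ : ∃ s : ι → ((toPM O).obj F).obj (op U), s = fun i => rF F hU0 (s₀ i) := ⟨_, rfl⟩
  obtain ⟨rel, hrel'⟩ : ∃ rel : κ → ι → O.obj.obj (op U), rel = fun k i => rR hU0 (rel₀ k i) :=
    ⟨_, rfl⟩
  obtain ⟨g, hg⟩ : ∃ g : lam → ((toPM O).obj G).obj (op U), g = fun l => rF G hU0' (g₀ l) :=
    ⟨_, rfl⟩
  have hgen : GenOn F U s := hs ▸ hgen₀.mono hU0
  have hrel : RelOn F U s rel := by
    rw [hs, hrel']
    exact hrel₀.mono hU0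
  have hgenG : GenOn G U g := hg ▸ hg₀.mono hU0'
  have hφg : ∀ l, sF φ U (g l) = ∑ i, B l i • s i := by
    intro l
    have h1 := hB l
    rw [sF_rF, rF_rF] at h1
    rw [hg, hs, sF_rF]
    refine h1.trans (Finset.sum_congr rfl (fun i _ => ?_))
    rfl
  have hq0 : ∀ (V : Opens X) (m : ((toPM O).obj G).obj (op V)),
      sF (cokernel.π φ) V (sF φ V m) = 0 := by
    intro V m
    have h1 : sec ((toPM O).map (φ ≫ cokernel.π φ)) (op V) m = 0 := by
      rw [cokernel.condition]
      rfl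
    rw [Functor.map_comp, sec_comp] at h1
    exact h1
  have hqs : LocSurjOn (cokernel.π φ) U := locSurjOn_of_epi _ U
  refine ⟨U, hxU, ι, κ ⊕ lam, hι, inferInstance, fun i => sF (cokernel.π φ) U (s i),
    Sum.elim rel B, ?_, ?_, ?_⟩
  · -- generation
    intro V hV m y hy
    obtain ⟨W, hW, hyW, m', hm'⟩ := hqs V hV m y hy
    obtain ⟨W', hW', hyW', a, ha⟩ := hgen W (hW.trans hV) m' y hyW
    refine ⟨W', hW'.trans hW, hyW', a, ?_⟩
    rw [← rF_rF (cokernel φ) hW hW', ← hm', ← sF_rF, ha, sF_sum_smul]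
    refine Finset.sum_congr rfl (fun i _ => ?_)
    rw [sF_rF]
  · -- the relations hold
    rintro (k | l)
    · show ∑ i, rel k i • sF (cokernel.π φ) U (s i) = 0
      rw [← sF_sum_smul, hrel.1 k, map_zero]
    · show ∑ i, B l i • sF (cokernel.π φ) U (s i) = 0
      rw [← sF_sum_smul, ← hφg l, hq0]
  · -- the relations generate
    intro V hV a ha y hy
    have h1 : sF (cokernel.π φ) V (∑ i, a i • rF F hV (s i)) = 0 := by
      rw [sF_sum_smul, ← ha]
      refine Finset.sum_congr rfl (fun i _ => ?_)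
      rw [sF_rF]
    obtain ⟨W, hW, hyW, g', hg'⟩ := exists_lift_of_cokernel φ _ h1 y hy
    obtain ⟨W', hW', hyW', d, hd⟩ := hgenG W (hW.trans hV) g' y hyW
    have hWV' : W' ≤ V := hW'.trans hW
    have h2 : ∑ i, (rR hWV' (a i) - ∑ l, d l * rR (hWV'.trans hV) (B l i)) •
        rF F (hWV'.trans hV) (s i) = 0 := by
      have h3 : rF F hW' (sF φ W g') = ∑ i, rR hWV' (a i) • rF F (hWV'.trans hV) (s i) := by
        rw [hg', rF_rF, rF_sum_smul]
        refine Finset.sum_congr rfl (fun i _ => ?_)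
        rw [rF_rF]
      have h4 : rF F hW' (sF φ W g') =
          ∑ i, (∑ l, d l * rR (hWV'.trans hV) (B l i)) • rF F (hWV'.trans hV) (s i) := by
        rw [← sF_rF, hd, sF_sum_smul, ← sum_smul_sum]
        refine Finset.sum_congr rfl (fun l _ => ?_)
        rw [sF_rF, hφg l, rF_sum_smul]
      rw [Finset.sum_congr rfl (fun i _ => by rw [sub_smul])]
      rw [Finset.sum_sub_distrib, ← h3, ← h4, sub_self]
    obtain ⟨W'', hW'', hyW'', c, hc⟩ := hrel.2 W' (hWV'.trans hV) _ h2 y hyW'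
    refine ⟨W'', hW''.trans hWV', hyW'', Sum.elim c (fun l => rR hW'' (d l)), fun i => ?_⟩
    rw [Fintype.sum_sum_type]
    simp only [Sum.elim_inl, Sum.elim_inr]
    have h5 := hc i
    rw [map_sub, map_sum, rR_rR, sub_eq_iff_eq_add] at h5
    refine h5.trans ?_
    congr 1
    refine Finset.sum_congr rfl (fun l _ => ?_)
    rw [map_mul, rR_rR]

end Groth.Agent.H92.RSLocal
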