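import Groth.Agent.H92.RSStalkFree
import Groth.Agent.H33.CoprodSect
import Groth.Agent.H31.AB5
import Mathlib.CategoryTheory.Abelian.GrothendieckAxioms.Colim

/-!
# Directed colimits with a colimit of finite type on a quasi-compact ringed space (helper92)
-/

set_option autoImplicit false
set_option backward.isDefEq.respectTransparency false
set_option linter.style.haveILetI false
set_option linter.unusedSectionVars false
universe u
open CategoryTheory CategoryTheory.Limits Opposite TopologicalSpace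

namespace Groth.Agent.H92.RSLocal

open Groth.Agent.H31 Groth.Agent.H92.EqCrit Groth.Agent.H92.EqCritConv

variable {X : TopCat.{u}} {O : Sheaf (Opens.grothendieckTopology X) CommRingCat.{u}}

theorem epi_of_locSurjOn_top {F G : ModSite.Mod O} (φ : F ⟶ G) (h : LocSurjOn φ ⊤) : Epi φ := by
  refine epi_of_cover_lift φ (fun V b => ?_)
  let S : Sieve V :=
    { arrows := fun W f => ∃ a : ((toPM O).obj F).obj (op W), sF φ W a = rF G f.le b
      downward_closed := by
        rintro W W' f ⟨a, ha⟩ f'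
        refine ⟨rF F f'.le a, ?_⟩
        show _ = rF G (f' ≫ f).le b
        rw [sF_rF, ha, rF_rF] }
  refine ⟨S, ?_, fun W g hg => hg⟩
  intro y hy
  obtain ⟨W, hW, hyW, a, ha⟩ := h V le_top b y hy
  exact ⟨W, homOfLE hW, ⟨a, ha⟩, hyW⟩

section Colim

variable {I : Type u} [Preorder I] [Nonempty I] [IsDirected I (· ≤ ·)] (D : I ⥤ ModSite.Mod O)
  (c : Cocone D) (hc : IsColimit c)

/-- the coprojection to the colimit -/
def inc (i : I) : D.obj i ⟶ c.pt := c.ι.app i

lemma sF_w {i j : I} (h : i ≤ j) (W : Opens X) (m : ((toPM O).obj (D.obj i)).obj (op W)) :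
    sF (inc D c j) W (sF (D.map (homOfLE h)) W m) = sF (inc D c i) W m := by
  have h0 : D.map (homOfLE h) ≫ inc D c j = inc D c i := c.w (homOfLE h)
  have h1 := congrArg (fun f => sec ((toPM O).map f) (op W) m) h0
  beta_reduce at h1
  rw [Functor.map_comp, sec_comp] at h1
  exact h1

include hc in
/-- a section of the colimit comes locally from some stage -/
theorem exists_stage_lift {V : Opens X} (m : ((toPM O).obj c.pt).obj (op V)) (y : X) (hy : y ∈ V) :
    ∃ (W : Opens X) (hW : W ≤ V), y ∈ W ∧ ∃ (i : I) (m' : ((toPM O).obj (D.obj i)).obj (op W)),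
      sF (inc D c i) W m' = rF c.pt hW m := by
  classical
  have hepi : Epi (Sigma.desc (fun i => inc D c i)) := by
    constructor
    intro Z g h hgh
    refine hc.hom_ext (fun i => ?_)
    have h1 := congrArg (fun f => Sigma.ι D.obj i ≫ f) hgh
    beta_reduce at h1
    rw [← Category.assoc, ← Category.assoc, Sigma.ι_desc] at h1
    exact h1
  obtain ⟨W₁, hW₁, hyW₁, z, hz⟩ := locSurjOn_of_epi (Sigma.desc (fun i => inc D c i)) ⊤ V le_top
    m y hy
  obtain ⟨S, hS, hS'⟩ := Groth.Agent.H33.CoprodSect.exists_local_finsum (ModSite.ringSh O)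
    (Cofan.mk (∐ D.obj) (Sigma.ι D.obj)) (coproductIsCoproduct D.obj) W₁ z
  obtain ⟨W₂, f, hf, hyW₂⟩ := hS y hyW₁
  obtain ⟨s, yy, hyy⟩ := hS' W₂ f hf
  obtain ⟨j, hj⟩ := Finset.exists_le s
  refine ⟨W₂, f.le.trans hW₁, hyW₂, j,
    ∑ i ∈ s, if h : i ≤ j then sF (D.map (homOfLE h)) W₂ (yy i) else 0, ?_⟩
  have h1 : rF c.pt (f.le.trans hW₁) m =
      sF (Sigma.desc (fun i => inc D c i)) W₂ (rF (∐ D.obj) f.le z) := by
    rw [sF_rF, hz, rF_rF]
  have h2 : rF (∐ D.obj) f.le z = ∑ i ∈ s, sF (Sigma.ι D.obj i) W₂ (yy i) := hyy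
  rw [h1, h2, map_sum, map_sum]
  refine Finset.sum_congr rfl (fun i hi => ?_)
  rw [dif_pos (hj i hi), sF_w D c (hj i hi)]
  have h3 := congrArg (fun g => sec ((toPM O).map g) (op W₂) (yy i))
    (Sigma.ι_desc (fun i => c.ι.app i) i)
  beta_reduce at h3
  rw [Functor.map_comp, sec_comp] at h3
  exact h3.symm

include hc in
/-- finitely many sections of the colimit come, locally, from a common stage -/
theorem exists_stage_lift_fin {κ : Type*} [Finite κ] {V : Opens X}
    (m : κ → ((toPM O).obj c.pt).obj (op V)) (y : X) (hy : y ∈ V) :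
    ∃ (W : Opens X) (hW : W ≤ V), y ∈ W ∧
      ∃ (j : I) (m' : κ → ((toPM O).obj (D.obj j)).obj (op W)),
        ∀ k, sF (inc D c j) W (m' k) = rF c.pt hW (m k) := by
  classical
  obtain ⟨W, hW, hyW, hP⟩ := exists_common_nbhd V y hy
    (fun (k : κ) W hW => ∃ (i : I) (m' : ((toPM O).obj (D.obj i)).obj (op W)),
      sF (inc D c i) W m' = rF c.pt hW (m k))
    (by
      rintro k W W' h h' ⟨i, m', hm'⟩
      refine ⟨i, rF (D.obj i) h' m', ?_⟩
      rw [sF_rF, hm', rF_rF])
    (fun k => exists_stage_lift D c hc (m k) y hy)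
  choose i m' hm' using hP
  obtain ⟨j, hj⟩ := Finite.exists_le i
  refine ⟨W, hW, hyW, j, fun k => sF (D.map (homOfLE (hj k))) W (m' k), fun k => ?_⟩
  rw [sF_w D c (hj k)]
  exact hm' k

include hc in
theorem exists_epi_of_directed_colimit [CompactSpace X]
    [SheafOfModules.IsFiniteType (R := ModSite.ringSh O) c.pt] :
    ∃ i : I, Epi (inc D c i) := by
  classical
  -- local data at every point
  have hloc : ∀ x : X, ∃ (W : Opens X) (_ : x ∈ W) (j : I), LocSurjOn (inc D c j) W := by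
    intro x
    obtain ⟨U, hxU, ι, hι, s, hs⟩ := exists_genOn_of_isFiniteType c.pt x
    obtain ⟨W, hW, hxW, j, t, ht⟩ := exists_stage_lift_fin D c hc s x hxU
    refine ⟨W, hxW, j, ?_⟩
    intro V hV b y hy
    obtain ⟨W', hW', hyW', a, ha⟩ := hs V (hV.trans hW) b y hy
    refine ⟨W', hW', hyW', ∑ k, a k • rF (D.obj j) (hW'.trans hV) (t k), ?_⟩
    rw [sF_sum_smul, ha]
    refine Finset.sum_congr rfl (fun k _ => ?_)
    rw [sF_rF, ht k, rF_rF]
  choose W hxW j hj using hloc
  obtain ⟨T, hT⟩ := CompactSpace.elim_nhds_subcover (fun x => (W x : Set X))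
    (fun x => (W x).isOpen.mem_nhds (hxW x))
  obtain ⟨j₀, hj₀⟩ := Finset.exists_le (T.image j)
  refine ⟨j₀, epi_of_locSurjOn_top _ ?_⟩
  intro V _ b y hy
  have hy' : y ∈ ⋃ x ∈ T, (W x : Set X) := hT ▸ Set.mem_univ y
  rw [Set.mem_iUnion₂] at hy'
  obtain ⟨x, hxT, hyx⟩ := hy'
  have hjx : j x ≤ j₀ := hj₀ _ (Finset.mem_image_of_mem j hxT)
  obtain ⟨W', hW', hyW', a, ha⟩ := hj x (V ⊓ W x) inf_le_right (rF c.pt inf_le_left b) y ⟨hy, hyx⟩
  refine ⟨W', hW'.trans inf_le_left, hyW', sF (D.map (homOfLE hjx)) W' a, ?_⟩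
  rw [sF_w D c hjx, ha, rF_rF]

include hc in
theorem exists_isIso_of_directed_colimit [CompactSpace X]
    [SheafOfModules.IsFiniteType (R := ModSite.ringSh O) c.pt]
    (hmono : ∀ (i j : I) (f : i ⟶ j), Mono (D.map f)) : ∃ i : I, IsIso (c.ι.app i) := by
  obtain ⟨i, hi⟩ := exists_epi_of_directed_colimit D c hc
  refine ⟨i, ?_⟩
  have := hasExactColimitsOfShape_Mod (O := O) (Under i)
  have hm : Mono (inc D c i) := IsColimit.mono_ι_app_of_isFiltered hc i
  exact isIso_of_mono_of_epi (inc D c i)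

end Colim

end Groth.Agent.H92.RSLocal
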