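import Groth.Agent.H92.RSLocalF
import Groth.Agent.H33.CoprodSect

/-!
# Modules generated by an arbitrary family of sections (helper92)

The infinite-family versions of `GenT` / `GenOn`: a family of global sections generates a module
on a ringed site with a terminal object iff every section is locally a finite combination of the
family; the bridge to ringed spaces and to `SheafOfModules.LocalGeneratorsData`.
-/

set_option autoImplicit false
set_option backward.isDefEq.respectTransparency false
universe u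
open CategoryTheory CategoryTheory.Limits Opposite TopologicalSpace

namespace Groth.Agent.H92.RSGenI

open Groth.Agent.H31 Groth.Agent.H92.EqCrit Groth.Agent.H92.EqCritConv Groth.Agent.H92.RSLocal

section Site

variable {C : Type u} [SmallCategory C] {J : GrothendieckTopology C} {O : Sheaf J CommRingCat.{u}}

/-- sections of a free module are locally finite combinations of the basis -/
lemma exists_local_comb {ι : Type u} (V : C)
    (z : ((toPM O).obj (SheafOfModules.free (R := ModSite.ringSh O) ι)).obj (op V)) :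
    ∃ S ∈ J V, ∀ ⦃W : C⦄ (g : W ⟶ V), S g → ∃ (s : Finset ι) (a : ι → O.obj.obj (op W)),
      rM ((toPM O).obj (SheafOfModules.free (R := ModSite.ringSh O) ι)) g z =
        ∑ i ∈ s, sec ((toPM O).map (SheafOfModules.ιFree i)) (op W) (a i) := by
  obtain ⟨S, hS, h⟩ := Groth.Agent.H33.CoprodSect.exists_local_finsum (ModSite.ringSh O)
    (SheafOfModules.freeCofan ι) (SheafOfModules.isColimitFreeCofan ι) V z
  refine ⟨S, hS, fun W g hg => ?_⟩
  obtain ⟨s, y, hy⟩ := h W g hg
  exact ⟨s, y, hy⟩

variable {T : C} (hT : IsTerminal T) {ι : Type u}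

/-- the (possibly infinite) family `t` generates `N`: locally every section is a finite
combination of the `t i` -/
def GenTI (N : ModSite.Mod O) (t : ι → ((toPM O).obj N).obj (op T)) : Prop :=
  ∀ (V : C) (m : ((toPM O).obj N).obj (op V)),
    ∃ S ∈ J V, ∀ ⦃W : C⦄ (g : W ⟶ V), S g → ∃ (s : Finset ι) (a : ι → O.obj.obj (op W)),
      rM ((toPM O).obj N) g m = ∑ i ∈ s, a i • rM ((toPM O).obj N) (hT.from W) (t i)

lemma sec_descFree_ιFree (N : ModSite.Mod O) (t : ι → ((toPM O).obj N).obj (op T)) (W : C)
    (i : ι) (a : O.obj.obj (op W)) :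
    sec ((toPM O).map (descFree hT N t)) (op W)
        (sec ((toPM O).map (SheafOfModules.ιFree i)) (op W) a) =
      a • rM ((toPM O).obj N) (hT.from W) (t i) := by
  rw [← sec_comp, ← Functor.map_comp, ιFree_descFree]
  exact sec_sHom hT N (t i) (op W) a

theorem epi_descFree_iff_genTI (N : ModSite.Mod O) (t : ι → ((toPM O).obj N).obj (op T)) :
    Epi (descFree hT N t) ↔ GenTI hT N t := by
  constructor
  · intro h V m
    let Sg : Sieve V :=
      { arrows := fun W g => ∃ (s : Finset ι) (a : ι → O.obj.obj (op W)),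
          rM ((toPM O).obj N) g m = ∑ i ∈ s, a i • rM ((toPM O).obj N) (hT.from W) (t i)
        downward_closed := by
          rintro W W' g ⟨s, a, ha⟩ g'
          refine ⟨s, fun i => rO g' (a i), ?_⟩
          rw [rM_comp, ha, map_sum]
          refine Finset.sum_congr rfl (fun i _ => ?_)
          rw [rM_smul, ← rM_comp]
          have e : g' ≫ hT.from W = hT.from W' := hT.hom_ext _ _
          rw [e] }
    refine ⟨Sg, ?_, fun W g hg => hg⟩
    obtain ⟨S, hS, hS'⟩ := exists_cover_lift_of_epi (descFree hT N t) m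
    refine J.transitive hS Sg (fun W g hg => ?_)
    obtain ⟨z, hz⟩ := hS' g hg
    obtain ⟨S2, hS2, hS2'⟩ := exists_local_comb W z
    refine J.superset_covering ?_ hS2
    intro W' g' hg'
    obtain ⟨s, a, ha⟩ := hS2' g' hg'
    refine ⟨s, a, ?_⟩
    rw [rM_comp, ← hz, ← sec_rM, ha, map_sum]
    exact Finset.sum_congr rfl (fun i _ => sec_descFree_ιFree hT N t W' i (a i))
  · intro h
    refine epi_of_cover_lift _ (fun V m => ?_)
    obtain ⟨S, hS, hS'⟩ := h V m
    refine ⟨S, hS, fun W g hg => ?_⟩
    obtain ⟨s, a, ha⟩ := hS' g hg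
    refine ⟨∑ i ∈ s, sec ((toPM O).map (SheafOfModules.ιFree i)) (op W) (a i), ?_⟩
    rw [map_sum, ha]
    exact Finset.sum_congr rfl (fun i _ => sec_descFree_ιFree hT N t W i (a i))

end Site

section Space

variable {X : TopCat.{u}} {O : Sheaf (Opens.grothendieckTopology X) CommRingCat.{u}}
  {ι : Type u}

/-- the sections `s` over `U` generate `F` over `U` (arbitrary family) -/
def GenOnI (F : ModSite.Mod O) (U : Opens X) (s : ι → ((toPM O).obj F).obj (op U)) : Prop :=
  ∀ (V : Opens X) (hV : V ≤ U) (m : ((toPM O).obj F).obj (op V)) (y : X), y ∈ V →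
    ∃ (W : Opens X) (hW : W ≤ V), y ∈ W ∧ ∃ (σ : Finset ι) (a : ι → O.obj.obj (op W)),
      rF F hW m = ∑ i ∈ σ, a i • rF F (hW.trans hV) (s i)

theorem genTI_iff_genOnI (U : Opens X) (F : ModSite.Mod O)
    (s : ι → ((toPM O).obj F).obj (op U)) :
    GenTI (O := O.over U) (oT U) ((ModSite.restr O U).obj F) s ↔ GenOnI F U s := by
  constructor
  · intro h V hV m y hy
    obtain ⟨S, hS, hS'⟩ := h (Over.mk (homOfLE hV)) m
    obtain ⟨W, f, hyW, hf⟩ := exists_nbhd_of_mem_over U (Over.mk (homOfLE hV)) S hS y hy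
    obtain ⟨σ, a, ha⟩ := hS' _ hf
    exact ⟨W, f.le, hyW, σ, a, ha⟩
  · intro h Z m
    let P : Sieve Z.left :=
      { arrows := fun W f => ∃ (σ : Finset ι) (a : ι → O.obj.obj (op W)),
          rF F f.le m = ∑ i ∈ σ, a i • rF F (f.le.trans Z.hom.le) (s i)
        downward_closed := by
          rintro W W' f ⟨σ, a, ha⟩ f'
          refine ⟨σ, fun i => rR f'.le (a i), ?_⟩
          show rF F (f' ≫ f).le m = _
          rw [← rF_rF F f.le f'.le, ha, rF_sum_smul]
          refine Finset.sum_congr rfl (fun i _ => ?_)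
          rw [rF_rF] }
    obtain ⟨S, hS, hS'⟩ := exists_over_cover U Z P (fun y hy => by
      obtain ⟨W, hW, hyW, σ, a, ha⟩ := h Z.left Z.hom.le m y hy
      exact ⟨W, homOfLE hW, hyW, σ, a, ha⟩)
    refine ⟨S, hS, fun Z' g hg => ?_⟩
    obtain ⟨σ, a, ha⟩ := hS' g hg
    exact ⟨σ, a, ha⟩

theorem GenOnI.mono {F : ModSite.Mod O} {U U' : Opens X} (h : U' ≤ U)
    {s : ι → ((toPM O).obj F).obj (op U)} (hs : GenOnI F U s) :
    GenOnI F U' (fun i => rF F h (s i)) := by
  intro V hV m y hy
  obtain ⟨W, hW, hyW, σ, a, ha⟩ := hs V (hV.trans h) m y hy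
  refine ⟨W, hW, hyW, σ, a, ha.trans (Finset.sum_congr rfl (fun i _ => ?_))⟩
  rw [rF_rF]

/-- the generating sections of a member of a local generators datum -/
theorem exists_genOnI_of_localGeneratorsData (F : ModSite.Mod O)
    (σ : SheafOfModules.LocalGeneratorsData.{u} (R := ModSite.ringSh O) F) (i : σ.I) :
    ∃ s : (σ.generators i).I → ((toPM O).obj F).obj (op (σ.X i)), GenOnI F (σ.X i) s := by
  have hepi : Epi (σ.generators i).π := (σ.generators i).epi
  rw [eq_descFree (O := O.over (σ.X i)) (oT (σ.X i)) _ (σ.generators i).π] at hepi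
  exact ⟨_, (genTI_iff_genOnI _ F _).1 ((epi_descFree_iff_genTI _ _ _).1 hepi)⟩

/-- local generating families give a local generators datum -/
theorem nonempty_localGeneratorsData_of_genOnI (F : ModSite.Mod O) {I : Type u}
    (U : I → Opens X) (hU : ∀ x : X, ∃ i, x ∈ U i) (ι : I → Type u)
    (s : ∀ i, ι i → ((toPM O).obj F).obj (op (U i))) (hs : ∀ i, GenOnI F (U i) (s i)) :
    Nonempty (SheafOfModules.LocalGeneratorsData.{u} (R := ModSite.ringSh O) F) := by
  have hepi : ∀ i, Epi (descFree (O := O.over (U i)) (oT (U i)) ((ModSite.restr O (U i)).obj F)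
      (s i)) := fun i =>
    (epi_descFree_iff_genTI _ _ _).2 ((genTI_iff_genOnI _ F _).2 (hs i))
  let gen : ∀ i, (SheafOfModules.over (R := ModSite.ringSh O) F (U i)).GeneratingSections :=
    fun i =>
    { I := ι i
      s := SheafOfModules.freeHomEquiv _ (descFree (O := O.over (U i)) (oT (U i))
        ((ModSite.restr O (U i)).obj F) (s i))
      epi := by rw [Equiv.symm_apply_apply]; exact hepi i }
  let σ : SheafOfModules.LocalGeneratorsData.{u} (R := ModSite.ringSh O) F :=
    { I := I
      X := U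
      coversTop := by
        intro W y hy
        obtain ⟨i, hi⟩ := hU y
        exact ⟨W ⊓ U i, homOfLE inf_le_left, ⟨i, ⟨homOfLE inf_le_right⟩⟩, ⟨hy, hi⟩⟩
      generators := gen }
  exact ⟨σ⟩

end Space

end Groth.Agent.H92.RSGenI
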