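import Groth.Agent.H92.RSGenI
import Groth.Agent.H31.StalkPullbackRS

/-!
# Generating families, stalks and pullbacks on ringed spaces (helper92)

* `genOnI_of_span_eq_top`: a family of sections over `U` whose germs generate every stalk at the
  points of `U` generates the module over `U`.
* `span_eq_top_pull`: if `s` generates `G` over `V`, then the germs of the images of the `s i`
  under the unit `G ⟶ f_* f^* G` generate the stalks of `f^* G` at the points of `f⁻¹ V`.
* `genOnI_pull`: hence these images generate `f^* G` over `f⁻¹ V`.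
-/

set_option autoImplicit false
set_option backward.isDefEq.respectTransparency false
universe u
open CategoryTheory CategoryTheory.Limits Opposite TopologicalSpace

namespace Groth.Agent.H92.RSGenI

open Groth.Agent.H31 Groth.Agent.H31.Stalk Groth.Agent.H31.StalkRS Groth.Agent.H40
  Groth.Agent.H40.FlatBridge2 Groth.Agent.H92.EqCrit Groth.Agent.H92.EqCritConv
  Groth.Agent.H92.RSLocal

section Stalk

variable {X : TopCat.{u}} {O : Sheaf (Opens.grothendieckTopology X) CommRingCat.{u}}
  {ι : Type u}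

lemma gm_rF (F : ModSite.Mod O) (x : X) {U W : Opens X} (h : W ≤ U) (hx : x ∈ W)
    (m : ((toPM O).obj F).obj (op U)) :
    StalkTensor.gm ((toPM O).obj F) x W hx (rF F h m) =
      StalkTensor.gm ((toPM O).obj F) x U (h hx) m :=
  StalkTensor.gm_res ((toPM O).obj F) x (homOfLE h) hx m

lemma germ_rR (x : X) {U W : Opens X} (h : W ≤ U) (hx : x ∈ W) (a : O.obj.obj (op U)) :
    TopCat.Presheaf.germ O.obj W x hx (rR h a) = TopCat.Presheaf.germ O.obj U x (h hx) a :=
  TopCat.Presheaf.germ_res_apply O.obj (homOfLE h) x hx a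

lemma gm_sum_smul (F : ModSite.Mod O) (x : X) (U : Opens X) (hx : x ∈ U) (σ : Finset ι)
    (a : ι → O.obj.obj (op U)) (m : ι → ((toPM O).obj F).obj (op U)) :
    StalkTensor.gm ((toPM O).obj F) x U hx (∑ i ∈ σ, a i • m i) =
      ∑ i ∈ σ, TopCat.Presheaf.germ O.obj U x hx (a i) • StalkTensor.gm ((toPM O).obj F) x U hx (m i) := by
  rw [map_sum]
  exact Finset.sum_congr rfl (fun i _ => StalkTensor.gm_smul ((toPM O).obj F) x U hx (a i) (m i))

/-- sections whose germs generate the stalks generate the module -/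
theorem genOnI_of_span_eq_top (F : ModSite.Mod O) (U : Opens X)
    (t : ι → ((toPM O).obj F).obj (op U))
    (h : ∀ (x : X) (hx : x ∈ U), Submodule.span (StalkTensor.Rx O.obj x)
      (Set.range (fun i => StalkTensor.gm ((toPM O).obj F) x U hx (t i))) = ⊤) :
    GenOnI F U t := by
  classical
  intro V hV m y hy
  have hmem : StalkTensor.gm ((toPM O).obj F) y V hy m ∈
      Submodule.span (StalkTensor.Rx O.obj y)
        (Set.range (fun i => StalkTensor.gm ((toPM O).obj F) y U (hV hy) (t i))) := by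
    rw [h y (hV hy)]
    exact Submodule.mem_top
  obtain ⟨c, hc⟩ := Finsupp.mem_span_range_iff_exists_finsupp.1 hmem
  choose W hyW a ha using fun i => TopCat.Presheaf.exists_germ_eq O.obj (c i)
  let W0 : Opens X := V ⊓ ⨅ i : c.support, W i.1
  have hyW0 : y ∈ W0 := by
    refine ⟨hy, ?_⟩
    rw [Opens.coe_iInf]
    exact Set.mem_iInter.2 (fun i => hyW i.1)
  have hW0V : W0 ≤ V := inf_le_left
  have hW0W : ∀ i ∈ c.support, W0 ≤ W i := fun i hi =>
    inf_le_right.trans (iInf_le (fun j : c.support => W j.1) ⟨i, hi⟩)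
  let a' : ι → O.obj.obj (op W0) := fun i =>
    if hi : i ∈ c.support then rR (hW0W i hi) (a i) else 0
  have ha' : ∀ i ∈ c.support, TopCat.Presheaf.germ O.obj W0 y hyW0 (a' i) = c i := by
    intro i hi
    simp only [a', dif_pos hi]
    rw [germ_rR]
    exact ha i
  let m' : ((toPM O).obj F).obj (op W0) :=
    ∑ i ∈ c.support, a' i • rF F (hW0V.trans hV) (t i)
  have hgerm : StalkTensor.gm ((toPM O).obj F) y W0 hyW0 (rF F hW0V m) =
      StalkTensor.gm ((toPM O).obj F) y W0 hyW0 m' := by
    rw [gm_rF, gm_sum_smul, ← hc, Finsupp.sum]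
    refine Finset.sum_congr rfl (fun i hi => ?_)
    rw [gm_rF, ha' i hi]
  obtain ⟨W', hyW', iU, iV, he⟩ := TopCat.Presheaf.germ_eq ((toPM O).obj F).presheaf y hyW0 hyW0
    _ _ hgerm
  refine ⟨W', iU.le.trans hW0V, hyW', c.support, fun i => rR iU.le (a' i), ?_⟩
  have he' : rF F iU.le (rF F hW0V m) = rF F iU.le m' := he
  rw [rF_rF] at he'
  rw [he', rF_sum_smul]
  refine Finset.sum_congr rfl (fun i _ => ?_)
  rw [rF_rF]

end Stalk

section Pull

variable {X Y : TopCat.{u}} (f : X ⟶ Y) {O_X : TopCat.Sheaf CommRingCat.{u} X}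
  {O_Y : TopCat.Sheaf CommRingCat.{u} Y}
  (c : O_Y ⟶ ((Opens.map f).sheafPushforwardContinuous CommRingCat.{u}
      (Opens.grothendieckTopology Y) (Opens.grothendieckTopology X)).obj O_X)

/-- the unit of `f^* ⊣ f_*` on sections -/
noncomputable def ηS (G : ModSite.Mod O_Y) (W : Opens Y) :
    ((toPM O_Y).obj G).obj (op W) →+
      ((toPM O_X).obj ((FF f c).pull.obj G)).obj (op ((Opens.map f).obj W)) :=
  sec ((toPM O_Y).map ((FF f c).adj.unit.app G)) (op W)

lemma ηS_smul (G : ModSite.Mod O_Y) (W : Opens Y) (r : O_Y.obj.obj (op W))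
    (m : ((toPM O_Y).obj G).obj (op W)) :
    ηS f c G W (r • m) =
      (c.hom.app (op W) r : O_X.obj.obj (op ((Opens.map f).obj W))) • ηS f c G W m :=
  sec_smul ((toPM O_Y).map ((FF f c).adj.unit.app G)) (op W) r m

lemma ηS_rF (G : ModSite.Mod O_Y) {W W' : Opens Y} (h : W' ≤ W)
    (m : ((toPM O_Y).obj G).obj (op W)) :
    ηS f c G W' (rF G h m) =
      rF ((FF f c).pull.obj G) ((Opens.map f).map (homOfLE h)).le (ηS f c G W m) :=
  sec_rM ((toPM O_Y).map ((FF f c).adj.unit.app G)) (homOfLE h) m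

lemma homEquiv_zero_pull (G : ModSite.Mod O_Y) (F : ModSite.Mod O_X) :
    (FF f c).adj.homEquiv G F 0 = 0 := by
  rw [Adjunction.homEquiv_unit, Functor.map_zero, comp_zero]

lemma homEquiv_zero_stk (x : X) (F : ModSite.Mod O_X)
    (Q : ModuleCat.{u} (StalkTensor.Rx O_X.obj x)) :
    (adj O_X x).homEquiv F Q 0 = 0 := by
  rw [Adjunction.homEquiv_unit, Functor.map_zero, comp_zero]

/-- the value of the double transpose of a map out of the stalk of `f^* G` -/
lemma sec_homEquiv_homEquiv (G : ModSite.Mod O_Y) (x : X)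
    (Q : ModuleCat.{u} (StalkTensor.Rx O_X.obj x))
    (π : (stk O_X x).obj ((FF f c).pull.obj G) ⟶ Q) (W : Opens Y)
    (m : ((toPM O_Y).obj G).obj (op W)) (h : f x ∈ W) :
    (show SkSec x Q ((Opens.map f).obj W) from
      sec ((toPM O_Y).map ((FF f c).adj.homEquiv G _ ((adj O_X x).homEquiv _ Q π))) (op W) m)
        ⟨h⟩ =
      π.hom (StalkTensor.gm ((toPM O_X).obj ((FF f c).pull.obj G)) x ((Opens.map f).obj W) h
        (ηS f c G W m)) := by
  rw [Adjunction.homEquiv_unit, Adjunction.homEquiv_unit]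
  rfl

/-- if `s` generates `G` over `V`, the germs of the sections `η (s i)` generate the stalks of
`f^* G` at the points of `f⁻¹ V` -/
theorem span_eq_top_pull {ι : Type u} (G : ModSite.Mod O_Y) (V : Opens Y)
    (s : ι → ((toPM O_Y).obj G).obj (op V)) (hs : GenOnI G V s) (x : X) (hx : f x ∈ V) :
    Submodule.span (StalkTensor.Rx O_X.obj x) (Set.range (fun i =>
      StalkTensor.gm ((toPM O_X).obj ((FF f c).pull.obj G)) x ((Opens.map f).obj V) hx
        (ηS f c G V (s i)))) = ⊤ := by
  classical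
  let FG : ModSite.Mod O_X := (FF f c).pull.obj G
  let N : Submodule (StalkTensor.Rx O_X.obj x) (StalkTensor.St ((toPM O_X).obj FG) x) :=
    Submodule.span (StalkTensor.Rx O_X.obj x) (Set.range (fun i =>
      StalkTensor.gm ((toPM O_X).obj FG) x ((Opens.map f).obj V) hx (ηS f c G V (s i))))
  show N = ⊤
  let Q : ModuleCat.{u} (StalkTensor.Rx O_X.obj x) :=
    ModuleCat.of (StalkTensor.Rx O_X.obj x) (StalkTensor.St ((toPM O_X).obj FG) x ⧸ N)
  let π : (stk O_X x).obj FG ⟶ Q := ModuleCat.ofHom N.mkQ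
  have key : ∀ (W : Opens Y) (m : ((toPM O_Y).obj G).obj (op W)) (h : f x ∈ W),
      StalkTensor.gm ((toPM O_X).obj FG) x ((Opens.map f).obj W) h (ηS f c G W m) ∈ N := by
    intro W m h
    obtain ⟨W', hW', hyW', σ, a, ha⟩ := hs (W ⊓ V) inf_le_right (rF G inf_le_left m) (f x) ⟨h, hx⟩
    have hW'W : W' ≤ W := hW'.trans inf_le_left
    have hW'V : W' ≤ V := hW'.trans inf_le_right
    rw [rF_rF] at ha
    have h1 : StalkTensor.gm ((toPM O_X).obj FG) x ((Opens.map f).obj W) h (ηS f c G W m) =
        StalkTensor.gm ((toPM O_X).obj FG) x ((Opens.map f).obj W') hyW'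
          (ηS f c G W' (rF G hW'W m)) := by
      rw [ηS_rF, gm_rF]
    rw [h1, ha, map_sum, map_sum]
    refine Submodule.sum_mem N (fun i _ => ?_)
    rw [ηS_smul, StalkTensor.gm_smul, ηS_rF, gm_rF]
    exact Submodule.smul_mem N _ (Submodule.subset_span ⟨i, rfl⟩)
  have hzero : (FF f c).adj.homEquiv G _ ((adj O_X x).homEquiv FG Q π) = 0 := by
    apply SheafOfModules.hom_ext
    apply PresheafOfModules.hom_ext
    intro W
    ext m
    refine funext (fun h => ?_)
    refine (sec_homEquiv_homEquiv f c G x Q π W.unop m h.down).trans ?_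
    exact (Submodule.Quotient.mk_eq_zero N).2 (key W.unop m h.down)
  have h2 : (adj O_X x).homEquiv FG Q π = 0 :=
    ((FF f c).adj.homEquiv G _).injective (hzero.trans (homEquiv_zero_pull f c G _).symm)
  have h3 : π = 0 :=
    ((adj O_X x).homEquiv FG Q).injective (h2.trans (homEquiv_zero_stk x FG Q).symm)
  have h4 : N.mkQ = 0 := by
    have := congrArg ModuleCat.Hom.hom h3
    exact this
  rw [← Submodule.ker_mkQ N, h4, LinearMap.ker_zero]

/-- if `s` generates `G` over `V`, the sections `η (s i)` generate `f^* G` over `f⁻¹ V` -/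
theorem genOnI_pull {ι : Type u} (G : ModSite.Mod O_Y) (V : Opens Y)
    (s : ι → ((toPM O_Y).obj G).obj (op V)) (hs : GenOnI G V s) :
    GenOnI ((FF f c).pull.obj G) ((Opens.map f).obj V) (fun i => ηS f c G V (s i)) :=
  genOnI_of_span_eq_top _ _ _ (fun x hx => span_eq_top_pull f c G V s hs x hx)

end Pull

end Groth.Agent.H92.RSGenI
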