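import Groth.Agent.H92.RSCoker

/-!
# The kernel of an epimorphism from a module of finite type onto a finitely presented module is of
finite type (helper92)
-/

set_option autoImplicit false
set_option backward.isDefEq.respectTransparency false
set_option linter.style.haveILetI false
set_option linter.unusedSectionVars false
universe u
open CategoryTheory CategoryTheory.Limits Opposite TopologicalSpace

namespace Groth.Agent.H92.RSLocal

open Groth.Agent.H31 Groth.Agent.H92.EqCrit Groth.Agent.H92.EqCritConv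

variable {X : TopCat.{u}} {O : Sheaf (Opens.grothendieckTopology X) CommRingCat.{u}}

theorem isFiniteType_kernel {G F : ModSite.Mod O} (θ : G ⟶ F) [Epi θ]
    [SheafOfModules.IsFiniteType (R := ModSite.ringSh O) G]
    [SheafOfModules.IsFinitePresentation (R := ModSite.ringSh O) F] :
    SheafOfModules.IsFiniteType (R := ModSite.ringSh O) (kernel θ) := by
  classical
  refine isFiniteType_of_genOn _ (fun x => ?_)
  obtain ⟨U₀, hx₀, ι, κ, hι, hκ, s₀, rel₀, hgen₀, hrel₀⟩ :=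
    exists_relOn_of_isFinitePresentation F x
  obtain ⟨U₀', hx₀', lam, hlam, g₀, hg₀⟩ := exists_genOn_of_isFiniteType G x
  obtain ⟨U₁, hU₁⟩ : ∃ U₁ : Opens X, U₁ = U₀ ⊓ U₀' := ⟨_, rfl⟩
  have h10 : U₁ ≤ U₀ := hU₁ ▸ inf_le_left
  have h10' : U₁ ≤ U₀' := hU₁ ▸ inf_le_right
  have hx₁ : x ∈ U₁ := hU₁ ▸ ⟨hx₀, hx₀'⟩
  -- lift the generators of `F`
  obtain ⟨U₂, hU₂, hx₂, h₂, hh₂⟩ := (locSurjOn_of_epi θ U₁).exists_lift U₁ le_rfl
    (fun i => rF F h10 (s₀ i)) x hx₁
  obtain ⟨U, hU, hxU, B, hB⟩ := hgen₀.exists_matrix U₂ (hU₂.trans h10)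
    (fun l => sF θ U₂ (rF G (hU₂.trans h10') (g₀ l))) x hx₂
  have hU0 : U ≤ U₀ := hU.trans (hU₂.trans h10)
  have hU0' : U ≤ U₀' := hU.trans (hU₂.trans h10')
  -- data over `U`
  obtain ⟨s, hs⟩ : ∃ s : ι → ((toPM O).obj F).obj (op U), s = fun i => rF F hU0 (s₀ i) := ⟨_, rfl⟩
  obtain ⟨rel, hrel'⟩ : ∃ rel : κ → ι → O.obj.obj (op U), rel = fun k i => rR hU0 (rel₀ k i) :=
    ⟨_, rfl⟩
  obtain ⟨g, hg⟩ : ∃ g : lam → ((toPM O).obj G).obj (op U), g = fun l => rF G hU0' (g₀ l) :=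
    ⟨_, rfl⟩
  obtain ⟨h, hh⟩ : ∃ h : ι → ((toPM O).obj G).obj (op U), h = fun i => rF G hU (h₂ i) := ⟨_, rfl⟩
  have hgen : GenOn F U s := hs ▸ hgen₀.mono hU0
  have hrel : RelOn F U s rel := by
    rw [hs, hrel']
    exact hrel₀.mono hU0
  have hgenG : GenOn G U g := hg ▸ hg₀.mono hU0'
  have hθh : ∀ i, sF θ U (h i) = s i := by
    intro i
    rw [hh, hs, sF_rF, hh₂ i, rF_rF, rF_rF]
  have hθg : ∀ l, sF θ U (g l) = ∑ i, B l i • s i := by
    intro l
    have h1 := hB l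
    rw [sF_rF, rF_rF] at h1
    rw [hg, hs, sF_rF]
    refine h1.trans (Finset.sum_congr rfl (fun i _ => ?_))
    rfl
  -- the generators of the kernel
  have hu0 : ∀ l, sF θ U (g l - ∑ i, B l i • h i) = 0 := by
    intro l
    rw [map_sub, sF_sum_smul, hθg l, sub_eq_zero]
    exact Finset.sum_congr rfl (fun i _ => by rw [hθh i])
  have hv0 : ∀ k, sF θ U (∑ i, rel k i • h i) = 0 := by
    intro k
    rw [sF_sum_smul, ← hrel.1 k]
    exact Finset.sum_congr rfl (fun i _ => by rw [hθh i])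
  choose uh huh using fun l => exists_kernel_section θ _ (hu0 l)
  choose vh hvh using fun k => exists_kernel_section θ _ (hv0 k)
  refine ⟨U, hxU, lam ⊕ κ, inferInstance, Sum.elim uh vh, ?_⟩
  intro V hV m' y hy
  obtain ⟨m, hm⟩ : ∃ m, m = sF (kernel.ι θ) V m' := ⟨_, rfl⟩
  have hθm : sF θ V m = 0 := by
    have h1 : sec ((toPM O).map (kernel.ι θ ≫ θ)) (op V) m' = 0 := by
      rw [kernel.condition]
      rfl
    rw [Functor.map_comp, sec_comp] at h1
    rw [hm]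
    exact h1
  obtain ⟨W, hW, hyW, d, hd⟩ := hgenG V hV m y hy
  have hWU : W ≤ U := hW.trans hV
  -- `e i := ∑ l, d l * B l i`
  have h2 : ∑ i, (∑ l, d l * rR hWU (B l i)) • rF F hWU (s i) = 0 := by
    have h3 : sF θ W (rF G hW m) = 0 := by
      rw [sF_rF, hθm, map_zero]
    rw [hd, sF_sum_smul] at h3
    rw [← sum_smul_sum, ← h3]
    refine Finset.sum_congr rfl (fun l _ => ?_)
    rw [sF_rF, hθg l, rF_sum_smul]
  obtain ⟨W', hW', hyW', c, hc⟩ := hrel.2 W hWU _ h2 y hyW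
  have hW'U : W' ≤ U := hW'.trans hWU
  refine ⟨W', hW'.trans hW, hyW', Sum.elim (fun l => rR hW' (d l)) c, ?_⟩
  apply injective_of_mono (kernel.ι θ) W'
  show sF (kernel.ι θ) W' _ = sF (kernel.ι θ) W' _
  rw [sF_rF, ← hm, sF_sum_smul, Fintype.sum_sum_type]
  simp only [Sum.elim_inl, Sum.elim_inr]
  have h4 : ∀ l, sF (kernel.ι θ) W' (rF (kernel θ) ((hW'.trans hW).trans hV) (uh l)) =
      rF G hW'U (g l) - ∑ i, rR hW'U (B l i) • rF G hW'U (h i) := by
    intro l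
    rw [sF_rF, huh l, map_sub, rF_sum_smul]
  have h5 : ∀ k, sF (kernel.ι θ) W' (rF (kernel θ) ((hW'.trans hW).trans hV) (vh k)) =
      ∑ i, rR hW'U (rel k i) • rF G hW'U (h i) := by
    intro k
    rw [sF_rF, hvh k, rF_sum_smul]
  have hA : ∑ l, rR hW' (d l) •
      sF (kernel.ι θ) W' (rF (kernel θ) ((hW'.trans hW).trans hV) (uh l)) =
      ∑ l, (rR hW' (d l) • rF G hW'U (g l) -
        rR hW' (d l) • ∑ i, rR hW'U (B l i) • rF G hW'U (h i)) :=
    Finset.sum_congr rfl (fun l _ => by rw [h4 l, smul_sub])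
  have hB' : ∑ k, c k • sF (kernel.ι θ) W' (rF (kernel θ) ((hW'.trans hW).trans hV) (vh k)) =
      ∑ k, c k • ∑ i, rR hW'U (rel k i) • rF G hW'U (h i) :=
    Finset.sum_congr rfl (fun k _ => by rw [h5 k])
  have hC : rF G (hW'.trans hW) m = ∑ l, rR hW' (d l) • rF G hW'U (g l) := by
    rw [← rF_rF G hW hW', hd, rF_sum_smul]
    exact Finset.sum_congr rfl (fun l _ => by rw [rF_rF])
  rw [hA, hB', hC]
  rw [Finset.sum_sub_distrib, sum_smul_sum, sum_smul_sum, sub_add_eq_add_sub, eq_sub_iff_add_eq]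
  congr 1
  refine Finset.sum_congr rfl (fun i _ => ?_)
  congr 1
  have h6 := hc i
  rw [map_sum] at h6
  simp_rw [map_mul, rR_rR] at h6
  exact h6

end Groth.Agent.H92.RSLocal
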