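import Groth.Agent.H92.StalkFlat
import Groth.Agent.H92.SheafLocal
import Groth.Agent.H53.ModEpi
import Groth.Agent.H53.FreeOn

/-!
# Sheaves of modules on a ringed site through their sections (helper92)

Epimorphisms / monomorphisms of sheaves of modules in terms of sections, sections of kernels.
-/

set_option autoImplicit false
set_option backward.isDefEq.respectTransparency false
universe u
open CategoryTheory CategoryTheory.Limits Opposite

namespace Groth.Agent.H92.RSLocal

open Groth.Agent.H31 Groth.Agent.H92.EqCrit Groth.Agent.H92.EqCritConv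

variable {C : Type u} [SmallCategory C] {J : GrothendieckTopology C} {O : Sheaf J CommRingCat.{u}}

/-- an epimorphism is locally surjective on sections -/
theorem exists_cover_lift_of_epi {A B : ModSite.Mod O} (φ : A ⟶ B) [Epi φ] {V : C}
    (b : ((toPM O).obj B).obj (op V)) :
    ∃ S ∈ J V, ∀ ⦃W : C⦄ (g : W ⟶ V), S g → ∃ a : ((toPM O).obj A).obj (op W),
      sec ((toPM O).map φ) (op W) a = rM ((toPM O).obj B) g b := by
  haveI := Groth.Agent.H53.toSheaf_map_epi (ModSite.ringSh O) φ
  exact Groth.Agent.H92.SheafLocal.exists_cover_lift_of_epi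
    ((SheafOfModules.toSheaf (ModSite.ringSh O)).map φ) b

/-- a morphism which is locally surjective on sections is an epimorphism -/
theorem epi_of_cover_lift {A B : ModSite.Mod O} (φ : A ⟶ B)
    (h : ∀ (V : C) (b : ((toPM O).obj B).obj (op V)),
      ∃ S ∈ J V, ∀ ⦃W : C⦄ (g : W ⟶ V), S g → ∃ a : ((toPM O).obj A).obj (op W),
        sec ((toPM O).map φ) (op W) a = rM ((toPM O).obj B) g b) : Epi φ := by
  have hls : Presheaf.IsLocallySurjective J
      ((SheafOfModules.toSheaf (ModSite.ringSh O)).map φ).hom := by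
    refine ⟨fun {V} b => ?_⟩
    obtain ⟨S, hS, hS'⟩ := h V b
    exact J.superset_covering (fun W g hg => hS' g hg) hS
  have hepi : Epi ((SheafOfModules.toSheaf (ModSite.ringSh O)).map φ) :=
    (Sheaf.isLocallySurjective_iff_epi' _ _).1 hls
  exact (SheafOfModules.toSheaf (ModSite.ringSh O)).epi_of_epi_map hepi

/-- a monomorphism is injective on sections -/
theorem injective_of_mono {A B : ModSite.Mod O} (φ : A ⟶ B) [Mono φ] (V : C) :
    Function.Injective (sec ((toPM O).map φ) (op V)) := by
  intro a a' h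
  have h1 : (Groth.Agent.H53.freeOnHomEquiv O V A).symm a ≫ φ =
      (Groth.Agent.H53.freeOnHomEquiv O V A).symm a' ≫ φ := by
    rw [Groth.Agent.H53.freeOnHomEquiv_symm_comp, Groth.Agent.H53.freeOnHomEquiv_symm_comp]
    exact congrArg _ h
  exact (Groth.Agent.H53.freeOnHomEquiv O V A).symm.injective ((cancel_mono φ).1 h1)

/-- a morphism injective on sections is a monomorphism -/
theorem mono_of_injective {A B : ModSite.Mod O} (φ : A ⟶ B)
    (h : ∀ V : C, Function.Injective (sec ((toPM O).map φ) (op V))) : Mono φ := by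
  have h1 : ∀ V : Cᵒᵖ, Mono (((SheafOfModules.toSheaf (ModSite.ringSh O)).map φ).hom.app V) := by
    intro V
    rw [AddCommGrpCat.mono_iff_injective]
    exact h V.unop
  have h2 : Mono ((SheafOfModules.toSheaf (ModSite.ringSh O)).map φ).hom :=
    NatTrans.mono_of_mono_app _
  have h3 : Mono ((SheafOfModules.toSheaf (ModSite.ringSh O)).map φ) :=
    Sheaf.Hom.mono_of_presheaf_mono _ _ _
  exact (SheafOfModules.toSheaf (ModSite.ringSh O)).mono_of_mono_map h3

/-- sections of a kernel -/
theorem exists_kernel_section {A B : ModSite.Mod O} (φ : A ⟶ B) {V : C}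
    (z : ((toPM O).obj A).obj (op V)) (hz : sec ((toPM O).map φ) (op V) z = 0) :
    ∃ w : ((toPM O).obj (kernel φ)).obj (op V),
      sec ((toPM O).map (kernel.ι φ)) (op V) w = z := by
  have h0 : (Groth.Agent.H53.freeOnHomEquiv O V B).symm
      (0 : B.val.obj (op V)) = 0 := by
    apply (Groth.Agent.H53.freeOnHomEquiv O V B).injective
    rw [Equiv.apply_symm_apply]
    have := Groth.Agent.H53.freeOnHomEquiv_comp O V (0 : ModSite.freeOn O V ⟶ B) (0 : B ⟶ B)
    rw [comp_zero] at this
    exact this.symm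
  have h1 : (Groth.Agent.H53.freeOnHomEquiv O V A).symm z ≫ φ = 0 := by
    rw [Groth.Agent.H53.freeOnHomEquiv_symm_comp]
    exact (congrArg _ hz).trans h0
  refine ⟨Groth.Agent.H53.freeOnHomEquiv O V (kernel φ)
    (kernel.lift φ ((Groth.Agent.H53.freeOnHomEquiv O V A).symm z) h1), ?_⟩
  have h2 := Groth.Agent.H53.freeOnHomEquiv_comp O V
    (kernel.lift φ ((Groth.Agent.H53.freeOnHomEquiv O V A).symm z) h1) (kernel.ι φ)
  rw [kernel.lift_ι, Equiv.apply_symm_apply] at h2
  exact h2.symm

/-- locally zero sections vanish -/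
theorem eq_zero_of_cover (A : ModSite.Mod O) {V : C} (z : ((toPM O).obj A).obj (op V))
    (S : Sieve V) (hS : S ∈ J V)
    (h : ∀ ⦃W : C⦄ (g : W ⟶ V), S g → rM ((toPM O).obj A) g z = 0) : z = 0 :=
  Groth.Agent.H92.SheafLocal.eq_zero_of_cover (ModSite.toAb A) z S hS h

/-- locally zero sections of the structure sheaf vanish -/
theorem eq_zero_of_cover_ring {V : C} (z : O.obj.obj (op V))
    (S : Sieve V) (hS : S ∈ J V)
    (h : ∀ ⦃W : C⦄ (g : W ⟶ V), S g → rO g z = 0) : z = 0 :=
  eq_zero_of_cover (SheafOfModules.unit (ModSite.ringSh O)) z S hS h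

end Groth.Agent.H92.RSLocal
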