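import Groth.Agent.H92.RSLocalA
import Mathlib.Algebra.Category.ModuleCat.Sheaf.Free
import Mathlib.Algebra.Category.ModuleCat.Sheaf.Abelian

/-!
# Free sheaves of modules of finite rank on a ringed site with a terminal object (helper92)

Sections of `free ι` (`ι` finite) are families of sections of `O`; morphisms `free ι ⟶ N` are
families of global sections of `N`; epi / mono / iso criteria.
-/

set_option autoImplicit false
set_option backward.isDefEq.respectTransparency false
universe u
open CategoryTheory CategoryTheory.Limits Opposite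

namespace Groth.Agent.H92.RSLocal

open Groth.Agent.H31 Groth.Agent.H92.EqCrit Groth.Agent.H92.EqCritConv

variable {C : Type u} [SmallCategory C] {J : GrothendieckTopology C} {O : Sheaf J CommRingCat.{u}}

section Free

variable {ι : Type u}

/-- the `i`-th coordinate projection of a free module -/
noncomputable def prF [DecidableEq ι] (i : ι) :
    SheafOfModules.free (R := ModSite.ringSh O) ι ⟶ SheafOfModules.unit (ModSite.ringSh O) :=
  Cofan.IsColimit.desc (SheafOfModules.isColimitFreeCofan ι)
    (fun j => if j = i then 𝟙 _ else 0)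

lemma ιFree_prF [DecidableEq ι] (j i : ι) :
    SheafOfModules.ιFree (R := ModSite.ringSh O) j ≫ prF i = if j = i then 𝟙 _ else 0 :=
  Cofan.IsColimit.fac (SheafOfModules.isColimitFreeCofan ι) _ j

lemma sum_prF_ιFree [DecidableEq ι] [Fintype ι] :
    ∑ i : ι, prF (O := O) i ≫ SheafOfModules.ιFree i = 𝟙 (SheafOfModules.free ι) := by
  refine Cofan.IsColimit.hom_ext (SheafOfModules.isColimitFreeCofan ι) _ _ (fun j => ?_)
  show SheafOfModules.ιFree j ≫ _ = SheafOfModules.ιFree j ≫ _
  rw [Preadditive.comp_sum, Category.comp_id]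
  rw [Finset.sum_eq_single j]
  · rw [← Category.assoc, ιFree_prF, if_pos rfl, Category.id_comp]
  · intro i _ hi
    rw [← Category.assoc, ιFree_prF, if_neg (Ne.symm hi), zero_comp]
  · intro h
    exact absurd (Finset.mem_univ j) h

/-- the coordinates of a section of a free module -/
noncomputable def coord [DecidableEq ι] (V : C)
    (z : ((toPM O).obj (SheafOfModules.free (R := ModSite.ringSh O) ι)).obj (op V)) (i : ι) :
    O.obj.obj (op V) :=
  sec ((toPM O).map (prF i)) (op V) z

/-- the section of a free module with given coordinates -/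
noncomputable def comb [Fintype ι] (V : C) (a : ι → O.obj.obj (op V)) :
    ((toPM O).obj (SheafOfModules.free (R := ModSite.ringSh O) ι)).obj (op V) :=
  ∑ i, sec ((toPM O).map (SheafOfModules.ιFree i)) (op V) (a i)

lemma comb_coord [DecidableEq ι] [Fintype ι] (V : C)
    (z : ((toPM O).obj (SheafOfModules.free (R := ModSite.ringSh O) ι)).obj (op V)) :
    comb V (coord V z) = z := by
  have h1 : sec ((toPM O).map (∑ i : ι, prF (O := O) i ≫ SheafOfModules.ιFree i)) (op V) z = z := by
    rw [sum_prF_ιFree, CategoryTheory.Functor.map_id]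
    rfl
  rw [sec_toPM_sum] at h1
  refine Eq.trans ?_ h1
  unfold comb coord
  refine Finset.sum_congr rfl (fun i _ => ?_)
  rw [Functor.map_comp, sec_comp]

lemma coord_comb [DecidableEq ι] [Fintype ι] (V : C) (a : ι → O.obj.obj (op V)) (j : ι) :
    coord V (comb V a) j = a j := by
  unfold coord comb
  rw [map_sum]
  rw [Finset.sum_eq_single j]
  · rw [← sec_comp, ← Functor.map_comp, ιFree_prF, if_pos rfl, CategoryTheory.Functor.map_id]
    rfl
  · intro i _ hi
    rw [← sec_comp, ← Functor.map_comp, ιFree_prF, if_neg hi]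
    rfl
  · intro h
    exact absurd (Finset.mem_univ j) h

lemma rM_comb [Fintype ι] {V W : C} (g : W ⟶ V) (a : ι → O.obj.obj (op V)) :
    rM ((toPM O).obj (SheafOfModules.free (R := ModSite.ringSh O) ι)) g (comb V a) =
      comb W (fun i => rO g (a i)) := by
  unfold comb
  rw [map_sum]
  refine Finset.sum_congr rfl (fun i _ => ?_)
  exact (sec_rM ((toPM O).map (SheafOfModules.ιFree i)) g (a i)).symm

end Free

section Terminal

variable {T : C} (hT : IsTerminal T) {ι : Type u}

/-- the morphism from a free module given by a family of global sections -/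
noncomputable def descFree (N : ModSite.Mod O) (t : ι → ((toPM O).obj N).obj (op T)) :
    SheafOfModules.free (R := ModSite.ringSh O) ι ⟶ N :=
  Cofan.IsColimit.desc (SheafOfModules.isColimitFreeCofan ι) (fun i => sHom hT N (t i))

lemma ιFree_descFree (N : ModSite.Mod O) (t : ι → ((toPM O).obj N).obj (op T)) (i : ι) :
    SheafOfModules.ιFree i ≫ descFree hT N t = sHom hT N (t i) :=
  Cofan.IsColimit.fac (SheafOfModules.isColimitFreeCofan ι) _ i

/-- every morphism from a free module is given by a family of global sections -/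
lemma eq_descFree (N : ModSite.Mod O) (f : SheafOfModules.free (R := ModSite.ringSh O) ι ⟶ N) :
    f = descFree hT N (fun i => ExtZero.unitHomAddEquiv N hT (SheafOfModules.ιFree i ≫ f)) := by
  refine Cofan.IsColimit.hom_ext (SheafOfModules.isColimitFreeCofan ι) _ _ (fun i => ?_)
  show SheafOfModules.ιFree i ≫ f = SheafOfModules.ιFree i ≫ _
  rw [ιFree_descFree]
  exact ((ExtZero.unitHomAddEquiv N hT).symm_apply_apply _).symm

lemma descFree_comp {N N' : ModSite.Mod O} (t : ι → ((toPM O).obj N).obj (op T)) (φ : N ⟶ N') :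
    descFree hT N t ≫ φ = descFree hT N' (fun i => sec ((toPM O).map φ) (op T) (t i)) := by
  refine Cofan.IsColimit.hom_ext (SheafOfModules.isColimitFreeCofan ι) _ _ (fun i => ?_)
  show SheafOfModules.ιFree i ≫ _ = SheafOfModules.ιFree i ≫ _
  rw [← Category.assoc, ιFree_descFree, ιFree_descFree]
  apply (ExtZero.unitHomAddEquiv N' hT).injective
  rw [unitHomAddEquiv_sHom]
  show sec ((toPM O).map φ) (op T) (ExtZero.unitHomAddEquiv N hT (sHom hT N (t i))) = _
  rw [unitHomAddEquiv_sHom]

lemma sec_descFree_comb [Fintype ι] (N : ModSite.Mod O) (t : ι → ((toPM O).obj N).obj (op T))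
    (V : C) (a : ι → O.obj.obj (op V)) :
    sec ((toPM O).map (descFree hT N t)) (op V) (comb V a) =
      ∑ i, a i • rM ((toPM O).obj N) (hT.from V) (t i) := by
  unfold comb
  rw [map_sum]
  refine Finset.sum_congr rfl (fun i _ => ?_)
  rw [← sec_comp, ← Functor.map_comp, ιFree_descFree]
  exact sec_sHom hT N (t i) (op V) (a i)

lemma sec_descFree [DecidableEq ι] [Fintype ι] (N : ModSite.Mod O)
    (t : ι → ((toPM O).obj N).obj (op T)) (V : C)
    (z : ((toPM O).obj (SheafOfModules.free (R := ModSite.ringSh O) ι)).obj (op V)) :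
    sec ((toPM O).map (descFree hT N t)) (op V) z =
      ∑ i, coord V z i • rM ((toPM O).obj N) (hT.from V) (t i) := by
  rw [← sec_descFree_comb hT N t V (coord V z), comb_coord]

/-- the family `t` generates `N` (locally every section is a combination of the `t i`) -/
def GenT [Fintype ι] (N : ModSite.Mod O) (t : ι → ((toPM O).obj N).obj (op T)) : Prop :=
  ∀ (V : C) (m : ((toPM O).obj N).obj (op V)),
    ∃ S ∈ J V, ∀ ⦃W : C⦄ (g : W ⟶ V), S g → ∃ a : ι → O.obj.obj (op W),
      rM ((toPM O).obj N) g m = ∑ i, a i • rM ((toPM O).obj N) (hT.from W) (t i)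

/-- the family `t` is linearly independent over every object -/
def IndepT [Fintype ι] (N : ModSite.Mod O) (t : ι → ((toPM O).obj N).obj (op T)) : Prop :=
  ∀ (V : C) (a : ι → O.obj.obj (op V)),
    ∑ i, a i • rM ((toPM O).obj N) (hT.from V) (t i) = 0 → ∀ i, a i = 0

theorem epi_descFree_iff [Fintype ι] (N : ModSite.Mod O) (t : ι → ((toPM O).obj N).obj (op T)) :
    Epi (descFree hT N t) ↔ GenT hT N t := by
  classical
  constructor
  · intro h V m
    obtain ⟨S, hS, hS'⟩ := exists_cover_lift_of_epi (descFree hT N t) m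
    refine ⟨S, hS, fun W g hg => ?_⟩
    obtain ⟨z, hz⟩ := hS' g hg
    exact ⟨coord W z, hz.symm.trans (sec_descFree hT N t W z)⟩
  · intro h
    refine epi_of_cover_lift _ (fun V m => ?_)
    obtain ⟨S, hS, hS'⟩ := h V m
    refine ⟨S, hS, fun W g hg => ?_⟩
    obtain ⟨a, ha⟩ := hS' g hg
    exact ⟨comb W a, (sec_descFree_comb hT N t W a).trans ha.symm⟩

theorem mono_descFree_iff [Fintype ι] (N : ModSite.Mod O) (t : ι → ((toPM O).obj N).obj (op T)) :
    Mono (descFree hT N t) ↔ IndepT hT N t := by
  classical
  constructor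
  · intro h V a ha i
    have h1 : sec ((toPM O).map (descFree hT N t)) (op V) (comb V a) =
        sec ((toPM O).map (descFree hT N t)) (op V) 0 := by
      rw [sec_descFree_comb, ha, map_zero]
    have h2 := injective_of_mono (descFree hT N t) V h1
    have h3 := coord_comb V a i
    rw [h2] at h3
    refine h3.symm.trans ?_
    unfold coord
    rw [map_zero]
  · intro h
    refine mono_of_injective _ (fun V => ?_)
    rw [injective_iff_map_eq_zero]
    intro z hz
    rw [sec_descFree] at hz
    have h1 := h V (coord V z) hz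
    rw [← comb_coord V z]
    unfold comb
    refine Finset.sum_eq_zero (fun i _ => ?_)
    rw [h1 i, map_zero]

theorem isIso_descFree_iff [Fintype ι] (N : ModSite.Mod O)
    (t : ι → ((toPM O).obj N).obj (op T)) :
    IsIso (descFree hT N t) ↔ GenT hT N t ∧ IndepT hT N t := by
  rw [← epi_descFree_iff, ← mono_descFree_iff]
  constructor
  · intro h
    exact ⟨inferInstance, inferInstance⟩
  · rintro ⟨h1, h2⟩
    exact isIso_of_mono_of_epi _

theorem nonempty_iso_free_iff [Fintype ι] (N : ModSite.Mod O) :
    Nonempty (N ≅ SheafOfModules.free (R := ModSite.ringSh O) ι) ↔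
      ∃ t : ι → ((toPM O).obj N).obj (op T), GenT hT N t ∧ IndepT hT N t := by
  constructor
  · rintro ⟨e⟩
    refine ⟨fun i => ExtZero.unitHomAddEquiv N hT (SheafOfModules.ιFree i ≫ e.inv),
      (isIso_descFree_iff hT N _).1 ?_⟩
    rw [← eq_descFree hT N e.inv]
    infer_instance
  · rintro ⟨t, ht⟩
    have := (isIso_descFree_iff hT N t).2 ht
    exact ⟨(asIso (descFree hT N t)).symm⟩

end Terminal

end Groth.Agent.H92.RSLocal
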