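import Groth.Agent.H92.RSLocalT
import Mathlib.Algebra.Category.ModuleCat.Sheaf.LocallyFree

/-!
# Finite type / finite presentation / freeness of modules on a ringed space through sections
(helper92)
-/

set_option autoImplicit false
set_option backward.isDefEq.respectTransparency false
set_option linter.style.haveILetI false
universe u
open CategoryTheory CategoryTheory.Limits Opposite TopologicalSpace

namespace Groth.Agent.H92.RSLocal

open Groth.Agent.H31 Groth.Agent.H92.EqCrit Groth.Agent.H92.EqCritConv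

variable {X : TopCat.{u}} {O : Sheaf (Opens.grothendieckTopology X) CommRingCat.{u}}

section Mono

variable {ι κ : Type u} [Fintype ι] [Fintype κ]

theorem GenOn.mono {F : ModSite.Mod O} {U U' : Opens X} (h : U' ≤ U)
    {s : ι → ((toPM O).obj F).obj (op U)} (hs : GenOn F U s) :
    GenOn F U' (fun i => rF F h (s i)) := by
  intro V hV m y hy
  obtain ⟨W, hW, hyW, a, ha⟩ := hs V (hV.trans h) m y hy
  refine ⟨W, hW, hyW, a, ha.trans (Finset.sum_congr rfl (fun i _ => ?_))⟩
  rw [rF_rF]

theorem IndepOn.mono {F : ModSite.Mod O} {U U' : Opens X} (h : U' ≤ U)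
    {s : ι → ((toPM O).obj F).obj (op U)} (hs : IndepOn F U s) :
    IndepOn F U' (fun i => rF F h (s i)) := by
  intro V hV a ha
  refine hs V (hV.trans h) a (Eq.trans (Finset.sum_congr rfl (fun i _ => ?_)) ha)
  rw [rF_rF]

theorem RelOn.mono {F : ModSite.Mod O} {U U' : Opens X} (h : U' ≤ U)
    {s : ι → ((toPM O).obj F).obj (op U)} {r : κ → ι → O.obj.obj (op U)} (hs : RelOn F U s r) :
    RelOn F U' (fun i => rF F h (s i)) (fun k i => rR h (r k i)) := by
  refine ⟨fun k => ?_, fun V hV a ha y hy => ?_⟩
  · rw [← rF_sum_smul, hs.1 k, map_zero]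
  · obtain ⟨W, hW, hyW, c, hc⟩ := hs.2 V (hV.trans h) a
      (Eq.trans (Finset.sum_congr rfl (fun i _ => by rw [rF_rF])) ha) y hy
    refine ⟨W, hW, hyW, c, fun i => (hc i).trans (Finset.sum_congr rfl (fun k _ => ?_))⟩
    rw [rR_rR]

end Mono

theorem exists_genOn_of_isFiniteType (F : ModSite.Mod O)
    [hF : SheafOfModules.IsFiniteType (R := ModSite.ringSh O) F] (x : X) :
    ∃ U : Opens X, x ∈ U ∧ ∃ (ι : Type u) (_ : Fintype ι)
      (s : ι → ((toPM O).obj F).obj (op U)), GenOn F U s := by
  obtain ⟨σ, hσ⟩ := hF.exists_localGeneratorsData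
  obtain ⟨W, f, ⟨i, ⟨g⟩⟩, hxW⟩ := σ.coversTop ⊤ x trivial
  have hxU : x ∈ σ.X i := g.le hxW
  have hfin : Finite (σ.generators i).I := (hσ.isFiniteType i).finite
  letI : Fintype (σ.generators i).I := Fintype.ofFinite _
  refine ⟨σ.X i, hxU, (σ.generators i).I, inferInstance, ?_⟩
  have hepi : Epi (σ.generators i).π := (σ.generators i).epi
  rw [eq_descFree (O := O.over (σ.X i)) (oT (σ.X i)) _ (σ.generators i).π] at hepi
  exact ⟨_, (genT_iff_genOn _ F _).1 ((epi_descFree_iff _ _ _).1 hepi)⟩

theorem isFiniteType_of_genOn (F : ModSite.Mod O)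
    (h : ∀ x : X, ∃ U : Opens X, x ∈ U ∧ ∃ (ι : Type u) (_ : Fintype ι)
      (s : ι → ((toPM O).obj F).obj (op U)), GenOn F U s) :
    SheafOfModules.IsFiniteType (R := ModSite.ringSh O) F := by
  choose U hxU ι hι s hs using h
  have hepi : ∀ x, Epi (descFree (O := O.over (U x)) (oT (U x)) ((ModSite.restr O (U x)).obj F)
      (s x)) := fun x => by
    letI := hι x
    exact (epi_descFree_iff _ _ _).2 ((genT_iff_genOn _ F _).2 (hs x))
  let gen : ∀ x, (SheafOfModules.over (R := ModSite.ringSh O) F (U x)).GeneratingSections :=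
    fun x =>
    { I := ι x
      s := SheafOfModules.freeHomEquiv _ (descFree (O := O.over (U x)) (oT (U x))
        ((ModSite.restr O (U x)).obj F) (s x))
      epi := by rw [Equiv.symm_apply_apply]; exact hepi x }
  let σ : SheafOfModules.LocalGeneratorsData.{u} (R := ModSite.ringSh O) F :=
    { I := X
      X := U
      coversTop := by
        intro W y hy
        exact ⟨W ⊓ U y, homOfLE inf_le_left, ⟨y, ⟨homOfLE inf_le_right⟩⟩, ⟨hy, hxU y⟩⟩
      generators := gen }
  have hσ : σ.IsFiniteType := by
    constructor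
    intro x
    constructor
    letI := hι x
    exact inferInstanceAs (Finite (ι x))
  constructor
  exact ⟨σ, hσ⟩

theorem exists_relOn_of_isFinitePresentation (F : ModSite.Mod O)
    [hF : SheafOfModules.IsFinitePresentation (R := ModSite.ringSh O) F] (x : X) :
    ∃ U : Opens X, x ∈ U ∧ ∃ (ι κ : Type u) (_ : Fintype ι) (_ : Fintype κ)
      (s : ι → ((toPM O).obj F).obj (op U)) (r : κ → ι → O.obj.obj (op U)),
      GenOn F U s ∧ RelOn F U s r := by
  obtain ⟨σ, hσ⟩ := hF.exists_quasicoherentData
  obtain ⟨W, f, ⟨i, ⟨g⟩⟩, hxW⟩ := σ.coversTop ⊤ x trivial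
  have hxU : x ∈ σ.X i := g.le hxW
  have hP := hσ.isFinite_presentation i
  have hfin : Finite (σ.presentation i).generators.I := hP.isFiniteType_generators.finite
  have hfin' : Finite (σ.presentation i).relations.I := hP.isFiniteType_relations.finite
  letI : Fintype (σ.presentation i).generators.I := Fintype.ofFinite _
  letI : Fintype (σ.presentation i).relations.I := Fintype.ofFinite _
  have h1 : Epi (σ.presentation i).generators.π := (σ.presentation i).generators.epi
  have h2 : Epi (σ.presentation i).relations.π := (σ.presentation i).relations.epi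
  obtain ⟨t, r, ht, hr⟩ := exists_of_presentation (O := O.over (σ.X i)) (oT (σ.X i))
    ((ModSite.restr O (σ.X i)).obj F) (σ.presentation i).generators.π
    (σ.presentation i).relations.π
  exact ⟨σ.X i, hxU, _, _, inferInstance, inferInstance, t, r,
    (genT_iff_genOn _ F _).1 ht, (relT_iff_relOn _ F _ _).1 hr⟩

theorem isFinitePresentation_of_relOn (F : ModSite.Mod O)
    (h : ∀ x : X, ∃ U : Opens X, x ∈ U ∧ ∃ (ι κ : Type u) (_ : Fintype ι) (_ : Fintype κ)
      (s : ι → ((toPM O).obj F).obj (op U)) (r : κ → ι → O.obj.obj (op U)),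
      GenOn F U s ∧ RelOn F U s r) :
    SheafOfModules.IsFinitePresentation (R := ModSite.ringSh O) F := by
  choose U hxU ι κ hι hκ s r hs hr using h
  have hP : ∀ x, ∃ P : (SheafOfModules.over (R := ModSite.ringSh O) F (U x)).Presentation,
      P.generators.I = ι x ∧ P.relations.I = κ x := fun x => by
    letI := hι x
    letI := hκ x
    exact exists_presentation (O := O.over (U x)) (oT (U x)) ((ModSite.restr O (U x)).obj F)
      (s x) (r x) ((genT_iff_genOn _ F _).2 (hs x)) ((relT_iff_relOn _ F _ _).2 (hr x))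
  choose P hP1 hP2 using hP
  let σ : SheafOfModules.QuasicoherentData.{u} (R := ModSite.ringSh O) F :=
    { I := X
      X := U
      coversTop := by
        intro W y hy
        exact ⟨W ⊓ U y, homOfLE inf_le_left, ⟨y, ⟨homOfLE inf_le_right⟩⟩, ⟨hy, hxU y⟩⟩
      presentation := P }
  have hσ : σ.IsFinitePresentation := by
    constructor
    intro x
    letI := hι x
    letI := hκ x
    constructor
    · constructor
      show Finite (P x).generators.I
      rw [hP1 x]
      infer_instance
    · constructor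
      show Finite (P x).relations.I
      rw [hP2 x]
      infer_instance
  constructor
  exact ⟨σ, hσ⟩

theorem nonempty_iso_free_iff_on (F : ModSite.Mod O) (U : Opens X) (ι : Type u) [Fintype ι] :
    Nonempty ((ModSite.restr O U).obj F ≅
        SheafOfModules.free (R := ModSite.ringSh (O.over U)) ι) ↔
      ∃ s : ι → ((toPM O).obj F).obj (op U), GenOn F U s ∧ IndepOn F U s := by
  rw [nonempty_iso_free_iff (O := O.over U) (oT U)]
  constructor
  · rintro ⟨t, h1, h2⟩
    exact ⟨t, (genT_iff_genOn _ F _).1 h1, (indepT_iff_indepOn _ F _).1 h2⟩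
  · rintro ⟨t, h1, h2⟩
    exact ⟨t, (genT_iff_genOn _ F _).2 h1, (indepT_iff_indepOn _ F _).2 h2⟩

end Groth.Agent.H92.RSLocal
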