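import Groth.Agent.H92.RSLocalF
import Mathlib.LinearAlgebra.Matrix.NonsingularInverse

/-!
# Epimorphisms of free modules of the same finite rank, and shrinking lemmas (helper92)
-/

set_option autoImplicit false
set_option backward.isDefEq.respectTransparency false
set_option linter.style.haveILetI false
universe u
open CategoryTheory CategoryTheory.Limits Opposite TopologicalSpace

namespace Groth.Agent.H92.RSLocal

open Groth.Agent.H31 Groth.Agent.H92.EqCrit Groth.Agent.H92.EqCritConv

section Site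

variable {C : Type u} [SmallCategory C] {J : GrothendieckTopology C} {O : Sheaf J CommRingCat.{u}}

theorem finite_inf_mem {V : C} {κ : Type*} [Fintype κ] (S : κ → Sieve V) (hS : ∀ k, S k ∈ J V) :
    Finset.univ.inf S ∈ J V := by
  classical
  refine Finset.induction_on (Finset.univ : Finset κ) ?_ ?_
  · rw [Finset.inf_empty]
    exact J.top_mem V
  · intro a s _ ih
    rw [Finset.inf_insert]
    exact J.intersection_covering (hS a) ih

variable {T : C} (hT : IsTerminal T) {ι : Type u} [Fintype ι]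

lemma rO_from {V W : C} (g : W ⟶ V) (a : O.obj.obj (op T)) :
    rO (hT.from W) a = rO g (rO (hT.from V) a) := by
  rw [← rO_comp]
  exact congrArg (fun f => rO f a) (hT.hom_ext _ _)

include hT in
/-- an epimorphism between free modules of the same finite rank is a monomorphism -/
theorem mono_of_epi_free
    (ψ : SheafOfModules.free (R := ModSite.ringSh O) ι ⟶ SheafOfModules.free ι) [Epi ψ] :
    Mono ψ := by
  classical
  obtain ⟨t, ht⟩ : ∃ t, ψ = descFree hT _ t := ⟨_, eq_descFree hT _ ψ⟩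
  obtain ⟨A, hA⟩ : ∃ A : ι → ι → O.obj.obj (op T), A = fun i j => coord T (t i) j := ⟨_, rfl⟩
  have htA : t = fun i => comb T (A i) := by
    funext i
    rw [hA]
    exact (comb_coord T (t i)).symm
  have hgen : GenT hT _ t := (epi_descFree_iff hT _ t).1 (ht ▸ inferInstance)
  rw [ht, mono_descFree_iff]
  intro V a ha
  have hA0 : ∀ j, ∑ i, a i * rO (hT.from V) (A i j) = 0 := by
    intro j
    have h1 := sec_descFree_combT hT A V a j
    rw [← h1, ← htA, sec_descFree_comb, ha, coord_zero]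
  have hcov : ∀ k : ι, ∃ S ∈ J V, ∀ ⦃W : C⦄ (g : W ⟶ V), S g → ∃ b : ι → O.obj.obj (op W),
      ∀ j, (if k = j then (1 : O.obj.obj (op W)) else 0) =
        ∑ i, b i * rO (hT.from W) (A i j) := by
    intro k
    obtain ⟨S, hS, hS'⟩ := hgen V (comb V (fun j => if k = j then 1 else 0))
    refine ⟨S, hS, fun W g hg => ?_⟩
    obtain ⟨b, hb⟩ := hS' g hg
    refine ⟨b, fun j => ?_⟩
    have h1 := congrArg (fun z => coord W z j) hb
    beta_reduce at h1
    rw [rM_comb, coord_comb, ← sec_descFree_comb hT _ t W b, htA, sec_descFree_combT] at h1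
    rw [← h1]
    split_ifs
    · exact (map_one _).symm
    · exact (map_zero _).symm
  choose S hS hS' using hcov
  intro i₀
  refine eq_zero_of_cover_ring (a i₀) (Finset.univ.inf S) (finite_inf_mem S hS) (fun W g hg => ?_)
  have hg' : ∀ k, S k g := fun k =>
    (Finset.inf_le (Finset.mem_univ k) : Finset.univ.inf S ≤ S k) _ hg
  choose B hB using fun k => hS' k g (hg' k)
  obtain ⟨A', hA'⟩ : ∃ A' : Matrix ι ι (O.obj.obj (op W)),
    A' = fun i j => rO (hT.from W) (A i j) := ⟨_, rfl⟩
  obtain ⟨B', hB'⟩ : ∃ B' : Matrix ι ι (O.obj.obj (op W)), B' = fun k i => B k i := ⟨_, rfl⟩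
  have hBA : B' * A' = 1 := by
    ext k j
    rw [Matrix.mul_apply, Matrix.one_apply, hA', hB']
    exact (hB k j).symm
  have hAB : A' * B' = 1 := mul_eq_one_comm.1 hBA
  have ha' : Matrix.vecMul (fun i => rO g (a i)) A' = 0 := by
    ext j
    show ∑ i, rO g (a i) * A' i j = 0
    rw [hA']
    have h1 := congrArg (rO g) (hA0 j)
    rw [map_sum, map_zero] at h1
    refine Eq.trans (Finset.sum_congr rfl (fun i _ => ?_)) h1
    rw [map_mul, ← rO_from hT g]
  have h2 := Matrix.vecMul_vecMul (fun i => rO g (a i)) A' B'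
  rw [hAB, Matrix.vecMul_one, ha', Matrix.zero_vecMul] at h2
  exact (congrFun h2 i₀).symm

end Site

section Space

variable {X : TopCat.{u}} {O : Sheaf (Opens.grothendieckTopology X) CommRingCat.{u}}

/-- an epimorphism is locally surjective on sections -/
theorem locSurjOn_of_epi {F G : ModSite.Mod O} (φ : F ⟶ G) [Epi φ] (U : Opens X) :
    LocSurjOn φ U := by
  intro V _ b y hy
  obtain ⟨S, hS, hS'⟩ := exists_cover_lift_of_epi φ b
  obtain ⟨W, f, hf, hyW⟩ := hS y hy
  obtain ⟨a, ha⟩ := hS' f hf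
  exact ⟨W, f.le, hyW, a, ha⟩

theorem LocSurjOn.mono {F G : ModSite.Mod O} {φ : F ⟶ G} {U U' : Opens X} (h : U' ≤ U)
    (hφ : LocSurjOn φ U) : LocSurjOn φ U' :=
  fun V hV b y hy => hφ V (hV.trans h) b y hy

/-- finitely many properties of small neighbourhoods hold on a common neighbourhood -/
theorem exists_common_nbhd {κ : Type*} [Finite κ] (V : Opens X) (y : X) (hy : y ∈ V)
    (P : κ → ∀ W : Opens X, W ≤ V → Prop)
    (hmono : ∀ (j : κ) (W W' : Opens X) (h : W ≤ V) (h' : W' ≤ W), P j W h → P j W' (h'.trans h))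
    (hex : ∀ j, ∃ (W : Opens X) (h : W ≤ V), y ∈ W ∧ P j W h) :
    ∃ (W : Opens X) (h : W ≤ V), y ∈ W ∧ ∀ j, P j W h := by
  classical
  choose W hW hyW hP using hex
  haveI := Fintype.ofFinite κ
  refine ⟨V ⊓ ⨅ j, W j, inf_le_left, ⟨hy, ?_⟩, fun j => ?_⟩
  · rw [Opens.coe_iInf]
    exact Set.mem_iInter.2 hyW
  · exact hmono j (W j) _ (hW j) (inf_le_right.trans (iInf_le W j)) (hP j)

/-- restriction of a trivialisation to a smaller open -/
theorem nonempty_iso_free_of_le (F : ModSite.Mod O) {U U' : Opens X} (h : U' ≤ U) (ι : Type u)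
    [Fintype ι]
    (hF : Nonempty ((ModSite.restr O U).obj F ≅
      SheafOfModules.free (R := ModSite.ringSh (O.over U)) ι)) :
    Nonempty ((ModSite.restr O U').obj F ≅
      SheafOfModules.free (R := ModSite.ringSh (O.over U')) ι) := by
  obtain ⟨s, hs1, hs2⟩ := (nonempty_iso_free_iff_on F U ι).1 hF
  exact (nonempty_iso_free_iff_on F U' ι).2 ⟨_, hs1.mono h, hs2.mono h⟩

/-- sections of a generated module: finitely many sections are combinations of the generators on a
common neighbourhood -/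
theorem GenOn.exists_matrix {F : ModSite.Mod O} {U : Opens X} {ι : Type u} [Fintype ι]
    {s : ι → ((toPM O).obj F).obj (op U)} (hs : GenOn F U s) {κ : Type*} [Finite κ]
    (V : Opens X) (hV : V ≤ U) (m : κ → ((toPM O).obj F).obj (op V)) (y : X) (hy : y ∈ V) :
    ∃ (W : Opens X) (hW : W ≤ V), y ∈ W ∧ ∃ A : κ → ι → O.obj.obj (op W),
      ∀ j, rF F hW (m j) = ∑ i, A j i • rF F (hW.trans hV) (s i) := by
  obtain ⟨W, hW, hyW, hP⟩ := exists_common_nbhd V y hy
    (fun (j : κ) W hW => ∃ a : ι → O.obj.obj (op W),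
      rF F hW (m j) = ∑ i, a i • rF F (hW.trans hV) (s i))
    (by
      rintro j W W' h h' ⟨a, ha⟩
      refine ⟨fun i => rR h' (a i), ?_⟩
      rw [← rF_rF F h h', ha, rF_sum_smul]
      refine Finset.sum_congr rfl (fun i _ => ?_)
      rw [rF_rF])
    (fun j => hs V hV (m j) y hy)
  choose A hA using hP
  exact ⟨W, hW, hyW, A, hA⟩

/-- finitely many sections lift locally along a locally surjective morphism -/
theorem LocSurjOn.exists_lift {F G : ModSite.Mod O} {φ : F ⟶ G} {U : Opens X}
    (hφ : LocSurjOn φ U) {κ : Type*} [Finite κ]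
    (V : Opens X) (hV : V ≤ U) (b : κ → ((toPM O).obj G).obj (op V)) (y : X) (hy : y ∈ V) :
    ∃ (W : Opens X) (hW : W ≤ V), y ∈ W ∧ ∃ a : κ → ((toPM O).obj F).obj (op W),
      ∀ j, sF φ W (a j) = rF G hW (b j) := by
  obtain ⟨W, hW, hyW, hP⟩ := exists_common_nbhd V y hy
    (fun (j : κ) W hW => ∃ a : ((toPM O).obj F).obj (op W), sF φ W a = rF G hW (b j))
    (by
      rintro j W W' h h' ⟨a, ha⟩
      refine ⟨rF F h' a, ?_⟩
      rw [sF_rF, ha, rF_rF])
    (fun j => hφ V hV (b j) y hy)
  choose a ha using hP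
  exact ⟨W, hW, hyW, a, ha⟩

end Space

end Groth.Agent.H92.RSLocal
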