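import Groth.Agent.H92.RSLocalB
import Mathlib.Algebra.Category.ModuleCat.Sheaf.Quasicoherent

/-!
# Generators and presentations of sheaves of modules on a ringed site with a terminal object,
in terms of sections (helper92)
-/

set_option autoImplicit false
set_option backward.isDefEq.respectTransparency false
universe u
open CategoryTheory CategoryTheory.Limits Opposite

namespace Groth.Agent.H92.RSLocal

open Groth.Agent.H31 Groth.Agent.H92.EqCrit Groth.Agent.H92.EqCritConv

variable {C : Type u} [SmallCategory C] {J : GrothendieckTopology C} {O : Sheaf J CommRingCat.{u}}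

section Coord

variable {ι : Type u} [DecidableEq ι]

lemma coord_add (V : C)
    (z z' : ((toPM O).obj (SheafOfModules.free (R := ModSite.ringSh O) ι)).obj (op V)) (i : ι) :
    coord V (z + z') i = coord V z i + coord V z' i :=
  map_add (sec ((toPM O).map (prF i)) (op V)) z z'

lemma coord_zero (V : C) (i : ι) :
    coord V (0 : ((toPM O).obj (SheafOfModules.free (R := ModSite.ringSh O) ι)).obj (op V)) i = 0 :=
  map_zero (sec ((toPM O).map (prF i)) (op V))

lemma coord_sum {κ : Type*} (s : Finset κ) (V : C)
    (z : κ → ((toPM O).obj (SheafOfModules.free (R := ModSite.ringSh O) ι)).obj (op V)) (i : ι) :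
    coord V (∑ k ∈ s, z k) i = ∑ k ∈ s, coord V (z k) i :=
  map_sum (sec ((toPM O).map (prF i)) (op V)) z s

lemma coord_smul (V : C) (c : O.obj.obj (op V))
    (z : ((toPM O).obj (SheafOfModules.free (R := ModSite.ringSh O) ι)).obj (op V)) (i : ι) :
    coord V (c • z) i = c * coord V z i :=
  sec_smul ((toPM O).map (prF i)) (op V) c z

lemma coord_rM {V W : C} (g : W ⟶ V)
    (z : ((toPM O).obj (SheafOfModules.free (R := ModSite.ringSh O) ι)).obj (op V)) (i : ι) :
    coord W (rM ((toPM O).obj (SheafOfModules.free (R := ModSite.ringSh O) ι)) g z) i =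
      rO g (coord V z i) :=
  sec_rM ((toPM O).map (prF i)) g z

lemma coord_ext [Fintype ι] (V : C)
    (z z' : ((toPM O).obj (SheafOfModules.free (R := ModSite.ringSh O) ι)).obj (op V))
    (h : ∀ i, coord V z i = coord V z' i) : z = z' := by
  rw [← comb_coord V z, ← comb_coord V z']
  exact congrArg (comb V) (funext h)

end Coord

section Terminal

variable {T : C} (hT : IsTerminal T) {ι κ : Type u}

lemma rM_from_self (N : ModSite.Mod O) (x : ((toPM O).obj N).obj (op T)) :
    rM ((toPM O).obj N) (hT.from T) x = x := res_self hT N x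

lemma rO_from_self (x : O.obj.obj (op T)) : rO (hT.from T) x = x :=
  res_self hT (SheafOfModules.unit (ModSite.ringSh O)) x

/-- the relations `r` generate all relations between the `t i` -/
def RelT [Fintype ι] [Fintype κ] (N : ModSite.Mod O) (t : ι → ((toPM O).obj N).obj (op T))
    (r : κ → ι → O.obj.obj (op T)) : Prop :=
  (∀ k, ∑ i, r k i • t i = 0) ∧
  ∀ (V : C) (a : ι → O.obj.obj (op V)),
    ∑ i, a i • rM ((toPM O).obj N) (hT.from V) (t i) = 0 →
    ∃ S ∈ J V, ∀ ⦃W : C⦄ (g : W ⟶ V), S g → ∃ c : κ → O.obj.obj (op W),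
      ∀ i, rO g (a i) = ∑ k, c k * rO (hT.from W) (r k i)

/-- sections of the free module over the terminal object from coordinates -/
lemma sec_descFree_combT [Fintype ι] [Fintype κ] [DecidableEq ι] (r : κ → ι → O.obj.obj (op T))
    (W : C) (c : κ → O.obj.obj (op W)) (i : ι) :
    coord W (sec ((toPM O).map (descFree hT (SheafOfModules.free (R := ModSite.ringSh O) ι)
      (fun k => comb T (r k)))) (op W) (comb W c)) i = ∑ k, c k * rO (hT.from W) (r k i) := by
  rw [sec_descFree_comb, coord_sum]
  refine Finset.sum_congr rfl (fun k _ => ?_)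
  rw [coord_smul, rM_comb, coord_comb]

theorem exists_of_presentation [Fintype ι] [Fintype κ] (N : ModSite.Mod O)
    (π : SheafOfModules.free (R := ModSite.ringSh O) ι ⟶ N) [Epi π]
    (ρ : SheafOfModules.free (R := ModSite.ringSh O) κ ⟶ kernel π) [Epi ρ] :
    ∃ (t : ι → ((toPM O).obj N).obj (op T)) (r : κ → ι → O.obj.obj (op T)),
      GenT hT N t ∧ RelT hT N t r := by
  classical
  obtain ⟨t, ht⟩ : ∃ t, π = descFree hT N t := ⟨_, eq_descFree hT N π⟩
  obtain ⟨zz, hzz⟩ : ∃ zz, ρ ≫ kernel.ι π = descFree hT _ zz := ⟨_, eq_descFree hT _ _⟩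
  have hgen : GenT hT N t := (epi_descFree_iff hT N t).1 (ht ▸ inferInstance)
  refine ⟨t, fun k i => coord T (zz k) i, hgen, ?_, ?_⟩
  · intro k
    have h1 : sec ((toPM O).map π) (op T) (zz k) = 0 := by
      have h2 : sec ((toPM O).map ((ρ ≫ kernel.ι π) ≫ π)) (op T)
          (comb T (fun k' => if k' = k then 1 else 0)) = 0 := by
        rw [Category.assoc, kernel.condition, comp_zero]
        rfl
      rw [Functor.map_comp, sec_comp, hzz, sec_descFree_comb] at h2
      rw [Finset.sum_eq_single k] at h2
      · rw [if_pos rfl, one_smul, rM_from_self] at h2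
        exact h2
      · intro k' _ hk'
        rw [if_neg hk', zero_smul]
      · intro h
        exact absurd (Finset.mem_univ k) h
    rw [ht, sec_descFree] at h1
    refine Eq.trans (Finset.sum_congr rfl (fun i _ => ?_)) h1
    rw [rM_from_self]
  · intro V a ha
    have h1 : sec ((toPM O).map π) (op V) (comb V a) = 0 := by
      rw [ht, sec_descFree_comb]
      exact ha
    obtain ⟨w, hw⟩ := exists_kernel_section π (comb V a) h1
    obtain ⟨S, hS, hS'⟩ := exists_cover_lift_of_epi ρ w
    refine ⟨S, hS, fun W g hg => ?_⟩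
    obtain ⟨y, hy⟩ := hS' g hg
    refine ⟨coord W y, fun i => ?_⟩
    have h2 : sec ((toPM O).map (ρ ≫ kernel.ι π)) (op W) y =
        rM _ g (comb V a) := by
      rw [Functor.map_comp, sec_comp, hy, sec_rM, hw]
    rw [hzz, sec_descFree, rM_comb] at h2
    have h3 := congrArg (fun z => coord W z i) h2
    simp only [coord_comb] at h3
    rw [← h3, coord_sum]
    refine Finset.sum_congr rfl (fun k _ => ?_)
    rw [coord_smul, coord_rM]

/-- the presentation attached to generators and relations given by sections -/
theorem exists_presentation [Fintype ι] [Fintype κ] (N : ModSite.Mod O)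
    (t : ι → ((toPM O).obj N).obj (op T)) (r : κ → ι → O.obj.obj (op T))
    (hgen : GenT hT N t) (hrel : RelT hT N t r) :
    ∃ P : N.Presentation, P.generators.I = ι ∧ P.relations.I = κ := by
  classical
  have hepi : Epi (descFree hT N t) := (epi_descFree_iff hT N t).2 hgen
  let G : N.GeneratingSections :=
    { I := ι
      s := N.freeHomEquiv (descFree hT N t)
      epi := by rw [Equiv.symm_apply_apply]; exact hepi }
  have hGπ : G.π = descFree hT N t := N.freeHomEquiv.symm_apply_apply _
  let ρ' : SheafOfModules.free (R := ModSite.ringSh O) κ ⟶ SheafOfModules.free ι :=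
    descFree hT _ (fun k => comb T (r k))
  have hρ' : ρ' ≫ G.π = 0 := by
    rw [hGπ, descFree_comp]
    have h0 : (fun k => sec ((toPM O).map (descFree hT N t)) (op T) (comb T (r k))) =
        fun _ => 0 := by
      funext k
      rw [sec_descFree_comb]
      refine Eq.trans (Finset.sum_congr rfl (fun i _ => ?_)) (hrel.1 k)
      rw [rM_from_self]
    rw [h0]
    refine Cofan.IsColimit.hom_ext (SheafOfModules.isColimitFreeCofan κ) _ _ (fun k => ?_)
    show SheafOfModules.ιFree k ≫ _ = SheafOfModules.ιFree k ≫ _
    rw [ιFree_descFree, comp_zero]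
    exact (ExtZero.unitHomAddEquiv N hT).symm.map_zero
  let ρ : SheafOfModules.free (R := ModSite.ringSh O) κ ⟶ kernel G.π := kernel.lift G.π ρ' hρ'
  have hρ : ρ ≫ kernel.ι G.π = ρ' := kernel.lift_ι _ _ _
  have hepiρ : Epi ρ := by
    refine epi_of_cover_lift _ (fun V w => ?_)
    obtain ⟨z, hz⟩ : ∃ z, z = sec ((toPM O).map (kernel.ι G.π)) (op V) w := ⟨_, rfl⟩
    have h1 : sec ((toPM O).map G.π) (op V) z = 0 := by
      rw [hz, ← sec_comp, ← Functor.map_comp, kernel.condition]
      rfl
    rw [hGπ, sec_descFree] at h1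
    obtain ⟨S, hS, hS'⟩ := hrel.2 V _ h1
    refine ⟨S, hS, fun W g hg => ?_⟩
    obtain ⟨c, hc⟩ := hS' g hg
    refine ⟨comb W c, ?_⟩
    apply injective_of_mono (kernel.ι G.π) W
    rw [← sec_comp, ← Functor.map_comp, hρ, sec_rM, ← hz]
    apply coord_ext
    intro i
    rw [sec_descFree_combT, coord_rM, hc i]
  refine ⟨{ generators := G
            relations :=
              { I := κ
                s := (kernel G.π).freeHomEquiv ρ
                epi := by rw [Equiv.symm_apply_apply]; exact hepiρ } }, rfl, rfl⟩

end Terminal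

end Groth.Agent.H92.RSLocal
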