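import Groth.Agent.H92.RSLocalP
import Mathlib.Topology.Sheaves.Points

/-!
# Sheaves of modules on a ringed space through their sections on opens (helper92)

Generators / independence / relations / local surjectivity over an open `U`, in terms of sections
over the opens contained in `U`, and the bridge to the slice site `Over U`.
-/

set_option autoImplicit false
set_option backward.isDefEq.respectTransparency false
universe u
open CategoryTheory CategoryTheory.Limits Opposite TopologicalSpace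

namespace Groth.Agent.H92.RSLocal

open Groth.Agent.H31 Groth.Agent.H92.EqCrit Groth.Agent.H92.EqCritConv

variable {X : TopCat.{u}} {O : Sheaf (Opens.grothendieckTopology X) CommRingCat.{u}}

/-- restriction of sections of a module to a smaller open -/
noncomputable abbrev rF (F : ModSite.Mod O) {V W : Opens X} (h : W ≤ V) :
    ((toPM O).obj F).obj (op V) →+ ((toPM O).obj F).obj (op W) :=
  rM ((toPM O).obj F) (homOfLE h)

/-- restriction of sections of the structure sheaf to a smaller open -/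
noncomputable abbrev rR {V W : Opens X} (h : W ≤ V) : O.obj.obj (op V) →+* O.obj.obj (op W) :=
  rO (homOfLE h)

lemma rM_eq_rF (F : ModSite.Mod O) {V W : Opens X} (g : W ⟶ V)
    (m : ((toPM O).obj F).obj (op V)) : rM ((toPM O).obj F) g m = rF F g.le m := rfl

lemma rO_eq_rR {V W : Opens X} (g : W ⟶ V) (a : O.obj.obj (op V)) :
    rO g a = rR (O := O) g.le a := rfl

lemma rF_rF (F : ModSite.Mod O) {V W W' : Opens X} (h : W ≤ V) (h' : W' ≤ W)
    (m : ((toPM O).obj F).obj (op V)) : rF F h' (rF F h m) = rF F (h'.trans h) m :=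
  (rM_comp ((toPM O).obj F) (homOfLE h) (homOfLE h') m).symm

lemma rR_rR {V W W' : Opens X} (h : W ≤ V) (h' : W' ≤ W) (a : O.obj.obj (op V)) :
    rR (O := O) h' (rR h a) = rR (h'.trans h) a :=
  (rO_comp (homOfLE h) (homOfLE h') a).symm

lemma rF_self (F : ModSite.Mod O) {V : Opens X} (m : ((toPM O).obj F).obj (op V)) :
    rF F (le_refl V) m = m := by
  show ((toPM O).obj F).map (𝟙 (op V)) m = m
  rw [PresheafOfModules.map_id]
  rfl

lemma rR_self {V : Opens X} (a : O.obj.obj (op V)) : rR (O := O) (le_refl V) a = a := by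
  show (O.obj.map (𝟙 (op V))).hom a = a
  rw [O.obj.map_id]
  rfl

lemma rF_smul (F : ModSite.Mod O) {V W : Opens X} (h : W ≤ V) (a : O.obj.obj (op V))
    (m : ((toPM O).obj F).obj (op V)) : rF F h (a • m) = rR h a • rF F h m :=
  rM_smul ((toPM O).obj F) (homOfLE h) a m

lemma rF_sum_smul (F : ModSite.Mod O) {V W : Opens X} (h : W ≤ V) {ι : Type*} (s : Finset ι)
    (a : ι → O.obj.obj (op V)) (m : ι → ((toPM O).obj F).obj (op V)) :
    rF F h (∑ i ∈ s, a i • m i) = ∑ i ∈ s, rR h (a i) • rF F h (m i) := by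
  rw [map_sum]
  exact Finset.sum_congr rfl (fun i _ => rF_smul F h (a i) (m i))

/-- a morphism of modules on sections over an open -/
noncomputable abbrev sF {F G : ModSite.Mod O} (φ : F ⟶ G) (V : Opens X) :
    ((toPM O).obj F).obj (op V) →+ ((toPM O).obj G).obj (op V) :=
  sec ((toPM O).map φ) (op V)

lemma sF_rF {F G : ModSite.Mod O} (φ : F ⟶ G) {V W : Opens X} (h : W ≤ V)
    (m : ((toPM O).obj F).obj (op V)) : sF φ W (rF F h m) = rF G h (sF φ V m) :=
  sec_rM ((toPM O).map φ) (homOfLE h) m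

lemma sF_smul {F G : ModSite.Mod O} (φ : F ⟶ G) (V : Opens X) (a : O.obj.obj (op V))
    (m : ((toPM O).obj F).obj (op V)) : sF φ V (a • m) = a • sF φ V m :=
  sec_smul ((toPM O).map φ) (op V) a m

lemma sF_sum_smul {F G : ModSite.Mod O} (φ : F ⟶ G) (V : Opens X) {ι : Type*} (s : Finset ι)
    (a : ι → O.obj.obj (op V)) (m : ι → ((toPM O).obj F).obj (op V)) :
    sF φ V (∑ i ∈ s, a i • m i) = ∑ i ∈ s, a i • sF φ V (m i) := by
  rw [map_sum]
  exact Finset.sum_congr rfl (fun i _ => sF_smul φ V (a i) (m i))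

/-- locally zero sections vanish -/
theorem eq_zero_of_locally (F : ModSite.Mod O) {V : Opens X} (m : ((toPM O).obj F).obj (op V))
    (h : ∀ y ∈ V, ∃ (W : Opens X) (hW : W ≤ V), y ∈ W ∧ rF F hW m = 0) : m = 0 := by
  let S : Sieve V :=
    { arrows := fun W g => rF F g.le m = 0
      downward_closed := by
        intro W W' g hg g'
        show rF F (g' ≫ g).le m = 0
        rw [← rF_rF F g.le g'.le, hg, map_zero] }
  refine eq_zero_of_cover F m S ?_ (fun W g hg => hg)
  intro y hy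
  obtain ⟨W, hW, hyW, h0⟩ := h y hy
  exact ⟨W, homOfLE hW, h0, hyW⟩

/-- locally zero sections of the structure sheaf vanish -/
theorem eq_zero_of_locally_ring {V : Opens X} (a : O.obj.obj (op V))
    (h : ∀ y ∈ V, ∃ (W : Opens X) (hW : W ≤ V), y ∈ W ∧ rR hW a = 0) : a = 0 :=
  eq_zero_of_locally (SheafOfModules.unit (ModSite.ringSh O)) a h

section Predicates

variable {ι κ : Type u} [Fintype ι] [Fintype κ]

/-- the sections `s` over `U` generate `F` over `U` -/
def GenOn (F : ModSite.Mod O) (U : Opens X) (s : ι → ((toPM O).obj F).obj (op U)) : Prop :=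
  ∀ (V : Opens X) (hV : V ≤ U) (m : ((toPM O).obj F).obj (op V)) (y : X), y ∈ V →
    ∃ (W : Opens X) (hW : W ≤ V), y ∈ W ∧ ∃ a : ι → O.obj.obj (op W),
      rF F hW m = ∑ i, a i • rF F (hW.trans hV) (s i)

/-- the sections `s` over `U` are linearly independent over every smaller open -/
def IndepOn (F : ModSite.Mod O) (U : Opens X) (s : ι → ((toPM O).obj F).obj (op U)) : Prop :=
  ∀ (V : Opens X) (hV : V ≤ U) (a : ι → O.obj.obj (op V)),
    ∑ i, a i • rF F hV (s i) = 0 → ∀ i, a i = 0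

/-- the relations `r` generate the relations between the `s i` over `U` -/
def RelOn (F : ModSite.Mod O) (U : Opens X) (s : ι → ((toPM O).obj F).obj (op U))
    (r : κ → ι → O.obj.obj (op U)) : Prop :=
  (∀ k, ∑ i, r k i • s i = 0) ∧
  ∀ (V : Opens X) (hV : V ≤ U) (a : ι → O.obj.obj (op V)),
    ∑ i, a i • rF F hV (s i) = 0 → ∀ y ∈ V,
    ∃ (W : Opens X) (hW : W ≤ V), y ∈ W ∧ ∃ c : κ → O.obj.obj (op W),
      ∀ i, rR hW (a i) = ∑ k, c k * rR (hW.trans hV) (r k i)

/-- `φ` is locally surjective over `U` -/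
def LocSurjOn {F G : ModSite.Mod O} (φ : F ⟶ G) (U : Opens X) : Prop :=
  ∀ (V : Opens X) (_ : V ≤ U) (b : ((toPM O).obj G).obj (op V)) (y : X), y ∈ V →
    ∃ (W : Opens X) (hW : W ≤ V), y ∈ W ∧ ∃ a : ((toPM O).obj F).obj (op W),
      sF φ W a = rF G hW b

end Predicates

section Bridge

variable (U : Opens X)

lemma exists_nbhd_of_mem_over (Z : Over U) (S : Sieve Z)
    (hS : S ∈ ((Opens.grothendieckTopology X).over U) Z) (y : X) (hy : y ∈ Z.left) :
    ∃ (W : Opens X) (f : W ⟶ Z.left), y ∈ W ∧ S (Over.homMk f : Over.mk (f ≫ Z.hom) ⟶ Z) := by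
  rw [GrothendieckTopology.mem_over_iff] at hS
  obtain ⟨W, f, hf, hyW⟩ := hS y hy
  exact ⟨W, f, hyW, (Sieve.overEquiv_iff _ _).1 hf⟩

lemma exists_over_cover (Z : Over U) (P : Sieve Z.left)
    (hP : ∀ y ∈ Z.left, ∃ (W : Opens X) (f : W ⟶ Z.left), y ∈ W ∧ P f) :
    ∃ S ∈ ((Opens.grothendieckTopology X).over U) Z,
      ∀ ⦃Z' : Over U⦄ (g : Z' ⟶ Z), S g → P g.left := by
  refine ⟨(Sieve.overEquiv Z).symm P, ?_, fun Z' g hg => (Sieve.overEquiv_symm_iff _ _).1 hg⟩
  rw [GrothendieckTopology.mem_over_iff, OrderIso.apply_symm_apply]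
  intro y hy
  obtain ⟨W, f, hyW, hf⟩ := hP y hy
  exact ⟨W, f, hf, hyW⟩

/-- the terminal object of the slice site -/
noncomputable def oT : IsTerminal (Over.mk (𝟙 U)) := Over.mkIdTerminal

variable {ι κ : Type u} [Fintype ι] [Fintype κ]

theorem genT_iff_genOn (F : ModSite.Mod O) (s : ι → ((toPM O).obj F).obj (op U)) :
    GenT (O := O.over U) (oT U) ((ModSite.restr O U).obj F) s ↔ GenOn F U s := by
  constructor
  · intro h V hV m y hy
    obtain ⟨S, hS, hS'⟩ := h (Over.mk (homOfLE hV)) m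
    obtain ⟨W, f, hyW, hf⟩ := exists_nbhd_of_mem_over U (Over.mk (homOfLE hV)) S hS y hy
    obtain ⟨a, ha⟩ := hS' _ hf
    exact ⟨W, f.le, hyW, a, ha⟩
  · intro h Z m
    let P : Sieve Z.left :=
      { arrows := fun W f => ∃ a : ι → O.obj.obj (op W),
          rF F f.le m = ∑ i, a i • rF F (f.le.trans Z.hom.le) (s i)
        downward_closed := by
          rintro W W' f ⟨a, ha⟩ f'
          refine ⟨fun i => rR f'.le (a i), ?_⟩
          show rF F (f' ≫ f).le m = _
          rw [← rF_rF F f.le f'.le, ha, rF_sum_smul]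
          refine Finset.sum_congr rfl (fun i _ => ?_)
          rw [rF_rF] }
    obtain ⟨S, hS, hS'⟩ := exists_over_cover U Z P (fun y hy => by
      obtain ⟨W, hW, hyW, a, ha⟩ := h Z.left Z.hom.le m y hy
      exact ⟨W, homOfLE hW, hyW, a, ha⟩)
    refine ⟨S, hS, fun Z' g hg => ?_⟩
    obtain ⟨a, ha⟩ := hS' g hg
    exact ⟨a, ha⟩

theorem indepT_iff_indepOn (F : ModSite.Mod O) (s : ι → ((toPM O).obj F).obj (op U)) :
    IndepT (O := O.over U) (oT U) ((ModSite.restr O U).obj F) s ↔ IndepOn F U s := by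
  constructor
  · intro h V hV a ha
    exact h (Over.mk (homOfLE hV)) a ha
  · intro h Z a ha
    exact h Z.left Z.hom.le a ha

theorem relT_iff_relOn (F : ModSite.Mod O) (s : ι → ((toPM O).obj F).obj (op U))
    (r : κ → ι → O.obj.obj (op U)) :
    RelT (O := O.over U) (oT U) ((ModSite.restr O U).obj F) s r ↔ RelOn F U s r := by
  constructor
  · rintro ⟨h1, h2⟩
    refine ⟨h1, fun V hV a ha y hy => ?_⟩
    obtain ⟨S, hS, hS'⟩ := h2 (Over.mk (homOfLE hV)) a ha
    obtain ⟨W, f, hyW, hf⟩ := exists_nbhd_of_mem_over U (Over.mk (homOfLE hV)) S hS y hy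
    obtain ⟨c, hc⟩ := hS' _ hf
    exact ⟨W, f.le, hyW, c, hc⟩
  · rintro ⟨h1, h2⟩
    refine ⟨h1, fun Z a ha => ?_⟩
    let P : Sieve Z.left :=
      { arrows := fun W f => ∃ c : κ → O.obj.obj (op W),
          ∀ i, rR f.le (a i) = ∑ k, c k * rR (f.le.trans Z.hom.le) (r k i)
        downward_closed := by
          rintro W W' f ⟨c, hc⟩ f'
          refine ⟨fun k => rR f'.le (c k), fun i => ?_⟩
          show rR (f' ≫ f).le (a i) = _
          rw [← rR_rR f.le f'.le, hc i, map_sum]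
          refine Finset.sum_congr rfl (fun k _ => ?_)
          rw [map_mul, rR_rR] }
    obtain ⟨S, hS, hS'⟩ := exists_over_cover U Z P (fun y hy => by
      obtain ⟨W, hW, hyW, c, hc⟩ := h2 Z.left Z.hom.le a ha y hy
      exact ⟨W, homOfLE hW, hyW, c, hc⟩)
    refine ⟨S, hS, fun Z' g hg => ?_⟩
    obtain ⟨c, hc⟩ := hS' g hg
    exact ⟨c, hc⟩

theorem epi_restr_iff {F G : ModSite.Mod O} (φ : F ⟶ G) :
    Epi ((ModSite.restr O U).map φ) ↔ LocSurjOn φ U := by
  constructor
  · intro h V hV b y hy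
    obtain ⟨S, hS, hS'⟩ := exists_cover_lift_of_epi (O := O.over U)
      ((ModSite.restr O U).map φ) (V := Over.mk (homOfLE hV)) b
    obtain ⟨W, f, hyW, hf⟩ := exists_nbhd_of_mem_over U (Over.mk (homOfLE hV)) S hS y hy
    obtain ⟨a, ha⟩ := hS' _ hf
    exact ⟨W, f.le, hyW, a, ha⟩
  · intro h
    refine epi_of_cover_lift (O := O.over U) _ (fun Z b => ?_)
    let P : Sieve Z.left :=
      { arrows := fun W f => ∃ a : ((toPM O).obj F).obj (op W), sF φ W a = rF G f.le b
        downward_closed := by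
          rintro W W' f ⟨a, ha⟩ f'
          refine ⟨rF F f'.le a, ?_⟩
          show _ = rF G (f' ≫ f).le b
          rw [sF_rF, ha, rF_rF] }
    obtain ⟨S, hS, hS'⟩ := exists_over_cover U Z P (fun y hy => by
      obtain ⟨W, hW, hyW, a, ha⟩ := h Z.left Z.hom.le b y hy
      exact ⟨W, homOfLE hW, hyW, a, ha⟩)
    refine ⟨S, hS, fun Z' g hg => ?_⟩
    obtain ⟨a, ha⟩ := hS' g hg
    exact ⟨a, ha⟩

end Bridge

end Groth.Agent.H92.RSLocal
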