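import Groth.Agent.H92.RSRetract
import Mathlib.LinearAlgebra.InvariantBasisNumber
import Mathlib.LinearAlgebra.Dimension.StrongRankCondition
import Mathlib.RingTheory.FiniteType
import Mathlib.SetTheory.Cardinal.Finite

/-!
# The rank of a locally free module on a ringed space with non-zero stalks (helper92)
-/

set_option autoImplicit false
set_option backward.isDefEq.respectTransparency false
set_option linter.style.haveILetI false
set_option linter.unusedSectionVars false
universe u
open CategoryTheory CategoryTheory.Limits Opposite TopologicalSpace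

namespace Groth.Agent.H92.RSLocal

open Groth.Agent.H31 Groth.Agent.H92.EqCrit Groth.Agent.H92.EqCritConv

section Site

variable {C : Type u} [SmallCategory C] {J : GrothendieckTopology C} {O : Sheaf J CommRingCat.{u}}
  {T : C} (hT : IsTerminal T)

include hT in
/-- an injection of index sets gives a split monomorphism of free modules -/
theorem exists_retraction_freeMap {κ I : Type u} (f : κ ↪ I) :
    ∃ ρ : SheafOfModules.free (R := ModSite.ringSh O) I ⟶ SheafOfModules.free κ,
      SheafOfModules.freeMap (R := ModSite.ringSh O) f ≫ ρ = 𝟙 _ := by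
  classical
  refine ⟨descFree hT _ (fun i => if h : ∃ k, f k = i then
    ExtZero.unitHomAddEquiv _ hT (SheafOfModules.ιFree (R := ModSite.ringSh O) h.choose) else 0), ?_⟩
  refine Cofan.IsColimit.hom_ext (SheafOfModules.isColimitFreeCofan κ) _ _ (fun k => ?_)
  show SheafOfModules.ιFree k ≫ _ = SheafOfModules.ιFree k ≫ _
  rw [SheafOfModules.ιFree_freeMap_assoc, ιFree_descFree, Category.comp_id]
  have h : ∃ k', f k' = f k := ⟨k, rfl⟩
  rw [dif_pos h]
  have hk : h.choose = k := f.injective h.choose_spec
  rw [hk]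
  exact (ExtZero.unitHomAddEquiv _ hT).symm_apply_apply _

end Site

variable {X : TopCat.{u}} {O : Sheaf (Opens.grothendieckTopology X) CommRingCat.{u}}

/-- if `F|_U` is free on `I` and `κ` embeds in `I`, there is a `κ`-family of independent sections -/
theorem exists_indepOn_of_embedding (F : ModSite.Mod O) (U : Opens X) {κ I : Type u} [Fintype κ]
    (f : κ ↪ I)
    (e : (ModSite.restr O U).obj F ≅ SheafOfModules.free (R := ModSite.ringSh (O.over U)) I) :
    ∃ s : κ → ((toPM O).obj F).obj (op U), IndepOn F U s := by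
  obtain ⟨ρ, hρ⟩ := exists_retraction_freeMap (O := O.over U) (oT U) f
  have hmono : Mono (SheafOfModules.freeMap (R := ModSite.ringSh (O.over U)) f ≫ e.inv) := by
    have : Mono (SheafOfModules.freeMap (R := ModSite.ringSh (O.over U)) f) :=
      mono_of_mono_fac hρ
    infer_instance
  rw [eq_descFree (O := O.over U) (oT U) _
    (SheafOfModules.freeMap (R := ModSite.ringSh (O.over U)) f ≫ e.inv)] at hmono
  exact ⟨_, (indepT_iff_indepOn U F _).1 ((mono_descFree_iff _ _ _).1 hmono)⟩

/-- the number of independent sections near a point with non-zero stalk is bounded by the rank -/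
theorem card_le_of_indepOn (F : ModSite.Mod O) (x : X)
    (hx : Nontrivial (TopCat.Presheaf.stalk O.obj x : CommRingCat.{u}))
    (U : Opens X) (hxU : x ∈ U) {I : Type u} [Fintype I]
    (e : (ModSite.restr O U).obj F ≅ SheafOfModules.free (R := ModSite.ringSh (O.over U)) I)
    (W : Opens X) (hxW : x ∈ W) {κ : Type u} [Fintype κ]
    (s : κ → ((toPM O).obj F).obj (op W)) (hs : IndepOn F W s) :
    Fintype.card κ ≤ Fintype.card I := by
  classical
  obtain ⟨b, hb1, hb2⟩ := (nonempty_iso_free_iff_on F U I).1 ⟨e⟩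
  obtain ⟨W₁, hW₁⟩ : ∃ W₁ : Opens X, W₁ = W ⊓ U := ⟨_, rfl⟩
  have h1W : W₁ ≤ W := hW₁ ▸ inf_le_left
  have h1U : W₁ ≤ U := hW₁ ▸ inf_le_right
  have hx₁ : x ∈ W₁ := hW₁ ▸ ⟨hxW, hxU⟩
  obtain ⟨W₂, hW₂, hx₂, A, hA⟩ := hb1.exists_matrix W₁ h1U (fun k => rF F h1W (s k)) x hx₁
  have hnt : Nontrivial (O.obj.obj (op W₂)) := by
    refine ⟨⟨0, 1, fun h01 => ?_⟩⟩
    have h2 := congrArg (gT x W₂ hx₂) h01
    rw [map_zero, map_one] at h2
    exact zero_ne_one h2
  have hs₂ := hs.mono (hW₂.trans h1W)
  have hinj : Function.Injective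
      (Matrix.vecMulLinear (fun (k : κ) (i : I) => A k i) :
        (κ → O.obj.obj (op W₂)) →ₗ[O.obj.obj (op W₂)] (I → O.obj.obj (op W₂))) := by
    rw [← LinearMap.ker_eq_bot, LinearMap.ker_eq_bot']
    intro a ha
    have h3 : ∑ k, a k • rF F (le_refl W₂) (rF F (hW₂.trans h1W) (s k)) = 0 := by
      have h4 : ∀ k, rF F (le_refl W₂) (rF F (hW₂.trans h1W) (s k)) =
          ∑ i, A k i • rF F (hW₂.trans h1U) (b i) := by
        intro k
        rw [rF_self, ← rF_rF F h1W hW₂]
        exact hA k
      rw [Finset.sum_congr rfl (fun k _ => by rw [h4 k]), sum_smul_sum]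
      refine Finset.sum_eq_zero (fun i _ => ?_)
      have h5 : ∑ k, a k * A k i = 0 := congrFun ha i
      rw [h5, zero_smul]
    funext k
    exact hs₂ W₂ le_rfl a h3 k
  exact card_le_of_injective (O.obj.obj (op W₂)) _ hinj

theorem natCast_le_card_iff (I : Type u) (n : ℕ) :
    (n : ℕ∞) ≤ ENat.card I ↔ Nonempty (ULift.{u} (Fin n) ↪ I) := by
  classical
  by_cases hI : Finite I
  · haveI := Fintype.ofFinite I
    rw [ENat.card_eq_coe_fintype_card, Nat.cast_le]
    constructor
    · intro h
      refine Function.Embedding.nonempty_of_card_le ?_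
      rw [Fintype.card_ulift, Fintype.card_fin]
      exact h
    · rintro ⟨f⟩
      have := Fintype.card_le_of_embedding f
      rw [Fintype.card_ulift, Fintype.card_fin] at this
      exact this
  · haveI : Infinite I := not_finite_iff_infinite.1 hI
    rw [ENat.card_eq_top_of_infinite]
    refine ⟨fun _ => ⟨?_⟩, fun _ => le_top⟩
    exact (Equiv.ulift.toEmbedding.trans Fin.valEmbedding).trans (Infinite.natEmbedding I)

/-- the rank of a free restriction does not depend on the trivialisation -/
theorem card_le_card_of_iso (F : ModSite.Mod O) (x : X)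
    (hx : Nontrivial (TopCat.Presheaf.stalk O.obj x : CommRingCat.{u}))
    (U U' : Opens X) (hxU : x ∈ U) (hxU' : x ∈ U') {I I' : Type u}
    (e : (ModSite.restr O U).obj F ≅ SheafOfModules.free (R := ModSite.ringSh (O.over U)) I)
    (e' : (ModSite.restr O U').obj F ≅ SheafOfModules.free (R := ModSite.ringSh (O.over U')) I') :
    ENat.card I ≤ ENat.card I' := by
  classical
  rw [← ENat.forall_natCast_le_iff_le]
  intro n hn
  by_cases hI' : Finite I'
  · haveI := Fintype.ofFinite I'
    obtain ⟨f⟩ := (natCast_le_card_iff I n).1 hn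
    obtain ⟨s, hs⟩ := exists_indepOn_of_embedding F U f e
    have h1 := card_le_of_indepOn F x hx U' hxU' e' U hxU s hs
    rw [Fintype.card_ulift, Fintype.card_fin] at h1
    rw [ENat.card_eq_coe_fintype_card, Nat.cast_le]
    exact h1
  · haveI : Infinite I' := not_finite_iff_infinite.1 hI'
    rw [ENat.card_eq_top_of_infinite]
    exact le_top

theorem exists_locallyConstant_rank
    (hO : ∀ x : X, Nontrivial (TopCat.Presheaf.stalk O.obj x : CommRingCat.{u}))
    (F : ModSite.Mod O) [hF : SheafOfModules.IsLocallyFree (R := ModSite.ringSh O) F] :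
    ∃ rk : X → ℕ∞, IsLocallyConstant rk ∧
      ∀ (x : X) (U : Opens X) (I : Type u), x ∈ U →
        Nonempty ((ModSite.restr O U).obj F ≅
          SheafOfModules.free (R := ModSite.ringSh (O.over U)) I) → ENat.card I = rk x := by
  classical
  obtain ⟨q, hq⟩ := hF.exists_isLocallyFreeData
  have hloc : ∀ x : X, ∃ (U : Opens X) (I : Type u), x ∈ U ∧
      Nonempty ((ModSite.restr O U).obj F ≅
        SheafOfModules.free (R := ModSite.ringSh (O.over U)) I) := by
    intro x
    obtain ⟨W, f, ⟨i, ⟨g⟩⟩, hxW⟩ := q.coversTop ⊤ x trivial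
    have := hq.isIso i
    exact ⟨q.X i, (q.generators i).I, g.le hxW, ⟨(asIso (q.generators i).π).symm⟩⟩
  choose U I hxU hiso using hloc
  have hkey : ∀ (x : X) (V : Opens X) (I' : Type u), x ∈ V →
      Nonempty ((ModSite.restr O V).obj F ≅
        SheafOfModules.free (R := ModSite.ringSh (O.over V)) I') →
      ENat.card I' = ENat.card (I x) := by
    rintro x V I' hxV ⟨e'⟩
    obtain ⟨e⟩ := hiso x
    exact le_antisymm (card_le_card_of_iso F x (hO x) V (U x) hxV (hxU x) e' e)
      (card_le_card_of_iso F x (hO x) (U x) V (hxU x) hxV e e')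
  refine ⟨fun x => ENat.card (I x), ?_, hkey⟩
  rw [IsLocallyConstant.iff_exists_open]
  intro x
  refine ⟨U x, (U x).2, hxU x, fun y hy => ?_⟩
  exact (hkey y (U x) (I x) hy (hiso x)).symm

end Groth.Agent.H92.RSLocal
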