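import Groth.Agent.H92.RSStalkFree
import Groth.Agent.H92.IdemLocal
import Mathlib.Topology.Sheaves.Stalks

/-!
# A direct summand of a finite locally free module on a locally ringed space is finite locally free
(helper92)
-/

set_option autoImplicit false
set_option backward.isDefEq.respectTransparency false
set_option linter.style.haveILetI false
set_option linter.unusedSectionVars false
universe u
open CategoryTheory CategoryTheory.Limits Opposite TopologicalSpace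

namespace Groth.Agent.H92.RSLocal

open Groth.Agent.H31 Groth.Agent.H92.EqCrit Groth.Agent.H92.EqCritConv

section LemB

open Matrix

variable {R Hm Fm : Type*} [CommRing R] [AddCommGroup Hm] [Module R Hm] [AddCommGroup Fm]
  [Module R Fm] (i : Fm →+ Hm) (p : Hm →+ Fm)
  (hi : ∀ (a : R) (m : Fm), i (a • m) = a • i m) (hp : ∀ (a : R) (m : Hm), p (a • m) = a • p m)
  (hpi : ∀ m, p (i m) = m)
  {ι ρ τ : Type*} [Fintype ι] [DecidableEq ι] [Fintype ρ] [DecidableEq ρ] [Fintype τ]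
  [DecidableEq τ]
  (h : ι → Hm) (M : Matrix ι ι R) (S : Matrix (ρ ⊕ τ) ι R) (S' : Matrix ι (ρ ⊕ τ) R)
  (hM : ∀ j, i (p (h j)) = ∑ k, M j k • h k)
  (hSS' : S * S' = 1) (hS'S : S' * S = 1)
  (hl : ∀ u j, (S * M) (Sum.inl u) j = S (Sum.inl u) j)
  (hr : ∀ v j, (S * M) (Sum.inr v) j = 0)

include hi hp in
lemma map_sum_smul_i {κ : Type*} (s : Finset κ) (a : κ → R) (m : κ → Fm) :
    i (∑ k ∈ s, a k • m k) = ∑ k ∈ s, a k • i (m k) := by
  rw [map_sum]
  exact Finset.sum_congr rfl (fun k _ => hi _ _)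

include hi hp in
lemma map_sum_smul_p {κ : Type*} (s : Finset κ) (a : κ → R) (m : κ → Hm) :
    p (∑ k ∈ s, a k • m k) = ∑ k ∈ s, a k • p (m k) := by
  rw [map_sum]
  exact Finset.sum_congr rfl (fun k _ => hp _ _)

include hi hp hM in
lemma lemB0 (a : ρ ⊕ τ) :
    i (p (∑ j, S a j • h j)) = ∑ k, (S * M) a k • h k := by
  rw [map_sum_smul_p i p hi hp, map_sum_smul_i i p hi hp]
  rw [Finset.sum_congr rfl (fun j _ => by rw [hM j])]
  rw [sum_smul_sum]
  rfl

include hi hp hpi hM hr in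
lemma lemB0' (v : τ) : p (∑ j, S (Sum.inr v) j • h j) = 0 := by
  rw [← hpi (p (∑ j, S (Sum.inr v) j • h j)), lemB0 i p hi hp h M S hM]
  rw [Finset.sum_congr rfl (fun k _ => by rw [hr v k, zero_smul])]
  rw [Finset.sum_const_zero, map_zero]

include hS'S in
lemma lemB_h (j : ι) : h j = ∑ a, S' j a • ∑ k, S a k • h k := by
  rw [sum_smul_sum]
  have h1 : ∀ k, ∑ a, S' j a * S a k = (1 : Matrix ι ι R) j k := by
    intro k
    rw [← hS'S]
    rfl
  rw [Finset.sum_congr rfl (fun k _ => by rw [h1 k])]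
  rw [Finset.sum_eq_single j]
  · rw [Matrix.one_apply_eq, one_smul]
  · intro k _ hk
    rw [Matrix.one_apply_ne (Ne.symm hk), zero_smul]
  · intro hj
    exact absurd (Finset.mem_univ j) hj

include hi hp hpi hM hS'S hr in
lemma lemB1 (c : ι → R) :
    p (∑ j, c j • h j) =
      ∑ u, (c ᵥ* S') (Sum.inl u) • p (∑ j, S (Sum.inl u) j • h j) := by
  have h1 : ∑ j, c j • h j = ∑ a, (c ᵥ* S') a • ∑ k, S a k • h k := by
    rw [Finset.sum_congr rfl (fun j _ => by rw [lemB_h h S S' hS'S j])]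
    rw [sum_smul_sum]
    rfl
  rw [h1, map_sum_smul_p i p hi hp, Fintype.sum_sum_type]
  have h2 : ∑ v, (c ᵥ* S') (Sum.inr v) • p (∑ k, S (Sum.inr v) k • h k) = 0 := by
    refine Finset.sum_eq_zero (fun v _ => ?_)
    rw [lemB0' i p hi hp hpi h M S hM hr, smul_zero]
  rw [h2, add_zero]

include hi hp hM hl in
lemma lemB2 (α : ρ → R) :
    i (∑ u, α u • p (∑ j, S (Sum.inl u) j • h j)) =
      ∑ k, (∑ u, α u * S (Sum.inl u) k) • h k := by
  rw [map_sum_smul_i i p hi hp]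
  rw [Finset.sum_congr rfl (fun u _ => by rw [lemB0 i p hi hp h M S hM])]
  rw [sum_smul_sum]
  refine Finset.sum_congr rfl (fun k _ => ?_)
  congr 1
  exact Finset.sum_congr rfl (fun u _ => by rw [hl u k])

include hSS' in
lemma lemB3 (α : ρ → R) (hα : ∀ k, ∑ u, α u * S (Sum.inl u) k = 0) : ∀ u, α u = 0 := by
  have h1 : (Sum.elim α (fun _ => 0) : ρ ⊕ τ → R) ᵥ* S = 0 := by
    funext k
    show ∑ a, (Sum.elim α (fun _ => 0) : ρ ⊕ τ → R) a * S a k = 0
    rw [Fintype.sum_sum_type]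
    simp only [Sum.elim_inl, Sum.elim_inr, zero_mul, Finset.sum_const_zero, add_zero]
    exact hα k
  have h2 := Matrix.vecMul_vecMul (Sum.elim α (fun _ => 0) : ρ ⊕ τ → R) S S'
  rw [hSS', Matrix.vecMul_one, h1, Matrix.zero_vecMul] at h2
  intro u
  exact (congrFun h2 (Sum.inl u)).symm

end LemB

variable {X : TopCat.{u}} {O : Sheaf (Opens.grothendieckTopology X) CommRingCat.{u}}

section GermT

variable (x : X)

/-- germ of a section of the structure sheaf in Mathlib's stalk -/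
noncomputable def gT (U : Opens X) (hx : x ∈ U) :
    O.obj.obj (op U) →+* (TopCat.Presheaf.stalk O.obj x : CommRingCat.{u}) :=
  (TopCat.Presheaf.germ O.obj U x hx).hom

lemma gT_res {U W : Opens X} (h : W ≤ U) (hx : x ∈ W) (a : O.obj.obj (op U)) :
    gT (O := O) x W hx (rR h a) = gT x U (h hx) a :=
  TopCat.Presheaf.germ_res_apply O.obj (homOfLE h) x hx a

lemma gT_surj (τ : (TopCat.Presheaf.stalk O.obj x : CommRingCat.{u})) :
    ∃ (U : Opens X) (hx : x ∈ U) (a : O.obj.obj (op U)), gT x U hx a = τ :=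
  TopCat.Presheaf.exists_germ_eq O.obj τ

lemma gT_eq (U : Opens X) (hx : x ∈ U) (a a' : O.obj.obj (op U))
    (h : gT (O := O) x U hx a = gT x U hx a') :
    ∃ (W : Opens X) (hW : W ≤ U), x ∈ W ∧ rR hW a = rR hW a' := by
  obtain ⟨W, hxW, iU, iV, e⟩ := TopCat.Presheaf.germ_eq O.obj x hx hx a a' h
  exact ⟨W, iU.le, hxW, e⟩

lemma gT_surj_fin {κ : Type*} [Finite κ]
    (τ : κ → (TopCat.Presheaf.stalk O.obj x : CommRingCat.{u})) (U₀ : Opens X) (hx₀ : x ∈ U₀) :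
    ∃ (U : Opens X) (_ : U ≤ U₀) (hx : x ∈ U) (a : κ → O.obj.obj (op U)),
      ∀ j, gT x U hx (a j) = τ j := by
  classical
  choose V hV m hm using fun j => gT_surj x (τ j)
  haveI := Fintype.ofFinite κ
  refine ⟨U₀ ⊓ ⨅ j, V j, inf_le_left, ⟨hx₀, ?_⟩,
    fun j => rR (inf_le_right.trans (iInf_le V j)) (m j), fun j => ?_⟩
  · rw [Opens.coe_iInf]
    exact Set.mem_iInter.2 hV
  · rw [gT_res]
    exact hm j

lemma gT_eq_fin {κ : Type*} [Finite κ] (U : Opens X) (hx : x ∈ U)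
    (a a' : κ → O.obj.obj (op U)) (h : ∀ j, gT (O := O) x U hx (a j) = gT x U hx (a' j)) :
    ∃ (W : Opens X) (hW : W ≤ U), x ∈ W ∧ ∀ j, rR hW (a j) = rR hW (a' j) := by
  classical
  choose V hV hxV hm using fun j => gT_eq x U hx (a j) (a' j) (h j)
  haveI := Fintype.ofFinite κ
  refine ⟨U ⊓ ⨅ j, V j, inf_le_left, ⟨hx, ?_⟩, fun j => ?_⟩
  · rw [Opens.coe_iInf]
    exact Set.mem_iInter.2 hxV
  · have h1 : (U ⊓ ⨅ j, V j) ≤ V j := inf_le_right.trans (iInf_le V j)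
    rw [← rR_rR (hV j) h1, ← rR_rR (hV j) h1, hm j]

end GermT

theorem exists_free_nbhd_of_retract
    (hO : ∀ x : X, IsLocalRing (TopCat.Presheaf.stalk O.obj x : CommRingCat.{u}))
    {F H : ModSite.Mod O}
    (hH : ∀ x : X, ∃ (U : Opens X) (n : ℕ), x ∈ U ∧
      Nonempty ((ModSite.restr O U).obj H ≅
        SheafOfModules.free (R := ModSite.ringSh (O.over U)) (ULift.{u} (Fin n))))
    (i : F ⟶ H) (p : H ⟶ F) (hip : i ≫ p = 𝟙 F) (x : X) :
    ∃ (U : Opens X) (r : ℕ), x ∈ U ∧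
      ∃ t : ULift.{u} (Fin r) → ((toPM O).obj F).obj (op U), GenOn F U t ∧ IndepOn F U t := by
  classical
  haveI := hO x
  have hpi : ∀ (V : Opens X) (m : ((toPM O).obj F).obj (op V)), sF p V (sF i V m) = m := by
    intro V m
    have h1 : sec ((toPM O).map (i ≫ p)) (op V) m = m := by
      rw [hip, CategoryTheory.Functor.map_id]
      rfl
    rw [Functor.map_comp, sec_comp] at h1
    exact h1
  obtain ⟨U₀, n, hx₀, hiso⟩ := hH x
  obtain ⟨h₀, hgen₀, hind₀⟩ := (nonempty_iso_free_iff_on H U₀ (ULift.{u} (Fin n))).1 hiso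
  -- the matrix of the idempotent
  obtain ⟨U₁, hU₁, hx₁, M₁, hM₁⟩ := hgen₀.exists_matrix U₀ le_rfl
    (fun j => sF i U₀ (sF p U₀ (h₀ j))) x hx₀
  obtain ⟨h₁, hh₁⟩ : ∃ h₁ : ULift.{u} (Fin n) → ((toPM O).obj H).obj (op U₁),
    h₁ = fun j => rF H hU₁ (h₀ j) := ⟨_, rfl⟩
  have hgen₁ : GenOn H U₁ h₁ := hh₁ ▸ hgen₀.mono hU₁
  have hind₁ : IndepOn H U₁ h₁ := hh₁ ▸ hind₀.mono hU₁
  have hE₁ : ∀ j, sF i U₁ (sF p U₁ (h₁ j)) = ∑ k, M₁ j k • h₁ k := by
    intro j
    rw [hh₁]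
    rw [sF_rF, sF_rF]
    exact hM₁ j
  have hMM : ∀ j l, ∑ k, M₁ j k * M₁ k l = M₁ j l := by
    intro j
    have h1 : sF i U₁ (sF p U₁ (sF i U₁ (sF p U₁ (h₁ j)))) = sF i U₁ (sF p U₁ (h₁ j)) := by
      rw [hpi]
    have h2 : sF i U₁ (sF p U₁ (∑ k, M₁ j k • h₁ k)) = ∑ l, (∑ k, M₁ j k * M₁ k l) • h₁ l := by
      rw [sF_sum_smul, sF_sum_smul]
      rw [Finset.sum_congr rfl (fun k _ => by rw [hE₁ k])]
      rw [sum_smul_sum]
    rw [hE₁ j, h2] at h1
    have h3 : ∑ l, (∑ k, M₁ j k * M₁ k l - M₁ j l) • rF H (le_refl U₁) (h₁ l) = 0 := by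
      rw [Finset.sum_congr rfl (fun l _ => by rw [rF_self, sub_smul])]
      rw [Finset.sum_sub_distrib, h1, sub_self]
    intro l
    exact sub_eq_zero.1 (hind₁ U₁ le_rfl _ h3 l)
  -- pass to the stalk
  obtain ⟨Mx, hMx⟩ : ∃ Mx : Matrix (ULift.{u} (Fin n)) (ULift.{u} (Fin n))
      (TopCat.Presheaf.stalk O.obj x : CommRingCat.{u}), Mx = fun j k => gT x U₁ hx₁ (M₁ j k) :=
    ⟨_, rfl⟩
  have hMxx : Mx * Mx = Mx := by
    ext j l
    rw [Matrix.mul_apply, hMx]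
    simp_rw [← map_mul]
    rw [← map_sum, hMM j l]
  obtain ⟨r, s, Sx, S'x, hx1, hx2, hx3, hx4⟩ := IdemLocal.exists_adapted_basis Mx hMxx
  -- lift the entries
  obtain ⟨U₂, hU₂, hx₂, SS, hSS⟩ := gT_surj_fin x (O := O)
    (Sum.elim (fun q : (Fin r ⊕ Fin s) × ULift.{u} (Fin n) => Sx q.1 q.2)
      (fun q : ULift.{u} (Fin n) × (Fin r ⊕ Fin s) => S'x q.1 q.2)) U₁ hx₁
  obtain ⟨S₂, hS₂⟩ : ∃ S₂ : (Fin r ⊕ Fin s) → ULift.{u} (Fin n) → O.obj.obj (op U₂),
    S₂ = fun a j => SS (Sum.inl (a, j)) := ⟨_, rfl⟩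
  obtain ⟨S'₂, hS'₂⟩ : ∃ S'₂ : ULift.{u} (Fin n) → (Fin r ⊕ Fin s) → O.obj.obj (op U₂),
    S'₂ = fun j a => SS (Sum.inr (j, a)) := ⟨_, rfl⟩
  obtain ⟨M₂, hM₂⟩ : ∃ M₂ : ULift.{u} (Fin n) → ULift.{u} (Fin n) → O.obj.obj (op U₂),
    M₂ = fun j k => rR hU₂ (M₁ j k) := ⟨_, rfl⟩
  have hgS : ∀ a j, gT x U₂ hx₂ (S₂ a j) = Sx a j := fun a j => by
    rw [hS₂]
    exact hSS (Sum.inl (a, j))
  have hgS' : ∀ j a, gT x U₂ hx₂ (S'₂ j a) = S'x j a := fun j a => by
    rw [hS'₂]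
    exact hSS (Sum.inr (j, a))
  have hgM : ∀ j k, gT x U₂ hx₂ (M₂ j k) = Mx j k := fun j k => by
    rw [hM₂, hMx, gT_res]
  -- the four families of identities, at the level of germs
  obtain ⟨W, hW, hxW, hWeq⟩ := gT_eq_fin x (O := O) U₂ hx₂
    (Sum.elim (fun q : (Fin r ⊕ Fin s) × (Fin r ⊕ Fin s) => ∑ j, S₂ q.1 j * S'₂ j q.2)
      (Sum.elim (fun q : ULift.{u} (Fin n) × ULift.{u} (Fin n) => ∑ a, S'₂ q.1 a * S₂ a q.2)
        (Sum.elim (fun q : Fin r × ULift.{u} (Fin n) => ∑ j, S₂ (Sum.inl q.1) j * M₂ j q.2)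
          (fun q : Fin s × ULift.{u} (Fin n) => ∑ j, S₂ (Sum.inr q.1) j * M₂ j q.2))))
    (Sum.elim (fun q : (Fin r ⊕ Fin s) × (Fin r ⊕ Fin s) => if q.1 = q.2 then 1 else 0)
      (Sum.elim (fun q : ULift.{u} (Fin n) × ULift.{u} (Fin n) => if q.1 = q.2 then 1 else 0)
        (Sum.elim (fun q : Fin r × ULift.{u} (Fin n) => S₂ (Sum.inl q.1) q.2)
          (fun _ : Fin s × ULift.{u} (Fin n) => 0))))
    (by
      rintro (q | q | q | q)
      · simp only [Sum.elim_inl, map_sum, map_mul, hgS, hgS']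
        have := congrFun (congrFun hx1 q.1) q.2
        rw [Matrix.mul_apply, Matrix.one_apply] at this
        rw [this]
        split_ifs
        · exact (map_one _).symm
        · exact (map_zero _).symm
      · simp only [Sum.elim_inl, Sum.elim_inr, map_sum, map_mul, hgS, hgS']
        have := congrFun (congrFun hx2 q.1) q.2
        rw [Matrix.mul_apply, Matrix.one_apply] at this
        rw [this]
        split_ifs
        · exact (map_one _).symm
        · exact (map_zero _).symm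
      · simp only [Sum.elim_inl, Sum.elim_inr, map_sum, map_mul, hgS, hgM]
        have := hx3 q.1 q.2
        rw [Matrix.mul_apply] at this
        exact this
      · simp only [Sum.elim_inr, map_sum, map_mul, hgS, hgM, map_zero]
        have := hx4 q.1 q.2
        rw [Matrix.mul_apply] at this
        exact this)
  -- everything over `W`
  have hW1 : W ≤ U₁ := hW.trans hU₂
  obtain ⟨hh, hhh⟩ : ∃ hh : ULift.{u} (Fin n) → ((toPM O).obj H).obj (op W),
    hh = fun j => rF H hW1 (h₁ j) := ⟨_, rfl⟩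
  have hgenW : GenOn H W hh := hhh ▸ hgen₁.mono hW1
  have hindW : IndepOn H W hh := hhh ▸ hind₁.mono hW1
  obtain ⟨SW, hSW⟩ : ∃ SW : Matrix (Fin r ⊕ Fin s) (ULift.{u} (Fin n)) (O.obj.obj (op W)),
    SW = fun a j => rR hW (S₂ a j) := ⟨_, rfl⟩
  obtain ⟨S'W, hS'W⟩ : ∃ S'W : Matrix (ULift.{u} (Fin n)) (Fin r ⊕ Fin s) (O.obj.obj (op W)),
    S'W = fun j a => rR hW (S'₂ j a) := ⟨_, rfl⟩
  obtain ⟨MW, hMW⟩ : ∃ MW : Matrix (ULift.{u} (Fin n)) (ULift.{u} (Fin n)) (O.obj.obj (op W)),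
    MW = fun j k => rR hW (M₂ j k) := ⟨_, rfl⟩
  have hEW : ∀ j, sF i W (sF p W (hh j)) = ∑ k, MW j k • hh k := by
    intro j
    rw [hhh, sF_rF, sF_rF, hE₁ j, rF_sum_smul, hMW, hM₂]
    refine Finset.sum_congr rfl (fun k _ => ?_)
    beta_reduce
    rw [rR_rR]
  have hSS'W : SW * S'W = 1 := by
    ext a a'
    rw [Matrix.mul_apply, Matrix.one_apply, hSW, hS'W]
    have h1 := hWeq (Sum.inl (a, a'))
    simp only [Sum.elim_inl, map_sum, map_mul] at h1
    rw [h1]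
    split_ifs
    · exact map_one _
    · exact map_zero _
  have hS'SW : S'W * SW = 1 := by
    ext j k
    rw [Matrix.mul_apply, Matrix.one_apply, hSW, hS'W]
    have h1 := hWeq (Sum.inr (Sum.inl (j, k)))
    simp only [Sum.elim_inl, Sum.elim_inr, map_sum, map_mul] at h1
    rw [h1]
    split_ifs
    · exact map_one _
    · exact map_zero _
  have hlW : ∀ u j, (SW * MW) (Sum.inl u) j = SW (Sum.inl u) j := by
    intro u j
    rw [Matrix.mul_apply, hSW, hMW]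
    have h1 := hWeq (Sum.inr (Sum.inr (Sum.inl (u, j))))
    simp only [Sum.elim_inl, Sum.elim_inr, map_sum, map_mul] at h1
    exact h1
  have hrW : ∀ v j, (SW * MW) (Sum.inr v) j = 0 := by
    intro v j
    rw [Matrix.mul_apply, hSW, hMW]
    have h1 := hWeq (Sum.inr (Sum.inr (Sum.inr (v, j))))
    simp only [Sum.elim_inr, map_sum, map_mul, map_zero] at h1
    exact h1
  -- the data over an open `V ≤ W`
  have key : ∀ (V : Opens X) (hV : V ≤ W),
      (∀ j, sF i V (sF p V (rF H hV (hh j))) = ∑ k, (MW.map (rR hV)) j k • rF H hV (hh k)) ∧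
      (SW.map (rR hV)) * (S'W.map (rR hV)) = 1 ∧ (S'W.map (rR hV)) * (SW.map (rR hV)) = 1 ∧
      (∀ u j, ((SW.map (rR hV)) * (MW.map (rR hV))) (Sum.inl u) j =
        (SW.map (rR hV)) (Sum.inl u) j) ∧
      (∀ v j, ((SW.map (rR hV)) * (MW.map (rR hV))) (Sum.inr v) j = 0) := by
    intro V hV
    refine ⟨fun j => ?_, ?_, ?_, fun u j => ?_, fun v j => ?_⟩
    · rw [sF_rF, sF_rF, hEW j, rF_sum_smul]
      rfl
    · rw [← Matrix.map_mul, hSS'W, Matrix.map_one _ (map_zero _) (map_one _)]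
    · rw [← Matrix.map_mul, hS'SW, Matrix.map_one _ (map_zero _) (map_one _)]
    · rw [← Matrix.map_mul, Matrix.map_apply, Matrix.map_apply, hlW u j]
    · rw [← Matrix.map_mul, Matrix.map_apply, hrW v j, map_zero]
  -- the basis of `F` over `W`
  obtain ⟨t, ht⟩ : ∃ t : Fin r → ((toPM O).obj F).obj (op W),
    t = fun v => sF p W (∑ j, SW (Sum.inl v) j • hh j) := ⟨_, rfl⟩
  have htV : ∀ (V : Opens X) (hV : V ≤ W) (v : Fin r),
      rF F hV (t v) = sF p V (∑ j, (SW.map (rR hV)) (Sum.inl v) j • rF H hV (hh j)) := by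
    intro V hV v
    rw [ht, ← sF_rF, rF_sum_smul]
    rfl
  refine ⟨W, r, hxW, fun k => t k.down, ?_, ?_⟩
  · intro V hV m y hy
    obtain ⟨W', hW', hyW', c, hc⟩ := hgenW V hV (sF i V m) y hy
    obtain ⟨k1, k2, k3, k4, k5⟩ := key W' (hW'.trans hV)
    refine ⟨W', hW', hyW', fun k => (Matrix.vecMul c (S'W.map (rR (hW'.trans hV))))
      (Sum.inl k.down), ?_⟩
    have h1 : rF F hW' m = sF p W' (∑ j, c j • rF H (hW'.trans hV) (hh j)) := by
      rw [← hc, ← sF_rF, hpi]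
    rw [h1, lemB1 (sF i W') (sF p W') (fun a m => sF_smul i W' a m)
      (fun a m => sF_smul p W' a m) (hpi W') _ _ _ _ k1 k3 k5 c]
    rw [← Equiv.sum_comp Equiv.ulift]
    refine Finset.sum_congr rfl (fun k _ => ?_)
    rw [htV W' (hW'.trans hV)]
    rfl
  · intro V hV α hα
    obtain ⟨k1, k2, k3, k4, k5⟩ := key V hV
    obtain ⟨α', hα'⟩ : ∃ α' : Fin r → O.obj.obj (op V), α' = fun v => α ⟨v⟩ := ⟨_, rfl⟩
    have h0 : ∑ v, α' v • sF p V (∑ j, (SW.map (rR hV)) (Sum.inl v) j • rF H hV (hh j)) = 0 := by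
      rw [← hα, ← Equiv.sum_comp Equiv.ulift]
      refine Finset.sum_congr rfl (fun k _ => ?_)
      rw [htV V hV, hα']
      rfl
    have h1 := congrArg (sF i V) h0
    rw [map_zero, lemB2 (sF i V) (sF p V) (fun a m => sF_smul i V a m)
      (fun a m => sF_smul p V a m) _ _ _ k1 k4 α'] at h1
    have h2 := hindW V hV _ h1
    have h3 := lemB3 (SW.map (rR hV)) (S'W.map (rR hV)) k2 α' h2
    intro k
    have := h3 k.down
    rw [hα'] at this
    exact this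

end Groth.Agent.H92.RSLocal
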