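import Groth.Agent.H92.RSLocalM
import Groth.Agent.H92.RSGerm

/-!
# A finitely presented module with a free stalk is free on a neighbourhood (helper92)
-/

set_option autoImplicit false
set_option backward.isDefEq.respectTransparency false
set_option linter.style.haveILetI false
universe u
open CategoryTheory CategoryTheory.Limits Opposite TopologicalSpace

namespace Groth.Agent.H92.RSLocal

open Groth.Agent.H31 Groth.Agent.H92.EqCrit Groth.Agent.H92.EqCritConv

section Algebra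

lemma sum_smul_sum {R M : Type*} [Semiring R] [AddCommMonoid M] [Module R M] {κ ι : Type*}
    [Fintype κ] [Fintype ι] (a : κ → R) (A : κ → ι → R) (v : ι → M) :
    ∑ k, a k • ∑ i, A k i • v i = ∑ i, (∑ k, a k * A k i) • v i := by
  simp_rw [Finset.smul_sum, smul_smul, Finset.sum_smul]
  exact Finset.sum_comm

variable {R M : Type*} [CommRing R] [AddCommGroup M] [Module R M] {r : ℕ}
  (e : M ≃ₗ[R] (Fin r → R))

lemma basis_expand (v : M) : v = ∑ k, (e v k) • e.symm (Pi.single k 1) := by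
  apply e.injective
  rw [map_sum]
  simp_rw [map_smul, LinearEquiv.apply_symm_apply]
  funext l
  rw [Finset.sum_apply]
  simp [Pi.single_apply]

lemma basis_indep (w w' : Fin r → R)
    (h : ∑ l, w l • e.symm (Pi.single l 1) = ∑ l, w' l • e.symm (Pi.single l 1)) : w = w' := by
  have h1 : ∀ w : Fin r → R, e (∑ l, w l • e.symm (Pi.single l 1)) = w := by
    intro w
    rw [map_sum]
    simp_rw [map_smul, LinearEquiv.apply_symm_apply]
    funext l
    rw [Finset.sum_apply]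
    simp [Pi.single_apply]
  rw [← h1 w, ← h1 w', h]

end Algebra

variable {X : TopCat.{u}} {O : Sheaf (Opens.grothendieckTopology X) CommRingCat.{u}}

lemma gmF_sum_smul (x : X) (F : ModSite.Mod O) (U : Opens X) (hx : x ∈ U) {ι : Type*}
    (s : Finset ι) (a : ι → O.obj.obj (op U)) (m : ι → ((toPM O).obj F).obj (op U)) :
    gmF x F U hx (∑ i ∈ s, a i • m i) = ∑ i ∈ s, gmR x U hx (a i) • gmF x F U hx (m i) := by
  rw [map_sum]
  exact Finset.sum_congr rfl (fun i _ => gmF_smul x F U hx (a i) (m i))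

lemma rF_eq_of_le (F : ModSite.Mod O) {U W V : Opens X} (hW : W ≤ U) (hV : V ≤ W)
    (a b : ((toPM O).obj F).obj (op U)) (h : rF F hW a = rF F hW b) :
    rF F (hV.trans hW) a = rF F (hV.trans hW) b := by
  rw [← rF_rF F hW hV, ← rF_rF F hW hV, h]

lemma rR_eq_of_le {U W V : Opens X} (hW : W ≤ U) (hV : V ≤ W)
    (a b : O.obj.obj (op U)) (h : rR (O := O) hW a = rR hW b) :
    rR (O := O) (hV.trans hW) a = rR (hV.trans hW) b := by
  rw [← rR_rR hW hV, ← rR_rR hW hV, h]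

theorem exists_free_nbhd_of_stalk_free (F : ModSite.Mod O)
    [SheafOfModules.IsFinitePresentation (R := ModSite.ringSh O) F] (x : X) (r : ℕ)
    (e : ModSite.stalkMod (Opens.pointGrothendieckTopology x) F
      ≃ₗ[ModSite.stalkRing (Opens.pointGrothendieckTopology x) O]
        (Fin r → ModSite.stalkRing (Opens.pointGrothendieckTopology x) O)) :
    ∃ U : Opens X, x ∈ U ∧ ∃ t : ULift.{u} (Fin r) → ((toPM O).obj F).obj (op U),
      GenOn F U t ∧ IndepOn F U t := by
  classical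
  obtain ⟨U₀, hx₀, ι, κ, hι, hκ, s, rel, hgen, hrel⟩ := exists_relOn_of_isFinitePresentation F x
  -- the basis of the stalk
  obtain ⟨b, hb⟩ : ∃ b : Fin r → ModSite.stalkAb (Opens.pointGrothendieckTopology x) F,
    b = fun k => e.symm (Pi.single k 1) := ⟨_, rfl⟩
  obtain ⟨c, hc⟩ : ∃ c : ι → Fin r → ModSite.stalkRing (Opens.pointGrothendieckTopology x) O,
    c = fun i l => e (gmF x F U₀ hx₀ (s i)) l := ⟨_, rfl⟩
  have hS1 : ∀ i, gmF x F U₀ hx₀ (s i) = ∑ l, c i l • b l := by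
    intro i
    rw [hb, hc]
    exact basis_expand e _
  -- lift the basis and the coefficients
  obtain ⟨U₁, hU₁, hx₁, t₁, ht₁⟩ := gmF_surj_fin x F b U₀ hx₀
  obtain ⟨U₂, hU₂, hx₂, C₂, hC₂⟩ := gmR_surj_fin x (O := O) (fun p : ι × Fin r => c p.1 p.2) U₁ hx₁
  obtain ⟨U₄, hU₄, hx₄, D, hD⟩ := hgen.exists_matrix U₂ (hU₂.trans hU₁)
    (fun k => rF F hU₂ (t₁ k)) x hx₂
  have h40 : U₄ ≤ U₀ := hU₄.trans (hU₂.trans hU₁)
  -- everything on U₄
  obtain ⟨t, ht⟩ : ∃ t : Fin r → ((toPM O).obj F).obj (op U₄),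
    t = fun k => rF F (hU₄.trans hU₂) (t₁ k) := ⟨_, rfl⟩
  obtain ⟨s', hs'⟩ : ∃ s' : ι → ((toPM O).obj F).obj (op U₄), s' = fun i => rF F h40 (s i) :=
    ⟨_, rfl⟩
  obtain ⟨Cm, hCm⟩ : ∃ Cm : ι → Fin r → O.obj.obj (op U₄), Cm = fun i l => rR hU₄ (C₂ (i, l)) :=
    ⟨_, rfl⟩
  obtain ⟨rel', hrel'⟩ : ∃ rel' : κ → ι → O.obj.obj (op U₄), rel' = fun j i => rR h40 (rel j i) :=
    ⟨_, rfl⟩
  have hgt : ∀ k, gmF x F U₄ hx₄ (t k) = b k := by
    intro k
    rw [ht, gmF_res]
    exact ht₁ k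
  have hgs : ∀ i, gmF x F U₄ hx₄ (s' i) = ∑ l, c i l • b l := by
    intro i
    rw [hs', gmF_res]
    exact hS1 i
  have hgC : ∀ i l, gmR x U₄ hx₄ (Cm i l) = c i l := by
    intro i l
    rw [hCm, gmR_res]
    exact hC₂ (i, l)
  have hE2 : ∀ k, t k = ∑ i, D k i • s' i := by
    intro k
    have h1 := hD k
    rw [rF_rF] at h1
    rw [ht, hs']
    exact h1
  -- germ level identities
  have hE3g : ∀ k l, gmR x U₄ hx₄ (∑ i, D k i * Cm i l) =
      gmR x U₄ hx₄ (if k = l then 1 else 0) := by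
    intro k
    have h1 : b k = ∑ l, (∑ i, gmR x U₄ hx₄ (D k i) * c i l) • b l := by
      rw [← hgt k, hE2 k, gmF_sum_smul, ← sum_smul_sum]
      exact Finset.sum_congr rfl (fun i _ => by rw [hgs i])
    have h2 : b k = ∑ l, (if k = l then (1 : ModSite.stalkRing
        (Opens.pointGrothendieckTopology x) O) else 0) • b l := by
      rw [Finset.sum_eq_single k]
      · rw [if_pos rfl, one_smul]
      · intro l _ hl
        rw [if_neg (Ne.symm hl), zero_smul]
      · intro h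
        exact absurd (Finset.mem_univ k) h
    have h3 := basis_indep e _ _ (hb ▸ (h1.symm.trans h2))
    intro l
    rw [map_sum]
    simp_rw [map_mul, hgC]
    refine (congrFun h3 l).trans ?_
    split_ifs
    · exact (map_one _).symm
    · exact (map_zero _).symm
  have hE4g : ∀ j l, gmR x U₄ hx₄ (∑ i, rel' j i * Cm i l) = gmR x U₄ hx₄ 0 := by
    intro j
    have h1 : (0 : ModSite.stalkAb (Opens.pointGrothendieckTopology x) F) =
        ∑ l, (∑ i, gmR x U₄ hx₄ (rel' j i) * c i l) • b l := by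
      have h0 : ∑ i, rel' j i • s' i = 0 := by
        rw [hrel', hs', ← rF_sum_smul, hrel.1 j, map_zero]
      rw [← sum_smul_sum, ← map_zero (gmF x F U₄ hx₄), ← h0, gmF_sum_smul]
      exact Finset.sum_congr rfl (fun i _ => by rw [hgs i])
    have h2 : (0 : ModSite.stalkAb (Opens.pointGrothendieckTopology x) F) =
        ∑ l, (0 : ModSite.stalkRing (Opens.pointGrothendieckTopology x) O) • b l := by
      simp
    have h3 := basis_indep e _ (fun _ => 0) (hb ▸ (h1.symm.trans h2))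
    intro l
    rw [map_sum, map_zero]
    simp_rw [map_mul, hgC]
    exact congrFun h3 l
  have hE1g : ∀ i, gmF x F U₄ hx₄ (s' i) = gmF x F U₄ hx₄ (∑ l, Cm i l • t l) := by
    intro i
    rw [hgs i, gmF_sum_smul]
    exact Finset.sum_congr rfl (fun l _ => by rw [hgC, hgt])
  -- spread out
  obtain ⟨W₁, hW₁, hxW₁, hE1⟩ := gmF_eq_fin x F U₄ hx₄ _ _ hE1g
  obtain ⟨W₃, hW₃, hxW₃, hE3⟩ := gmR_eq_fin x U₄ hx₄
    (fun p : Fin r × Fin r => ∑ i, D p.1 i * Cm i p.2)
    (fun p : Fin r × Fin r => if p.1 = p.2 then 1 else 0) (fun p => hE3g p.1 p.2)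
  obtain ⟨W₄, hW₄, hxW₄, hE4⟩ := gmR_eq_fin x U₄ hx₄
    (fun p : κ × Fin r => ∑ i, rel' p.1 i * Cm i p.2) (fun _ => 0) (fun p => hE4g p.1 p.2)
  obtain ⟨U, hU⟩ : ∃ U : Opens X, U = W₁ ⊓ W₃ ⊓ W₄ := ⟨_, rfl⟩
  have hUW₁ : U ≤ W₁ := hU ▸ inf_le_left.trans inf_le_left
  have hUW₃ : U ≤ W₃ := hU ▸ inf_le_left.trans inf_le_right
  have hUW₄ : U ≤ W₄ := hU ▸ inf_le_right
  have hxU : x ∈ U := hU ▸ ⟨⟨hxW₁, hxW₃⟩, hxW₄⟩
  have hU4 : U ≤ U₄ := hUW₁.trans hW₁
  -- the identities over every open inside `U`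
  have E1 : ∀ (V : Opens X) (hV : V ≤ U) (i : ι),
      rF F ((hV.trans hU4).trans h40) (s i) =
        ∑ l, rR (hV.trans hU4) (Cm i l) • rF F (hV.trans hU4) (t l) := by
    intro V hV i
    have h1 := rF_eq_of_le F hW₁ (hV.trans hUW₁) _ _ (hE1 i)
    rw [rF_sum_smul] at h1
    rw [← h1, hs', rF_rF]
  have E2 : ∀ (V : Opens X) (hV : V ≤ U) (k : Fin r),
      rF F (hV.trans hU4) (t k) =
        ∑ i, rR (hV.trans hU4) (D k i) • rF F ((hV.trans hU4).trans h40) (s i) := by
    intro V hV k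
    rw [hE2 k, rF_sum_smul]
    refine Finset.sum_congr rfl (fun i _ => ?_)
    rw [hs', rF_rF]
  have E3 : ∀ (V : Opens X) (hV : V ≤ U) (k l : Fin r),
      ∑ i, rR (hV.trans hU4) (D k i) * rR (hV.trans hU4) (Cm i l) = if k = l then 1 else 0 := by
    intro V hV k l
    have h1 := rR_eq_of_le hW₃ (hV.trans hUW₃) _ _ (hE3 (k, l))
    rw [map_sum] at h1
    simp_rw [map_mul] at h1
    refine h1.trans ?_
    split_ifs
    · exact map_one _
    · exact map_zero _
  have E4 : ∀ (V : Opens X) (hV : V ≤ U) (j : κ) (l : Fin r),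
      ∑ i, rR ((hV.trans hU4).trans h40) (rel j i) * rR (hV.trans hU4) (Cm i l) = 0 := by
    intro V hV j l
    have h1 := rR_eq_of_le hW₄ (hV.trans hUW₄) _ _ (hE4 (j, l))
    rw [map_sum, map_zero] at h1
    simp_rw [map_mul] at h1
    refine Eq.trans (Finset.sum_congr rfl (fun i _ => ?_)) h1
    rw [hrel', rR_rR]
  refine ⟨U, hxU, fun k => rF F hU4 (t k.down), ?_, ?_⟩
  · -- generation
    intro V hV m y hy
    obtain ⟨W, hW, hyW, a, ha⟩ := hgen V ((hV.trans hU4).trans h40) m y hy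
    refine ⟨W, hW, hyW, fun k => ∑ i, a i * rR ((hW.trans hV).trans hU4) (Cm i k.down), ?_⟩
    rw [ha]
    have h1 : ∀ i, rF F (hW.trans ((hV.trans hU4).trans h40)) (s i) =
        ∑ l, rR ((hW.trans hV).trans hU4) (Cm i l) • rF F ((hW.trans hV).trans hU4) (t l) :=
      fun i => E1 W (hW.trans hV) i
    rw [Finset.sum_congr rfl (fun i _ => by rw [h1 i]), sum_smul_sum]
    rw [← Equiv.sum_comp Equiv.ulift]
    refine Finset.sum_congr rfl (fun k _ => ?_)
    rw [rF_rF]
    rfl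
  · -- independence
    intro V hV a ha
    obtain ⟨a', ha'⟩ : ∃ a' : Fin r → O.obj.obj (op V), a' = fun l => a ⟨l⟩ := ⟨_, rfl⟩
    have ha0 : ∑ l, a' l • rF F (hV.trans hU4) (t l) = 0 := by
      rw [← ha, ← Equiv.sum_comp Equiv.ulift]
      refine Finset.sum_congr rfl (fun k _ => ?_)
      rw [rF_rF, ha']
      rfl
    have ha1 : ∑ i, (∑ k, a' k * rR (hV.trans hU4) (D k i)) •
        rF F ((hV.trans hU4).trans h40) (s i) = 0 := by
      rw [← sum_smul_sum, ← ha0]
      exact Finset.sum_congr rfl (fun k _ => by rw [E2 V hV k])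
    have hzero : ∀ l, a' l = 0 := by
      intro l
      refine eq_zero_of_locally_ring (a' l) (fun y hy => ?_)
      obtain ⟨W, hW, hyW, cc, hcc⟩ := hrel.2 V ((hV.trans hU4).trans h40) _ ha1 y hy
      refine ⟨W, hW, hyW, ?_⟩
      have hWU : W ≤ U := hW.trans hV
      -- matrices over `O(W)`
      obtain ⟨Dm, hDm⟩ : ∃ Dm : Matrix (Fin r) ι (O.obj.obj (op W)),
        Dm = fun k i => rR (hWU.trans hU4) (D k i) := ⟨_, rfl⟩
      obtain ⟨CM, hCM⟩ : ∃ CM : Matrix ι (Fin r) (O.obj.obj (op W)),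
        CM = fun i l => rR (hWU.trans hU4) (Cm i l) := ⟨_, rfl⟩
      obtain ⟨RM, hRM⟩ : ∃ RM : Matrix κ ι (O.obj.obj (op W)),
        RM = fun j i => rR ((hWU.trans hU4).trans h40) (rel j i) := ⟨_, rfl⟩
      have hDC : Dm * CM = 1 := by
        ext k l
        rw [Matrix.mul_apply, Matrix.one_apply, hDm, hCM]
        exact E3 W hWU k l
      have hRC : RM * CM = 0 := by
        ext j l
        rw [Matrix.mul_apply, hRM, hCM]
        exact E4 W hWU j l
      have haD : Matrix.vecMul (fun k => rR hW (a' k)) Dm = Matrix.vecMul cc RM := by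
        ext i
        show ∑ k, rR hW (a' k) * Dm k i = ∑ j, cc j * RM j i
        rw [hDm, hRM, ← hcc i, map_sum]
        refine Finset.sum_congr rfl (fun k _ => ?_)
        rw [map_mul, rR_rR]
      have h2 := Matrix.vecMul_vecMul (fun k => rR hW (a' k)) Dm CM
      rw [hDC, Matrix.vecMul_one, haD, Matrix.vecMul_vecMul, hRC, Matrix.vecMul_zero] at h2
      exact (congrFun h2 l).symm
    intro k
    have := hzero k.down
    rw [ha'] at this
    exact this

end Groth.Agent.H92.RSLocal
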