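import Mathlib
import Groth.Agent.H28.RelPCBC
import Groth.Agent.H28.PCDescentSch
import Groth.Agent.H6.RpushQC

/-!
# (COV) descent of pseudo-coherence along a finite jointly surjective family of flat maps
from affine schemes (piece for helper28's S6211)
-/

set_option autoImplicit false
set_option maxHeartbeats 400000
set_option linter.style.haveILetI false
universe u
open CategoryTheory CategoryTheory.Limits AlgebraicGeometry TopologicalSpace Opposite
attribute [local instance] HasDerivedCategory.standard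

namespace Groth.Agent.H92.RelPC_COV

open Groth.Agent.H31 Groth.Agent.H31.Stalk Groth.Agent.H28.LpullLoc
open Groth.Agent.H90.SPerf Groth.Agent.H90.TPC Groth.Agent.H6.LpullQCoh
open Groth.Agent.H28.PCDescentSch

theorem isPC_of_finite_flat_cover {Z : Scheme.{u}} [IsAffine Z] {J : Type u} [Finite J]
    (Z' : J → Scheme.{u}) [∀ j, IsAffine (Z' j)] (q : ∀ j, Z' j ⟶ Z) [∀ j, Flat (q j)]
    [∀ j, DCoh.HasLpull (q j)]
    (hsurj : ∀ z : Z, ∃ (j : J) (z' : Z' j), q j z' = z)
    (T : DCoh.D Z) (hT : DCoh.IsQCohD T) (n : ℤ)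
    (h : ∀ j, DCoh.IsPseudoCoherentD n ((DCoh.Lpull (q j)).obj T)) :
    DCoh.IsPseudoCoherentD n T := by
  let p : (∐ Z') ⟶ Z := Sigma.desc q
  haveI : Flat p := inferInstance
  haveI : Surjective p := by
    refine Surjective.sigmaDesc_of_union_range_eq_univ ?_
    rw [Set.eq_univ_iff_forall]
    intro z
    obtain ⟨j, z', hz'⟩ := hsurj z
    exact Set.mem_iUnion.2 ⟨j, z', hz'⟩
  haveI : IsAffine (∐ Z') := inferInstance
  haveI : QuasiCompact p := inferInstance
  haveI : DCoh.HasLpull p := hasLpull p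
  refine isPseudoCoherentD_of_Lpull p T hT n ?_
  rw [isPC_iff]
  intro x
  obtain ⟨⟨j, y⟩, rfl⟩ := (sigmaMk Z').surjective x
  rw [sigmaMk_mk]
  haveI : DCoh.HasLpull (Sigma.ι Z' j) := hasLpull _
  haveI : DCoh.HasLpull (Sigma.ι Z' j ≫ p) := hasLpull _
  have e1 : (DCoh.restrictD (Sigma.ι Z' j)).obj ((DCoh.Lpull p).obj T) ≅
      (DCoh.Lpull (q j)).obj T :=
    (nonempty_Lpull_iso_restrictD (Sigma.ι Z' j) _).some.symm ≪≫
      (LpullCompIso (Sigma.ι Z' j) p).app T ≪≫ (LpullCongr (Sigma.ι_desc q j)).app T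
  have h3 : DCoh.IsPseudoCoherentD n
      ((DCoh.restrictD (Sigma.ι Z' j)).obj ((DCoh.Lpull p).obj T)) :=
    isPC_of_iso e1.symm (h j)
  exact Groth.Agent.H90.LR.locPC_of_restrict (Sigma.ι Z' j) ((isPC_iff n _).1 h3 y)

end Groth.Agent.H92.RelPC_COV
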