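import Groth.Agent.H92.EqCritConv
import Groth.Prelude.Def_ModSite2

/-!
# Flatness of sheaves of modules and flatness of stalks (helper92)

* `flat_stalk`: the stalks of a flat module at points of the site are flat.
* `EC_of_flat_stalks`: if the stalks at a conservative family of points are flat, the equational
  condition holds (hence the module is flat).
-/

set_option autoImplicit false
set_option backward.isDefEq.respectTransparency false
universe u
open CategoryTheory CategoryTheory.Limits Opposite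

namespace Groth.Agent.H92.StalkFlat

open Groth.Agent.H31 Groth.Agent.H92.EqCrit Groth.Agent.H92.EqCritConv

section Abstract

variable {D : Type*} [Category D] [IsCofiltered D] (Sx : D → Type*) {St : Type*}
  (germ : ∀ E, Sx E → St) (res : ∀ {E E' : D}, (E' ⟶ E) → Sx E → Sx E')

include germ res in
/-- finitely many germs have representatives over a common neighbourhood -/
theorem exists_common_rep
    (hres : ∀ {E E' : D} (e : E' ⟶ E) (s : Sx E), germ E' (res e s) = germ E s)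
    (hsurj : ∀ a : St, ∃ (E : D) (s : Sx E), germ E s = a) :
    ∀ (l : ℕ) (a : Fin l → St) (E₀ : D),
      ∃ (E : D) (_ : E ⟶ E₀) (a' : Fin l → Sx E), ∀ i, germ E (a' i) = a i := by
  intro l
  induction l with
  | zero =>
    intro a E₀
    exact ⟨E₀, 𝟙 _, Fin.elim0, fun i => i.elim0⟩
  | succ l ih =>
    intro a E₀
    obtain ⟨E₁, e₁, a₁, h₁⟩ := ih (fun i => a i.castSucc) E₀
    obtain ⟨E₂, s, hs⟩ := hsurj (a (Fin.last l))
    refine ⟨IsCofiltered.min E₁ E₂, IsCofiltered.minToLeft E₁ E₂ ≫ e₁,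
      Fin.lastCases (res (IsCofiltered.minToRight E₁ E₂) s)
        (fun i => res (IsCofiltered.minToLeft E₁ E₂) (a₁ i)), ?_⟩
    intro i
    refine Fin.lastCases ?_ (fun i' => ?_) i
    · beta_reduce
      rw [Fin.lastCases_last, hres, hs]
    · beta_reduce
      rw [Fin.lastCases_castSucc, hres, h₁]

include germ res in
/-- finitely many equalities of germs hold over a common neighbourhood -/
theorem exists_common_eq
    (hcomp : ∀ {E E' E'' : D} (e : E' ⟶ E) (e' : E'' ⟶ E') (s : Sx E),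
      res (e' ≫ e) s = res e' (res e s))
    (hinj : ∀ (E : D) (u v : Sx E), germ E u = germ E v →
      ∃ (E' : D) (e : E' ⟶ E), res e u = res e v) :
    ∀ (l : ℕ) (E : D) (u v : Fin l → Sx E), (∀ i, germ E (u i) = germ E (v i)) →
      ∃ (E' : D) (e : E' ⟶ E), ∀ i, res e (u i) = res e (v i) := by
  intro l
  induction l with
  | zero =>
    intro E u v _
    exact ⟨E, 𝟙 _, fun i => i.elim0⟩
  | succ l ih =>
    intro E u v h
    obtain ⟨E₁, e₁, h₁⟩ := ih E (fun i => u i.castSucc) (fun i => v i.castSucc)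
      (fun i => h i.castSucc)
    obtain ⟨E₂, e₂, h₂⟩ := hinj E (u (Fin.last l)) (v (Fin.last l)) (h (Fin.last l))
    obtain ⟨E₃, f₁, f₂, hf⟩ := IsCofiltered.cospan e₁ e₂
    refine ⟨E₃, f₁ ≫ e₁, fun i => ?_⟩
    refine Fin.lastCases ?_ (fun i' => ?_) i
    · rw [hf, hcomp, hcomp, h₂]
    · rw [hcomp, hcomp, h₁ i']

end Abstract

section Point

variable {C : Type u} [SmallCategory C] {J : GrothendieckTopology C}
  (p : GrothendieckTopology.Point.{u} J) {O : Sheaf J CommRingCat.{u}} (F : ModSite.Mod O)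

/-- the germ of a section of `O` at a neighbourhood of the point -/
noncomputable def gO (E : p.fiber.Elements) : O.obj.obj (op E.1) →+* ModSite.stalkRing p O :=
  (p.toPresheafFiber E.1 E.2 O.obj).hom

/-- the germ of a section of `F` at a neighbourhood of the point -/
noncomputable def gF (E : p.fiber.Elements) :
    ((toPM O).obj F).obj (op E.1) →+ ModSite.stalkAb p F :=
  (p.toPresheafFiber E.1 E.2 (ModSite.toAb F).obj).hom

lemma gF_smul (E : p.fiber.Elements) (r : O.obj.obj (op E.1))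
    (s : ((toPM O).obj F).obj (op E.1)) :
    gF p F E (r • s) = gO p E r • gF p F E s :=
  ModSite.germ_smul p F E.1 E.2 r s

lemma gO_res {E E' : p.fiber.Elements} (e : E' ⟶ E) (r : O.obj.obj (op E.1)) :
    gO p E' (rO e.1 r) = gO p E r :=
  (p.toPresheafFiber_w_apply e.1 E'.2 O.obj r).trans
    (congrArg (fun t => (p.toPresheafFiber E.1 t O.obj).hom r) e.2)

lemma gF_res {E E' : p.fiber.Elements} (e : E' ⟶ E) (s : ((toPM O).obj F).obj (op E.1)) :
    gF p F E' (rM ((toPM O).obj F) e.1 s) = gF p F E s :=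
  (p.toPresheafFiber_w_apply e.1 E'.2 (ModSite.toAb F).obj s).trans
    (congrArg (fun t => (p.toPresheafFiber E.1 t (ModSite.toAb F).obj).hom s) e.2)

lemma gO_surj (a : ModSite.stalkRing p O) :
    ∃ (E : p.fiber.Elements) (r : O.obj.obj (op E.1)), gO p E r = a := by
  obtain ⟨X, x, r, hr⟩ := p.toPresheafFiber_jointly_surjective (P := O.obj) a
  exact ⟨⟨X, x⟩, r, hr⟩

lemma gF_surj (a : ModSite.stalkAb p F) :
    ∃ (E : p.fiber.Elements) (s : ((toPM O).obj F).obj (op E.1)), gF p F E s = a := by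
  obtain ⟨X, x, s, hs⟩ := p.toPresheafFiber_jointly_surjective (P := (ModSite.toAb F).obj) a
  exact ⟨⟨X, x⟩, s, hs⟩

lemma gO_inj (E : p.fiber.Elements) (u v : O.obj.obj (op E.1)) (h : gO p E u = gO p E v) :
    ∃ (E' : p.fiber.Elements) (e : E' ⟶ E), rO e.1 u = rO e.1 v := by
  obtain ⟨Y, f, y, hy, huv⟩ := (p.toPresheafFiber_eq_iff' (P := O.obj) E.1 E.2 u v).1 h
  exact ⟨⟨Y, y⟩, ⟨f, hy⟩, huv⟩

lemma gF_inj (E : p.fiber.Elements) (u v : ((toPM O).obj F).obj (op E.1))
    (h : gF p F E u = gF p F E v) :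
    ∃ (E' : p.fiber.Elements) (e : E' ⟶ E),
      rM ((toPM O).obj F) e.1 u = rM ((toPM O).obj F) e.1 v := by
  obtain ⟨Y, f, y, hy, huv⟩ :=
    (p.toPresheafFiber_eq_iff' (P := (ModSite.toAb F).obj) E.1 E.2 u v).1 h
  exact ⟨⟨Y, y⟩, ⟨f, hy⟩, huv⟩

/-- **The stalks of a flat module are flat.** -/
theorem flat_stalk (hF : ModSite.IsFlat F) :
    Module.Flat (ModSite.stalkRing p O) (ModSite.stalkMod p F) := by
  classical
  rw [Module.Flat.iff_forall_isTrivialRelation]
  intro l f x hfx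
  have E₀ : p.fiber.Elements := IsCofiltered.nonempty.some
  obtain ⟨E₁, -, f', hf'⟩ := exists_common_rep (D := p.fiber.Elements)
    (fun E => O.obj.obj (op E.1)) (fun E => gO p E)
    (@fun E E' (e : E' ⟶ E) => (rO e.1 : O.obj.obj (op E.1) → O.obj.obj (op E'.1)))
    (fun e r => gO_res p e r) (gO_surj p) l f E₀
  obtain ⟨E₂, e₂, x', hx'⟩ := exists_common_rep (D := p.fiber.Elements)
    (fun E => ((toPM O).obj F).obj (op E.1)) (fun E => gF p F E)
    (@fun E E' (e : E' ⟶ E) => (rM ((toPM O).obj F) e.1 :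
      ((toPM O).obj F).obj (op E.1) → ((toPM O).obj F).obj (op E'.1)))
    (fun e s => gF_res p F e s) (gF_surj p F) l x E₁
  have h0 : gF p F E₂ (∑ i, rO e₂.1 (f' i) • x' i) = gF p F E₂ 0 := by
    rw [map_sum, map_zero]
    refine Eq.trans (Finset.sum_congr rfl (fun i _ => ?_)) hfx
    rw [gF_smul, gO_res, hf' i, hx' i]
  obtain ⟨E₃, e₃, h3⟩ := gF_inj p F E₂ _ _ h0
  have hrel : ∑ i, rO e₃.1 (rO e₂.1 (f' i)) • rM ((toPM O).obj F) e₃.1 (x' i) = 0 := by
    rw [map_sum, map_zero] at h3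
    refine Eq.trans (Finset.sum_congr rfl (fun i _ => ?_)) h3
    rw [rM_smul]
  obtain ⟨S, hS, hS'⟩ := EqCritObj.exists_local_trivialisation_obj F hF E₃.1 (m := 1)
    (fun _ i => rO e₃.1 (rO e₂.1 (f' i))) (fun i => rM ((toPM O).obj F) e₃.1 (x' i))
    (fun _ => hrel)
  obtain ⟨V, h, hh, v, hv⟩ := p.jointly_surjective S hS E₃.2
  obtain ⟨k, t, b, h1, h2⟩ := hS' h hh
  let E₄ : p.fiber.Elements := ⟨V, v⟩
  let e₄ : E₄ ⟶ E₃ := ⟨h, hv⟩
  refine ⟨k, fun i j => gO p E₄ (b i j), fun j => gF p F E₄ (t j), ?_, ?_⟩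
  · intro i
    have e1 : x i = gF p F E₄ (rM ((toPM O).obj F) h (rM ((toPM O).obj F) e₃.1 (x' i))) := by
      rw [← hx' i]
      exact ((gF_res p F e₄ _).trans (gF_res p F e₃ _)).symm
    rw [e1]
    have e2 : rM ((toPM O).obj F) h (rM ((toPM O).obj F) e₃.1 (x' i)) = ∑ j, b i j • t j := h1 i
    rw [e2, map_sum]
    exact Finset.sum_congr rfl (fun j _ => gF_smul p F E₄ _ _)
  · intro j
    have e3 : ∀ i, f i = gO p E₄ (rO h (rO e₃.1 (rO e₂.1 (f' i)))) := by
      intro i
      rw [← hf' i]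
      exact ((gO_res p e₄ _).trans ((gO_res p e₃ _).trans (gO_res p e₂ _))).symm
    have e4 : ∑ i, b i j * rO h (rO e₃.1 (rO e₂.1 (f' i))) = 0 := h2 0 j
    have e5 := congrArg (gO p E₄) e4
    rw [map_sum, map_zero] at e5
    refine Eq.trans (Finset.sum_congr rfl (fun i _ => ?_)) e5
    rw [e3 i, map_mul, mul_comm]

end Point

end Groth.Agent.H92.StalkFlat
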