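import Groth.Agent.H92.StalkFlat

/-!
# Flat stalks at a conservative family of points imply flatness (helper92)
-/

set_option autoImplicit false
set_option backward.isDefEq.respectTransparency false
universe u
open CategoryTheory CategoryTheory.Limits Opposite

namespace Groth.Agent.H92.StalkFlat

open Groth.Agent.H31 Groth.Agent.H92.EqCrit Groth.Agent.H92.EqCritConv

variable {C : Type u} [SmallCategory C] {J : GrothendieckTopology C}
  {O : Sheaf J CommRingCat.{u}}

/-- a relation whose germ at a point with flat stalk is trivial becomes trivial on a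
neighbourhood of the point -/
theorem exists_nbhd_triv (p : GrothendieckTopology.Point.{u} J) (F : ModSite.Mod O)
    (hflat : Module.Flat (ModSite.stalkRing p O) (ModSite.stalkMod p F))
    {U : C} {n : ℕ} (f : Fin n → O.obj.obj (op U)) (s : Fin n → ((toPM O).obj F).obj (op U))
    (hrel : ∑ j, f j • s j = 0) (x : p.fiber.obj U) :
    ∃ (V : C) (g : V ⟶ U) (y : p.fiber.obj V), p.fiber.map g y = x ∧
      (Triv ((toPM O).obj F) (fun _ : Fin 1 => f) s).arrows g := by
  classical
  let E₀ : p.fiber.Elements := ⟨U, x⟩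
  have hrel' : ∑ j, gO p E₀ (f j) • (gF p F E₀ (s j) : ModSite.stalkMod p F) = 0 := by
    have e1 := congrArg (gF p F E₀) hrel
    rw [map_sum, map_zero] at e1
    refine Eq.trans (Finset.sum_congr rfl (fun j _ => ?_)) e1
    exact (gF_smul p F E₀ _ _).symm
  obtain ⟨k, a, y, hy, ha⟩ := (Module.Flat.iff_forall_isTrivialRelation.1 hflat) hrel'
  -- lift the matrix `a`
  let e : Fin n × Fin k ≃ Fin (n * k) := finProdFinEquiv
  obtain ⟨E₁, e₁, A', hA'⟩ := exists_common_rep (D := p.fiber.Elements)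
    (fun E => O.obj.obj (op E.1)) (fun E => gO p E)
    (@fun E E' (e : E' ⟶ E) => (rO e.1 : O.obj.obj (op E.1) → O.obj.obj (op E'.1)))
    (fun e r => gO_res p e r) (gO_surj p) (n * k) (fun i => a (e.symm i).1 (e.symm i).2) E₀
  have ha' : ∀ j k', gO p E₁ (A' (e (j, k'))) = a j k' := by
    intro j k'
    rw [hA', Equiv.symm_apply_apply]
  -- lift the elements `y`
  obtain ⟨E₂, e₂, y', hy'⟩ := exists_common_rep (D := p.fiber.Elements)
    (fun E => ((toPM O).obj F).obj (op E.1)) (fun E => gF p F E)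
    (@fun E E' (e : E' ⟶ E) => (rM ((toPM O).obj F) e.1 :
      ((toPM O).obj F).obj (op E.1) → ((toPM O).obj F).obj (op E'.1)))
    (fun e s => gF_res p F e s) (gF_surj p F) k y E₁
  let e₂₀ : E₂ ⟶ E₀ := e₂ ≫ e₁
  -- the equations in `F`
  obtain ⟨E₃, e₃, h3⟩ := exists_common_eq (D := p.fiber.Elements)
    (fun E => ((toPM O).obj F).obj (op E.1)) (fun E => gF p F E)
    (@fun E E' (e : E' ⟶ E) => (rM ((toPM O).obj F) e.1 :
      ((toPM O).obj F).obj (op E.1) → ((toPM O).obj F).obj (op E'.1)))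
    (fun e e' s => rM_comp ((toPM O).obj F) e.1 e'.1 s) (gF_inj p F) n E₂
    (fun j => rM ((toPM O).obj F) e₂₀.1 (s j))
    (fun j => ∑ k', rO e₂.1 (A' (e (j, k'))) • y' k')
    (by
      intro j
      rw [gF_res p F e₂₀, map_sum]
      refine (hy j).trans (Finset.sum_congr rfl (fun k' _ => ?_))
      rw [gF_smul, gO_res, ha', hy'])
  -- the equations in `O`
  obtain ⟨E₄, e₄, h4⟩ := exists_common_eq (D := p.fiber.Elements)
    (fun E => O.obj.obj (op E.1)) (fun E => gO p E)
    (@fun E E' (e : E' ⟶ E) => (rO e.1 : O.obj.obj (op E.1) → O.obj.obj (op E'.1)))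
    (fun e e' r => rO_comp e.1 e'.1 r) (gO_inj p) k E₃
    (fun k' => ∑ j, rO e₃.1 (rO e₂.1 (A' (e (j, k')))) * rO e₃.1 (rO e₂₀.1 (f j)))
    (fun _ => 0)
    (by
      intro k'
      rw [map_sum, map_zero]
      refine Eq.trans (Finset.sum_congr rfl (fun j _ => ?_)) (ha k')
      rw [map_mul, gO_res, gO_res, ha', gO_res, gO_res p e₂₀, mul_comm])
  refine ⟨E₄.1, e₄.1 ≫ e₃.1 ≫ e₂₀.1, E₄.2, (e₄ ≫ e₃ ≫ e₂₀).2, ?_⟩
  refine ⟨k, fun k' => rM ((toPM O).obj F) e₄.1 (rM ((toPM O).obj F) e₃.1 (y' k')),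
    fun j k' => rO e₄.1 (rO e₃.1 (rO e₂.1 (A' (e (j, k'))))), ?_, ?_⟩
  · intro j
    rw [rM_comp, rM_comp, h3 j, map_sum, map_sum]
    refine Finset.sum_congr rfl (fun k' _ => ?_)
    rw [rM_smul, rM_smul]
  · intro _ k'
    have e5 := h4 k'
    rw [map_sum, map_zero] at e5
    refine Eq.trans (Finset.sum_congr rfl (fun j _ => ?_)) e5
    rw [rO_comp, rO_comp, map_mul]

/-- flat stalks at a conservative family of points give the equational condition -/
theorem EC_of_flat_stalks (P : ObjectProperty (GrothendieckTopology.Point.{u} J))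
    (hP : P.IsConservativeFamilyOfPoints) (F : ModSite.Mod O)
    (h : ∀ p : GrothendieckTopology.Point.{u} J, P p →
      Module.Flat (ModSite.stalkRing p O) (ModSite.stalkMod p F)) : EC F := by
  intro U n f s hrel
  let T : Sieve U := Triv ((toPM O).obj F) (fun _ : Fin 1 => f) s
  have hT : T ∈ J U := by
    let ι : Type u := {q : Σ V : C, V ⟶ U // T.arrows q.2}
    have h1 : Sieve.ofArrows (fun q : ι => q.1.1) (fun q : ι => q.1.2) ∈ J U := by
      rw [hP.jointly_reflect_ofArrows_mem]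
      intro Φ x
      obtain ⟨V, g, y, hy, hg⟩ := exists_nbhd_triv Φ.obj F (h Φ.obj Φ.property) f s hrel x
      exact ⟨⟨⟨V, g⟩, hg⟩, y, hy⟩
    refine J.superset_covering ?_ h1
    rw [Sieve.generate_le_iff, Presieve.ofArrows_le_iff]
    exact fun q => q.2
  refine ⟨T, hT, fun V g hg => ?_⟩
  obtain ⟨l, t, b, h1, h2⟩ := hg
  exact ⟨l, t, b, h1, fun k => h2 0 k⟩

/-- **Flatness is detected on stalks at a conservative family of points.** -/
theorem isFlat_iff_flat_stalks (P : ObjectProperty (GrothendieckTopology.Point.{u} J))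
    (hP : P.IsConservativeFamilyOfPoints) (F : ModSite.Mod O) :
    ModSite.IsFlat F ↔ ∀ p : GrothendieckTopology.Point.{u} J, P p →
      Module.Flat (ModSite.stalkRing p O) (ModSite.stalkMod p F) :=
  ⟨fun hF p _ => flat_stalk p F hF, fun h => isFlat_of_EC F (EC_of_flat_stalks P hP F h)⟩

end Groth.Agent.H92.StalkFlat
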