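import Mathlib
import Groth.Prelude.Def_DRing2
import Groth.Agent.H35.FlatBC

/-!
# Standard bounded complexes of finite free modules given by matrices (helper92)

* `stdCx R m D hD` : the cochain complex with terms `R^(m n)` and differentials the matrices `D n`.
* `exists_std_of_isPerfect` : over a local ring every perfect object is represented by some `stdCx`.
* `extStdIso` : extension of scalars of `stdCx` along `φ` is `stdCx` of the mapped matrices.
* `resStdIso` : restriction of scalars of `stdCx` along a ring isomorphism.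
-/

set_option autoImplicit false
set_option linter.style.haveILetI false
universe u
open CategoryTheory CategoryTheory.Limits
attribute [local instance] HasDerivedCategory.standard

namespace Groth.Agent.H92.StdCx

open DRing

section Def

variable (R : Type u) [CommRing R] (m : ℤ → ℕ)
  (D : ∀ n : ℤ, Matrix (Fin (m (n + 1))) (Fin (m n)) R)

/-- the differential of the standard complex -/
noncomputable def stdD (n : ℤ) :
    ModuleCat.of R (Fin (m n) → R) ⟶ ModuleCat.of R (Fin (m (n + 1)) → R) :=
  ModuleCat.ofHom (Matrix.toLin' (D n))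

theorem stdD_comp (hD : ∀ n, D (n + 1) * D n = 0) (n : ℤ) :
    stdD R m D n ≫ stdD R m D (n + 1) = 0 := by
  unfold stdD
  rw [← ModuleCat.ofHom_comp, ← Matrix.toLin'_mul, hD n]
  simp

/-- the standard complex of finite free modules attached to matrices -/
noncomputable def stdCx (hD : ∀ n, D (n + 1) * D n = 0) : Cx R :=
  CochainComplex.of (fun n => ModuleCat.of R (Fin (m n) → R)) (stdD R m D) (stdD_comp R m D hD)

theorem stdCx_d (hD : ∀ n, D (n + 1) * D n = 0) (n : ℤ) :
    (stdCx R m D hD).d n (n + 1) = stdD R m D n := by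
  unfold stdCx
  exact CochainComplex.of_d (fun n => ModuleCat.of R (Fin (m n) → R)) (stdD R m D) n

theorem vanishesOutside_stdCx (hD : ∀ n, D (n + 1) * D n = 0) (a b : ℤ)
    (hm : ∀ i : ℤ, i < a ∨ b < i → m i = 0) : VanishesOutside (stdCx R m D hD) a b := by
  intro i hi
  have h0 : m i = 0 := hm i hi
  change IsZero (ModuleCat.of R (Fin (m i) → R))
  rw [h0]
  exact ModuleCat.isZero_of_subsingleton _

/-- constructor for isomorphisms onto a standard complex -/
noncomputable def isoStd (hD : ∀ n, D (n + 1) * D n = 0) (E : Cx R)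
    (e : ∀ n, E.X n ≅ ModuleCat.of R (Fin (m n) → R))
    (comm : ∀ n, (e n).hom ≫ stdD R m D n = E.d n (n + 1) ≫ (e (n + 1)).hom) :
    E ≅ stdCx R m D hD :=
  HomologicalComplex.Hom.isoOfComponents e (by
    intro i j hij
    have : i + 1 = j := hij
    subst this
    rw [stdCx_d]
    exact comm i)

end Def


section Perfect

theorem exists_std_of_isPerfect (B : Type u) [CommRing B] [IsLocalRing B] (P : Dual.D B)
    (hP : DRing.IsPerfect B P) :
    ∃ (m : ℤ → ℕ) (a b : ℤ) (D : ∀ n : ℤ, Matrix (Fin (m (n + 1))) (Fin (m n)) B)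
      (hD : ∀ n, D (n + 1) * D n = 0),
      (∀ i : ℤ, i < a ∨ b < i → m i = 0) ∧ Nonempty (toD (stdCx B m D hD) ≅ P) := by
  obtain ⟨E, a, b, hv, hfp, ⟨e⟩⟩ := hP
  haveI hfin : ∀ i, Module.Finite B (E.X i) := fun i => (hfp i).1
  haveI hproj : ∀ i, Module.Projective B (E.X i) := fun i => (hfp i).2
  haveI hfree : ∀ i, Module.Free B (E.X i) := fun i => Module.free_of_flat_of_isLocalRing
  let m : ℤ → ℕ := fun i => Module.finrank B (E.X i)
  let eq : ∀ i, E.X i ≃ₗ[B] (Fin (m i) → B) := fun i => (Module.finBasis B (E.X i)).equivFun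
  let g : ∀ n : ℤ, (Fin (m n) → B) →ₗ[B] (Fin (m (n + 1)) → B) := fun n =>
    (eq (n + 1)).toLinearMap ∘ₗ (E.d n (n + 1)).hom ∘ₗ (eq n).symm.toLinearMap
  let D : ∀ n : ℤ, Matrix (Fin (m (n + 1))) (Fin (m n)) B := fun n => LinearMap.toMatrix' (g n)
  have hgg : ∀ n : ℤ, g (n + 1) ∘ₗ g n = 0 := by
    intro n
    apply LinearMap.ext
    intro v
    have h0 : (E.d n (n + 1) ≫ E.d (n + 1) (n + 1 + 1)) = 0 := E.d_comp_d _ _ _
    have h1 := congrArg (fun φ => φ.hom ((eq n).symm v)) h0
    simp only [g, LinearMap.comp_apply, LinearEquiv.coe_coe, LinearEquiv.symm_apply_apply,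
      LinearMap.zero_apply]
    have h2 : (E.d (n + 1) (n + 1 + 1)).hom ((E.d n (n + 1)).hom ((eq n).symm v)) = 0 := h1
    rw [h2, map_zero]
  have hD : ∀ n, D (n + 1) * D n = 0 := by
    intro n
    change LinearMap.toMatrix' (g (n + 1)) * LinearMap.toMatrix' (g n) = 0
    rw [← LinearMap.toMatrix'_comp, hgg n]
    simp
  refine ⟨m, a, b, D, hD, ?_, ?_⟩
  · intro i hi
    have hz := hv i hi
    haveI : Subsingleton (E.X i) := ModuleCat.subsingleton_of_isZero hz
    exact Module.finrank_zero_of_subsingleton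
  · refine ⟨(DerivedCategory.Q.mapIso (isoStd B m D hD E (fun n => (eq n).toModuleIso) ?_)).symm
      ≪≫ e⟩
    intro n
    apply ModuleCat.hom_ext
    apply LinearMap.ext
    intro x
    change Matrix.toLin' (LinearMap.toMatrix' (g n)) ((eq n) x) = (eq (n + 1)) ((E.d n (n + 1)).hom x)
    rw [Matrix.toLin'_toMatrix']
    simp only [g, LinearMap.comp_apply, LinearEquiv.coe_coe, LinearEquiv.symm_apply_apply]

end Perfect

section Ext

open Groth.Agent.H35.FlatBC
open ChangeOfRings

variable {A C : Type u} [CommRing A] [CommRing C] (φ : A →+* C) (m : ℤ → ℕ)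
  (D : ∀ n : ℤ, Matrix (Fin (m (n + 1))) (Fin (m n)) A)

theorem map_hD {A C : Type u} [CommRing A] [CommRing C] (φ : A →+* C) (m : ℤ → ℕ)
    (D : ∀ n : ℤ, Matrix (Fin (m (n + 1))) (Fin (m n)) A) (hD : ∀ n, D (n + 1) * D n = 0)
    (n : ℤ) : (D (n + 1)).map φ * (D n).map φ = 0 := by
  rw [← Matrix.map_mul, hD n]
  simp

set_option backward.isDefEq.respectTransparency false in
/-- `C ⊗_A A^k ≅ C^k` -/
noncomputable def extFreeIso (k : ℕ) :
    (ext φ).obj (ModuleCat.of A (Fin k → A)) ≅ ModuleCat.of C (Fin k → C) :=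
  letI := algOf φ
  ((TensorProduct.piScalarRight A C C (Fin k)).toModuleIso :
    ModuleCat.of C (TensorProduct A C (Fin k → A)) ≅ ModuleCat.of C (Fin k → C))

set_option backward.isDefEq.respectTransparency false in
theorem extFreeIso_hom_tmul (k : ℕ) (v : Fin k → A) :
    (extFreeIso φ k).hom ((1 : C) ⊗ₜ[A, φ] v) = fun l => φ (v l) := by
  letI := algOf φ
  change (TensorProduct.piScalarRight A C C (Fin k)) ((1 : C) ⊗ₜ[A] v) = _
  rw [TensorProduct.piScalarRight_apply, TensorProduct.piScalarRightHom_tmul]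
  funext l
  rw [Algebra.smul_def, mul_one]
  rfl

set_option backward.isDefEq.respectTransparency false in
theorem extFreeIso_comm (n : ℤ) :
    (extFreeIso φ (m n)).hom ≫ stdD C m (fun n => (D n).map φ) n =
      (ext φ).map (stdD A m D n) ≫ (extFreeIso φ (m (n + 1))).hom := by
  apply ModuleCat.ExtendScalars.hom_ext
  intro v
  change stdD C m (fun n => (D n).map φ) n ((extFreeIso φ (m n)).hom ((1 : C) ⊗ₜ[A, φ] v)) =
    (extFreeIso φ (m (n + 1))).hom ((ext φ).map (stdD A m D n) ((1 : C) ⊗ₜ[A, φ] v))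
  rw [ModuleCat.ExtendScalars.map_tmul, extFreeIso_hom_tmul, extFreeIso_hom_tmul]
  funext i
  change Matrix.toLin' ((D n).map φ) (fun l => φ (v l)) i = φ (Matrix.toLin' (D n) v i)
  simp only [Matrix.toLin'_apply, Matrix.mulVec, dotProduct, Matrix.map_apply, map_sum, map_mul]

/-- extension of scalars of a standard complex -/
noncomputable def extStdIso (hD : ∀ n, D (n + 1) * D n = 0) :
    (extCx φ).obj (stdCx A m D hD) ≅
      stdCx C m (fun n => (D n).map φ) (map_hD φ m D hD) :=
  isoStd C m (fun n => (D n).map φ) (map_hD φ m D hD) _ (fun n => extFreeIso φ (m n)) (by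
    intro n
    have h1 : ((extCx φ).obj (stdCx A m D hD)).d n (n + 1) = (ext φ).map (stdD A m D n) := by
      rw [Functor.mapHomologicalComplex_obj_d]
      exact congrArg (ext φ).map (stdCx_d A m D hD n)
    exact (extFreeIso_comm φ m D n).trans
      (congrArg (· ≫ (extFreeIso φ (m (n + 1))).hom) h1.symm))

end Ext

section Res

variable {B C : Type u} [CommRing B] [CommRing C] (σ : B →+* C) (hσ : Function.Bijective σ)
  (m : ℤ → ℕ) (D : ∀ n : ℤ, Matrix (Fin (m (n + 1))) (Fin (m n)) C)

/-- the inverse ring homomorphism -/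
noncomputable def invHom : C →+* B := (RingEquiv.ofBijective σ hσ).symm.toRingHom

theorem invHom_apply (b : B) : invHom σ hσ (σ b) = b :=
  (RingEquiv.ofBijective σ hσ).symm_apply_apply b

theorem apply_invHom (c : C) : σ (invHom σ hσ c) = c :=
  (RingEquiv.ofBijective σ hσ).apply_symm_apply c

/-- `C^k` restricted along an isomorphism `B ≅ C` is `B^k`, as a linear equivalence -/
noncomputable def resFreeEquiv (k : ℕ) :
    ((ModuleCat.restrictScalars σ).obj (ModuleCat.of C (Fin k → C))) ≃ₗ[B] (Fin k → B) where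
  toFun := fun w l => invHom σ hσ ((show Fin k → C from w) l)
  map_add' := fun w w' => by
    funext l
    exact map_add (invHom σ hσ) _ _
  map_smul' := fun b w => by
    funext l
    change invHom σ hσ (σ b * (show Fin k → C from w) l) =
      b * invHom σ hσ ((show Fin k → C from w) l)
    rw [map_mul, invHom_apply]
  invFun := fun v => (show Fin k → C from fun l => σ (v l))
  left_inv := fun w => by
    funext l
    exact apply_invHom σ hσ _
  right_inv := fun v => by
    funext l
    exact invHom_apply σ hσ _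

/-- `C^k` restricted along an isomorphism `B ≅ C` is `B^k` -/
noncomputable def resFreeIso (k : ℕ) :
    (ModuleCat.restrictScalars σ).obj (ModuleCat.of C (Fin k → C)) ≅
      ModuleCat.of B (Fin k → B) :=
  (resFreeEquiv σ hσ k).toModuleIso

theorem resFreeIso_comm (n : ℤ) :
    (resFreeIso σ hσ (m n)).hom ≫ stdD B m (fun n => (D n).map (invHom σ hσ)) n =
      (ModuleCat.restrictScalars σ).map (stdD C m D n) ≫ (resFreeIso σ hσ (m (n + 1))).hom := by
  apply ModuleCat.hom_ext
  apply LinearMap.ext
  intro w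
  obtain ⟨w', rfl⟩ : ∃ w' : Fin (m n) → C, w' = w := ⟨w, rfl⟩
  funext i
  change Matrix.toLin' ((D n).map (invHom σ hσ)) (fun l => invHom σ hσ (w' l)) i =
    invHom σ hσ (Matrix.toLin' (D n) w' i)
  simp only [Matrix.toLin'_apply, Matrix.mulVec, dotProduct, Matrix.map_apply, map_sum, map_mul]

/-- restriction of scalars of a standard complex along a ring isomorphism -/
noncomputable def resStdIso (hD : ∀ n, D (n + 1) * D n = 0) :
    ((ModuleCat.restrictScalars σ).mapHomologicalComplex (ComplexShape.up ℤ)).obj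
        (stdCx C m D hD) ≅
      stdCx B m (fun n => (D n).map (invHom σ hσ)) (map_hD (invHom σ hσ) m D hD) :=
  isoStd B m (fun n => (D n).map (invHom σ hσ)) (map_hD (invHom σ hσ) m D hD) _
    (fun n => resFreeIso σ hσ (m n)) (by
    intro n
    have h1 : (((ModuleCat.restrictScalars σ).mapHomologicalComplex (ComplexShape.up ℤ)).obj
        (stdCx C m D hD)).d n (n + 1) = (ModuleCat.restrictScalars σ).map (stdD C m D n) := by
      rw [Functor.mapHomologicalComplex_obj_d]
      exact congrArg (ModuleCat.restrictScalars σ).map (stdCx_d C m D hD n)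
    exact (resFreeIso_comm σ hσ m D n).trans
      (congrArg (· ≫ (resFreeIso σ hσ (m (n + 1))).hom) h1.symm))

end Res

/-- congruence of standard complexes in the matrices -/
theorem stdCx_congr (R : Type u) [CommRing R] (m : ℤ → ℕ)
    (D D' : ∀ n : ℤ, Matrix (Fin (m (n + 1))) (Fin (m n)) R) (h : D = D')
    (hD : ∀ n, D (n + 1) * D n = 0) (hD' : ∀ n, D' (n + 1) * D' n = 0) :
    stdCx R m D hD = stdCx R m D' hD' := by
  subst h
  rfl

end Groth.Agent.H92.StdCx
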