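import Groth.Agent.H92.HZAcyc
import Groth.Agent.H92.SheafLocal
import Groth.Agent.H92.SheafHomLES
import Groth.Agent.H92.DimShift2
import Groth.Agent.H67.TotAcyc
import Groth.Agent.H30.ModCech4

/-!
# Sections with supports of totally acyclic modules (helper92)

* `gen`, `adj2_homEquiv_app`, `app_eq_zero_of_gen`: the free module `R[K]` on a sheaf of sets is
  locally generated by the sections of `K`.
* `YK U K ⟶ K`: the subsheaf of sections of `K` over objects which are locally over `U`.
* `comp_eq_zero_of_app`, `app_eq_zero_of_comp`: a map `R[K] ⟶ N` vanishes on objects over `U` iff it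
  kills `R[Y_K]`.
* `epi_sectOn_map`: `Γ_Z I ⟶ Γ_Z Q` is an epimorphism for `0 → M → I → Q → 0` with `M` totally
  acyclic.
* `isZero_HZsh`: `ℋ^q_Z(M) = 0`, `q ≥ 1`, for `M` totally acyclic.
-/

set_option autoImplicit false

namespace Groth.Agent.H92.SuppSect

open CategoryTheory Limits Opposite Abelian
open Groth.Agent.H30.ModCech Groth.Agent.H67.CechTopos
open Groth.Agent.H92.HZComp

universe u

variable {C : Type u} [SmallCategory C] {J : GrothendieckTopology C}

section Free

variable (R : Sheaf J RingCat.{u})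

/-- the generator of `R[K]` attached to a section of `K` -/
noncomputable def gen (K : Sheaf J (Type u)) (W : Cᵒᵖ) (k : K.obj.obj W) :
    ((FR R).obj K).val.obj W :=
  ((PresheafOfModules.sheafificationAdjunction (𝟙 R.obj)).unit.app ((FP R).obj K)).app W
    (ModuleCat.freeMk k)

theorem adj2_homEquiv_app (K : Sheaf J (Type u)) (N : SheafOfModules.{u} R)
    (φ : (FR R).obj K ⟶ N) (W : Cᵒᵖ) (k : K.obj.obj W) :
    ((adj2 R).homEquiv K N φ).hom.app W k = φ.val.app W (gen R K W k) := by
  rfl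

/-- `R[K]` is locally generated by the sections of `K` -/
theorem app_eq_zero_of_gen (K : Sheaf J (Type u)) (N : SheafOfModules.{u} R)
    (φ : (FR R).obj K ⟶ N) (W : C)
    (h : ∀ ⦃W' : C⦄ (_ : W' ⟶ W) (k : K.obj.obj (op W')),
      φ.val.app (op W') (gen R K (op W') k) = 0)
    (y : ((FR R).obj K).val.obj (op W)) : φ.val.app (op W) y = 0 := by
  let η := (PresheafOfModules.sheafificationAdjunction (𝟙 R.obj)).unit.app ((FP R).obj K)
  have hls : Presheaf.IsLocallySurjective J ((PresheafOfModules.toPresheaf R.obj).map η) :=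
    Presheaf.isLocallySurjective_toSheafify' J _
  have hA : ∀ ⦃W' : C⦄ (_ : W' ⟶ W) (z : ((FP R).obj K).obj (op W')),
      φ.val.app (op W') (η.app (op W') z) = 0 := by
    intro W' c z
    let f : ((FP R).obj K).obj (op W') ⟶ N.val.obj (op W') :=
      η.app (op W') ≫ φ.val.app (op W')
    have hf : f = 0 := by
      apply ModuleCat.free_hom_ext
      intro k
      exact h c k
    exact congrArg (fun g : ((FP R).obj K).obj (op W') ⟶ N.val.obj (op W') => g.hom z) hf
  let y' : ((UU R).obj ((FR R).obj K)).obj.obj (op W) := y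
  apply Groth.Agent.H92.SheafLocal.eq_zero_of_cover ((UU R).obj N) (V := W) _
    (Presheaf.imageSieve ((PresheafOfModules.toPresheaf R.obj).map η) y')
    (hls.imageSieve_mem y')
  rintro W' c ⟨z, hz⟩
  have h1 := PresheafOfModules.naturality_apply φ.val c.op y
  refine h1.symm.trans ?_
  have h2 : ((FR R).obj K).val.map c.op y = η.app (op W') z := hz.symm
  rw [h2]
  exact hA c z

/-- `Hom(ε(V), F) ≃ F(V)` -/
noncomputable def epsEquiv (V : C) (F : Sheaf J (Type u)) :
    (ToposFin.eps J V ⟶ F) ≃ F.obj.obj (op V) :=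
  ((sheafificationAdjunction J (Type u)).homEquiv (yoneda.obj V) F).trans yonedaEquiv

theorem epsEquiv_apply (V : C) (F : Sheaf J (Type u)) (a : ToposFin.eps J V ⟶ F) :
    epsEquiv V F a = a.hom.app (op V) (eU V) := by
  simp only [epsEquiv, Equiv.trans_apply]
  rw [Adjunction.homEquiv_unit]
  rfl

/-- `Hom(R[ε(V)], N) ≃ N(V)` -/
noncomputable def secFR (V : C) (N : SheafOfModules.{u} R) :
    ((FR R).obj (ToposFin.eps J V) ⟶ N) ≃ N.val.obj (op V) :=
  ((adj2 R).homEquiv _ N).trans (epsEquiv V ((UU R ⋙ W1).obj N))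

theorem secFR_apply (V : C) (N : SheafOfModules.{u} R)
    (φ : (FR R).obj (ToposFin.eps J V) ⟶ N) :
    secFR R V N φ = φ.val.app (op V) (gen R (ToposFin.eps J V) (op V) (eU V)) := by
  exact (epsEquiv_apply V ((UU R ⋙ W1).obj N) ((adj2 R).homEquiv _ N φ)).trans
    (adj2_homEquiv_app R _ N φ (op V) (eU V))

theorem secFR_comp (V : C) {N N' : SheafOfModules.{u} R}
    (φ : (FR R).obj (ToposFin.eps J V) ⟶ N) (g : N ⟶ N') :
    secFR R V N' (φ ≫ g) = g.val.app (op V) (secFR R V N φ) := by
  rw [secFR_apply, secFR_apply]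
  rfl

/-- a morphism through which every map from an `R[ε(V)]` lifts is an epimorphism -/
theorem epi_of_lift {A B : SheafOfModules.{u} R} (p : A ⟶ B)
    (h : ∀ (V : C) (s : (FR R).obj (ToposFin.eps J V) ⟶ B),
      ∃ t : (FR R).obj (ToposFin.eps J V) ⟶ A, t ≫ p = s) : Epi p := by
  apply Groth.Agent.H92.SheafHomLES.epi_of_surjective
  intro W b
  obtain ⟨t, ht⟩ := h W.unop ((secFR R W.unop B).symm b)
  refine ⟨secFR R W.unop A t, ?_⟩
  have := secFR_comp R W.unop t p
  rw [ht, Equiv.apply_symm_apply] at this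
  exact this.symm

end Free

section Sub

variable (U : C)

/-- the subfunctor of the sections over objects admitting a map to `U` -/
def overSub (K : Sheaf J (Type u)) : Subfunctor K.obj where
  obj W := {_k | Nonempty (W.unop ⟶ U)}
  map := by
    rintro W W' i k ⟨b⟩
    exact ⟨i.unop ≫ b⟩

/-- the subsheaf of the sections of `K` over objects which are locally over `U` -/
noncomputable def YK (K : Sheaf J (Type u)) : Sheaf J (Type u) :=
  ⟨((overSub U K).sheafify J).toFunctor, by
    rw [isSheaf_iff_isSheaf_of_type]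
    apply Subfunctor.sheafify_isSheaf
    rw [← isSheaf_iff_isSheaf_of_type]
    exact K.2⟩

/-- the inclusion `Y_K ⟶ K` -/
noncomputable def ιK (K : Sheaf J (Type u)) : YK U K ⟶ K := ⟨((overSub U K).sheafify J).ι⟩

instance (K : Sheaf J (Type u)) : Mono (ιK U K) := by
  have h : Mono ((sheafToPresheaf J (Type u)).map (ιK U K)) :=
    (inferInstance : Mono ((overSub U K).sheafify J).ι)
  exact (sheafToPresheaf J (Type u)).mono_of_mono_map h

variable (R : Sheaf J RingCat.{u})

theorem homEquiv_ι_app (K : Sheaf J (Type u)) (N : SheafOfModules.{u} R)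
    (φ : (FR R).obj K ⟶ N) (W : Cᵒᵖ) (k : (YK U K).obj.obj W) :
    ((adj2 R).homEquiv _ N ((FR R).map (ιK U K) ≫ φ)).hom.app W k =
      φ.val.app W (gen R K W k.1) := by
  rw [(adj2 R).homEquiv_naturality_left]
  exact adj2_homEquiv_app R K N φ W k.1

theorem homEquiv_zero_app (K : Sheaf J (Type u)) (N : SheafOfModules.{u} R) (W : Cᵒᵖ)
    (k : K.obj.obj W) :
    ((adj2 R).homEquiv K N 0).hom.app W k = (0 : N.val.obj W) := by
  rw [adj2_homEquiv_app]
  rfl

/-- a map `R[K] ⟶ N` vanishing over the objects over `U` kills `R[Y_K]` -/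
theorem comp_eq_zero_of_app (K : Sheaf J (Type u)) (N : SheafOfModules.{u} R)
    (φ : (FR R).obj K ⟶ N)
    (h : ∀ W : C, Nonempty (W ⟶ U) → ∀ y : ((FR R).obj K).val.obj (op W),
      φ.val.app (op W) y = 0) :
    (FR R).map (ιK U K) ≫ φ = 0 := by
  apply ((adj2 R).homEquiv _ _).injective
  apply Sheaf.hom_ext
  ext W k
  refine (homEquiv_ι_app U R K N φ W k).trans (Eq.trans ?_ (homEquiv_zero_app R _ N W k).symm)
  let x : ((UU R).obj N).obj.obj (op W.unop) := φ.val.app W (gen R K W k.1)
  show x = 0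
  apply Groth.Agent.H92.SheafLocal.eq_zero_of_cover ((UU R).obj N) (V := W.unop) x
    ((overSub U K).sieveOfSection k.1) k.2
  intro W' c hc
  have h1 := PresheafOfModules.naturality_apply φ.val c.op (gen R K W k.1)
  exact h1.symm.trans (h W' hc _)

/-- a map `R[K] ⟶ N` killing `R[Y_K]` vanishes over the objects over `U` -/
theorem app_eq_zero_of_comp (K : Sheaf J (Type u)) (N : SheafOfModules.{u} R)
    (φ : (FR R).obj K ⟶ N) (h : (FR R).map (ιK U K) ≫ φ = 0) (W : C) (hW : Nonempty (W ⟶ U))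
    (y : ((FR R).obj K).val.obj (op W)) : φ.val.app (op W) y = 0 := by
  apply app_eq_zero_of_gen R K N φ W
  intro W' c k
  obtain ⟨b⟩ := hW
  let k' : (YK U K).obj.obj (op W') := ⟨k, (overSub U K).le_sheafify J _ ⟨c ≫ b⟩⟩
  have e1 := homEquiv_ι_app U R K N φ (op W') k'
  rw [h] at e1
  exact e1.symm.trans (homEquiv_zero_app R _ N (op W') k')

end Sub

section Acyclic

variable (R : Sheaf J RingCat.{u})

/-- totally acyclic modules are flasque with respect to monomorphisms of sheaves of sets -/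
theorem exists_extension_module (M : SheafOfModules.{u} R)
    (hM : CohCx.IsTotallyAcyclic ((UU R).obj M)) {K K' : Sheaf J (Type u)} (m : K ⟶ K') [Mono m]
    (μ : (FR R).obj K ⟶ M) : ∃ μ' : (FR R).obj K' ⟶ M, (FR R).map m ≫ μ' = μ := by
  obtain ⟨a, ha⟩ := Groth.Agent.H67.TotAcyc.extend_of_mono J ((UU R).obj M) hM m (θ R K M μ)
  refine ⟨(θ R K' M).symm a, ?_⟩
  apply (θ R K M).injective
  rw [θ_nat, Equiv.apply_symm_apply]
  exact ha

/-- maps out of `R[K]` lift along an epimorphism with totally acyclic kernel -/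
theorem exists_lift [HasExt.{u} (SheafOfModules.{u} R)] {S : ShortComplex (SheafOfModules.{u} R)}
    (hS : S.ShortExact) (hM : CohCx.IsTotallyAcyclic ((UU R).obj S.X₁)) (K : Sheaf J (Type u))
    (s : (FR R).obj K ⟶ S.X₃) : ∃ t : (FR R).obj K ⟶ S.X₂, t ≫ S.g = s := by
  obtain ⟨e⟩ := ext_free_addEquiv R K S.X₁ 1
  have hsub : Subsingleton (Ext ((FR R).obj K) S.X₁ 1) := by
    have h1 : Subsingleton (Ext ((Φ J).obj K) ((UU R).obj S.X₁) 1) := hM K 0
    exact e.toEquiv.subsingleton
  obtain ⟨x₂, hx₂⟩ := Ext.covariant_sequence_exact₃ ((FR R).obj K) hS (Ext.mk₀ s) (rfl : 0 + 1 = 1)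
    (Subsingleton.elim _ _)
  obtain ⟨t, rfl⟩ := Ext.addEquiv₀.symm.surjective x₂
  refine ⟨t, ?_⟩
  have h2 : Ext.mk₀ (t ≫ S.g) = Ext.mk₀ s := by
    rw [← hx₂]
    exact (Ext.mk₀_comp_mk₀ t S.g).symm
  exact (Ext.mk₀_bijective _ _).1 h2

/-- the cokernel of a monomorphism from a totally acyclic module to a totally acyclic module is
totally acyclic -/
theorem isTotallyAcyclic_X₃ {S : ShortComplex (SheafOfModules.{u} R)}
    (hS : S.ShortExact) (h₁ : CohCx.IsTotallyAcyclic ((UU R).obj S.X₁))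
    (h₂ : CohCx.IsTotallyAcyclic ((UU R).obj S.X₂)) :
    CohCx.IsTotallyAcyclic ((UU R).obj S.X₃) := by
  have : PreservesFiniteColimits (SheafOfModules.toSheaf.{u} R) :=
    Groth.Agent.H45.toSheaf_preservesFiniteColimits R
  have hS' : (S.map (UU R)).ShortExact := hS.map_of_exact (UU R)
  intro K p
  have key : ∀ e : Ext ((Φ J).obj K) ((UU R).obj S.X₃) (p + 1), e = 0 := by
    intro e
    have h0 : e.comp hS'.extClass (rfl : p + 1 + 1 = p + 2) = 0 :=
      @Subsingleton.elim _ (h₁ K (p + 1)) _ _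
    obtain ⟨x₂, hx₂⟩ := Ext.covariant_sequence_exact₃ ((Φ J).obj K) hS' e rfl h0
    have : x₂ = 0 := @Subsingleton.elim _ (h₂ K p) _ _
    rw [← hx₂, this, Ext.zero_comp]
    rfl
  exact ⟨fun a b => (key a).trans (key b).symm⟩

end Acyclic

section Supp

open Groth.Agent.H92.QuotSect

variable (O : Sheaf J CommRingCat.{u}) (U : C)

/-- a morphism restricts to zero on `C/U` iff it vanishes over the objects over `U` -/
theorem restr_map_eq_zero_iff {M N : ModSite.Mod O} (φ : M ⟶ N) :
    (ModSite.restr O U).map φ = 0 ↔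
      ∀ W : C, Nonempty (W ⟶ U) → ∀ y : M.val.obj (op W), φ.val.app (op W) y = 0 := by
  constructor
  · rintro h W ⟨b⟩ y
    exact congrArg (fun ψ : (ModSite.restr O U).obj M ⟶ (ModSite.restr O U).obj N =>
      (ψ.val.app (op (Over.mk b))).hom y) h
  · intro h
    apply SheafOfModules.hom_ext
    apply PresheafOfModules.hom_ext
    intro a
    apply ModuleCat.hom_ext
    apply LinearMap.ext
    intro y
    exact h a.unop.left ⟨a.unop.hom⟩ y

variable [ModSite.HasPushOver O U]

set_option maxHeartbeats 800000 in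
/-- `Γ_Z I ⟶ Γ_Z Q` is an epimorphism for `0 → M → I → Q → 0` with `M` totally acyclic -/
theorem epi_sectOn_map [HasExt.{u} (ModSite.Mod O)] {S : ShortComplex (ModSite.Mod O)}
    (hS : S.ShortExact) (hM : CohCx.IsTotallyAcyclic (ModSite.toAb S.X₁)) :
    Epi ((ModSite.sectOn O U).map S.g) := by
  apply epi_of_lift (ModSite.ringSh O)
  intro V s
  let K := ToposFin.eps J V
  let s' : (FR (ModSite.ringSh O)).obj K ⟶ S.X₃ := s ≫ ι O U S.X₃
  have hs' : (ModSite.restr O U).map s' = 0 :=
    (comp_η_eq_zero_iff O U s').1 (by rw [Category.assoc, ι_η, comp_zero])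
  obtain ⟨t₀, ht₀⟩ := exists_lift (ModSite.ringSh O) hS hM K s'
  have h1 : (FR (ModSite.ringSh O)).map (ιK U K) ≫ s' = 0 :=
    comp_eq_zero_of_app U (ModSite.ringSh O) K S.X₃ s' ((restr_map_eq_zero_iff O U s').1 hs')
  have h2 : ((FR (ModSite.ringSh O)).map (ιK U K) ≫ t₀) ≫ S.g = 0 := by
    rw [Category.assoc, ht₀, h1]
  have := hS.mono_f
  let μ := hS.exact.lift _ h2
  have hμ : μ ≫ S.f = (FR (ModSite.ringSh O)).map (ιK U K) ≫ t₀ := hS.exact.lift_f _ h2
  obtain ⟨m, hm⟩ := exists_extension_module (ModSite.ringSh O) S.X₁ hM (ιK U K) μ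
  let t₁ : (FR (ModSite.ringSh O)).obj K ⟶ S.X₂ := t₀ - m ≫ S.f
  have h3 : (FR (ModSite.ringSh O)).map (ιK U K) ≫ t₁ = 0 := by
    show _ ≫ (t₀ - m ≫ S.f) = 0
    rw [Preadditive.comp_sub, ← Category.assoc, hm, hμ, sub_self]
  have h4 : (ModSite.restr O U).map t₁ = 0 :=
    (restr_map_eq_zero_iff O U t₁).2
      (app_eq_zero_of_comp U (ModSite.ringSh O) K S.X₂ t₁ h3)
  have h5 : t₁ ≫ η O U S.X₂ = 0 := (comp_η_eq_zero_iff O U t₁).2 h4
  refine ⟨kernel.lift (η O U S.X₂) t₁ h5, ?_⟩
  rw [← cancel_mono (ι O U S.X₃), Category.assoc, ι_natural, ← Category.assoc]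
  have h6 : kernel.lift (η O U S.X₂) t₁ h5 ≫ ι O U S.X₂ = t₁ := kernel.lift_ι _ _ _
  refine (congrArg (fun f => f ≫ S.g) h6).trans ?_
  show (t₀ - m ≫ S.f) ≫ S.g = s'
  rw [Preadditive.sub_comp, Category.assoc, S.zero, comp_zero, sub_zero, ht₀]

instance : PreservesLimitsOfSize.{0, 0} (ModSite.sectOn O U) :=
  (adj O U).rightAdjoint_preservesLimits

/-- `ℋ^q_Z(M) = 0`, `q ≥ 1`, for a module whose underlying abelian sheaf is totally acyclic -/
theorem isZero_HZsh [HasInjectiveResolutions (ModSite.Mod O)] (q : ℕ) :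
    ∀ (M : ModSite.Mod O), CohCx.IsTotallyAcyclic (ModSite.toAb M) →
      IsZero ((ModSite.HZsh O U (q + 1)).obj M) := by
  have hEI : EnoughInjectives (ModSite.Mod O) := Groth.Agent.S0485.result J (ModSite.ringSh O)
  have hExt : HasExt.{u} (ModSite.Mod O) := hasExt_of_enoughInjectives _
  induction q with
  | zero =>
    intro M hM
    let S : ShortComplex (ModSite.Mod O) :=
      ShortComplex.mk (Injective.ι M) (cokernel.π (Injective.ι M)) (cokernel.condition _)
    have hS : S.ShortExact :=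
      { exact := ShortComplex.exact_cokernel _
        mono_f := (inferInstance : Mono (Injective.ι M))
        epi_g := (inferInstance : Epi (cokernel.π (Injective.ι M))) }
    have : Injective S.X₂ := (inferInstance : Injective (Injective.under M))
    obtain ⟨a⟩ := Groth.Agent.H92.DimShift.r1' (ModSite.sectOn O U) hS
    have := epi_sectOn_map O U hS hM
    exact IsZero.of_iso (isZero_cokernel_of_epi _) a
  | succ q ih =>
    intro M hM
    let S : ShortComplex (ModSite.Mod O) :=
      ShortComplex.mk (Injective.ι M) (cokernel.π (Injective.ι M)) (cokernel.condition _)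
    have hS : S.ShortExact :=
      { exact := ShortComplex.exact_cokernel _
        mono_f := (inferInstance : Mono (Injective.ι M))
        epi_g := (inferInstance : Epi (cokernel.π (Injective.ι M))) }
    have : Injective S.X₂ := (inferInstance : Injective (Injective.under M))
    obtain ⟨a⟩ := Groth.Agent.H92.DimShift.rs' (ModSite.sectOn O U) hS q
    have h₂ : CohCx.IsTotallyAcyclic (ModSite.toAb S.X₂) :=
      isTotallyAcyclic_of_injective (ModSite.ringSh O) S.X₂
    exact IsZero.of_iso (ih S.X₃ (isTotallyAcyclic_X₃ (ModSite.ringSh O) hS hM h₂)) a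

end Supp

end Groth.Agent.H92.SuppSect
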