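import Groth.Agent.H92.SuppSect2
import Groth.Agent.H92.RestrExact

/-!
# Sections with supports commute with localisation (helper92)

`sectOnRestrIso O U X : sectOn O U ⋙ restr O X ≅ restr O X ⋙ sectOn (O.over X) (U × X → X)`.
-/

set_option autoImplicit false

namespace Groth.Agent.H92.SuppSect

open CategoryTheory Limits Opposite Abelian
open Groth.Agent.H30.ModCech Groth.Agent.H67.CechTopos
open Groth.Agent.H92.HZComp Groth.Agent.H92.QuotSect Groth.Agent.H92.RestrExact

universe u

variable {C : Type u} [SmallCategory C] {J : GrothendieckTopology C}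

section Loc

variable (O : Sheaf J CommRingCat.{u}) [HasBinaryProducts C] (U X : C)

/-- the object `U × X ⟶ X` of `C/X` -/
noncomputable abbrev UX : Over X := Over.mk (Limits.prod.snd : U ⨯ X ⟶ X)

variable [ModSite.HasPushOver (O.over X) (UX U X)]

theorem restr_ι_comp_η (N : ModSite.Mod O) :
    (ModSite.restr O X).map (ι O U N) ≫
      η (O.over X) (UX U X) ((ModSite.restr O X).obj N) = 0 :=
  (comp_η_eq_zero_iff (O.over X) (UX U X) _).2
    ((restr_map_eq_zero_iff (O.over X) (UX U X) _).2 (fun W hW y => by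
      obtain ⟨b⟩ := hW
      exact ι_app_eq_zero U N W.left ⟨b.left ≫ Limits.prod.fst⟩ y))

/-- the comparison `(Γ_Z N)|_X ⟶ Γ_{Z_X}(N|_X)` -/
noncomputable def γX (N : ModSite.Mod O) :
    (ModSite.restr O X).obj ((ModSite.sectOn O U).obj N) ⟶
      (ModSite.sectOn (O.over X) (UX U X)).obj ((ModSite.restr O X).obj N) :=
  kernel.lift (η (O.over X) (UX U X) ((ModSite.restr O X).obj N))
    ((ModSite.restr O X).map (ι O U N)) (restr_ι_comp_η O U X N)

theorem γX_ι (N : ModSite.Mod O) :
    γX O U X N ≫ ι (O.over X) (UX U X) ((ModSite.restr O X).obj N) =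
      (ModSite.restr O X).map (ι O U N) :=
  kernel.lift_ι _ _ _

instance mono_γX (N : ModSite.Mod O) : Mono (γX O U X N) := by
  have : Mono ((ModSite.restr O X).map (ι O U N)) := inferInstance
  have h : Mono (γX O U X N ≫ ι (O.over X) (UX U X) ((ModSite.restr O X).obj N)) := by
    rw [γX_ι]; exact this
  exact mono_of_mono (γX O U X N) (ι (O.over X) (UX U X) ((ModSite.restr O X).obj N))

set_option maxHeartbeats 1600000 in
instance epi_γX (N : ModSite.Mod O) : Epi (γX O U X N) := by
  apply Groth.Agent.H92.SheafHomLES.epi_of_surjective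
  intro W x
  let V : C := W.unop.left
  let v : V ⟶ X := W.unop.hom
  let n : N.val.obj (op V) :=
    (ι (O.over X) (UX U X) ((ModSite.restr O X).obj N)).val.app W x
  let nh := (secFR (ModSite.ringSh O) V N).symm n
  have hsec : secFR (ModSite.ringSh O) V N nh = n := Equiv.apply_symm_apply _ _
  have h1 : (ModSite.restr O U).map nh = 0 := by
    refine (restr_map_eq_zero_iff O U nh).2 ?_
    refine app_eq_zero_of_arrows (ModSite.ringSh O) V N nh (fun W => Nonempty (W ⟶ U)) ?_ ?_
    · rintro W W' c ⟨b⟩
      exact ⟨c ≫ b⟩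
    · rintro W' a ⟨b⟩
      rw [hsec]
      let a' : Over.mk (a ≫ v) ⟶ W.unop := Over.homMk a rfl
      have h2 := PresheafOfModules.naturality_apply
        (ι (O.over X) (UX U X) ((ModSite.restr O X).obj N)).val a'.op x
      refine Eq.trans ?_ (ι_app_eq_zero (O := O.over X) (UX U X) ((ModSite.restr O X).obj N)
        (Over.mk (a ≫ v)) ⟨Over.homMk (prod.lift b (a ≫ v)) (prod.lift_snd _ _)⟩
        ((((ModSite.sectOn (O.over X) (UX U X)).obj ((ModSite.restr O X).obj N)).val.map a'.op) x))
      exact h2.symm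
  have h2 : nh ≫ η O U N = 0 := (comp_η_eq_zero_iff O U nh).2 h1
  let xh := kernel.lift (η O U N) nh h2
  have hxh : xh ≫ ι O U N = nh := kernel.lift_ι _ _ _
  let x' : ((ModSite.sectOn O U).obj N).val.obj (op V) := secFR (ModSite.ringSh O) V _ xh
  refine ⟨x', ?_⟩
  apply app_injective_of_mono (ι (O.over X) (UX U X) ((ModSite.restr O X).obj N)) W
  have h3 : (ι (O.over X) (UX U X) ((ModSite.restr O X).obj N)).val.app W
      ((γX O U X N).val.app W x') = (ι O U N).val.app (op V) x' :=
    congrArg (fun f : (ModSite.restr O X).obj ((ModSite.sectOn O U).obj N) ⟶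
        (ModSite.restr O X).obj N => (f.val.app W).hom x') (γX_ι O U X N)
  refine h3.trans ?_
  have h4 := secFR_comp (ModSite.ringSh O) V xh (ι O U N)
  rw [hxh, hsec] at h4
  exact h4.symm

instance isIso_γX (N : ModSite.Mod O) : IsIso (γX O U X N) := isIso_of_mono_of_epi _

theorem γX_natural {N N' : ModSite.Mod O} (g : N ⟶ N') :
    (ModSite.restr O X).map ((ModSite.sectOn O U).map g) ≫ γX O U X N' =
      γX O U X N ≫ (ModSite.sectOn (O.over X) (UX U X)).map ((ModSite.restr O X).map g) := by
  rw [← cancel_mono (ι (O.over X) (UX U X) ((ModSite.restr O X).obj N')), Category.assoc,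
    Category.assoc, γX_ι, ι_natural, ← Category.assoc, γX_ι, ← Functor.map_comp,
    ← Functor.map_comp, ι_natural]

/-- sections with supports commute with localisation -/
noncomputable def sectOnRestrIso :
    ModSite.sectOn O U ⋙ ModSite.restr O X ≅
      ModSite.restr O X ⋙ ModSite.sectOn (O.over X) (UX U X) :=
  NatIso.ofComponents (fun N => asIso (γX O U X N)) (fun g => γX_natural O U X g)

end Loc

end Groth.Agent.H92.SuppSect
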